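import Groth.Prelude.Def_DualLC
import Mathlib.RingTheory.Length
import Mathlib.RingTheory.Flat.EquationalCriterion
import Mathlib.RingTheory.SimpleModule.Basic

set_option autoImplicit false

universe u

namespace Groth.Agent.LC15

open Finset

variable {A : Type u} [CommRing A] {r : ℕ} (f : Fin r → A) (k : Fin r) (g : A)

theorem range_update_subset (h : Dual2.Independent (Function.update f k (f k * g))) :
    Ideal.span (Set.range (Function.update f k (f k * g))) ≤ Ideal.span (Set.range f) := by
  rw [Ideal.span_le]
  rintro _ ⟨i, rfl⟩
  by_cases hi : i = k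
  · subst hi
    rw [Function.update_self]
    exact Ideal.mul_mem_right _ _ (Ideal.subset_span ⟨i, rfl⟩)
  · rw [Function.update_of_ne hi]
    exact Ideal.subset_span ⟨i, rfl⟩

theorem sum_update (a : Fin r → A) (y : A) :
    ∑ i, a i * Function.update f k y i = a k * y + ∑ i ∈ univ.erase k, a i * f i := by
  rw [← Finset.add_sum_erase _ _ (mem_univ k), Function.update_self]
  congr 1
  exact Finset.sum_congr rfl fun i hi => by rw [Function.update_of_ne (Finset.ne_of_mem_erase hi)]

theorem mem_update_of_relation (h : Dual2.Independent (Function.update f k (f k * g)))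
    (a : Fin r → A) (ha : ∑ i, a i * f i = 0) :
    a k ∈ Ideal.span (Set.range (Function.update f k (f k * g))) := by
  have h1 := h (Function.update (fun i => g * a i) k (a k)) (by
    rw [sum_update, Function.update_self]
    have h2 := congrArg (g * ·) ha
    simp only [mul_zero, Finset.mul_sum] at h2
    rw [← Finset.add_sum_erase _ _ (mem_univ k)] at h2
    rw [← h2]
    congr 1
    · ring
    · exact Finset.sum_congr rfl fun i hi => by
        rw [Function.update_of_ne (Finset.ne_of_mem_erase hi), mul_assoc]) k
  rwa [Function.update_self] at h1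

theorem independent_of_update (h : Dual2.Independent (Function.update f k (f k * g))) :
    Dual2.Independent f := by
  intro a ha
  have hk := mem_update_of_relation f k g h a ha
  have hle := range_update_subset f k g h
  obtain ⟨b, hb⟩ := (Submodule.mem_span_range_iff_exists_fun A).1 hk
  simp only [smul_eq_mul] at hb
  rw [sum_update] at hb
  let c : Fin r → A := fun i => a i + b i * f k
  have hc := h (Function.update c k (b k * f k)) (by
    rw [sum_update, Function.update_self]
    rw [← Finset.add_sum_erase _ _ (mem_univ k)] at ha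
    rw [← ha, ← hb, add_mul, Finset.sum_mul, add_assoc, ← Finset.sum_add_distrib]
    congr 1
    · ring
    · exact Finset.sum_congr rfl fun i hi => by
        rw [Function.update_of_ne (Finset.ne_of_mem_erase hi)]; ring)
  intro i
  by_cases hi : i = k
  · subst hi
    exact hle hk
  · have h1 := hle (hc i)
    rw [Function.update_of_ne hi] at h1
    have h2 : b i * f k ∈ Ideal.span (Set.range f) :=
      Ideal.mul_mem_left _ _ (Ideal.subset_span ⟨k, rfl⟩)
    simpa [c] using Ideal.sub_mem _ h1 h2

theorem length_update (h : Dual2.Independent (Function.update f k (f k * g))) :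
    Module.length A (A ⧸ Ideal.span (Set.range (Function.update f k (f k * g)))) =
      Module.length A (A ⧸ Ideal.span (Set.range f)) +
        Module.length A (A ⧸ Ideal.span (Set.range (Function.update f k g))) := by
  let J := Ideal.span (Set.range (Function.update f k (f k * g)))
  let J₁ := Ideal.span (Set.range f)
  let J₂ := Ideal.span (Set.range (Function.update f k g))
  have hle : J ≤ J₁ := range_update_subset f k g h
  have hfk : ∀ x ∈ J₂, f k * x ∈ J := by
    intro x hx
    induction hx using Submodule.span_induction with
    | mem x hx =>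
      obtain ⟨i, rfl⟩ := hx
      by_cases hi : i = k
      · subst hi
        rw [Function.update_self]
        exact Ideal.subset_span ⟨i, by rw [Function.update_self]⟩
      · rw [Function.update_of_ne hi]
        exact Ideal.mul_mem_left _ _ (Ideal.subset_span ⟨i, by rw [Function.update_of_ne hi]⟩)
    | zero => simp
    | add x y _ _ hx hy => rw [mul_add]; exact J.add_mem hx hy
    | smul c x _ hx => rw [smul_eq_mul, mul_left_comm]; exact J.mul_mem_left c hx
  let φ : (A ⧸ J₂) →ₗ[A] (A ⧸ J) := Submodule.mapQ J₂ J (LinearMap.lsmul A A (f k)) fun x hx => hfk x hx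
  let ψ : (A ⧸ J) →ₗ[A] (A ⧸ J₁) := Submodule.factor hle
  have hφ : Function.Injective φ := by
    refine (injective_iff_map_eq_zero _).2 fun y hy => ?_
    obtain ⟨y, rfl⟩ := Submodule.Quotient.mk_surjective _ y
    have hy' : f k * y ∈ J := (Submodule.Quotient.mk_eq_zero _).1 hy
    obtain ⟨c, hc⟩ := (Submodule.mem_span_range_iff_exists_fun A).1 hy'
    simp only [smul_eq_mul] at hc
    rw [sum_update] at hc
    have h1 := mem_update_of_relation f k g h (Function.update (fun i => -c i) k (y - c k * g)) (by
      rw [← Finset.add_sum_erase _ _ (mem_univ k), Function.update_self,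
        Finset.sum_congr rfl (fun i hi => by rw [Function.update_of_ne (Finset.ne_of_mem_erase hi), neg_mul]),
        Finset.sum_neg_distrib]
      linear_combination (-1 : A) * hc)
    rw [Function.update_self] at h1
    have hJ : J ≤ J₂ := by
      rw [Ideal.span_le]
      rintro _ ⟨i, rfl⟩
      by_cases hi : i = k
      · subst hi
        rw [Function.update_self, SetLike.mem_coe]
        exact Ideal.mul_mem_left _ _ (Ideal.subset_span ⟨i, by rw [Function.update_self]⟩)
      · rw [Function.update_of_ne hi]
        exact Ideal.subset_span ⟨i, by rw [Function.update_of_ne hi]⟩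
    refine (Submodule.Quotient.mk_eq_zero _).2 ?_
    have h3 : c k * g ∈ J₂ :=
      Ideal.mul_mem_left _ _ (Ideal.subset_span ⟨k, by rw [Function.update_self]⟩)
    simpa using J₂.add_mem (hJ h1) h3
  have hψ : Function.Surjective ψ := Submodule.factor_surjective hle
  have hex : Function.Exact φ ψ := by
    intro y
    obtain ⟨y, rfl⟩ := Submodule.Quotient.mk_surjective _ y
    refine ⟨fun hy => ?_, ?_⟩
    · have hy' : y ∈ J₁ := (Submodule.Quotient.mk_eq_zero _).1 hy
      obtain ⟨c, hc⟩ := (Submodule.mem_span_range_iff_exists_fun A).1 hy'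
      simp only [smul_eq_mul] at hc
      refine ⟨Submodule.Quotient.mk (c k), (Submodule.Quotient.eq _).2 ?_⟩
      rw [← Finset.add_sum_erase _ _ (mem_univ k)] at hc
      rw [LinearMap.lsmul_apply, smul_eq_mul, ← hc, mul_comm, sub_add_cancel_left]
      exact J.neg_mem (Ideal.sum_mem _ fun i hi => Ideal.mul_mem_left _ _
        (Ideal.subset_span ⟨i, by rw [Function.update_of_ne (Finset.ne_of_mem_erase hi)]⟩))
    · rintro ⟨z, hz⟩
      obtain ⟨z, rfl⟩ := Submodule.Quotient.mk_surjective _ z
      rw [← hz]
      exact (Submodule.Quotient.mk_eq_zero _).2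
        (Ideal.mul_mem_right _ _ (Ideal.subset_span ⟨k, rfl⟩))
  rw [Module.length_eq_add_of_exact φ ψ hφ hψ hex]
  exact add_comm _ _

theorem independent_map_of_flat {B : Type u} [CommRing B] [Algebra A B] [Module.Flat A B]
    (hf : Dual2.Independent f) : Dual2.Independent fun i => algebraMap A B (f i) := by
  intro b hb i
  have hb' : ∑ j, f j • b j = 0 := by
    rw [← hb]
    exact Finset.sum_congr rfl fun j _ => by rw [Algebra.smul_def, mul_comm]
  obtain ⟨m, a, y, hx, ha⟩ := Module.Flat.isTrivialRelation_of_sum_smul_eq_zero hb'
  rw [hx i]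
  refine Ideal.sum_mem _ fun j _ => ?_
  rw [Algebra.smul_def]
  refine Ideal.mul_mem_right _ _ ?_
  have h1 := Ideal.mem_map_of_mem (algebraMap A B) (hf (fun l => a l j)
    (by rw [← ha j]; exact Finset.sum_congr rfl fun l _ => mul_comm _ _) i)
  rwa [Ideal.map_span, ← Set.range_comp] at h1

section Powers

variable [IsLocalRing A] (x : Fin r → A) (hx : Ideal.span (Set.range x) = IsLocalRing.maximalIdeal A)
include hx

theorem length_powers : ∀ (N : ℕ) (e : Fin r → ℕ), ∑ i, e i ≤ N → (∀ i, 0 < e i) →
    Dual2.Independent (fun i => x i ^ e i) →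
    Module.length A (A ⧸ Ideal.span (Set.range fun i => x i ^ e i)) = ∏ i, (e i : ℕ∞) := by
  intro N
  induction N using Nat.strong_induction_on with
  | _ N ih =>
    intro e hN he hind
    by_cases h1 : ∀ i, e i = 1
    · have hrange : (fun i => x i ^ e i) = x := by funext i; rw [h1 i, pow_one]
      rw [hrange, hx]
      simp only [h1, Nat.cast_one, Finset.prod_const_one]
      haveI : IsSimpleModule A (A ⧸ IsLocalRing.maximalIdeal A) :=
        isSimpleModule_iff_isCoatom.2 (IsLocalRing.maximalIdeal.isMaximal A).1
      exact Module.length_eq_one A _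
    · push Not at h1
      obtain ⟨i₀, hi₀⟩ := h1
      have h2 : 2 ≤ e i₀ := by have := he i₀; omega
      let e₁ := Function.update e i₀ 1
      let e₂ := Function.update e i₀ (e i₀ - 1)
      have hu : ∀ m : ℕ, (fun i => x i ^ Function.update e i₀ m i) =
          Function.update (fun i => x i ^ e₁ i) i₀ (x i₀ ^ m) := by
        intro m; funext i
        by_cases hi : i = i₀
        · subst hi; simp
        · simp [e₁, Function.update_of_ne hi]
      have hu' : ∀ m : ℕ, (fun i => x i ^ Function.update e i₀ m i) =
          Function.update (fun i => x i ^ e₂ i) i₀ (x i₀ ^ m) := by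
        intro m; funext i
        by_cases hi : i = i₀
        · subst hi; simp
        · simp [e₂, Function.update_of_ne hi]
      have hself : Function.update e i₀ (e i₀) = e := Function.update_eq_self _ _
      have key₁ : (fun i => x i ^ e i) = Function.update (fun i => x i ^ e₁ i) i₀
          (x i₀ ^ e₁ i₀ * x i₀ ^ (e i₀ - 1)) := by
        conv_lhs => rw [← hself]
        rw [hu, ← pow_add]
        congr 2
        simp [e₁]; omega
      have key₂ : (fun i => x i ^ e i) = Function.update (fun i => x i ^ e₂ i) i₀
          (x i₀ ^ e₂ i₀ * x i₀) := by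
        conv_lhs => rw [← hself]
        rw [hu', ← pow_succ]
        congr 2
        simp [e₂]; omega
      have i₁ := independent_of_update _ i₀ _ (key₁ ▸ hind)
      have i₂ := independent_of_update _ i₀ _ (key₂ ▸ hind)
      have hlen := length_update _ i₀ _ (key₁ ▸ hind)
      rw [← key₁, ← hu (e i₀ - 1)] at hlen
      have hs : ∀ m, ∑ i, Function.update e i₀ m i + e i₀ = ∑ i, e i + m := by
        intro m
        rw [Finset.sum_update_of_mem (mem_univ i₀), Finset.sdiff_singleton_eq_erase,
          ← Finset.add_sum_erase _ _ (mem_univ i₀)]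
        omega
      have hpos : ∀ m, 0 < m → ∀ i, 0 < Function.update e i₀ m i := by
        intro m hm i
        by_cases hi : i = i₀
        · subst hi; simpa using hm
        · simpa [Function.update_of_ne hi] using he i
      rw [hlen, ih (∑ i, e₁ i) (by have := hs 1; simp only [e₁]; omega) e₁ le_rfl (hpos 1 one_pos) i₁,
        ih (∑ i, e₂ i) (by have := hs (e i₀ - 1); simp only [e₂]; omega) e₂ le_rfl
          (hpos _ (by omega)) i₂]
      have hp : ∀ m : ℕ, ∏ i, (Function.update e i₀ m i : ℕ∞) =
          (m : ℕ∞) * ∏ i ∈ univ.erase i₀, (e i : ℕ∞) := by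
        intro m
        rw [← Finset.mul_prod_erase _ _ (mem_univ i₀), Function.update_self]
        congr 1
        exact Finset.prod_congr rfl fun i hi => by rw [Function.update_of_ne (Finset.ne_of_mem_erase hi)]
      simp only [e₁, e₂, hp]
      rw [← Finset.mul_prod_erase _ (fun i => (e i : ℕ∞)) (mem_univ i₀), ← add_mul]
      congr 1
      rw [← Nat.cast_add]
      congr 1
      omega

end Powers

end Groth.Agent.LC15
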