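import Groth.Agent.LC15.Basic
import Mathlib.RingTheory.Filtration

set_option autoImplicit false

universe u

namespace Groth.Agent.LC15

open CategoryTheory Limits

variable {R : Type u} [CommRing R] (I : Ideal R)

/-- The `I`-power torsion submodule. -/
def gamma (M : Type u) [AddCommGroup M] [Module R M] : Submodule R M where
  carrier := {m | ∃ n : ℕ, ∀ a ∈ I ^ n, a • m = 0}
  zero_mem' := ⟨0, fun a _ => smul_zero a⟩
  add_mem' := by
    rintro x y ⟨n, hn⟩ ⟨m, hm⟩
    refine ⟨max n m, fun a ha => ?_⟩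
    rw [smul_add, hn a (Ideal.pow_le_pow_right (le_max_left _ _) ha),
      hm a (Ideal.pow_le_pow_right (le_max_right _ _) ha), add_zero]
  smul_mem' := by
    rintro r x ⟨n, hn⟩
    exact ⟨n, fun a ha => by rw [smul_comm, hn a ha, smul_zero]⟩

variable {M N L : Type u} [AddCommGroup M] [Module R M] [AddCommGroup N] [Module R N]
  [AddCommGroup L] [Module R L]

theorem mem_gamma {m : M} : m ∈ gamma I M ↔ ∃ n : ℕ, ∀ a ∈ I ^ n, a • m = 0 := Iff.rfl

theorem gamma_eq_top_iff : gamma I M = ⊤ ↔ LocCoh.IsPowerTorsion I M :=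
  ⟨fun h m => (h.ge Submodule.mem_top : m ∈ gamma I M), fun h => eq_top_iff.2 fun m _ => h m⟩

theorem isPowerTorsion_gamma : LocCoh.IsPowerTorsion I (gamma I M) := by
  rintro ⟨m, n, hn⟩
  exact ⟨n, fun a ha => Subtype.ext (hn a ha)⟩

variable {I} in
theorem map_mem_gamma (f : M →ₗ[R] N) {m : M} (hm : m ∈ gamma I M) : f m ∈ gamma I N := by
  obtain ⟨n, hn⟩ := hm
  exact ⟨n, fun a ha => by rw [← map_smul, hn a ha, map_zero]⟩

/-- Functoriality of `gamma`. -/
def gammaMap (f : M →ₗ[R] N) : gamma I M →ₗ[R] gamma I N :=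
  f.restrict fun _ hm => map_mem_gamma f hm

variable {I} in
theorem isPowerTorsion_of_injective {f : M →ₗ[R] N} (hf : Function.Injective f)
    (h : LocCoh.IsPowerTorsion I N) : LocCoh.IsPowerTorsion I M := fun m => by
  obtain ⟨n, hn⟩ := h (f m)
  exact ⟨n, fun a ha => hf (by rw [map_smul, hn a ha, map_zero])⟩

variable {I} in
theorem isPowerTorsion_of_surjective {f : M →ₗ[R] N} (hf : Function.Surjective f)
    (h : LocCoh.IsPowerTorsion I M) : LocCoh.IsPowerTorsion I N := fun y => by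
  obtain ⟨m, rfl⟩ := hf y
  exact map_mem_gamma f (h m)

section H0

variable (M)

/-- Evaluation at `1` on `Ext^0`. -/
noncomputable def ev1 (n : ℕ) :
    Abelian.Ext (quotPow I n) (ModuleCat.of R M) 0 →ₗ[R] M where
  toFun x := (Abelian.Ext.linearEquiv₀ (R := R) x).hom (Submodule.Quotient.mk (1 : R))
  map_add' x y := by rw [map_add]; rfl
  map_smul' r x := by rw [map_smul]; rfl

theorem ev1_mk₀ (n : ℕ) (f : quotPow I n ⟶ ModuleCat.of R M) :
    ev1 I M n (Abelian.Ext.mk₀ f) = f (Submodule.Quotient.mk (1 : R)) := by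
  have h : Abelian.Ext.linearEquiv₀ (R := R) (Abelian.Ext.mk₀ f) = f :=
    (Abelian.Ext.mk₀_bijective _ _).1 (Abelian.Ext.mk₀_linearEquiv₀_apply _)
  change (Abelian.Ext.linearEquiv₀ (R := R) (Abelian.Ext.mk₀ f)).hom _ = _
  rw [h]

/-- The map `H^0_I(M) → M`. -/
noncomputable def h0 : LocCoh.H I 0 M →ₗ[R] M :=
  descH I 0 M (ev1 I M) fun n m h x => by
    obtain ⟨f, rfl⟩ := (Abelian.Ext.mk₀_bijective _ _).2 x
    rw [Abelian.Ext.mk₀_comp_mk₀, ev1_mk₀, ev1_mk₀]
    exact congrArg _ (qmap_mk I h 1)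

theorem h0_toH (n : ℕ) (f : quotPow I n ⟶ ModuleCat.of R M) :
    h0 I M (toH I 0 M n (Abelian.Ext.mk₀ f)) = f (Submodule.Quotient.mk (1 : R)) := by
  rw [h0, descH_toH, ev1_mk₀]

theorem h0_injective : Function.Injective (h0 I M) := by
  refine (injective_iff_map_eq_zero _).2 fun y hy => ?_
  obtain ⟨n, x, rfl⟩ := toH_surj I 0 M y
  obtain ⟨f, rfl⟩ := (Abelian.Ext.mk₀_bijective _ _).2 x
  rw [h0_toH] at hy
  have hf : f = 0 := ModuleCat.hom_ext <| LinearMap.ext fun q => by
    obtain ⟨r, rfl⟩ := Submodule.Quotient.mk_surjective _ q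
    have : (Submodule.Quotient.mk r : R ⧸ I ^ n) = r • Submodule.Quotient.mk 1 := by
      rw [← Submodule.Quotient.mk_smul, smul_eq_mul, mul_one]
    change f.hom (Submodule.Quotient.mk r) = _
    rw [this, map_smul]
    exact (congrArg (r • ·) hy).trans (smul_zero r)
  rw [hf, Abelian.Ext.mk₀_zero, map_zero]

theorem range_h0 : LinearMap.range (h0 I M) = gamma I M := by
  refine le_antisymm ?_ ?_
  · rintro _ ⟨y, rfl⟩
    obtain ⟨n, x, rfl⟩ := toH_surj I 0 M y
    obtain ⟨f, rfl⟩ := (Abelian.Ext.mk₀_bijective _ _).2 x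
    refine ⟨n, fun a ha => ?_⟩
    rw [h0_toH]
    refine (map_smul f.hom a (Submodule.Quotient.mk (1 : R))).symm.trans ?_
    rw [← Submodule.Quotient.mk_smul, smul_eq_mul, mul_one, (Submodule.Quotient.mk_eq_zero _).2 ha,
      map_zero]
  · rintro m ⟨n, hn⟩
    let f : (R ⧸ I ^ n) →ₗ[R] M := Submodule.liftQ _ (LinearMap.toSpanSingleton R M m)
      fun a ha => by simp [hn a ha]
    refine ⟨toH I 0 M n (Abelian.Ext.mk₀ (ModuleCat.ofHom f)), ?_⟩
    rw [h0_toH]
    exact (Submodule.liftQ_apply _ _ _).trans (one_smul R m)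

/-- `H^0_I(M) ≅ Γ_I(M)`. -/
noncomputable def H0equiv : LocCoh.H I 0 M ≃ₗ[R] gamma I M :=
  (LinearEquiv.ofInjective _ (h0_injective I M)).trans (LinearEquiv.ofEq _ _ (range_h0 I M))

theorem H0equiv_coe (y : LocCoh.H I 0 M) : (H0equiv I M y : M) = h0 I M y := rfl

theorem subsingleton_H0_iff : Subsingleton (LocCoh.H I 0 M) ↔ gamma I M = ⊥ := by
  rw [(H0equiv I M).toEquiv.subsingleton_congr]
  exact Submodule.subsingleton_iff_eq_bot

variable {M}

theorem h0_Hmap (f : M →ₗ[R] N) (y : LocCoh.H I 0 M) :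
    h0 I N (Hmap I 0 f y) = f (h0 I M y) := by
  obtain ⟨n, x, rfl⟩ := toH_surj I 0 M y
  obtain ⟨g, rfl⟩ := (Abelian.Ext.mk₀_bijective _ _).2 x
  rw [Hmap_toH, Abelian.Ext.mk₀_comp_mk₀, h0_toH, h0_toH]
  rfl

theorem Hmap_zero_injective {f : M →ₗ[R] N} (hf : Function.Injective f) :
    Function.Injective (Hmap I 0 f) := fun a b h =>
  h0_injective I M (hf (by rw [← h0_Hmap, ← h0_Hmap, h]))

theorem Hmap_zero_surjective_iff (f : M →ₗ[R] N) :
    Function.Surjective (Hmap I 0 f) ↔ ∀ y ∈ gamma I N, ∃ x ∈ gamma I M, f x = y := by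
  constructor
  · intro h y hy
    obtain ⟨z, hz⟩ := h ((H0equiv I N).symm ⟨y, hy⟩)
    refine ⟨h0 I M z, range_h0 I M ▸ LinearMap.mem_range_self _ z, ?_⟩
    rw [← h0_Hmap, hz, ← H0equiv_coe, LinearEquiv.apply_symm_apply]
  · intro h w
    obtain ⟨x, hx, hxy⟩ := h (h0 I N w) (range_h0 I N ▸ LinearMap.mem_range_self _ w)
    refine ⟨(H0equiv I M).symm ⟨x, hx⟩, h0_injective I N ?_⟩
    rw [h0_Hmap, ← H0equiv_coe I M, LinearEquiv.apply_symm_apply]
    exact hxy

/-- Vanishing of `H^1` of the kernel from surjectivity on torsion, given an acyclic middle term. -/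
theorem subsingleton_H1_of_surjective {f : M →ₗ[R] N} {g : N →ₗ[R] L}
    (hf : Function.Injective f) (hfg : Function.Exact f g) (hg : Function.Surjective g)
    (hN : Subsingleton (LocCoh.H I 1 N))
    (h : ∀ y ∈ gamma I L, ∃ x ∈ gamma I N, g x = y) : Subsingleton (LocCoh.H I 1 M) := by
  refine subsingleton_of_forall_eq 0 fun y => ?_
  obtain ⟨z, rfl⟩ := Hδ_surjective I 0 hf hfg hg hN y
  exact (H_exact₃ I 0 hf hfg hg z).2 ((Hmap_zero_surjective_iff I g).2 h z)

theorem gamma_surjective_of_subsingleton_H1 {f : M →ₗ[R] N} {g : N →ₗ[R] L}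
    (hf : Function.Injective f) (hfg : Function.Exact f g) (hg : Function.Surjective g)
    (hM : Subsingleton (LocCoh.H I 1 M)) : ∀ y ∈ gamma I L, ∃ x ∈ gamma I N, g x = y :=
  (Hmap_zero_surjective_iff I g).1 fun w => (H_exact₃ I 0 hf hfg hg w).1 (Subsingleton.elim _ _)

end H0

theorem smul_toH_eq_zero (i : ℕ) (n : ℕ) {a : R} (ha : a ∈ I ^ n)
    (x : Abelian.Ext (quotPow I n) (ModuleCat.of R M) i) : a • toH I i M n x = 0 := by
  have hq : a • 𝟙 (quotPow I n) = 0 := ModuleCat.hom_ext <| LinearMap.ext fun q => by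
    obtain ⟨r, rfl⟩ := Submodule.Quotient.mk_surjective _ q
    change a • (Submodule.Quotient.mk r : R ⧸ I ^ n) = 0
    rw [← Submodule.Quotient.mk_smul, Submodule.Quotient.mk_eq_zero]
    exact Ideal.mul_mem_right _ _ ha
  have h : a • x = (Abelian.Ext.mk₀ (a • 𝟙 (quotPow I n))).comp x (zero_add i) := by
    rw [Abelian.Ext.mk₀_smul, Abelian.Ext.smul_comp, Abelian.Ext.mk₀_id_comp]
  rw [← map_smul, h, hq, Abelian.Ext.mk₀_zero, Abelian.Ext.zero_comp, map_zero]

theorem isPowerTorsion_H (i : ℕ) : LocCoh.IsPowerTorsion I (LocCoh.H I i M) := fun y => by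
  obtain ⟨n, x, rfl⟩ := toH_surj I i M y
  exact ⟨n, fun a ha => smul_toH_eq_zero I i n ha x⟩

/-- A module on which some element of `I` acts bijectively has no local cohomology. -/
theorem subsingleton_H_of_smul_bijective {a : R} (ha : a ∈ I)
    (h : Function.Bijective fun m : M => a • m) (i : ℕ) : Subsingleton (LocCoh.H I i M) := by
  let e : M ≃ₗ[R] M := LinearEquiv.ofBijective (LinearMap.lsmul R M a) h
  have hinj : Function.Injective fun y : LocCoh.H I i M => a • y := by
    intro x y hxy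
    apply (Hequiv I i e).injective
    change Hmap I i (LinearMap.lsmul R M a) x = Hmap I i (LinearMap.lsmul R M a) y
    rwa [Hmap_lsmul, Hmap_lsmul]
  refine subsingleton_of_forall_eq 0 fun y => ?_
  obtain ⟨n, hn⟩ := isPowerTorsion_H I i y
  have key : ∀ k : ℕ, a ^ k • y = 0 → y = 0 := by
    intro k
    induction k with
    | zero => simp
    | succ k ih =>
      intro hk
      refine ih (hinj ?_)
      simp only [smul_zero]
      rw [← mul_smul, ← pow_succ', hk]
  exact key n (hn _ (Ideal.pow_mem_pow ha n))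

section Noetherian

variable [IsNoetherianRing R]

/-- The torsion part of an injective module is injective. -/
theorem injective_gamma (E : Type u) [AddCommGroup E] [Module R E] [Module.Injective R E] :
    Module.Injective R (gamma I E) := by
  classical
  refine Module.Baer.injective fun J φ => ?_
  obtain ⟨s, hs⟩ := (IsNoetherian.noetherian J : Submodule.FG J)
  obtain ⟨n₀, hn₀⟩ : ∃ n₀, ∀ x : J, ∀ a ∈ I ^ n₀, a • φ x = 0 := by
    have hs' : Submodule.span R {x : J | (x : R) ∈ (s : Set R)} = ⊤ := by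
      apply Submodule.map_injective_of_injective (f := J.subtype) Subtype.val_injective
      rw [Submodule.map_span, Submodule.map_top, Submodule.range_subtype]
      refine Eq.trans (congrArg _ ?_) hs
      ext r
      refine ⟨?_, fun hr => ?_⟩
      · rintro ⟨x, hx, rfl⟩
        exact hx
      · exact ⟨⟨r, hs ▸ Submodule.subset_span hr⟩, hr, rfl⟩
    have hex : ∀ x : J, ∃ n, ∀ a ∈ I ^ n, a • φ x = 0 := fun x =>
      isPowerTorsion_gamma I (φ x)
    choose nn hnn using hex
    refine ⟨s.sup fun r => if h : r ∈ J then nn ⟨r, h⟩ else 0, fun x a ha => ?_⟩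
    have hx : x ∈ Submodule.span R {x : J | (x : R) ∈ (s : Set R)} := hs' ▸ Submodule.mem_top
    induction hx using Submodule.span_induction with
    | mem x hx =>
      refine hnn x a (Ideal.pow_le_pow_right ?_ ha)
      refine le_trans ?_ (Finset.le_sup (f := fun r => if h : r ∈ J then nn ⟨r, h⟩ else 0) hx)
      simp
    | zero => simp
    | add x y _ _ hx hy => rw [map_add, smul_add, hx, hy, add_zero]
    | smul r x _ hx => rw [map_smul, smul_comm, hx, smul_zero]
  obtain ⟨k, hk⟩ := I.exists_pow_inf_eq_pow_smul (M := R) J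
  have hle : I ^ (n₀ + k) ⊓ J ≤ I ^ n₀ * J := by
    have h := hk (n₀ + k) (Nat.le_add_left _ _)
    rw [Nat.add_sub_cancel, smul_eq_mul, Ideal.mul_top] at h
    rw [h]
    exact Submodule.smul_mono le_rfl inf_le_right
  have hmap : (I ^ n₀ • (⊤ : Submodule R J)).map J.subtype = I ^ n₀ * J := by
    rw [Submodule.map_smul'', Submodule.map_top, Submodule.range_subtype, smul_eq_mul]
  have hvan : ∀ x : J, (x : R) ∈ I ^ (n₀ + k) → φ x = 0 := by
    intro x hx
    obtain ⟨z, hz, hzx⟩ := hmap ▸ hle ⟨hx, x.2⟩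
    obtain rfl : z = x := Subtype.val_injective hzx
    refine Submodule.smul_induction_on hz (fun a ha y _ => ?_) fun y y' hy hy' => ?_
    · rw [map_smul]
      exact hn₀ y a ha
    · rw [map_add, hy, hy', add_zero]
  let q : J →ₗ[R] R ⧸ I ^ (n₀ + k) := (Submodule.mkQ _).comp J.subtype
  have hker : LinearMap.ker q ≤ LinearMap.ker ((gamma I E).subtype.comp φ) := by
    intro x hx
    have hx' : (x : R) ∈ I ^ (n₀ + k) := (Submodule.Quotient.mk_eq_zero _).1 hx
    simp [hvan x hx']
  let ψ : (J ⧸ LinearMap.ker q) →ₗ[R] E := Submodule.liftQ _ _ hker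
  obtain ⟨ψ', hψ'⟩ := Module.Injective.out ((LinearMap.ker q).liftQ q le_rfl)
    (LinearMap.ker_eq_bot.1 (Submodule.ker_liftQ_eq_bot _ _ _ le_rfl)) ψ
  refine ⟨LinearMap.toSpanSingleton R _
    ⟨ψ' (Submodule.Quotient.mk 1), n₀ + k, fun a ha => ?_⟩, fun r hr => Subtype.ext ?_⟩
  · rw [← map_smul, ← Submodule.Quotient.mk_smul, smul_eq_mul, mul_one,
      (Submodule.Quotient.mk_eq_zero _).2 ha, map_zero]
  · change r • ψ' (Submodule.Quotient.mk 1) = (φ ⟨r, hr⟩ : E)
    rw [← map_smul, ← Submodule.Quotient.mk_smul, smul_eq_mul, mul_one]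
    exact hψ' (Submodule.Quotient.mk ⟨r, hr⟩)

/-- A torsion module embeds into a torsion injective module. -/
theorem exists_torsion_injective_embedding (hM : LocCoh.IsPowerTorsion I M) :
    ∃ (E : Type u) (_ : AddCommGroup E) (_ : Module R E) (f : M →ₗ[R] E),
      Function.Injective f ∧ Module.Injective R E ∧ LocCoh.IsPowerTorsion I E := by
  obtain ⟨E, _, _, f, hf, _⟩ := exists_injective_embedding (R := R) M
  exact ⟨gamma I E, inferInstance, inferInstance,
    f.codRestrict _ fun m => map_mem_gamma f (hM m),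
    fun a b h => hf (congrArg Subtype.val h), injective_gamma I E, isPowerTorsion_gamma I⟩

theorem subsingleton_H_succ_of_powerTorsion (i : ℕ) :
    ∀ {M : Type u} [AddCommGroup M] [Module R M], LocCoh.IsPowerTorsion I M →
      Subsingleton (LocCoh.H I (i + 1) M) := by
  induction i with
  | zero =>
    intro M _ _ hM
    obtain ⟨E, _, _, f, hf, _, hE⟩ := exists_torsion_injective_embedding I hM
    refine subsingleton_H1_of_surjective I hf (LinearMap.exact_map_mkQ_range f)
      (Submodule.mkQ_surjective _) (subsingleton_H_succ_of_injective I 0) fun y _ => ?_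
    obtain ⟨x, rfl⟩ := Submodule.mkQ_surjective _ y
    exact ⟨x, hE x, rfl⟩
  | succ i ih =>
    intro M _ _ hM
    obtain ⟨E, _, _, f, hf, _, hE⟩ := exists_torsion_injective_embedding I hM
    exact subsingleton_H_left I (i + 1) hf (LinearMap.exact_map_mkQ_range f)
      (Submodule.mkQ_surjective _)
      (ih (isPowerTorsion_of_surjective (Submodule.mkQ_surjective _) hE))
      (subsingleton_H_succ_of_injective I (i + 1))

theorem subsingleton_H_of_powerTorsion (hM : LocCoh.IsPowerTorsion I M) {i : ℕ} (hi : 0 < i) :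
    Subsingleton (LocCoh.H I i M) := by
  obtain ⟨j, rfl⟩ : ∃ j, i = j + 1 := ⟨i - 1, by omega⟩
  exact subsingleton_H_succ_of_powerTorsion I j hM

theorem Hmap_mkQ_gamma_bijective {i : ℕ} (hi : 0 < i) :
    Function.Bijective (Hmap I i (gamma I M).mkQ) := by
  have hex := LinearMap.exact_subtype_mkQ (gamma I M)
  constructor
  · refine (injective_iff_map_eq_zero _).2 fun y hy => ?_
    obtain ⟨z, rfl⟩ := (H_exact₂ I i (gamma I M).injective_subtype hex
      (Submodule.mkQ_surjective _) y).1 hy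
    haveI := subsingleton_H_of_powerTorsion I (isPowerTorsion_gamma I (M := M)) hi
    rw [Subsingleton.elim z 0, map_zero]
  · intro y
    exact (H_exact₃ I i (gamma I M).injective_subtype hex (Submodule.mkQ_surjective _) y).1
      (haveI := subsingleton_H_of_powerTorsion I (isPowerTorsion_gamma I (M := M))
        (Nat.succ_pos i); Subsingleton.elim _ _)

theorem gamma_quot_gamma : gamma I (M ⧸ gamma I M) = ⊥ := by
  refine (Submodule.eq_bot_iff _).2 fun y hy => ?_
  obtain ⟨m, rfl⟩ := Submodule.mkQ_surjective _ y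
  obtain ⟨n, hn⟩ := hy
  obtain ⟨s, hs⟩ := (IsNoetherian.noetherian (I ^ n) : Submodule.FG (I ^ n))
  have hex : ∀ a : R, a ∈ I ^ n → a • m ∈ gamma I M := fun a ha => by
    rw [← Submodule.Quotient.mk_eq_zero]
    exact hn a ha
  have hk : ∀ a : R, ∃ k, a ∈ I ^ n → ∀ b ∈ I ^ k, b • a • m = 0 := fun a => by
    by_cases ha : a ∈ I ^ n
    · obtain ⟨k, hk⟩ := hex a ha
      exact ⟨k, fun _ => hk⟩
    · exact ⟨0, fun h => absurd h ha⟩
  choose k hk using hk
  refine (Submodule.Quotient.mk_eq_zero _).2 ⟨s.sup k + n, fun c hc => ?_⟩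
  have h2 : ∀ b ∈ I ^ s.sup k, ∀ a ∈ I ^ n, b • a • m = 0 := by
    intro b hb a ha
    rw [← hs] at ha
    induction ha using Submodule.span_induction with
    | mem a ha =>
      exact hk a (hs ▸ Submodule.subset_span ha) b (Ideal.pow_le_pow_right (Finset.le_sup ha) hb)
    | zero => simp
    | add a a' _ _ h h' => rw [add_smul, smul_add, h, h', add_zero]
    | smul r a _ h => rw [smul_assoc, smul_comm b r, h, smul_zero]
  rw [pow_add] at hc
  induction hc using Submodule.mul_induction_on' with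
  | mem_mul_mem b hb a ha => rw [mul_smul]; exact h2 b hb a ha
  | add a _ b _ iha ihb => rw [add_smul, iha, ihb, add_zero]

end Noetherian

end Groth.Agent.LC15
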