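import Groth.Agent.LC15.Gamma
import Mathlib.LinearAlgebra.Finsupp.LinearCombination

set_option autoImplicit false

universe u

namespace Groth.Agent.LC15

variable {R : Type u} [CommRing R] (I J : Ideal R) {M N : Type u} [AddCommGroup M] [Module R M]
  [AddCommGroup N] [Module R N]

theorem mem_gamma_sup {m : M} : m ∈ gamma (I ⊔ J) M ↔ m ∈ gamma I M ∧ m ∈ gamma J M := by
  constructor
  · rintro ⟨n, hn⟩
    exact ⟨⟨n, fun a ha => hn a (Ideal.pow_right_mono le_sup_left n ha)⟩,
      ⟨n, fun a ha => hn a (Ideal.pow_right_mono le_sup_right n ha)⟩⟩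
  · rintro ⟨⟨n, hn⟩, ⟨k, hk⟩⟩
    refine ⟨n + k, fun a ha => ?_⟩
    obtain ⟨b, hb, c, hc, rfl⟩ := Submodule.mem_sup.1 (Ideal.sup_pow_add_le_pow_sup_pow ha)
    rw [add_smul, hn b hb, hk c hc, add_zero]

theorem coe_mem_gamma_iff (W : Submodule R M) (w : W) :
    (w : M) ∈ gamma J M ↔ w ∈ gamma J W :=
  exists_congr fun n => forall₂_congr fun a _ => by
    rw [← Submodule.coe_smul, Submodule.coe_eq_zero]

variable {I J}

theorem gammaMap_coe (f : M →ₗ[R] N) (x : gamma I M) : (gammaMap I f x : N) = f x := rfl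

theorem gamma_seq {L : Type u} [AddCommGroup L] [Module R L] {f : M →ₗ[R] N} {g : N →ₗ[R] L}
    (hf : Function.Injective f) (hfg : Function.Exact f g) (hg : Function.Surjective g)
    (h1 : Subsingleton (LocCoh.H I 1 M)) :
    Function.Injective (gammaMap I f) ∧ Function.Exact (gammaMap I f) (gammaMap I g) ∧
      Function.Surjective (gammaMap I g) := by
  refine ⟨fun a b h => Subtype.ext (hf (congrArg Subtype.val h)), fun y => ⟨fun hy => ?_, ?_⟩,
    fun y => ?_⟩
  · obtain ⟨x, hx⟩ := (hfg y).1 (congrArg Subtype.val hy)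
    refine ⟨⟨x, ?_⟩, Subtype.ext hx⟩
    obtain ⟨n, hn⟩ := y.2
    exact ⟨n, fun a ha => hf (by rw [map_smul, hx, hn a ha, map_zero])⟩
  · rintro ⟨x, rfl⟩
    exact Subtype.ext (hfg.apply_apply_eq_zero (x : M))
  · obtain ⟨x, hx, hxy⟩ := gamma_surjective_of_subsingleton_H1 I hf hfg hg h1 y y.2
    exact ⟨⟨x, hx⟩, Subtype.ext hxy⟩

variable [IsNoetherianRing R]

theorem subsingleton_H_sup_of_acyclic (i : ℕ) :
    ∀ {M : Type u} [AddCommGroup M] [Module R M],
      (∀ j, 0 < j → Subsingleton (LocCoh.H I j M)) →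
      Subsingleton (LocCoh.H J (i + 1) (gamma I M)) →
      Subsingleton (LocCoh.H (I ⊔ J) (i + 1) M) := by
  induction i with
  | zero =>
    intro M _ _ hI hJ
    obtain ⟨E, _, _, f, hf, _⟩ := exists_injective_embedding (R := R) M
    obtain ⟨hf', hfg', hg'⟩ := gamma_seq (I := I) hf (LinearMap.exact_map_mkQ_range f)
      (Submodule.mkQ_surjective _) (hI 1 Nat.one_pos)
    refine subsingleton_H1_of_surjective (I ⊔ J) hf (LinearMap.exact_map_mkQ_range f)
      (Submodule.mkQ_surjective _) (subsingleton_H_succ_of_injective _ 0) fun y hy => ?_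
    obtain ⟨hyI, hyJ⟩ := (mem_gamma_sup I J).1 hy
    obtain ⟨x, hx, hxy⟩ := gamma_surjective_of_subsingleton_H1 J hf' hfg' hg' hJ ⟨y, hyI⟩
      ((coe_mem_gamma_iff J _ _).1 hyJ)
    exact ⟨x, (mem_gamma_sup I J).2 ⟨x.2, (coe_mem_gamma_iff J _ _).2 hx⟩,
      congrArg Subtype.val hxy⟩
  | succ i ih =>
    intro M _ _ hI hJ
    obtain ⟨E, _, _, f, hf, hE⟩ := exists_injective_embedding (R := R) M
    obtain ⟨hf', hfg', hg'⟩ := gamma_seq (I := I) hf (LinearMap.exact_map_mkQ_range f)
      (Submodule.mkQ_surjective _) (hI 1 Nat.one_pos)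
    haveI := injective_gamma I E
    refine subsingleton_H_left (I ⊔ J) (i + 1) hf (LinearMap.exact_map_mkQ_range f)
      (Submodule.mkQ_surjective _) (ih ?_ ?_) (subsingleton_H_succ_of_injective _ _)
    · exact fun j hj => subsingleton_H_right I j hf (LinearMap.exact_map_mkQ_range f)
        (Submodule.mkQ_surjective _) (subsingleton_H_of_injective I hj) (hI _ j.succ_pos)
    · exact subsingleton_H_right J (i + 1) hf' hfg' hg' (subsingleton_H_succ_of_injective J i) hJ

theorem subsingleton_H_sup {b : ℕ} (hJ : LocCoh.CdLE R J b) (a : ℕ) :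
    ∀ {M : Type u} [AddCommGroup M] [Module R M],
      (∀ j, a < j → Subsingleton (LocCoh.H I j M)) →
      ∀ i, a + b < i → Subsingleton (LocCoh.H (I ⊔ J) i M) := by
  induction a with
  | zero =>
    intro M _ _ hI i hi
    obtain ⟨k, rfl⟩ : ∃ k, i = k + 1 := ⟨i - 1, by omega⟩
    exact subsingleton_H_sup_of_acyclic k hI (hJ _ (k + 1) (by omega))
  | succ a ih =>
    intro M _ _ hI i hi
    obtain ⟨k, rfl⟩ : ∃ k, i = k + 1 := ⟨i - 1, by omega⟩
    obtain ⟨E, _, _, f, hf, _⟩ := exists_injective_embedding (R := R) M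
    refine subsingleton_H_left (I ⊔ J) k hf (LinearMap.exact_map_mkQ_range f)
      (Submodule.mkQ_surjective _) (ih ?_ k (by omega)) (subsingleton_H_succ_of_injective _ _)
    exact fun j hj => subsingleton_H_right I j hf (LinearMap.exact_map_mkQ_range f)
      (Submodule.mkQ_surjective _) (subsingleton_H_of_injective I (by omega))
      (hI (j + 1) (by omega))

theorem cdLE_sup {a b : ℕ} (hI : LocCoh.CdLE R I a) (hJ : LocCoh.CdLE R J b) :
    LocCoh.CdLE R (I ⊔ J) (a + b) := fun M _ _ i hi =>
  subsingleton_H_sup hJ a (fun j hj => hI M j hj) i hi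

/-- A quotient of an injective module is acyclic for a principal ideal. -/
theorem subsingleton_H_principal_quotient_injective (x : R) {E : Type u} [AddCommGroup E]
    [Module R E] [Module.Injective R E] (W : Submodule R E) {i : ℕ} (hi : 0 < i) :
    Subsingleton (LocCoh.H (Ideal.span {x}) i (E ⧸ W)) := by
  let G := gamma (Ideal.span {x}) E
  haveI : Module.Injective R G := injective_gamma _ E
  obtain ⟨r, hr⟩ := Module.Injective.out G.subtype G.injective_subtype (LinearMap.id : G →ₗ[R] G)
  let K := LinearMap.ker r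
  have hreg : Function.Injective (LinearMap.lsmul R K x) := by
    refine (injective_iff_map_eq_zero _).2 fun m hm => Subtype.ext ?_
    have hx0 : x • (m : E) = 0 := congrArg Subtype.val hm
    have hmG : (m : E) ∈ G := by
      refine ⟨1, fun a ha => ?_⟩
      rw [pow_one, Ideal.mem_span_singleton'] at ha
      obtain ⟨c, rfl⟩ := ha
      rw [mul_smul, hx0, smul_zero]
    have h2 : r (m : E) = ⟨m, hmG⟩ := hr ⟨m, hmG⟩
    have h3 : r (m : E) = 0 := m.2
    exact congrArg (fun z : G => (z : E)) (h2.symm.trans h3)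
  obtain ⟨h, hh⟩ := Module.Injective.out (LinearMap.lsmul R K x) hreg K.subtype
  let Q := E ⧸ W
  let g := (gamma (Ideal.span {x}) Q).mkQ
  have hxmem : x ∈ Ideal.span ({x} : Set R) := Ideal.mem_span_singleton_self x
  haveI : Subsingleton (LocCoh.H (Ideal.span {x}) i (Q ⧸ gamma (Ideal.span {x}) Q)) := by
    refine subsingleton_H_of_smul_bijective _ hxmem ⟨?_, ?_⟩ i
    · refine (injective_iff_map_eq_zero (LinearMap.lsmul R _ x)).2 fun y hy => ?_
      refine (Submodule.eq_bot_iff _).1 (gamma_quot_gamma (Ideal.span {x}) (M := Q)) y ⟨1, ?_⟩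
      intro a ha
      rw [pow_one, Ideal.mem_span_singleton'] at ha
      obtain ⟨c, rfl⟩ := ha
      rw [mul_smul, show x • y = 0 from hy, smul_zero]
    · intro y
      obtain ⟨y, rfl⟩ := Submodule.mkQ_surjective _ y
      obtain ⟨e, rfl⟩ := Submodule.mkQ_surjective W y
      have he : e - (r e : E) ∈ K := by
        change r (e - (r e : E)) = 0
        rw [map_sub, show r (r e : E) = r e from hr (r e), sub_self]
      refine ⟨g (W.mkQ (h ⟨_, he⟩)), ?_⟩
      change x • g (W.mkQ (h ⟨_, he⟩)) = g (W.mkQ e)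
      rw [← map_smul, ← map_smul, show x • h ⟨_, he⟩ = e - (r e : E) by
        rw [← map_smul]; exact hh ⟨_, he⟩, map_sub, map_sub,
        show g (W.mkQ (r e : E)) = 0 from
          (Submodule.Quotient.mk_eq_zero _).2 (map_mem_gamma W.mkQ (r e).2), sub_zero]
  exact (Hmap_mkQ_gamma_bijective (Ideal.span {x}) (M := Q) hi).1.subsingleton

theorem cdLE_principal (x : R) : LocCoh.CdLE R (Ideal.span {x}) 1 := by
  intro M _ _ i hi
  obtain ⟨k, rfl⟩ : ∃ k, i = k + 1 := ⟨i - 1, by omega⟩
  obtain ⟨E, _, _, f, hf, _⟩ := exists_injective_embedding (R := R) M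
  exact subsingleton_H_left _ k hf (LinearMap.exact_map_mkQ_range f) (Submodule.mkQ_surjective _)
    (subsingleton_H_principal_quotient_injective x _ (by omega))
    (subsingleton_H_succ_of_injective _ _)

theorem cdLE_bot : LocCoh.CdLE R (⊥ : Ideal R) 0 := fun M _ _ i hi =>
  subsingleton_H_of_powerTorsion _ (fun m => ⟨1, fun a ha => by
    rw [pow_one, Ideal.mem_bot] at ha; rw [ha, zero_smul]⟩) hi

theorem cdLE_mono {a b : ℕ} (h : a ≤ b) (hI : LocCoh.CdLE R I a) : LocCoh.CdLE R I b :=
  fun M _ _ i hi => hI M i (by omega)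

theorem cdLE_span_finset (s : Finset R) : LocCoh.CdLE R (Ideal.span (s : Set R)) s.card := by
  classical
  induction s using Finset.induction with
  | empty => rw [Finset.coe_empty, Ideal.span_empty]; exact cdLE_bot
  | insert x s hx ih =>
    rw [Finset.card_insert_of_notMem hx, Finset.coe_insert, Ideal.span_insert, add_comm s.card 1]
    exact cdLE_sup (cdLE_principal x) ih

theorem exists_cdLE (I : Ideal R) : ∃ d, LocCoh.CdLE R I d := by
  obtain ⟨s, rfl⟩ := (IsNoetherian.noetherian I : Submodule.FG I)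
  exact ⟨s.card, cdLE_span_finset s⟩

/-- Finitely supported families in an injective module form an injective module. -/
theorem injective_finsupp (ι : Type u) (E : Type u) [AddCommGroup E] [Module R E]
    [Module.Injective R E] : Module.Injective R (ι →₀ E) := by
  classical
  refine Module.Baer.injective fun A φ => ?_
  obtain ⟨s, hs⟩ := (IsNoetherian.noetherian A : Submodule.FG A)
  have hsA : ∀ r ∈ s, r ∈ A := fun r hr => hs ▸ Submodule.subset_span hr
  let S : Finset ι := s.attach.biUnion fun r => (φ ⟨r.1, hsA r.1 r.2⟩).support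
  have hS : ∀ r (hr : r ∈ A), φ ⟨r, hr⟩ ∈ Finsupp.supported E R (S : Set ι) := by
    intro r hr
    have hr' : r ∈ Submodule.span R (s : Set R) := hs.symm ▸ hr
    have key : ∀ r ∈ Submodule.span R (s : Set R), ∃ hr : r ∈ A,
        φ ⟨r, hr⟩ ∈ Finsupp.supported E R (S : Set ι) := by
      intro r hr
      induction hr using Submodule.span_induction with
      | mem r hr =>
        refine ⟨hsA r hr, (Finsupp.mem_supported _ _).2 ?_⟩
        exact Finset.coe_subset.2 (Finset.subset_biUnion_of_mem
          (fun r => (φ ⟨r.1, hsA r.1 r.2⟩).support) (Finset.mem_attach s ⟨r, hr⟩))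
      | zero => exact ⟨A.zero_mem, by rw [show (⟨0, A.zero_mem⟩ : A) = 0 from rfl, map_zero]; exact zero_mem _⟩
      | add a b _ _ ha hb =>
        obtain ⟨ha, ha'⟩ := ha
        obtain ⟨hb, hb'⟩ := hb
        exact ⟨A.add_mem ha hb, by
          rw [show (⟨a + b, A.add_mem ha hb⟩ : A) = ⟨a, ha⟩ + ⟨b, hb⟩ from rfl, map_add]
          exact add_mem ha' hb'⟩
      | smul c a _ ha =>
        obtain ⟨ha, ha'⟩ := ha
        exact ⟨A.smul_mem c ha, by
          rw [show (⟨c • a, A.smul_mem c ha⟩ : A) = c • ⟨a, ha⟩ from rfl, map_smul]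
          exact Submodule.smul_mem _ _ ha'⟩
    exact (key r hr').2
  have hE : ∀ j, ∃ h : R →ₗ[R] E, ∀ a : A, h a = φ a j := fun j =>
    Module.Injective.out A.subtype A.injective_subtype ((Finsupp.lapply j).comp φ)
  choose h hh using hE
  refine ⟨∑ j ∈ S, (Finsupp.lsingle j).comp (h j), fun r hr => ?_⟩
  ext j
  simp only [LinearMap.sum_apply, LinearMap.comp_apply, Finsupp.lsingle_apply,
    Finsupp.finset_sum_apply, Finsupp.single_apply, Finset.sum_ite_eq']
  split
  · exact hh j ⟨r, hr⟩
  · rename_i hj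
    exact (Finsupp.notMem_support_iff.1 fun hm => hj ((Finsupp.mem_supported _ _).1 (hS r hr) hm)).symm

theorem subsingleton_H_finsupp (ι : Type u) (i : ℕ) :
    ∀ {M : Type u} [AddCommGroup M] [Module R M],
      Subsingleton (LocCoh.H I (i + 1) M) → Subsingleton (LocCoh.H I (i + 1) (ι →₀ M)) := by
  classical
  induction i with
  | zero =>
    intro M _ _ hM
    obtain ⟨E, _, _, f, hf, _⟩ := exists_injective_embedding (R := R) M
    haveI := injective_finsupp (R := R) ι E
    let g := (LinearMap.range f).mkQ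
    have hex := LinearMap.exact_map_mkQ_range f
    refine subsingleton_H1_of_surjective I (f := Finsupp.mapRange.linearMap f)
      (g := Finsupp.mapRange.linearMap g) (fun a b h => Finsupp.ext fun j => hf ?_)
      (fun y => ⟨fun hy => ?_, ?_⟩) (fun y => ?_) (subsingleton_H_succ_of_injective I 0)
      fun y hy => ?_
    · exact DFunLike.congr_fun h j
    · have : ∀ j, ∃ x, f x = y j := fun j => (hex (y j)).1 (DFunLike.congr_fun hy j)
      choose x hx using this
      refine ⟨Finsupp.onFinset y.support x fun j hj => Finsupp.mem_support_iff.2 fun h0 => hj ?_,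
        Finsupp.ext hx⟩
      exact hf (by rw [hx, h0, map_zero])
    · rintro ⟨x, rfl⟩
      ext j
      exact hex.apply_apply_eq_zero (x j)
    · exact Finsupp.mapRange_surjective g (map_zero g) (Submodule.mkQ_surjective _) y
    · have : ∀ j, ∃ x ∈ gamma I E, g x = y j := fun j =>
        gamma_surjective_of_subsingleton_H1 I hf hex (Submodule.mkQ_surjective _) hM (y j)
          (map_mem_gamma (Finsupp.lapply j) hy)
      choose x hx hxy using this
      refine ⟨∑ j ∈ y.support, Finsupp.single j (x j), Submodule.sum_mem _ fun j _ =>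
        map_mem_gamma (Finsupp.lsingle j) (hx j), ?_⟩
      rw [map_sum]
      conv_rhs => rw [← Finsupp.sum_single y]
      refine Finset.sum_congr rfl fun j _ => ?_
      rw [Finsupp.mapRange.linearMap_apply, Finsupp.mapRange_single, hxy]
  | succ i ih =>
    intro M _ _ hM
    obtain ⟨E, _, _, f, hf, _⟩ := exists_injective_embedding (R := R) M
    haveI := injective_finsupp (R := R) ι E
    let g := (LinearMap.range f).mkQ
    have hex := LinearMap.exact_map_mkQ_range f
    refine subsingleton_H_left I (i + 1) (f := Finsupp.mapRange.linearMap f)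
      (g := Finsupp.mapRange.linearMap g) (fun a b h => Finsupp.ext fun j => hf ?_)
      (fun y => ⟨fun hy => ?_, ?_⟩) (fun y => ?_)
      (ih (subsingleton_H_right I (i + 1) hf hex (Submodule.mkQ_surjective _)
        (subsingleton_H_succ_of_injective I i) hM))
      (subsingleton_H_succ_of_injective I (i + 1))
    · exact DFunLike.congr_fun h j
    · have : ∀ j, ∃ x, f x = y j := fun j => (hex (y j)).1 (DFunLike.congr_fun hy j)
      choose x hx using this
      refine ⟨Finsupp.onFinset y.support x fun j hj => Finsupp.mem_support_iff.2 fun h0 => hj ?_,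
        Finsupp.ext hx⟩
      exact hf (by rw [hx, h0, map_zero])
    · rintro ⟨x, rfl⟩
      ext j
      exact hex.apply_apply_eq_zero (x j)
    · exact Finsupp.mapRange_surjective g (map_zero g) (Submodule.mkQ_surjective _) y

/-- Vanishing on the ring above `d` gives vanishing on all modules. -/
theorem cdLE_of_ring {d : ℕ} (h : ∀ i, d < i → Subsingleton (LocCoh.H I i R)) :
    LocCoh.CdLE R I d := by
  obtain ⟨c, hc⟩ := exists_cdLE I
  suffices ∀ k : ℕ, ∀ (M : Type u) [AddCommGroup M] [Module R M] (i : ℕ), d < i → c < i + k →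
      Subsingleton (LocCoh.H I i M) from fun M _ _ i hi => this (c + 1) M i hi (by omega)
  intro k
  induction k with
  | zero => exact fun M _ _ i _ hc' => hc M i (by omega)
  | succ k ih =>
    intro M _ _ i hi hc'
    let p := Finsupp.linearCombination R (id : M → M)
    obtain ⟨j, rfl⟩ : ∃ j, i = j + 1 := ⟨i - 1, by omega⟩
    let W : Submodule R (M →₀ R) := LinearMap.ker p
    have hex : Function.Exact W.subtype p := LinearMap.exact_subtype_ker_map p
    exact subsingleton_H_right I (j + 1) W.injective_subtype hex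
      (Finsupp.linearCombination_id_surjective R M)
      (subsingleton_H_finsupp M j (h _ hi))
      (ih W _ (by omega) (by omega))

end Groth.Agent.LC15
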