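import Mathlib.CategoryTheory.Abelian.Ext
import Mathlib.CategoryTheory.Abelian.Projective.Ext
import Mathlib.Algebra.Category.ModuleCat.Ext.HasExt
import Mathlib.Algebra.Category.ModuleCat.Abelian
import Mathlib.Algebra.Category.ModuleCat.Projective
import Mathlib.Algebra.Category.ModuleCat.EnoughInjectives
import Mathlib.Algebra.Homology.DerivedCategory.Ext.Linear

set_option autoImplicit false

universe u

namespace Groth.Agent.LC15

open CategoryTheory Limits Opposite

variable {R : Type u} [CommRing R] {X X' : ModuleCat.{u} R}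
  (P : ProjectiveResolution X) (P' : ProjectiveResolution X') (n : ℕ)

/-- The cochain complex `Hom(P, Y)`. -/
noncomputable abbrev homCx (Y : ModuleCat.{u} R) : CochainComplex (ModuleCat.{u} R) ℕ :=
  P.complex.linearYonedaObj R Y

/-- The contravariant functor `Hom(-, Y)`. -/
noncomputable abbrev homFunctor (Y : ModuleCat.{u} R) :
    ModuleCat.{u} R ⥤ (ModuleCat.{u} R)ᵒᵖ :=
  ((linearYoneda R (ModuleCat.{u} R)).obj Y).rightOp

variable {P P'}

noncomputable def preMap (φ : P'.complex ⟶ P.complex) (Y : ModuleCat.{u} R) :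
    homCx P Y ⟶ homCx P' Y :=
  (HomologicalComplex.unopFunctor _ _).map
    (((homFunctor Y).mapHomologicalComplex _).map φ).op

noncomputable def postMap {Y Y' : ModuleCat.{u} R} (g : Y ⟶ Y') :
    homCx P Y ⟶ homCx P Y' :=
  (HomologicalComplex.unopFunctor _ _).map
    ((NatTrans.mapHomologicalComplex
      (NatTrans.rightOp ((linearYoneda R (ModuleCat.{u} R)).map g)) _).app P.complex).op

theorem homologyUnop_inv_naturality {K L : ChainComplex (ModuleCat.{u} R)ᵒᵖ ℕ} (α : K ⟶ L)
    (n : ℕ) :
    (HomologicalComplex.homologyMap α n).unop ≫ (K.homologyUnop n).inv =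
      (L.homologyUnop n).inv ≫
        HomologicalComplex.homologyMap
          ((HomologicalComplex.unopFunctor _ _).map α.op) n := by
  have h := HomologicalComplex.homologyOp_hom_naturality
    ((HomologicalComplex.unopFunctor _ _).map α.op) n
  have h' := congrArg ((HomologicalComplex.homologyOp
    ((HomologicalComplex.unopFunctor _ _).obj (op K)) n).inv ≫ ·) h
  rw [Iso.inv_hom_id_assoc] at h'
  exact congrArg Quiver.Hom.unop ((Iso.eq_comp_inv _).2 ((Category.assoc _ _ _).trans h'))

theorem glueIso {𝒞 : Type*} [Category 𝒞] {a b c d e f : 𝒞} (A : a ⟶ b) (M : b ⟶ c) (E : c ⟶ d)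
    (E' : d ⟶ c) (U' : c ⟶ e) (U : b ⟶ f) (H : f ⟶ e) (hE : E ≫ E' = 𝟙 c)
    (hM : M ≫ U' = U ≫ H) : (A ≫ M ≫ E) ≫ (E' ≫ U') = (A ≫ U) ≫ H := by
  simp [reassoc_of% hE, hM]

theorem isoExt_naturality_left (g : X' ⟶ X) (φ : P'.complex ⟶ P.complex)
    (comm : φ.f 0 ≫ P.π.f 0 = P'.π.f 0 ≫ g) (Y : ModuleCat.{u} R) :
    ((Ext R (ModuleCat.{u} R) n).map g.op).app Y ≫ (P'.isoExt n Y).hom =
      (P.isoExt n Y).hom ≫ HomologicalComplex.homologyMap (preMap φ Y) n := by
  have h : ((Ext R (ModuleCat.{u} R) n).map g.op).app Y =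
      (((homFunctor Y).leftDerived n).map g).unop := rfl
  have h2 := congrArg Quiver.Hom.unop
    (ProjectiveResolution.isoLeftDerivedObj_inv_naturality g P' P φ comm (homFunctor Y) n)
  simp only [unop_comp] at h2
  rw [h]
  simp only [ProjectiveResolution.isoExt, Iso.trans_hom, Iso.symm_hom, Iso.unop_inv,
    Category.assoc]
  erw [reassoc_of% h2]
  exact congrArg (_ ≫ ·) (homologyUnop_inv_naturality _ n)

theorem isoExt_naturality_right {Y Y' : ModuleCat.{u} R} (g : Y ⟶ Y') :
    ((Ext R (ModuleCat.{u} R) n).obj (op X)).map g ≫ (P.isoExt n Y').hom =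
      (P.isoExt n Y).hom ≫ HomologicalComplex.homologyMap (postMap (P := P) g) n := by
  have h : ((Ext R (ModuleCat.{u} R) n).obj (op X)).map g =
      ((NatTrans.leftDerived
        (NatTrans.rightOp ((linearYoneda R (ModuleCat.{u} R)).map g)) n).app X).unop := rfl
  rw [h, ProjectiveResolution.leftDerived_app_eq _ P n]
  exact glueIso _ _ _ _ _ _ _
    (congrArg Quiver.Hom.unop (P.isoLeftDerivedObj (homFunctor Y') n).inv_hom_id)
    (homologyUnop_inv_naturality _ n)

variable (P)

theorem extMk_zero_eq_zero_iff {Y : ModuleCat.{u} R} (f : P.complex.X 0 ⟶ Y)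
    (hf : P.complex.d 1 0 ≫ f = 0) : P.extMk f 1 rfl hf = 0 ↔ f = 0 := by
  constructor
  · intro h
    have h' : P.extEquivCohomologyClass (P.extMk f 1 rfl hf) = 0 := by
      rw [h, ProjectiveResolution.extEquivCohomologyClass_zero]
    rw [ProjectiveResolution.extEquivCohomologyClass_extMk,
      CochainComplex.HomComplex.CohomologyClass.mk_eq_zero_iff,
      CochainComplex.HomComplex.Cocycle.toSingleMk_mem_coboundaries_iff _ _ _ _ _ 1 (by simp)]
      at h'
    obtain ⟨g, hg⟩ := h'
    have hz : IsZero (P.cochainComplex.X 1) := P.cochainComplex.isZero_of_isStrictlyLE 0 1 (by lia)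
    rw [hz.eq_of_src g 0, comp_zero] at hg
    rw [← cancel_epi (P.cochainComplexXIso (-(0 : ℕ)) 0 rfl).hom, comp_zero]
    exact hg.symm
  · rintro rfl
    simp

theorem extMk_smul {Y : ModuleCat.{u} R} (f : P.complex.X n ⟶ Y)
    (hf : P.complex.d (n + 1) n ≫ f = 0) (r : R) :
    P.extMk (r • f) (n + 1) rfl (by simp [hf]) = r • P.extMk f (n + 1) rfl hf := by
  rw [Abelian.Ext.smul_eq_comp_mk₀, ProjectiveResolution.extMk_comp_mk₀]
  simp

theorem iCycles_comp_d (Y : ModuleCat.{u} R) (z : (homCx P Y).cycles n) :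
    P.complex.d (n + 1) n ≫ (show P.complex.X n ⟶ Y from (homCx P Y).iCycles n z) = 0 := by
  change ((homCx P Y).iCycles n ≫ (homCx P Y).d n (n + 1)).hom z = 0
  rw [HomologicalComplex.iCycles_d]
  rfl

theorem extMk_congr {Y : ModuleCat.{u} R} {f f' : P.complex.X n ⟶ Y} (h : f = f')
    (hf : P.complex.d (n + 1) n ≫ f = 0) :
    P.extMk f (n + 1) rfl hf = P.extMk f' (n + 1) rfl (h ▸ hf) := by
  subst h; rfl

noncomputable def cyclesToExt (Y : ModuleCat.{u} R) :
    (homCx P Y).cycles n ⟶ ModuleCat.of R (Abelian.Ext X Y n) :=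
  ModuleCat.ofHom
    { toFun := fun z => P.extMk ((homCx P Y).iCycles n z) (n + 1) rfl (iCycles_comp_d P n Y z)
      map_add' := fun z w => by
        exact (extMk_congr P n (map_add ((homCx P Y).iCycles n).hom z w) _).trans
          (P.add_extMk _ _ (n + 1) rfl (iCycles_comp_d P n Y z) (iCycles_comp_d P n Y w)).symm
      map_smul' := fun r z => by
        exact (extMk_congr P n (map_smul ((homCx P Y).iCycles n).hom r z) _).trans
          (extMk_smul P n _ (iCycles_comp_d P n Y z) r) }

theorem cyclesToExt_apply (Y : ModuleCat.{u} R) (z : (homCx P Y).cycles n) :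
    cyclesToExt P n Y z =
      P.extMk ((homCx P Y).iCycles n z) (n + 1) rfl (iCycles_comp_d P n Y z) :=
  rfl

theorem toCycles_cyclesToExt (Y : ModuleCat.{u} R) (i : ℕ) :
    (homCx P Y).toCycles i n ≫ cyclesToExt P n Y = 0 := by
  by_cases h : (ComplexShape.up ℕ).Rel i n
  · ext w
    obtain rfl : i + 1 = n := h
    refine (cyclesToExt_apply P (i + 1) Y ((homCx P Y).toCycles i (i + 1) w)).trans ?_
    refine (P.extMk_eq_zero_iff _ _ rfl (iCycles_comp_d P (i + 1) Y _) i rfl).2 ⟨w, ?_⟩
    exact (ConcreteCategory.congr_hom ((homCx P Y).toCycles_i i (i + 1)) w).symm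
  · rw [(homCx P Y).toCycles_eq_zero h, zero_comp]

noncomputable def homologyToExt (Y : ModuleCat.{u} R) :
    (homCx P Y).homology n ⟶ ModuleCat.of R (Abelian.Ext X Y n) :=
  ((homCx P Y).homologyIsCokernel _ n rfl).desc
    (CokernelCofork.ofπ (cyclesToExt P n Y) (toCycles_cyclesToExt P n Y _))

@[reassoc]
theorem homologyπ_homologyToExt (Y : ModuleCat.{u} R) :
    (homCx P Y).homologyπ n ≫ homologyToExt P n Y = cyclesToExt P n Y :=
  ((homCx P Y).homologyIsCokernel _ n rfl).fac _ WalkingParallelPair.one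

theorem homologyToExt_bijective (Y : ModuleCat.{u} R) :
    Function.Bijective (homologyToExt P n Y) := by
  have hπ : Function.Surjective ((homCx P Y).homologyπ n) :=
    (ModuleCat.epi_iff_surjective _).1 inferInstance
  have key : ∀ z, homologyToExt P n Y ((homCx P Y).homologyπ n z) = cyclesToExt P n Y z :=
    fun z => ConcreteCategory.congr_hom (homologyπ_homologyToExt P n Y) z
  constructor
  · refine (injective_iff_map_eq_zero _).2 fun x hx => ?_
    obtain ⟨z, rfl⟩ := hπ x
    rw [key] at hx
    rw [cyclesToExt_apply] at hx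
    have hi : Function.Injective ((homCx P Y).iCycles n) :=
      (ModuleCat.mono_iff_injective _).1 inferInstance
    rcases Nat.eq_zero_or_pos n with rfl | hn
    · have hx' := (extMk_zero_eq_zero_iff P _ (iCycles_comp_d P 0 Y z)).1 hx
      rw [show z = 0 from hi (by rw [map_zero]; exact hx'), map_zero]
    · obtain ⟨p, rfl⟩ : ∃ p, n = p + 1 := ⟨n - 1, by omega⟩
      obtain ⟨g, hg⟩ :=
        (P.extMk_eq_zero_iff _ _ rfl (iCycles_comp_d P (p + 1) Y z) p rfl).1 hx
      have hz : (homCx P Y).toCycles p (p + 1) g = z := hi <|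
        (ConcreteCategory.congr_hom ((homCx P Y).toCycles_i p (p + 1)) g).trans hg
      rw [← hz]
      exact ConcreteCategory.congr_hom ((homCx P Y).toCycles_comp_homologyπ p (p + 1)) g
  · intro α
    obtain ⟨f, hf, rfl⟩ := P.extMk_surjective α (n + 1) rfl
    obtain ⟨z, hz⟩ : ∃ z, (homCx P Y).iCycles n z = f := by
      let k : ModuleCat.of R R ⟶ (homCx P Y).X n :=
        ModuleCat.ofHom (LinearMap.toSpanSingleton R ((homCx P Y).X n) f)
      have hk : k ≫ (homCx P Y).d n (n + 1) = 0 := by
        ext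
        change P.complex.d (n + 1) n ≫ ((1 : R) • f) = 0
        simp [hf]
      refine ⟨(homCx P Y).liftCycles k (n + 1) (CochainComplex.next _ n) hk (1 : R), ?_⟩
      refine (ConcreteCategory.congr_hom ((homCx P Y).liftCycles_i k (n + 1) _ hk) (1 : R)).trans ?_
      exact one_smul R f
    subst hz
    exact ⟨_, key z⟩

theorem homologyToExt_postMap {Y Y' : ModuleCat.{u} R} (g : Y ⟶ Y')
    (x : (homCx P Y).homology n) :
    homologyToExt P n Y' (HomologicalComplex.homologyMap (postMap (P := P) g) n x) =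
      (homologyToExt P n Y x).comp (Abelian.Ext.mk₀ g) (add_zero n) := by
  obtain ⟨z, rfl⟩ := (ModuleCat.epi_iff_surjective ((homCx P Y).homologyπ n)).1 inferInstance x
  rw [← ConcreteCategory.comp_apply (f := (homCx P Y).homologyπ n),
    HomologicalComplex.homologyπ_naturality]
  erw [ConcreteCategory.congr_hom (homologyπ_homologyToExt P n Y') _,
    ConcreteCategory.congr_hom (homologyπ_homologyToExt P n Y) z]
  refine Eq.trans ?_ (P.extMk_comp_mk₀ _ _ rfl (iCycles_comp_d P n Y z) g).symm
  refine (cyclesToExt_apply P n Y' (HomologicalComplex.cyclesMap (postMap (P := P) g) n z)).trans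
    (extMk_congr P n ?_ _)
  exact ConcreteCategory.congr_hom (HomologicalComplex.cyclesMap_i (postMap (P := P) g) n) z

theorem homologyToExt_preMap (g : X' ⟶ X) (φ : ProjectiveResolution.Hom P' P g)
    {Y : ModuleCat.{u} R} (x : (homCx P Y).homology n) :
    homologyToExt P' n Y (HomologicalComplex.homologyMap (preMap φ.hom Y) n x) =
      (Abelian.Ext.mk₀ g).comp (homologyToExt P n Y x) (zero_add n) := by
  obtain ⟨z, rfl⟩ := (ModuleCat.epi_iff_surjective ((homCx P Y).homologyπ n)).1 inferInstance x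
  rw [← ConcreteCategory.comp_apply (f := (homCx P Y).homologyπ n),
    HomologicalComplex.homologyπ_naturality]
  erw [ConcreteCategory.congr_hom (homologyπ_homologyToExt P' n Y) _,
    ConcreteCategory.congr_hom (homologyπ_homologyToExt P n Y) z]
  refine Eq.trans ?_ (ProjectiveResolution.mk₀_comp_extMk _ _ rfl (iCycles_comp_d P n Y z) φ).symm
  refine (cyclesToExt_apply P' n Y (HomologicalComplex.cyclesMap (preMap φ.hom Y) n z)).trans
    (extMk_congr P' n ?_ _)
  exact ConcreteCategory.congr_hom (HomologicalComplex.cyclesMap_i (preMap φ.hom Y) n) z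

/-- Comparison between the derived-functor `Ext` and `Abelian.Ext`. -/
noncomputable def extEquiv (X Y : ModuleCat.{u} R) (n : ℕ) :
    ↑(((Ext R (ModuleCat.{u} R) n).obj (op X)).obj Y) ≃ₗ[R] Abelian.Ext X Y n :=
  ((projectiveResolution X).isoExt n Y).toLinearEquiv.trans
    (LinearEquiv.ofBijective (homologyToExt (projectiveResolution X) n Y).hom
      (homologyToExt_bijective _ n Y))

theorem extEquiv_apply (X Y : ModuleCat.{u} R) (n : ℕ)
    (x : ((Ext R (ModuleCat.{u} R) n).obj (op X)).obj Y) :
    extEquiv X Y n x =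
      homologyToExt (projectiveResolution X) n Y (((projectiveResolution X).isoExt n Y).hom x) :=
  rfl

theorem extEquiv_naturality_right (X : ModuleCat.{u} R) {Y Y' : ModuleCat.{u} R} (g : Y ⟶ Y')
    (n : ℕ) (x : ((Ext R (ModuleCat.{u} R) n).obj (op X)).obj Y) :
    extEquiv X Y' n (((Ext R (ModuleCat.{u} R) n).obj (op X)).map g x) =
      (extEquiv X Y n x).comp (Abelian.Ext.mk₀ g) (add_zero n) := by
  have h := ConcreteCategory.congr_hom
    (isoExt_naturality_right (P := projectiveResolution X) n g) x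
  rw [extEquiv_apply, extEquiv_apply]
  exact (congrArg _ h).trans (homologyToExt_postMap _ n g _)

theorem extEquiv_naturality_left {X X' : ModuleCat.{u} R} (g : X' ⟶ X) (Y : ModuleCat.{u} R)
    (n : ℕ) (x : ((Ext R (ModuleCat.{u} R) n).obj (op X)).obj Y) :
    extEquiv X' Y n (((Ext R (ModuleCat.{u} R) n).map g.op).app Y x) =
      (Abelian.Ext.mk₀ g).comp (extEquiv X Y n x) (zero_add n) := by
  let φ : ProjectiveResolution.Hom (projectiveResolution X') (projectiveResolution X) g :=
    { hom := ProjectiveResolution.lift g _ _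
      hom_f_zero_comp_π_f_zero := by
        rw [ProjectiveResolution.lift_commutes_zero, ChainComplex.single₀_map_f_zero]
        rfl }
  have h := ConcreteCategory.congr_hom (isoExt_naturality_left
    (P := projectiveResolution X) (P' := projectiveResolution X') n g φ.hom
    (by simpa using φ.hom_f_zero_comp_π_f_zero) Y) x
  rw [extEquiv_apply, extEquiv_apply]
  exact (congrArg _ h).trans (homologyToExt_preMap _ n g φ _)

end Groth.Agent.LC15
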