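import Groth.Prelude.Def_Wider
import Groth.Agent.LC15.ExtCompare
import Mathlib.Algebra.Category.ModuleCat.FilteredColimits
import Mathlib.Algebra.Category.ModuleCat.EnoughInjectives
import Mathlib.Algebra.Category.ModuleCat.Injective
import Mathlib.Algebra.Homology.DerivedCategory.Ext.ExactSequences
import Mathlib.Algebra.Homology.DerivedCategory.Ext.EnoughInjectives
import Mathlib.CategoryTheory.Limits.ConcreteCategory.Basic
import Mathlib.Algebra.Homology.ShortComplex.ModuleCat

set_option autoImplicit false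

universe u

namespace Groth.Agent.LC15

open CategoryTheory Limits Opposite

variable {R : Type u} [CommRing R] (I : Ideal R)

/-- `R/I^n`. -/
abbrev quotPow (n : ℕ) : ModuleCat.{u} R := ModuleCat.of R (R ⧸ I ^ n)

/-- The projection `R/I^m → R/I^n`. -/
noncomputable def qmap {n m : ℕ} (h : n ≤ m) : quotPow I m ⟶ quotPow I n :=
  (localCohomology.ringModIdeals (localCohomology.idealPowersDiagram I)).map (homOfLE h).op

theorem qmap_mk {n m : ℕ} (h : n ≤ m) (r : R) :
    qmap I h (Submodule.Quotient.mk r) = Submodule.Quotient.mk r := rfl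

theorem qmap_trans {n m k : ℕ} (h : n ≤ m) (h' : m ≤ k) :
    qmap I h' ≫ qmap I h = qmap I (h.trans h') := by
  exact ((localCohomology.ringModIdeals (localCohomology.idealPowersDiagram I)).map_comp
    (homOfLE h').op (homOfLE h).op).symm

variable (i : ℕ) (M : Type u) [AddCommGroup M] [Module R M]

/-- The diagram whose colimit is `H I i M`. -/
noncomputable abbrev hDiag : ℕᵒᵖᵒᵖ ⥤ ModuleCat.{u} R :=
  localCohomology.diagram (localCohomology.idealPowersDiagram I) i ⋙
    (evaluation _ _).obj (ModuleCat.of R M)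

/-- `H I i M` as a cocone. -/
noncomputable def hCocone : Cocone (hDiag I i M) :=
  ((evaluation _ _).obj (ModuleCat.of R M)).mapCocone
    (colimit.cocone (localCohomology.diagram (localCohomology.idealPowersDiagram I) i))

noncomputable def hIsColimit : IsColimit (hCocone I i M) :=
  isColimitOfPreserves _ (colimit.isColimit _)

/-- The canonical map `Ext^i(R/I^n, M) → H^i_I(M)`. -/
noncomputable def toH (n : ℕ) :
    Abelian.Ext (quotPow I n) (ModuleCat.of R M) i →ₗ[R] LocCoh.H I i M :=
  ((hCocone I i M).ι.app (op (op n))).hom.comp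
    (extEquiv (quotPow I n) (ModuleCat.of R M) i).symm.toLinearMap

theorem hCocone_ι_apply (n : ℕ) (x : (hDiag I i M).obj (op (op n))) :
    (hCocone I i M).ι.app (op (op n)) x =
      toH I i M n (extEquiv (quotPow I n) (ModuleCat.of R M) i x) :=
  (congrArg _ ((extEquiv (quotPow I n) (ModuleCat.of R M) i).symm_apply_apply x)).symm

theorem extEquiv_map {n m : ℕ} (h : n ≤ m) (x : (hDiag I i M).obj (op (op n))) :
    extEquiv (quotPow I m) (ModuleCat.of R M) i ((hDiag I i M).map (homOfLE h).op.op x) =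
      (Abelian.Ext.mk₀ (qmap I h)).comp (extEquiv (quotPow I n) (ModuleCat.of R M) i x)
        (zero_add i) :=
  extEquiv_naturality_left (qmap I h) (ModuleCat.of R M) i x

noncomputable instance preservesForget : PreservesColimit (hDiag I i M) (forget (ModuleCat.{u} R)) :=
  haveI : PreservesFilteredColimitsOfSize.{0, 0} (forget (ModuleCat.{u} R)) :=
    preservesFilteredColimitsOfSize_shrink.{0, u, 0, u} _
  inferInstance

theorem toH_surj (y : LocCoh.H I i M) :
    ∃ (n : ℕ) (x : Abelian.Ext (quotPow I n) (ModuleCat.of R M) i), toH I i M n x = y := by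
  obtain ⟨⟨⟨n⟩⟩, x, hx⟩ := Concrete.isColimit_exists_rep _ (hIsColimit I i M) y
  exact ⟨n, _, (hCocone_ι_apply I i M n x).symm.trans hx⟩

theorem toH_precomp {n m : ℕ} (h : n ≤ m)
    (x : Abelian.Ext (quotPow I n) (ModuleCat.of R M) i) :
    toH I i M m ((Abelian.Ext.mk₀ (qmap I h)).comp x (zero_add i)) = toH I i M n x := by
  obtain ⟨z, rfl⟩ := (extEquiv (quotPow I n) (ModuleCat.of R M) i).surjective x
  refine (congrArg _ (extEquiv_map I i M h z).symm).trans ((hCocone_ι_apply I i M m _).symm.trans ?_)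
  refine Eq.trans ?_ (hCocone_ι_apply I i M n z)
  exact ConcreteCategory.congr_hom ((hCocone I i M).w (homOfLE h).op.op) z

theorem toH_eq_zero_iff {n : ℕ} (x : Abelian.Ext (quotPow I n) (ModuleCat.of R M) i) :
    toH I i M n x = 0 ↔ ∃ (m : ℕ) (h : n ≤ m),
      (Abelian.Ext.mk₀ (qmap I h)).comp x (zero_add i) = 0 := by
  refine ⟨fun hx => ?_, fun ⟨m, h, hm⟩ => ?_⟩
  · obtain ⟨z, rfl⟩ := (extEquiv (quotPow I n) (ModuleCat.of R M) i).surjective x
    replace hx := (hCocone_ι_apply I i M n z).trans hx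
    obtain ⟨⟨⟨m⟩⟩, f, g, hfg⟩ :=
      (Concrete.isColimit_rep_eq_iff_exists (hDiag I i M) (hIsColimit I i M) (i := op (op n))
        (j := op (op n)) z 0).1 (hx.trans (map_zero _).symm)
    have h : n ≤ m := leOfHom f.unop.unop
    have hf : f = (homOfLE h).op.op := Quiver.Hom.unop_inj (Quiver.Hom.unop_inj (Subsingleton.elim _ _))
    refine ⟨m, h, ?_⟩
    refine (extEquiv_map I i M h z).symm.trans ?_
    rw [← hf, hfg, map_zero]
    exact map_zero (extEquiv (quotPow I m) (ModuleCat.of R M) i)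
  · rw [← toH_precomp I i M h, hm, map_zero]

theorem toH_surj_ge (y : LocCoh.H I i M) (n₀ : ℕ) :
    ∃ (n : ℕ) (_ : n₀ ≤ n) (x : Abelian.Ext (quotPow I n) (ModuleCat.of R M) i),
      toH I i M n x = y := by
  obtain ⟨n, x, rfl⟩ := toH_surj I i M y
  exact ⟨max n n₀, le_max_right _ _, _, toH_precomp I i M (le_max_left _ _) x⟩

theorem subsingleton_H_iff : Subsingleton (LocCoh.H I i M) ↔
    ∀ (n : ℕ) (x : Abelian.Ext (quotPow I n) (ModuleCat.of R M) i), ∃ (m : ℕ) (h : n ≤ m),
      (Abelian.Ext.mk₀ (qmap I h)).comp x (zero_add i) = 0 := by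
  refine ⟨fun _ n x => (toH_eq_zero_iff I i M x).1 (Subsingleton.elim _ _),
    fun H => subsingleton_of_forall_eq 0 fun y => ?_⟩
  obtain ⟨n, x, rfl⟩ := toH_surj I i M y
  exact (toH_eq_zero_iff I i M x).2 (H n x)

theorem H_ext {P : Type u} [AddCommGroup P] [Module R P] {f g : LocCoh.H I i M →ₗ[R] P}
    (h : ∀ n x, f (toH I i M n x) = g (toH I i M n x)) : f = g := by
  ext y
  obtain ⟨n, x, rfl⟩ := toH_surj I i M y
  exact h n x

section Desc

variable {P : Type u} [AddCommGroup P] [Module R P]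
  (φ : ∀ n, Abelian.Ext (quotPow I n) (ModuleCat.of R M) i →ₗ[R] P)
  (hφ : ∀ (n m : ℕ) (h : n ≤ m) (x : Abelian.Ext (quotPow I n) (ModuleCat.of R M) i),
    φ m ((Abelian.Ext.mk₀ (qmap I h)).comp x (zero_add i)) = φ n x)

/-- Descend a compatible family of maps to local cohomology. -/
noncomputable def descH : LocCoh.H I i M →ₗ[R] P :=
  ((hIsColimit I i M).desc
    { pt := ModuleCat.of R P
      ι :=
        { app := fun j => ModuleCat.ofHom ((φ (unop (unop j))).comp
            (extEquiv (quotPow I (unop (unop j))) (ModuleCat.of R M) i).toLinearMap)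
          naturality := by
            rintro ⟨⟨n⟩⟩ ⟨⟨m⟩⟩ f
            have h : n ≤ m := leOfHom f.unop.unop
            obtain rfl : f = (homOfLE h).op.op :=
              Quiver.Hom.unop_inj (Quiver.Hom.unop_inj (Subsingleton.elim _ _))
            ext x
            exact (congrArg (φ m) (extEquiv_map I i M h x)).trans (hφ n m h _) } }).hom

theorem descH_toH (n : ℕ) (x : Abelian.Ext (quotPow I n) (ModuleCat.of R M) i) :
    descH I i M φ hφ (toH I i M n x) = φ n x := by
  obtain ⟨z, rfl⟩ := (extEquiv (quotPow I n) (ModuleCat.of R M) i).surjective x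
  refine (congrArg _ (hCocone_ι_apply I i M n z).symm).trans ?_
  exact ConcreteCategory.congr_hom ((hIsColimit I i M).fac _ (op (op n))) z

end Desc

variable {M} {N : Type u} [AddCommGroup N] [Module R N] {L : Type u} [AddCommGroup L] [Module R L]

/-- Functoriality of local cohomology. -/
noncomputable def Hmap (f : M →ₗ[R] N) : LocCoh.H I i M →ₗ[R] LocCoh.H I i N :=
  ((localCohomology I i).map (ModuleCat.ofHom f)).hom

theorem Hmap_toH (f : M →ₗ[R] N) (n : ℕ) (x : Abelian.Ext (quotPow I n) (ModuleCat.of R M) i) :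
    Hmap I i f (toH I i M n x) =
      toH I i N n (x.comp (Abelian.Ext.mk₀ (ModuleCat.ofHom f)) (add_zero i)) := by
  obtain ⟨z, rfl⟩ := (extEquiv (quotPow I n) (ModuleCat.of R M) i).surjective x
  rw [← extEquiv_naturality_right]
  refine (congrArg _ (hCocone_ι_apply I i M n z).symm).trans ?_
  exact (ConcreteCategory.congr_hom
    ((colimit.ι (localCohomology.diagram (localCohomology.idealPowersDiagram I) i)
      (op (op n))).naturality (ModuleCat.ofHom f)) z).symm.trans (hCocone_ι_apply I i N n _)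

theorem Hmap_id : Hmap I i (LinearMap.id : M →ₗ[R] M) = LinearMap.id :=
  H_ext I i M fun n x => by
    rw [Hmap_toH, LinearMap.id_apply]
    exact congrArg _ (Abelian.Ext.comp_mk₀_id x)

theorem Hmap_comp (g : N →ₗ[R] L) (f : M →ₗ[R] N) :
    Hmap I i (g ∘ₗ f) = Hmap I i g ∘ₗ Hmap I i f :=
  H_ext I i M fun n x => by
    rw [LinearMap.comp_apply, Hmap_toH, Hmap_toH, Hmap_toH,
      Abelian.Ext.comp_assoc_of_second_deg_zero, Abelian.Ext.mk₀_comp_mk₀]
    rfl

theorem Hmap_add (f g : M →ₗ[R] N) : Hmap I i (f + g) = Hmap I i f + Hmap I i g :=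
  H_ext I i M fun n x => by
    rw [LinearMap.add_apply, Hmap_toH, Hmap_toH, Hmap_toH, ← map_add, ← Abelian.Ext.comp_add,
      ← Abelian.Ext.mk₀_add]
    rfl

theorem Hmap_zero : Hmap I i (0 : M →ₗ[R] N) = 0 := by
  have h := Hmap_add I i (0 : M →ₗ[R] N) 0
  rwa [add_zero, left_eq_add] at h

theorem Hmap_smul (r : R) (f : M →ₗ[R] N) : Hmap I i (r • f) = r • Hmap I i f :=
  H_ext I i M fun n x => by
    rw [LinearMap.smul_apply, Hmap_toH, Hmap_toH, ← map_smul, ← Abelian.Ext.comp_smul,
      ← Abelian.Ext.mk₀_smul]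
    rfl

theorem Hmap_lsmul (r : R) (y : LocCoh.H I i M) :
    Hmap I i (LinearMap.lsmul R M r) y = r • y := by
  have h : LinearMap.lsmul R M r = r • LinearMap.id := by ext; simp
  rw [h, Hmap_smul, Hmap_id]
  rfl

/-- Local cohomology of isomorphic modules. -/
noncomputable def Hequiv (e : M ≃ₗ[R] N) : LocCoh.H I i M ≃ₗ[R] LocCoh.H I i N :=
  LinearEquiv.ofLinearMap (Hmap I i e.toLinearMap) (Hmap I i e.symm.toLinearMap)
    (by rw [← Hmap_comp, LinearEquiv.comp_symm, Hmap_id])
    (by rw [← Hmap_comp, LinearEquiv.symm_comp, Hmap_id])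

theorem subsingleton_H_of_subsingleton [Subsingleton M] : Subsingleton (LocCoh.H I i M) := by
  refine subsingleton_of_forall_eq 0 fun y => ?_
  have h : (LinearMap.id : M →ₗ[R] M) = 0 := Subsingleton.elim _ _
  rw [← LinearMap.id_apply (R := R) y, ← Hmap_id, h, Hmap_zero, LinearMap.zero_apply]

/-- Every injective module has vanishing higher local cohomology. -/
theorem subsingleton_H_succ_of_injective [Module.Injective R M] :
    Subsingleton (LocCoh.H I (i + 1) M) := by
  haveI : CategoryTheory.Injective (ModuleCat.of R M) :=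
    Module.injective_object_of_injective_module R M
  refine subsingleton_of_forall_eq 0 fun y => ?_
  obtain ⟨n, x, rfl⟩ := toH_surj I (i + 1) M y
  rw [Abelian.Ext.eq_zero_of_injective x, map_zero]

theorem subsingleton_H_of_injective [Module.Injective R M] {i : ℕ} (hi : 0 < i) :
    Subsingleton (LocCoh.H I i M) := by
  obtain ⟨j, rfl⟩ : ∃ j, i = j + 1 := ⟨i - 1, by omega⟩
  exact subsingleton_H_succ_of_injective I j

/-- Every module embeds into an injective module. -/
theorem exists_injective_embedding (M : Type u) [AddCommGroup M] [Module R M] :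
    ∃ (E : Type u) (_ : AddCommGroup E) (_ : Module R E) (f : M →ₗ[R] E),
      Function.Injective f ∧ Module.Injective R E := by
  haveI : CategoryTheory.Injective
      (ModuleCat.of R (Injective.under (ModuleCat.of R M) : ModuleCat.{u} R)) :=
    inferInstanceAs (CategoryTheory.Injective (Injective.under (ModuleCat.of R M)))
  exact ⟨(Injective.under (ModuleCat.of R M) : ModuleCat.{u} R), inferInstance, inferInstance,
    (Injective.ι (ModuleCat.of R M)).hom, (ModuleCat.mono_iff_injective _).1 inferInstance,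
    Module.injective_module_of_injective_object R _⟩

section LES

variable {f : M →ₗ[R] N} {g : N →ₗ[R] L} (hf : Function.Injective f) (hfg : Function.Exact f g)
  (hg : Function.Surjective g)

/-- A short complex of modules from linear maps. -/
abbrev seqSC (hfg : Function.Exact f g) : ShortComplex (ModuleCat.{u} R) :=
  ShortComplex.mk (ModuleCat.ofHom f) (ModuleCat.ofHom g)
    (ModuleCat.hom_ext hfg.linearMap_comp_eq_zero)

theorem seqSC_shortExact (hf : Function.Injective f) (hfg : Function.Exact f g)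
    (hg : Function.Surjective g) : (seqSC hfg).ShortExact :=
  { exact := (ShortComplex.ShortExact.moduleCat_exact_iff_function_exact _).2 hfg
    mono_f := (ModuleCat.mono_iff_injective _).2 hf
    epi_g := (ModuleCat.epi_iff_surjective _).2 hg }

/-- The connecting map on `Ext`. -/
noncomputable def extδ (X : ModuleCat.{u} R) :
    Abelian.Ext X (ModuleCat.of R L) i →ₗ[R] Abelian.Ext X (ModuleCat.of R M) (i + 1) where
  toFun x := Abelian.Ext.comp (Y := ModuleCat.of R L) (Z := ModuleCat.of R M) x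
    (seqSC_shortExact hf hfg hg).extClass rfl
  map_add' x y := Abelian.Ext.add_comp x y _ rfl
  map_smul' r x := Abelian.Ext.smul_comp x _ rfl r

theorem extδ_comp {X X' : ModuleCat.{u} R} (g' : X' ⟶ X)
    (x : Abelian.Ext X (ModuleCat.of R L) i) :
    extδ i hf hfg hg X' ((Abelian.Ext.mk₀ g').comp x (zero_add i)) =
      (Abelian.Ext.mk₀ g').comp (extδ i hf hfg hg X x) (zero_add (i + 1)) :=
  Abelian.Ext.comp_assoc (Abelian.Ext.mk₀ g') x _ (zero_add i) rfl (by omega)

/-- The connecting map. -/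
noncomputable def Hδ : LocCoh.H I i L →ₗ[R] LocCoh.H I (i + 1) M :=
  descH I i L (fun n => (toH I (i + 1) M n).comp (extδ i hf hfg hg (quotPow I n)))
    fun n m h x => by
      rw [LinearMap.comp_apply, LinearMap.comp_apply, extδ_comp, toH_precomp]

theorem Hδ_toH (n : ℕ) (x : Abelian.Ext (quotPow I n) (ModuleCat.of R L) i) :
    Hδ I i hf hfg hg (toH I i L n x) =
      toH I (i + 1) M n (x.comp (seqSC_shortExact hf hfg hg).extClass rfl) :=
  descH_toH I i L _ _ n x

include hf hfg hg in
theorem H_exact₂ : Function.Exact (Hmap I i f) (Hmap I i g) := by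
  intro y
  refine ⟨fun hy => ?_, ?_⟩
  · obtain ⟨n, x, rfl⟩ := toH_surj I i N y
    rw [Hmap_toH, toH_eq_zero_iff] at hy
    obtain ⟨m, h, hm⟩ := hy
    rw [← Abelian.Ext.comp_assoc_of_third_deg_zero] at hm
    obtain ⟨x₁, hx₁⟩ :=
      Abelian.Ext.covariant_sequence_exact₂ (quotPow I m) (seqSC_shortExact hf hfg hg) _ hm
    exact ⟨toH I i M m x₁, by rw [Hmap_toH, hx₁, toH_precomp]⟩
  · rintro ⟨z, rfl⟩
    rw [← LinearMap.comp_apply, ← Hmap_comp, hfg.linearMap_comp_eq_zero, Hmap_zero]
    rfl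

theorem H_exact₃ : Function.Exact (Hmap I i g) (Hδ I i hf hfg hg) := by
  intro y
  refine ⟨fun hy => ?_, ?_⟩
  · obtain ⟨n, x, rfl⟩ := toH_surj I i L y
    rw [Hδ_toH, toH_eq_zero_iff] at hy
    obtain ⟨m, h, hm⟩ := hy
    rw [← Abelian.Ext.comp_assoc _ _ _ (zero_add i) rfl (by omega)] at hm
    obtain ⟨x₂, hx₂⟩ :=
      Abelian.Ext.covariant_sequence_exact₃ (quotPow I m) (seqSC_shortExact hf hfg hg) _ rfl hm
    exact ⟨toH I i N m x₂, by rw [Hmap_toH, hx₂, toH_precomp]⟩
  · rintro ⟨z, rfl⟩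
    obtain ⟨n, x, rfl⟩ := toH_surj I i N z
    rw [Hmap_toH, Hδ_toH, Abelian.Ext.comp_assoc_of_second_deg_zero]
    rw [show (Abelian.Ext.mk₀ (ModuleCat.ofHom g)).comp (seqSC_shortExact hf hfg hg).extClass
      (zero_add 1) = 0 from (seqSC_shortExact hf hfg hg).comp_extClass, Abelian.Ext.comp_zero,
      map_zero]

theorem H_exact₁ : Function.Exact (Hδ I i hf hfg hg) (Hmap I (i + 1) f) := by
  intro y
  refine ⟨fun hy => ?_, ?_⟩
  · obtain ⟨n, x, rfl⟩ := toH_surj I (i + 1) M y
    rw [Hmap_toH, toH_eq_zero_iff] at hy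
    obtain ⟨m, h, hm⟩ := hy
    rw [← Abelian.Ext.comp_assoc_of_third_deg_zero] at hm
    obtain ⟨x₃, hx₃⟩ :=
      Abelian.Ext.covariant_sequence_exact₁ (quotPow I m) (seqSC_shortExact hf hfg hg) _ hm rfl
    exact ⟨toH I i L m x₃, by rw [Hδ_toH, hx₃, toH_precomp]⟩
  · rintro ⟨z, rfl⟩
    obtain ⟨n, x, rfl⟩ := toH_surj I i L z
    rw [Hδ_toH, Hmap_toH, Abelian.Ext.comp_assoc _ _ _ _ (add_zero 1) (by omega)]
    rw [show (seqSC_shortExact hf hfg hg).extClass.comp (Abelian.Ext.mk₀ (ModuleCat.ofHom f))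
      (add_zero 1) = 0 from (seqSC_shortExact hf hfg hg).extClass_comp, Abelian.Ext.comp_zero,
      map_zero]

include hf hfg hg in
theorem subsingleton_H_middle (hM : Subsingleton (LocCoh.H I i M))
    (hL : Subsingleton (LocCoh.H I i L)) : Subsingleton (LocCoh.H I i N) := by
  refine subsingleton_of_forall_eq 0 fun y => ?_
  obtain ⟨z, rfl⟩ := (H_exact₂ I i hf hfg hg y).1 (Subsingleton.elim _ _)
  rw [Subsingleton.elim z 0, map_zero]

include hf hfg hg in
theorem subsingleton_H_left (hL : Subsingleton (LocCoh.H I i L))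
    (hN : Subsingleton (LocCoh.H I (i + 1) N)) : Subsingleton (LocCoh.H I (i + 1) M) := by
  refine subsingleton_of_forall_eq 0 fun y => ?_
  obtain ⟨z, rfl⟩ := (H_exact₁ I i hf hfg hg y).1 (Subsingleton.elim _ _)
  rw [Subsingleton.elim z 0, map_zero]

include hf hfg hg in
theorem subsingleton_H_right (hN : Subsingleton (LocCoh.H I i N))
    (hM : Subsingleton (LocCoh.H I (i + 1) M)) : Subsingleton (LocCoh.H I i L) := by
  refine subsingleton_of_forall_eq 0 fun y => ?_
  obtain ⟨z, rfl⟩ := (H_exact₃ I i hf hfg hg y).1 (Subsingleton.elim _ _)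
  rw [Subsingleton.elim z 0, map_zero]

theorem Hδ_surjective (hN : Subsingleton (LocCoh.H I (i + 1) N)) :
    Function.Surjective (Hδ I i hf hfg hg) :=
  fun y => (H_exact₁ I i hf hfg hg y).1 (Subsingleton.elim _ _)

theorem Hδ_bijective (hN₀ : Subsingleton (LocCoh.H I i N))
    (hN₁ : Subsingleton (LocCoh.H I (i + 1) N)) : Function.Bijective (Hδ I i hf hfg hg) := by
  refine ⟨(injective_iff_map_eq_zero _).2 fun y hy => ?_, Hδ_surjective I i hf hfg hg hN₁⟩
  obtain ⟨z, rfl⟩ := (H_exact₃ I i hf hfg hg y).1 hy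
  rw [Subsingleton.elim z 0, map_zero]

/-- Dimension shifting along a sequence with acyclic middle term. -/
noncomputable def HδEquiv (hN₀ : Subsingleton (LocCoh.H I i N))
    (hN₁ : Subsingleton (LocCoh.H I (i + 1) N)) : LocCoh.H I i L ≃ₗ[R] LocCoh.H I (i + 1) M :=
  LinearEquiv.ofBijective _ (Hδ_bijective I i hf hfg hg hN₀ hN₁)

end LES

end Groth.Agent.LC15
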