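import Groth.Agent.LC15.ExtDepth

set_option autoImplicit false

universe u

open CategoryTheory RingTheory.Sequence
open scoped Pointwise

namespace Groth.Agent.LC15

variable {R : Type u} [CommRing R] {I : Ideal R}

theorem subsingleton_ext_of_weaklyRegular {N : Type u} [AddCommGroup N] [Module R N] {k : ℕ}
    (hN : (I ^ k) • (⊤ : Submodule R N) = ⊥) :
    ∀ (rs : List R) (M : Type u) [AddCommGroup M] [Module R M], IsWeaklyRegular M rs →
      (∀ r ∈ rs, r ∈ I) → ∀ i < rs.length,
        Subsingleton (Abelian.Ext (ModuleCat.of R N) (ModuleCat.of R M) i) := by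
  intro rs
  induction rs with
  | nil => intro M _ _ _ _ i hi; simp at hi
  | cons a rs ih =>
    intro M _ _ hreg hI i hi
    rw [isWeaklyRegular_cons_iff] at hreg
    have hkill : ∀ m : N, a ^ k • m = 0 := fun m => by
      have : a ^ k • m ∈ (I ^ k) • (⊤ : Submodule R N) :=
        Submodule.smul_mem_smul (Ideal.pow_mem_pow (hI a (List.mem_cons_self ..)) k) Submodule.mem_top
      rwa [hN, Submodule.mem_bot] at this
    rcases i with _ | j
    · refine (subsingleton_ext_zero_iff N M).2 (subsingleton_of_forall_eq 0 fun f =>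
        LinearMap.ext fun m => (hreg.1.pow k).right_eq_zero_of_smul ?_)
      rw [← map_smul, hkill, map_zero]
    · haveI := ih (QuotSMulTop a M) hreg.2 (fun r hr => hI r (List.mem_cons_of_mem _ hr)) j
        (by simpa using hi)
      have hses := LC17.regular_ses hreg.1
      have hinj : ∀ z : Abelian.Ext (ModuleCat.of R N) (ModuleCat.of R M) (j + 1),
          a • z = 0 → z = 0 := fun z hz => by
        have hz' : z.comp (Abelian.Ext.mk₀ (ModuleCat.ofHom (LinearMap.lsmul R M a))) (add_zero _)
            = 0 := by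
          rw [show ModuleCat.ofHom (LinearMap.lsmul R M a) = a • 𝟙 (ModuleCat.of R M) from rfl,
            Abelian.Ext.mk₀_smul, Abelian.Ext.comp_smul, Abelian.Ext.comp_mk₀_id, hz]
        obtain ⟨y, rfl⟩ := Abelian.Ext.covariant_sequence_exact₁ (ModuleCat.of R N)
          (seqSC_shortExact hses.1 hses.2 (Submodule.mkQ_surjective _)) z hz' rfl
        have : y = 0 := Subsingleton.elim
          (α := Abelian.Ext (ModuleCat.of R N) (ModuleCat.of R (QuotSMulTop a M)) j) _ _
        rw [this, Abelian.Ext.zero_comp]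
      refine subsingleton_of_forall_eq 0 fun x => LC17.eq_zero_of_pow_smul hinj k x ?_
      exact ext_smul_eq_zero_of_annihilator hkill _ x

variable [IsNoetherianRing R] (I)

theorem idealDepth_shortExact {N' N N'' : Type u} [AddCommGroup N'] [Module R N']
    [Module.Finite R N'] [AddCommGroup N] [Module R N] [Module.Finite R N] [AddCommGroup N'']
    [Module R N''] [Module.Finite R N''] {f : N' →ₗ[R] N} {g : N →ₗ[R] N''}
    (hf : Function.Injective f) (hg : Function.Surjective g) (hfg : Function.Exact f g) :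
    min (LocCoh.idealDepth I N') (LocCoh.idealDepth I N'') ≤ LocCoh.idealDepth I N ∧
      min (LocCoh.idealDepth I N) (LocCoh.idealDepth I N' - 1) ≤ LocCoh.idealDepth I N'' ∧
      min (LocCoh.idealDepth I N) (LocCoh.idealDepth I N'' + 1) ≤ LocCoh.idealDepth I N' := by
  refine ⟨LC17.eNat_le_of_forall fun n hn => ?_, LC17.eNat_le_of_forall fun n hn => ?_,
    LC17.eNat_le_of_forall fun n hn => ?_⟩ <;> rw [le_min_iff] at hn <;>
    rw [LC17.natCast_le_idealDepth_iff] <;> intro i hi
  · exact subsingleton_H_middle I i hf hfg hg ((LC17.natCast_le_idealDepth_iff I N' n).1 hn.1 i hi)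
      ((LC17.natCast_le_idealDepth_iff I N'' n).1 hn.2 i hi)
  · have h' : ((n + 1 : ℕ) : ℕ∞) ≤ LocCoh.idealDepth I N' := by
      have h := hn.2
      rcases eq_or_ne (LocCoh.idealDepth I N') ⊤ with ht | ht
      · rw [ht]; exact le_top
      · obtain ⟨c, hc⟩ := ENat.ne_top_iff_exists.1 ht
        rw [← hc] at h ⊢
        rw [← Nat.cast_one, ← ENat.coe_sub, Nat.cast_le] at h
        rw [Nat.cast_le]
        omega
    exact subsingleton_H_right I i hf hfg hg ((LC17.natCast_le_idealDepth_iff I N n).1 hn.1 i hi)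
      ((LC17.natCast_le_idealDepth_iff I N' (n + 1)).1 h' (i + 1) (by omega))
  · rcases i with _ | j
    · haveI := (LC17.natCast_le_idealDepth_iff I N n).1 hn.1 0 hi
      exact (Hmap_zero_injective I hf).subsingleton
    · refine subsingleton_H_left I j hf hfg hg ?_
        ((LC17.natCast_le_idealDepth_iff I N n).1 hn.1 (j + 1) hi)
      have h' : ((n - 1 : ℕ) : ℕ∞) ≤ LocCoh.idealDepth I N'' := by
        have h := hn.2
        rcases eq_or_ne (LocCoh.idealDepth I N'') ⊤ with ht | ht
        · rw [ht]; exact le_top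
        · obtain ⟨c, hc⟩ := ENat.ne_top_iff_exists.1 ht
          rw [← hc] at h ⊢
          rw [← Nat.cast_one, ← Nat.cast_add, Nat.cast_le] at h
          rw [Nat.cast_le]
          omega
      exact (LC17.natCast_le_idealDepth_iff I N'' (n - 1)).1 h' j (by omega)

theorem idealDepth_eq_length_add : ∀ (rs : List R) (M : Type u) [AddCommGroup M] [Module R M]
    [Module.Finite R M], IsWeaklyRegular M rs → (∀ r ∈ rs, r ∈ I) →
      LocCoh.idealDepth I M =
        rs.length + LocCoh.idealDepth I (M ⧸ (Ideal.ofList rs • (⊤ : Submodule R M))) := by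
  intro rs
  induction rs with
  | nil =>
    intro M _ _ _ _ _
    rw [List.length_nil, Nat.cast_zero, zero_add]
    exact LC17.idealDepth_congr I ((Submodule.quotEquivOfEqBot _ (by simp)).symm)
  | cons a rs ih =>
    intro M _ _ _ hreg hI
    rw [isWeaklyRegular_cons_iff] at hreg
    rw [← idealDepth_quotSMulTop_add_one I (hI a (List.mem_cons_self ..)) hreg.1,
      ih (QuotSMulTop a M) hreg.2 (fun r hr => hI r (List.mem_cons_of_mem _ hr)),
      LC17.idealDepth_congr I (Submodule.quotOfListConsSMulTopEquivQuotSMulTopInner M a rs),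
      List.length_cons, Nat.cast_succ, add_right_comm]

variable {M : Type u} [AddCommGroup M] [Module R M] [Module.Finite R M]

theorem exists_regular_of_idealDepth_pos (h : ((1 : ℕ) : ℕ∞) ≤ LocCoh.idealDepth I M) :
    ∃ x ∈ I, IsSMulRegular M x := by
  by_cases hI : I • (⊤ : Submodule R M) = ⊤
  · obtain ⟨r, hr, hr'⟩ := LC17.exists_smul_eq_self I hI
    exact ⟨r, hr, fun a b hab => by simpa [hr'] using hab⟩
  obtain ⟨rs, hlen, hreg, hmem⟩ := LC17.exists_seq_of_subsingleton_H I 1 M
    ((LC17.natCast_le_idealDepth_iff I M 1).1 h) hI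
  match rs, hlen with
  | [r], _ => exact ⟨r, hmem r (by simp), (isWeaklyRegular_singleton_iff M r).1 hreg⟩

theorem length_eq_idealDepth_of_maximal (hIM : I • (⊤ : Submodule R M) ≠ ⊤) {rs : List R}
    (hreg : IsWeaklyRegular M rs) (hI : ∀ r ∈ rs, r ∈ I)
    (hmax : ∀ r ∈ I, ¬ IsWeaklyRegular M (rs ++ [r])) :
    (rs.length : ℕ∞) = LocCoh.idealDepth I M := by
  have h0 : LocCoh.idealDepth I (M ⧸ (Ideal.ofList rs • (⊤ : Submodule R M))) = 0 := by
    by_contra h
    obtain ⟨x, hx, hxreg⟩ := exists_regular_of_idealDepth_pos I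
      (M := M ⧸ (Ideal.ofList rs • (⊤ : Submodule R M)))
      (by rw [Nat.cast_one]; exact ENat.one_le_iff_ne_zero.2 h)
    exact hmax x hx ((isWeaklyRegular_append_iff M rs [x]).2
      ⟨hreg, (isWeaklyRegular_singleton_iff _ x).2 hxreg⟩)
  rw [idealDepth_eq_length_add I rs M hreg hI, h0, add_zero]

theorem exists_maximal_extension (hIM : I • (⊤ : Submodule R M) ≠ ⊤) {rs : List R}
    (hreg : IsWeaklyRegular M rs) (hI : ∀ r ∈ rs, r ∈ I) :
    ∃ rs' : List R, rs <+: rs' ∧ IsWeaklyRegular M rs' ∧ (∀ r ∈ rs', r ∈ I) ∧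
      ∀ r ∈ I, ¬ IsWeaklyRegular M (rs' ++ [r]) := by
  obtain ⟨d, hd⟩ := ENat.ne_top_iff_exists.1 (idealDepth_ne_top I hIM)
  suffices ∀ (k : ℕ) (rs : List R), IsWeaklyRegular M rs → (∀ r ∈ rs, r ∈ I) → d ≤ rs.length + k →
      ∃ rs' : List R, rs <+: rs' ∧ IsWeaklyRegular M rs' ∧ (∀ r ∈ rs', r ∈ I) ∧
        ∀ r ∈ I, ¬ IsWeaklyRegular M (rs' ++ [r]) from
    this d rs hreg hI (by omega)
  intro k
  induction k with
  | zero =>
    intro rs hreg hI hk
    refine ⟨rs, List.prefix_refl _, hreg, hI, fun r hr hcon => ?_⟩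
    have h := idealDepth_eq_length_add I (rs ++ [r]) M hcon
      (by simpa [or_imp, forall_and, hr] using hI)
    have h2 : ((rs ++ [r]).length : ℕ∞) ≤ d := by rw [hd, h]; exact le_self_add
    rw [Nat.cast_le, List.length_append, List.length_singleton] at h2
    omega
  | succ k ih =>
    intro rs hreg hI hk
    by_cases hex : ∃ r ∈ I, IsWeaklyRegular M (rs ++ [r])
    · obtain ⟨r, hr, hr'⟩ := hex
      obtain ⟨rs', hp, h'⟩ := ih (rs ++ [r]) hr' (by simpa [or_imp, forall_and, hr] using hI)
        (by rw [List.length_append, List.length_singleton]; omega)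
      exact ⟨rs', (List.prefix_append rs [r]).trans hp, h'⟩
    · exact ⟨rs, List.prefix_refl _, hreg, hI, fun r hr h => hex ⟨r, hr, h⟩⟩

end Groth.Agent.LC15
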