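import Groth.Agent.LC15.Flat
import Groth.Agent.LC16.ChangeRings
import Groth.Agent.LC17.IDepth
import Mathlib.RingTheory.Flat.FaithfullyFlat.Basic

set_option autoImplicit false

universe u

open TensorProduct

namespace Groth.Agent.LC15

variable {A B : Type u} [CommRing A] [CommRing B] [Algebra A B] [IsNoetherianRing A]
  [IsNoetherianRing B] (I : Ideal A) (M : Type u) [AddCommGroup M] [Module A M] [Module.Finite A M]

theorem subsingleton_H_baseChange_iff [Module.Flat A B] (i : ℕ) :
    Subsingleton (LocCoh.H (I.map (algebraMap A B)) i (B ⊗[A] M)) ↔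
      Subsingleton (B ⊗[A] LocCoh.H I i M) := by
  obtain ⟨φ, -⟩ := LC16.ChangeRings.exists_equiv (R := A) (R' := B) I i (B ⊗[A] M)
  obtain ⟨e⟩ := nonempty_tensor_H_equiv B I i M
  exact (φ.toEquiv.trans e.symm.toEquiv).subsingleton_congr

theorem idealDepth_le_baseChange [Module.Flat A B] :
    LocCoh.idealDepth I M ≤ LocCoh.idealDepth (I.map (algebraMap A B)) (B ⊗[A] M) := by
  refine LC17.eNat_le_of_forall fun n hn => ?_
  rw [LC17.natCast_le_idealDepth_iff] at hn ⊢
  intro i hi
  haveI := hn i hi
  rw [subsingleton_H_baseChange_iff]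
  infer_instance

theorem idealDepth_baseChange_eq [Module.FaithfullyFlat A B] :
    LocCoh.idealDepth (I.map (algebraMap A B)) (B ⊗[A] M) = LocCoh.idealDepth I M := by
  refine le_antisymm (LC17.eNat_le_of_forall fun n hn => ?_) (idealDepth_le_baseChange I M)
  rw [LC17.natCast_le_idealDepth_iff] at hn ⊢
  intro i hi
  haveI := (subsingleton_H_baseChange_iff I M i).1 (hn i hi)
  by_contra hne
  rw [not_subsingleton_iff_nontrivial] at hne
  exact not_nontrivial_iff_subsingleton.2 this
    (Module.FaithfullyFlat.lTensor_nontrivial A B (LocCoh.H I i M))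

end Groth.Agent.LC15
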