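import Groth.Agent.LC17.Transfer

/-!
Spreading out lower bounds for depth.
-/

namespace Groth.Agent.LC15.Spread

universe u

set_option autoImplicit false

open LC17

variable {R : Type u} [CommRing R] [IsNoetherianRing R]

theorem exists_spread (S₀ : Submonoid R) (a : Ideal R) : ∀ (n : ℕ) (M : Type u) [AddCommGroup M]
    [Module R M] [Module.Finite R M], (∀ i, i < n → Nul S₀ (LocCoh.H a i M)) →
    ∃ f ∈ S₀, ∃ T : Set (Ideal R), T.Finite ∧
      (∀ S : Submonoid R, f ∈ S → ∀ i, i < n → Nul S (LocCoh.H a i M)) ∧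
      ∀ q : Ideal R, ∀ [q.IsPrime], a ≤ q → f ∉ q →
        ¬ (∀ i, i < n + 1 → Nul q.primeCompl (LocCoh.H q i M)) → q ∈ T := by
  intro n
  induction n with
  | zero =>
    intro M _ _ _ _
    refine ⟨1, S₀.one_mem, associatedPrimes R M, associatedPrimes.finite R M,
      fun S _ i hi => absurd hi (Nat.not_lt_zero i), fun q _ _ _ hq => ?_⟩
    by_contra hqT
    refine hq fun i hi => ?_
    obtain rfl : i = 0 := by omega
    refine (nul_H0_iff q).2 fun m hm => ?_
    by_contra! hcon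
    obtain ⟨P, hP, hmP, hdisj⟩ := exists_associated_disjoint (S := q.primeCompl) (y := m) hcon
    obtain ⟨k, hk⟩ := hm
    have hqP : q ≤ P := fun x hx =>
      (IsAssociatedPrime.isPrime hP).mem_of_pow_mem k (hmP _ (hk _ (Ideal.pow_mem_pow hx k)))
    have hPq : P ≤ q := fun x hx => by
      by_contra hxq
      exact Set.disjoint_left.mp hdisj hx hxq
    exact hqT (le_antisymm hPq hqP ▸ hP)
  | succ n ih =>
    intro M _ _ _ h
    obtain ⟨x, hxa, hx⟩ := exists_regAt a (h 0 n.succ_pos)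
    obtain ⟨f₁, hf₁, hk⟩ := LC17.exists_kill hx
    obtain ⟨f₂, hf₂, T, hT, hlow, htop⟩ := ih (QuotSMulTop x M)
      ((nul_step a hxa hx n).mp h)
    have hreg : ∀ S : Submonoid R, f₁ ∈ S → RegAt S x M := fun S hS y => ⟨f₁, hS, hk y⟩
    refine ⟨f₁ * f₂, S₀.mul_mem hf₁ hf₂, T, hT, fun S hS => ?_, fun q _ haq hfq hq => ?_⟩
    · -- work in the saturation of `S`
      intro i hi y
      let S' : Submonoid R :=
        { carrier := {u | ∃ v, u * v ∈ S}
          one_mem' := ⟨1, by simpa using S.one_mem⟩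
          mul_mem' := fun {u u'} ⟨v, hv⟩ ⟨v', hv'⟩ => ⟨v * v', by
            rw [mul_mul_mul_comm]; exact S.mul_mem hv hv'⟩ }
      have h1 : f₁ ∈ S' := ⟨f₂, hS⟩
      have h2 : f₂ ∈ S' := ⟨f₁, by rw [mul_comm]; exact hS⟩
      obtain ⟨u, ⟨v, huv⟩, huy⟩ := (nul_step a hxa (hreg S' h1) n).mpr (hlow S' h2) i hi y
      exact ⟨u * v, huv, by rw [mul_comm, mul_smul, huy, smul_zero]⟩
    · have h1 : f₁ ∉ q := fun hh => hfq (q.mul_mem_right _ hh)
      have h2 : f₂ ∉ q := fun hh => hfq (q.mul_mem_left _ hh)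
      refine htop q haq h2 fun hq' => hq ?_
      exact (nul_step q (haq hxa) (hreg q.primeCompl h1) (n + 1)).mpr hq'

end Groth.Agent.LC15.Spread
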