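import Groth.Agent.LC15.Artin
import Groth.Agent.LC17.IDepth
import Mathlib.RingTheory.KrullDimension.Regular

set_option autoImplicit false

universe u

open scoped Pointwise

namespace Groth.Agent.LC15

section Secondary

variable {R : Type u} [CommRing R] {M : Type u} [AddCommGroup M] [Module R M]

/-- A nonzero submodule which is not a sum of two smaller ones. -/
def IsSumIrreducible (W : Submodule R M) : Prop :=
  W ≠ ⊥ ∧ ∀ A B : Submodule R M, A ⊔ B = W → A = W ∨ B = W

theorem exists_irreducible_decomposition [IsArtinian R M] (N : Submodule R M) :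
    ∃ s : Set (Submodule R M), s.Finite ∧ (∀ W ∈ s, IsSumIrreducible W) ∧ sSup s = N := by
  induction N using IsWellFounded.induction (· < · : Submodule R M → Submodule R M → Prop) with
  | ind N ih =>
    by_cases h0 : N = ⊥
    · exact ⟨∅, Set.finite_empty, by simp, by simp [h0]⟩
    by_cases hN : IsSumIrreducible N
    · exact ⟨{N}, Set.finite_singleton N, by simpa using hN, by simp⟩
    · simp only [IsSumIrreducible, not_and, not_forall, not_or] at hN
      obtain ⟨A, B, hAB, hA, hB⟩ := hN h0
      obtain ⟨s, hs, hs', hsA⟩ := ih A (lt_of_le_of_ne (hAB ▸ le_sup_left) hA)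
      obtain ⟨t, ht, ht', htB⟩ := ih B (lt_of_le_of_ne (hAB ▸ le_sup_right) hB)
      exact ⟨s ∪ t, hs.union ht, fun W hW => hW.elim (hs' W) (ht' W), by rw [sSup_union, hsA, htB, hAB]⟩

theorem secondary_dichotomy [IsArtinian R M] {W : Submodule R M} (hW : IsSumIrreducible W) (r : R) :
    W.map (LinearMap.lsmul R M r) = W ∨ ∃ k : ℕ, W.map (LinearMap.lsmul R M (r ^ k)) = ⊥ := by
  have hle : ∀ a, W.map (LinearMap.lsmul R M a) ≤ W := fun a => by
    rintro _ ⟨w, hw, rfl⟩; exact W.smul_mem a hw
  obtain ⟨k, hk⟩ := monotone_stabilizes_iff_artinian.2 (inferInstance : IsArtinian R M)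
    ⟨fun j => OrderDual.toDual (W.map (LinearMap.lsmul R M (r ^ j))), fun a b h => by
      rintro _ ⟨w, hw, rfl⟩
      exact ⟨r ^ (b - a) • w, W.smul_mem _ hw, by
        simp only [LinearMap.lsmul_apply, ← mul_smul, ← pow_add, Nat.add_sub_cancel' h]⟩⟩
  have h2 : W.map (LinearMap.lsmul R M (r ^ k)) = W.map (LinearMap.lsmul R M (r ^ (k + (k + 1)))) :=
    hk (k + (k + 1)) (by omega)
  have hdec : (W ⊓ LinearMap.ker (LinearMap.lsmul R M (r ^ k))) ⊔
      W.map (LinearMap.lsmul R M (r ^ (k + 1))) = W := by
    refine le_antisymm (sup_le inf_le_left (hle _)) fun w hw => ?_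
    have hmem : r ^ k • w ∈ W.map (LinearMap.lsmul R M (r ^ (k + (k + 1)))) :=
      h2 ▸ ⟨w, hw, rfl⟩
    obtain ⟨v, hv, hvw⟩ := hmem
    refine Submodule.mem_sup.2 ⟨w - r ^ (k + 1) • v, ⟨sub_mem hw (W.smul_mem _ hv), ?_⟩,
      r ^ (k + 1) • v, ⟨v, hv, rfl⟩, sub_add_cancel _ _⟩
    change r ^ k • (w - r ^ (k + 1) • v) = 0
    rw [smul_sub, ← mul_smul, ← pow_add, show r ^ (k + (k + 1)) • v = r ^ k • w from hvw, sub_self]
  rcases hW.2 _ _ hdec with h | h
  · right
    refine ⟨k, (Submodule.eq_bot_iff _).2 ?_⟩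
    rintro _ ⟨w, hw, rfl⟩
    exact (h.ge hw).2
  · left
    refine le_antisymm (hle r) (h.ge.trans ?_)
    rintro _ ⟨w, hw, rfl⟩
    exact ⟨r ^ k • w, W.smul_mem _ hw, by
      simp only [LinearMap.lsmul_apply, ← mul_smul, ← pow_succ']⟩

/-- The prime of a sum-irreducible submodule. -/
def nilIdeal (W : Submodule R M) : Ideal R := (Submodule.annihilator W).radical

theorem mem_nilIdeal {W : Submodule R M} {r : R} :
    r ∈ nilIdeal W ↔ ∃ k : ℕ, W.map (LinearMap.lsmul R M (r ^ k)) = ⊥ := by
  refine exists_congr fun k => ?_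
  rw [Submodule.mem_annihilator, Submodule.eq_bot_iff]
  exact ⟨fun h => by rintro _ ⟨w, hw, rfl⟩; exact h w hw, fun h w hw => h _ ⟨w, hw, rfl⟩⟩

theorem map_eq_of_notMem_nilIdeal [IsArtinian R M] {W : Submodule R M} (hW : IsSumIrreducible W)
    {r : R} (hr : r ∉ nilIdeal W) : W.map (LinearMap.lsmul R M r) = W :=
  (secondary_dichotomy hW r).resolve_right fun h => hr (mem_nilIdeal.2 h)

theorem isPrime_nilIdeal [IsArtinian R M] {W : Submodule R M} (hW : IsSumIrreducible W) :
    (nilIdeal W).IsPrime := by
  refine ⟨fun h => hW.1 ?_, fun {a b} hab => ?_⟩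
  · rw [nilIdeal, Ideal.radical_eq_top, Ideal.eq_top_iff_one, Submodule.mem_annihilator] at h
    exact (Submodule.eq_bot_iff _).2 fun w hw => by simpa using h w hw
  · by_contra hcon
    rw [not_or] at hcon
    have hpow : ∀ k : ℕ, W.map (LinearMap.lsmul R M ((a * b) ^ k)) = W := by
      intro k
      induction k with
      | zero =>
        ext w
        simp
      | succ k ih =>
        have hcomp : LinearMap.lsmul R M ((a * b) ^ (k + 1)) =
            (LinearMap.lsmul R M ((a * b) ^ k)) ∘ₗ (LinearMap.lsmul R M a) ∘ₗ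
              (LinearMap.lsmul R M b) := by
          ext m
          simp only [LinearMap.comp_apply, LinearMap.lsmul_apply, pow_succ, mul_smul]
        rw [hcomp, Submodule.map_comp, Submodule.map_comp, map_eq_of_notMem_nilIdeal hW hcon.2,
          map_eq_of_notMem_nilIdeal hW hcon.1, ih]
    obtain ⟨k, hk⟩ := mem_nilIdeal.1 hab
    exact hW.1 ((hpow k).symm.trans hk)

/-- An Artinian `B` with `IB = B`: finitely many primes not containing `I` control surjectivity. -/
theorem exists_primes_smul_surjective [IsArtinian R M] [IsNoetherianRing R] {I : Ideal R}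
    {N : Submodule R M} (hN : I • N = N) :
    ∃ P : Set (Ideal R), P.Finite ∧ (∀ p ∈ P, p.IsPrime ∧ ¬ I ≤ p) ∧
      ∀ x : R, (∀ p ∈ P, x ∉ p) → N.map (LinearMap.lsmul R M x) = N := by
  classical
  obtain ⟨s, hs, hirr, hsup⟩ := exists_irreducible_decomposition N
  let t := {W ∈ s | ¬ I ≤ nilIdeal W}
  have hpowN : ∀ k : ℕ, I ^ k • N = N := by
    intro k
    induction k with
    | zero => rw [pow_zero, Ideal.one_eq_top, Submodule.top_smul]
    | succ k ih => rw [pow_succ, Submodule.mul_smul, hN, ih]
  have hkill : ∀ W : Submodule R M, ∃ k : ℕ, I ≤ nilIdeal W → I ^ k • W = ⊥ := by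
    intro W
    by_cases hW : I ≤ nilIdeal W
    · obtain ⟨k, hk⟩ := Ideal.exists_pow_le_of_le_radical_of_fg hW (IsNoetherian.noetherian I)
      exact ⟨k, fun _ => eq_bot_iff.2 ((Submodule.smul_mono hk le_rfl).trans
        (Submodule.smul_le.2 fun r hr w hw => by simp [Submodule.mem_annihilator.1 hr w hw]))⟩
    · exact ⟨0, fun h => absurd h hW⟩
  choose k hk using hkill
  have htN : sSup t = N := by
    refine le_antisymm ((sSup_le_sSup fun W hW => hW.1).trans hsup.le) ?_
    rw [← hpowN (hs.toFinset.sup k)]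
    refine Submodule.smul_le.2 fun r hr w hw => ?_
    rw [← hsup, sSup_eq_iSup'] at hw
    induction hw using Submodule.iSup_induction' with
    | mem W w hw =>
      by_cases hW : I ≤ nilIdeal W.1
      · have : r • w ∈ I ^ k W.1 • W.1 := Submodule.smul_mem_smul
          (Ideal.pow_le_pow_right (Finset.le_sup (hs.mem_toFinset.2 W.2)) hr) hw
        rw [hk W.1 hW, Submodule.mem_bot] at this
        rw [this]
        exact zero_mem _
      · exact le_sSup (show W.1 ∈ t from ⟨W.2, hW⟩) (W.1.smul_mem r hw)
    | zero => simp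
    | add a b _ _ ha hb => rw [smul_add]; exact add_mem ha hb
  refine ⟨nilIdeal '' t, (hs.subset fun W hW => hW.1).image _, ?_, fun x hx => ?_⟩
  · rintro _ ⟨W, hW, rfl⟩
    exact ⟨isPrime_nilIdeal (hirr W hW.1), hW.2⟩
  · rw [← htN, sSup_eq_iSup, Submodule.map_iSup]
    refine iSup_congr fun W => ?_
    rw [Submodule.map_iSup]
    refine iSup_congr fun hW => ?_
    exact map_eq_of_notMem_nilIdeal (hirr W hW.1) (hx _ ⟨W, hW, rfl⟩)

end Secondary

variable {R : Type u} [CommRing R] [IsNoetherianRing R] (I : Ideal R)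

theorem exists_mem_regular_avoiding {M : Type u} [AddCommGroup M] [Module R M] [Module.Finite R M]
    (hM : gamma I M = ⊥) (P : Set (Ideal R)) (hP : P.Finite)
    (hP' : ∀ p ∈ P, p.IsPrime ∧ ¬ I ≤ p) :
    ∃ x ∈ I, IsSMulRegular M x ∧ ∀ p ∈ P, x ∉ p := by
  classical
  have hno : ∀ q ∈ associatedPrimes R M, ¬ I ≤ q := by
    intro q hq hIq
    obtain ⟨hp, m, hm⟩ := isAssociatedPrime_iff.mp hq
    have h1 : m ∈ gamma I M := ⟨1, fun a ha => by
      rw [pow_one] at ha
      have h2 : a ∈ q := hIq ha
      rw [hm, Submodule.mem_colon_singleton] at h2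
      simpa using h2⟩
    rw [hM, Submodule.mem_bot] at h1
    apply hp.ne_top
    rw [hm, Ideal.eq_top_iff_one, Submodule.mem_colon_singleton]
    simp [h1]
  by_contra hcon
  push Not at hcon
  have hfin := (associatedPrimes.finite R M).union hP
  have hsub : (I : Set R) ⊆ ⋃ q ∈ associatedPrimes R M ∪ P, (q : Set R) := by
    intro x hx
    by_cases hreg : IsSMulRegular M x
    · obtain ⟨p, hp, hxp⟩ := hcon x hx hreg
      exact Set.mem_biUnion (Or.inr hp) hxp
    · have : x ∈ ⋃ q ∈ associatedPrimes R M, (q : Set R) := by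
        rw [biUnion_associatedPrimes_eq_compl_regular R]
        exact hreg
      exact Set.biUnion_subset_biUnion_left Set.subset_union_left this
  obtain ⟨q, hq, hIq⟩ := (Ideal.subset_union_prime_finite hfin (f := id) (⊤ : Ideal R) ⊤
    fun q hq _ _ => hq.elim (fun h => IsAssociatedPrime.isPrime h) fun h => (hP' q h).1).mp hsub
  exact hq.elim (fun h => hno q h hIq) fun h => (hP' q h).2 hIq

theorem subsingleton_H_of_killed {n : ℕ} (hn : 0 < n) {M : Type u} [AddCommGroup M] [Module R M]
    [Module.Finite R M] (hM : CoheightLT R M (n + 1)) (k : ℕ)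
    (h : ∀ r ∈ I ^ k, ∀ y : LocCoh.H I n M, r • y = 0) : Subsingleton (LocCoh.H I n M) := by
  obtain ⟨x, hx, hreg⟩ := LC17.exists_isSMulRegular_mem (gamma_quot_gamma I (M := M))
  have hses := LC17.regular_ses hreg
  haveI : Subsingleton (LocCoh.H I n ((M ⧸ gamma I M) ⧸ x • (⊤ : Submodule R (M ⧸ gamma I M)))) :=
    subsingleton_H_of_coheightLT n (coheightLT_quotSMulTop hreg
      (coheightLT_of_surjective _ (Submodule.mkQ_surjective _) hM)) n le_rfl
  have hsurj : Function.Surjective fun y : LocCoh.H I n (M ⧸ gamma I M) => x • y := fun y => by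
    obtain ⟨z, hz⟩ := (H_exact₂ I n hses.1 hses.2 (Submodule.mkQ_surjective _) y).1
      (Subsingleton.elim _ _)
    exact ⟨z, (Hmap_lsmul I n x z).symm.trans hz⟩
  have hsub : Subsingleton (LocCoh.H I n (M ⧸ gamma I M)) := by
    refine subsingleton_of_forall_eq 0 fun y => ?_
    have : ∀ j, ∃ z, x ^ j • z = y := by
      intro j
      induction j with
      | zero => exact ⟨y, by simp⟩
      | succ j ih =>
        obtain ⟨z, hz⟩ := ih
        obtain ⟨w, hw⟩ := hsurj z
        exact ⟨w, by rw [pow_succ, mul_smul, show x • w = z from hw, hz]⟩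
    obtain ⟨z, rfl⟩ := this k
    obtain ⟨w, rfl⟩ := (Hmap_mkQ_gamma_bijective I (M := M) hn).2 z
    rw [← map_smul, h _ (Ideal.pow_mem_pow hx k), map_zero]
  exact (Hmap_mkQ_gamma_bijective I (M := M) hn).1.subsingleton

variable [IsLocalRing R]

open IsLocalRing

theorem nontrivial_H_supportDim (n : ℕ) :
    ∀ (M : Type u) [AddCommGroup M] [Module R M] [Module.Finite R M],
      Module.supportDim R M = (n : WithBot ℕ∞) → Nontrivial (LocCoh.H (maximalIdeal R) n M) := by
  induction n with
  | zero =>
    intro M _ _ _ hM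
    haveI : Nontrivial M := (Module.supportDim_ne_bot_iff_nontrivial (R := R) (M := M)).1 (by simp [hM])
    have hsupp := support_of_supportDim_eq_zero (R := R) (N := M) (by simpa using hM)
    have htop : gamma (maximalIdeal R) M = ⊤ :=
      (gamma_eq_top_iff _).2 (isPowerTorsion_of_support_le fun p hp => by
        rw [hsupp] at hp
        have := hp
        simp_all)
    exact ((H0equiv _ M).trans ((LinearEquiv.ofEq _ _ htop).trans Submodule.topEquiv)).toEquiv.nontrivial
  | succ n ih =>
    intro M₀ _ _ _ hM₀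
    rw [← not_subsingleton_iff_nontrivial]
    intro hsub₀
    let G := gamma (maximalIdeal R) M₀
    have hsuppG : Module.support R G ⊆ PrimeSpectrum.zeroLocus (maximalIdeal R : Set R) :=
      fun p hp a ha => by
        obtain ⟨m, hm⟩ := Module.mem_support_iff'.1 hp
        obtain ⟨j, hj⟩ := isPowerTorsion_gamma (maximalIdeal R) (M := M₀) m
        by_contra hna
        exact hm (a ^ j) (fun h => hna (p.isPrime.mem_of_pow_mem j h)) (hj _ (Ideal.pow_mem_pow ha j))
    let M := M₀ ⧸ G
    have hdim : Module.supportDim R M = ((n + 1 : ℕ) : WithBot ℕ∞) := by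
      rw [← hM₀]
      have hu := Module.support_of_exact (LinearMap.exact_subtype_mkQ G) G.injective_subtype
        (Submodule.mkQ_surjective G)
      by_cases hne : Nontrivial M
      · have hle : Module.support R G ⊆ Module.support R M := fun p hp => by
          obtain ⟨q, hq⟩ := Module.nonempty_support_of_nontrivial (R := R) (M := M)
          refine Module.mem_support_mono ?_ hq
          have := (maximalIdeal.isMaximal R).eq_of_le p.isPrime.ne_top (hsuppG hp)
          exact (le_maximalIdeal q.isPrime.ne_top).trans this.le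
        have : Module.support R M₀ = Module.support R M := by rw [hu, Set.union_eq_right.2 hle]
        unfold Module.supportDim
        rw [this]
      · exfalso
        rw [not_nontrivial_iff_subsingleton] at hne
        have hM0 : Module.support R M₀ ⊆ PrimeSpectrum.zeroLocus (maximalIdeal R : Set R) := by
          rw [hu, show Module.support R (M₀ ⧸ G) = ∅ from Module.support_eq_empty (M := M),
            Set.union_empty]
          exact hsuppG
        have : Module.supportDim R M₀ ≤ 0 := by
          refine Order.krullDim_nonpos_iff_forall_isMax.2 ?_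
          intro a b hab
          have ha := (maximalIdeal.isMaximal R).eq_of_le a.1.isPrime.ne_top (hM0 a.2)
          exact le_of_eq_of_le rfl ((le_maximalIdeal b.1.isPrime.ne_top).trans ha.le)
        rw [hM₀] at this
        exact absurd this (by simp)
    have hΓ : gamma (maximalIdeal R) M = ⊥ := gamma_quot_gamma _
    have hsub : Subsingleton (LocCoh.H (maximalIdeal R) (n + 1) M) :=
      (Hmap_mkQ_gamma_bijective (maximalIdeal R) (M := M₀) n.succ_pos).2.subsingleton
    have hdimq : ∀ x ∈ maximalIdeal R, IsSMulRegular M x →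
        Module.supportDim R (QuotSMulTop x M) = (n : WithBot ℕ∞) := by
      intro x hx hreg
      have h := Module.supportDim_quotSMulTop_succ_eq_supportDim hreg hx
      rw [hdim, Nat.cast_succ] at h
      exact withBot_add_one_cancel h
    rcases n with _ | j
    · obtain ⟨x, hx, hreg⟩ := LC17.exists_isSMulRegular_mem hΓ
      have hses := LC17.regular_ses hreg
      exact not_nontrivial_iff_subsingleton.2 (subsingleton_H_right (maximalIdeal R) 0 hses.1 hses.2
        (Submodule.mkQ_surjective _) ((subsingleton_H0_iff _ _).2 hΓ) hsub)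
        (ih (QuotSMulTop x M) (hdimq x hx hreg))
    · haveI hArt := isArtinian_H_maximalIdeal (R := R) (j + 1) M
      obtain ⟨k, hk⟩ := monotone_stabilizes_iff_artinian.2 hArt
        ⟨fun a => OrderDual.toDual ((maximalIdeal R) ^ a •
          (⊤ : Submodule R (LocCoh.H (maximalIdeal R) (j + 1) M))),
          fun a b h => Submodule.smul_mono_left (Ideal.pow_le_pow_right h)⟩
      let B := (maximalIdeal R) ^ k • (⊤ : Submodule R (LocCoh.H (maximalIdeal R) (j + 1) M))
      have hB : maximalIdeal R • B = B := by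
        rw [← Submodule.mul_smul, ← pow_succ']
        exact (hk (k + 1) (by omega)).symm
      obtain ⟨P, hPfin, hP, hPsurj⟩ := exists_primes_smul_surjective hB
      obtain ⟨x, hx, hreg, hxP⟩ := exists_mem_regular_avoiding (maximalIdeal R) hΓ P hPfin hP
      have hses := LC17.regular_ses hreg
      refine not_nontrivial_iff_subsingleton.2 ?_ (ih (QuotSMulTop x M) (hdimq x hx hreg))
      refine subsingleton_H_of_killed (maximalIdeal R) (by omega)
        (coheightLT_of_supportDim (hdimq x hx hreg).le) k fun r hr c => ?_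
      obtain ⟨a, ha⟩ := (H_exact₃ (maximalIdeal R) (j + 1) hses.1 hses.2
        (Submodule.mkQ_surjective _) c).1 (Subsingleton.elim _ _)
      have hra : r • a ∈ B := Submodule.smul_mem_smul hr Submodule.mem_top
      rw [← hPsurj x hxP] at hra
      obtain ⟨b, -, hb⟩ := hra
      rw [← ha, ← map_smul, show r • a = x • b from hb.symm, ← Hmap_lsmul (maximalIdeal R) (j + 1) x b]
      exact (H_exact₂ (maximalIdeal R) (j + 1) hses.1 hses.2 (Submodule.mkQ_surjective _)
        _).2 ⟨b, rfl⟩
where
  isPowerTorsion_of_support_le {M : Type u} [AddCommGroup M] [Module R M] [Module.Finite R M]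
      (h : ∀ p ∈ Module.support R M, maximalIdeal R ≤ p.asIdeal) :
      LocCoh.IsPowerTorsion (maximalIdeal R) M := by
    have h' : Module.support R M ⊆ PrimeSpectrum.zeroLocus (maximalIdeal R : Set R) := h
    rw [Module.support_eq_zeroLocus, PrimeSpectrum.zeroLocus_subset_zeroLocus_iff] at h'
    obtain ⟨j, hj⟩ := Ideal.exists_pow_le_of_le_radical_of_fg h' (IsNoetherian.noetherian _)
    exact fun m => ⟨j, fun a ha => Module.mem_annihilator.1 (hj ha) m⟩
  withBot_add_one_cancel {a : WithBot ℕ∞} {n : ℕ} (h : a + 1 = (n : WithBot ℕ∞) + 1) :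
      a = (n : WithBot ℕ∞) := by
    induction a with
    | bot => rw [WithBot.bot_add] at h; exact absurd h.symm (by rw [← Nat.cast_succ]; exact WithBot.coe_ne_bot)
    | coe a =>
      induction a with
      | top => exact absurd h (by rw [← Nat.cast_succ]; exact fun h' => ENat.top_ne_coe _ (WithBot.coe_inj.1 h'))
      | coe a =>
        have h2 : ((a + 1 : ℕ) : WithBot ℕ∞) = ((n + 1 : ℕ) : WithBot ℕ∞) := by
          push_cast
          exact h
        have h3 : a + 1 = n + 1 := by exact_mod_cast h2
        rw [show a = n by omega]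
        rfl

end Groth.Agent.LC15
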