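import Groth.Agent.LC15.Gamma
import Groth.Prelude.Def_DualLC

set_option autoImplicit false

universe u

namespace Groth.Agent.LC15

open CategoryTheory Limits Opposite

variable {R : Type u} [CommRing R] {I J : Ideal R} (h : I ≤ J)

/-- `R/I^n → R/J^n`. -/
noncomputable def qOfLE (n : ℕ) : quotPow I n ⟶ quotPow J n :=
  (Dual2.quotMapOfLE h).app (op n)

theorem qOfLE_mk (n : ℕ) (r : R) :
    qOfLE h n (Submodule.Quotient.mk r) = Submodule.Quotient.mk r := rfl

/-- The comparison map `H^i_J(M) → H^i_I(M)`. -/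
noncomputable def HofLE (i : ℕ) (M : Type u) [AddCommGroup M] [Module R M] :
    LocCoh.H J i M →ₗ[R] LocCoh.H I i M :=
  ((Dual2.HmapOfLE h i).app (ModuleCat.of R M)).hom

variable (i : ℕ) {M : Type u} [AddCommGroup M] [Module R M] {N : Type u} [AddCommGroup N]
  [Module R N] {L : Type u} [AddCommGroup L] [Module R L]

theorem HofLE_toH (n : ℕ) (x : Abelian.Ext (quotPow J n) (ModuleCat.of R M) i) :
    HofLE h i M (toH J i M n x) =
      toH I i M n ((Abelian.Ext.mk₀ (qOfLE h n)).comp x (zero_add i)) := by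
  obtain ⟨z, rfl⟩ := (extEquiv (quotPow J n) (ModuleCat.of R M) i).surjective x
  refine (congrArg _ (hCocone_ι_apply J i M n z).symm).trans ?_
  refine Eq.trans ?_ (congrArg (toH I i M n)
    (extEquiv_naturality_left (qOfLE h n) (ModuleCat.of R M) i z))
  refine Eq.trans ?_ (hCocone_ι_apply I i M n _)
  exact ConcreteCategory.congr_hom
    (congrArg (fun t => NatTrans.app t (ModuleCat.of R M))
      (ι_colimMap (Functor.whiskerRight (NatTrans.op (Dual2.quotMapOfLE h))
        (Ext R (ModuleCat.{u} R) i)) (op (op n)))) z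

theorem HofLE_Hmap (f : M →ₗ[R] N) (y : LocCoh.H J i M) :
    HofLE h i N (Hmap J i f y) = Hmap I i f (HofLE h i M y) := by
  obtain ⟨n, x, rfl⟩ := toH_surj J i M y
  rw [Hmap_toH, HofLE_toH, HofLE_toH, Hmap_toH, Abelian.Ext.comp_assoc_of_third_deg_zero]

theorem HofLE_Hδ {f : M →ₗ[R] N} {g : N →ₗ[R] L} (hf : Function.Injective f)
    (hfg : Function.Exact f g) (hg : Function.Surjective g) (y : LocCoh.H J i L) :
    HofLE h (i + 1) M (Hδ J i hf hfg hg y) = Hδ I i hf hfg hg (HofLE h i L y) := by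
  obtain ⟨n, x, rfl⟩ := toH_surj J i L y
  rw [Hδ_toH, HofLE_toH, HofLE_toH, Hδ_toH,
    Abelian.Ext.comp_assoc (Abelian.Ext.mk₀ (qOfLE h n)) x _ (zero_add i) rfl (by omega)]

theorem h0_HofLE (y : LocCoh.H J 0 M) : h0 I M (HofLE h 0 M y) = h0 J M y := by
  obtain ⟨n, x, rfl⟩ := toH_surj J 0 M y
  obtain ⟨f, rfl⟩ := (Abelian.Ext.mk₀_bijective _ _).2 x
  rw [HofLE_toH, Abelian.Ext.mk₀_comp_mk₀, h0_toH, h0_toH]
  exact congrArg _ (qOfLE_mk h n 1)

theorem HofLE_zero_injective : Function.Injective (HofLE h 0 M) := fun a b hab =>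
  h0_injective J M (by rw [← h0_HofLE h, ← h0_HofLE h, hab])

/-- If `J` is contained in the radical of `I + T`, then `H_J = H_I` on `T`-power torsion modules. -/
theorem HofLE_bijective [IsNoetherianRing R] (T : Ideal R) (hJ : J ≤ (I ⊔ T).radical) :
    ∀ (i : ℕ) (M : Type u) [AddCommGroup M] [Module R M], LocCoh.IsPowerTorsion T M →
      Function.Bijective (HofLE h i M) := by
  obtain ⟨N, hN⟩ := Ideal.exists_pow_le_of_le_radical_of_fg hJ (IsNoetherian.noetherian _)
  have hgam : ∀ (M : Type u) [AddCommGroup M] [Module R M], LocCoh.IsPowerTorsion T M →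
      ∀ m ∈ gamma I M, m ∈ gamma J M := by
    intro M _ _ hM m hm
    obtain ⟨a, ha⟩ := hm
    obtain ⟨b, hb⟩ := hM m
    refine ⟨N * (a + b), fun c hc => ?_⟩
    have hc' : c ∈ I ^ a ⊔ T ^ b := Ideal.sup_pow_add_le_pow_sup_pow
      (Ideal.pow_right_mono hN (a + b) (by rwa [← pow_mul]))
    obtain ⟨x, hx, y, hy, rfl⟩ := Submodule.mem_sup.1 hc'
    rw [add_smul, ha x hx, hb y hy, add_zero]
  intro i
  induction i with
  | zero =>
    intro M _ _ hM
    refine ⟨HofLE_zero_injective h, fun y => ?_⟩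
    have hy : h0 I M y ∈ gamma J M :=
      hgam M hM _ ((range_h0 I M).le ⟨y, rfl⟩)
    obtain ⟨z, hz⟩ := (range_h0 J M).ge hy
    exact ⟨z, h0_injective I M (by rw [h0_HofLE, hz])⟩
  | succ i ih =>
    intro M _ _ hM
    obtain ⟨E, _, _, f, hf, hE', hE⟩ := exists_torsion_injective_embedding T hM
    have hQ := isPowerTorsion_of_surjective (Submodule.mkQ_surjective (LinearMap.range f)) hE
    have hex := LinearMap.exact_map_mkQ_range f
    have hg := Submodule.mkQ_surjective (LinearMap.range f)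
    haveI hJE := subsingleton_H_succ_of_injective J i (M := E)
    haveI hIE := subsingleton_H_succ_of_injective I i (M := E)
    constructor
    · refine (injective_iff_map_eq_zero _).2 fun y hy => ?_
      obtain ⟨z, rfl⟩ := Hδ_surjective J i hf hex hg hJE y
      rw [HofLE_Hδ] at hy
      obtain ⟨w, hw⟩ := (H_exact₃ I i hf hex hg _).1 hy
      obtain ⟨w', rfl⟩ := (ih E hE).2 w
      rw [← HofLE_Hmap] at hw
      rw [← (ih _ hQ).1 hw]
      exact (H_exact₃ J i hf hex hg).apply_apply_eq_zero w'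
    · intro y
      obtain ⟨z, rfl⟩ := Hδ_surjective I i hf hex hg hIE y
      obtain ⟨z', rfl⟩ := (ih _ hQ).2 z
      exact ⟨_, HofLE_Hδ h i hf hex hg z'⟩

theorem isPowerTorsion_bot : LocCoh.IsPowerTorsion (⊥ : Ideal R) M := fun m =>
  ⟨1, fun a ha => by rw [pow_one, Ideal.mem_bot] at ha; rw [ha, zero_smul]⟩

theorem HofLE_bijective_radical [IsNoetherianRing R] (hJ : J ≤ I.radical) :
    Function.Bijective (HofLE h i M) :=
  HofLE_bijective h ⊥ (by rwa [sup_bot_eq]) i M isPowerTorsion_bot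

/-- On modules killed by a power of `p`, `H_I = H_{I + p}`. -/
theorem HofLE_sup_bijective [IsNoetherianRing R] (p : Ideal R) (hM : LocCoh.IsPowerTorsion p M) :
    Function.Bijective (HofLE (le_sup_left : I ≤ I ⊔ p) i M) :=
  HofLE_bijective _ p Ideal.le_radical i M hM

end Groth.Agent.LC15
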