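import Groth.Agent.LC15.Gamma
import Groth.Agent.LC17.IDepth
import Mathlib.RingTheory.Finiteness.Finsupp
import Mathlib.Algebra.Module.LocalizedModule.Submodule
import Mathlib.RingTheory.Localization.Finiteness

set_option autoImplicit false

universe u

open scoped Pointwise

namespace Groth.Agent.LC15

variable {R : Type u} [CommRing R]

/-- Finitely generated at every prime. -/
def LocFG (R : Type u) [CommRing R] (N : Type u) [AddCommGroup N] [Module R N] : Prop :=
  ∀ p : PrimeSpectrum R, ∃ W : Submodule R N, W.FG ∧ ∀ n : N, ∃ s ∉ p.asIdeal, s • n ∈ W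

theorem locFG_of_finite (N : Type u) [AddCommGroup N] [Module R N] [Module.Finite R N] :
    LocFG R N := fun p =>
  ⟨⊤, Module.Finite.fg_top, fun _ => ⟨1, fun h => p.isPrime.ne_top ((Ideal.eq_top_iff_one _).2 h),
    Submodule.mem_top⟩⟩

theorem locFG_of_localized (N : Type u) [AddCommGroup N] [Module R N]
    (h : ∀ (p : Ideal R) [p.IsPrime],
      Module.Finite (Localization.AtPrime p) (LocalizedModule p.primeCompl N)) : LocFG R N := by
  classical
  intro p
  obtain ⟨t, ht⟩ := (h p.asIdeal).fg_top
  have hnum : ∀ x : LocalizedModule p.asIdeal.primeCompl N, ∃ (m : N) (s : p.asIdeal.primeCompl),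
      x = LocalizedModule.mk m s := fun x => by
    induction x using LocalizedModule.induction_on with
    | _ m s => exact ⟨m, s, rfl⟩
  choose num den hnd using hnum
  let W : Submodule R N := Submodule.span R (num '' (t : Set _))
  refine ⟨W, Submodule.fg_span (t.finite_toSet.image num), fun n => ?_⟩
  have key : ∀ x : LocalizedModule p.asIdeal.primeCompl N,
      x ∈ Submodule.localized p.asIdeal.primeCompl W := by
    intro x
    have hx : x ∈ Submodule.span (Localization.AtPrime p.asIdeal) (t : Set _) :=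
      ht.symm ▸ Submodule.mem_top
    refine Submodule.span_le.2 (fun y hy => ?_) hx
    rw [SetLike.mem_coe, hnd y]
    exact ⟨num y, Submodule.subset_span ⟨y, hy, rfl⟩, den y, (IsLocalizedModule.mk'_eq_iff).2 (by
      rw [LocalizedModule.mkLinearMap_apply, Submonoid.smul_def, LocalizedModule.smul'_mk,
        ← Submonoid.smul_def, LocalizedModule.mk_cancel])⟩
  obtain ⟨w, hw, s, hs⟩ := key (LocalizedModule.mk n 1)
  rw [IsLocalizedModule.mk'_eq_iff, LocalizedModule.mkLinearMap_apply, Submonoid.smul_def,
    LocalizedModule.smul'_mk, LocalizedModule.mk_eq] at hs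
  obtain ⟨u, hu⟩ := hs
  simp only [one_smul, Submonoid.smul_def] at hu
  refine ⟨(u : R) * (s : R), fun h => ?_, ?_⟩
  · exact (p.isPrime.mem_or_mem h).elim u.2 s.2
  · rw [mul_smul, ← hu]
    exact W.smul_mem _ hw

theorem locFG_middle [IsNoetherianRing R] {A B C : Type u} [AddCommGroup A] [Module R A]
    [AddCommGroup B] [Module R B] [AddCommGroup C] [Module R C] {f : A →ₗ[R] B} {g : B →ₗ[R] C}
    (hfg : Function.Exact f g) (hA : LocFG R A) (hC : LocFG R C) : LocFG R B := by
  intro p
  obtain ⟨WA, hWA, hA'⟩ := hA p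
  obtain ⟨WC, hWC, hC'⟩ := hC p
  haveI : Module.Finite R WC := Module.Finite.iff_fg.2 hWC
  have hfgI : (WC ⊓ LinearMap.range g).FG := by
    have h := (IsNoetherian.noetherian (Submodule.comap WC.subtype (LinearMap.range g))).map WC.subtype
    rwa [Submodule.map_comap_subtype] at h
  obtain ⟨k, c, hc⟩ := Submodule.fg_iff_exists_fin_generating_family.1 hfgI
  have hmem : ∀ j, ∃ b, g b = c j := fun j =>
    ((hc ▸ Submodule.subset_span ⟨j, rfl⟩ : c j ∈ WC ⊓ LinearMap.range g)).2
  choose b hb using hmem
  refine ⟨WA.map f ⊔ Submodule.span R (Set.range b),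
    (hWA.map f).sup (Submodule.fg_span (Set.finite_range b)), fun y => ?_⟩
  obtain ⟨s, hs, hsy⟩ := hC' (g y)
  have hz : s • g y ∈ Submodule.span R (Set.range c) :=
    hc.symm ▸ ⟨hsy, ⟨s • y, map_smul g s y⟩⟩
  have hrange : Submodule.span R (Set.range c) = (Submodule.span R (Set.range b)).map g := by
    rw [Submodule.map_span, ← Set.range_comp]
    congr 2
    exact (funext hb).symm
  rw [hrange] at hz
  obtain ⟨v, hv, hvy⟩ := hz
  obtain ⟨a, ha⟩ := (hfg (s • y - v)).1 (by rw [map_sub, map_smul, hvy, sub_self])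
  obtain ⟨t, ht, hta⟩ := hA' a
  refine ⟨t * s, fun h => (p.isPrime.mem_or_mem h).elim ht hs, ?_⟩
  have : (t * s) • y = f (t • a) + t • v := by
    rw [map_smul, ha, smul_sub, sub_add_cancel, mul_smul]
  rw [this]
  exact add_mem (Submodule.mem_sup_left ⟨_, hta, rfl⟩)
    (Submodule.mem_sup_right (Submodule.smul_mem _ t hv))

theorem locFG_of_injective [IsNoetherianRing R] {A B : Type u} [AddCommGroup A] [Module R A]
    [AddCommGroup B] [Module R B] {f : A →ₗ[R] B} (hf : Function.Injective f) (hB : LocFG R B) :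
    LocFG R A := by
  refine locFG_middle (A := (⊥ : Submodule R A)) (f := (⊥ : Submodule R A).subtype) (g := f) ?_
    (locFG_of_finite _) hB
  rw [LinearMap.exact_iff, Submodule.range_subtype]
  exact LinearMap.ker_eq_bot.2 hf

theorem locFG_of_surjective {A B : Type u} [AddCommGroup A] [Module R A]
    [AddCommGroup B] [Module R B] {f : A →ₗ[R] B} (hf : Function.Surjective f) (hA : LocFG R A) :
    LocFG R B := fun p => by
  obtain ⟨W, hW, h⟩ := hA p
  refine ⟨W.map f, hW.map f, fun y => ?_⟩
  obtain ⟨x, rfl⟩ := hf y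
  obtain ⟨s, hs, hsx⟩ := h x
  exact ⟨s, hs, _, hsx, map_smul f s x⟩

variable [IsNoetherianRing R]

theorem finite_middle {A B C : Type u} [AddCommGroup A] [Module R A]
    [AddCommGroup B] [Module R B] [AddCommGroup C] [Module R C] {f : A →ₗ[R] B} {g : B →ₗ[R] C}
    (hfg : Function.Exact f g) [Module.Finite R A] [Module.Finite R C] : Module.Finite R B := by
  refine ⟨Submodule.fg_of_fg_map_of_fg_inf_ker g ?_ ?_⟩
  · exact IsNoetherian.noetherian _
  · rw [top_inf_eq, LinearMap.exact_iff.1 hfg]
    rw [← Submodule.map_top]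
    exact Module.Finite.fg_top.map f

theorem finite_torsionBy_pow {H : Type u} [AddCommGroup H] [Module R H] (x : R)
    [Module.Finite R (Submodule.torsionBy R H x)] :
    ∀ N : ℕ, Module.Finite R (Submodule.torsionBy R H (x ^ N)) := by
  intro N
  induction N with
  | zero =>
    have : Submodule.torsionBy R H (x ^ 0) = ⊥ := (Submodule.eq_bot_iff _).2 fun y hy => by
      rw [Submodule.mem_torsionBy_iff, pow_zero, one_smul] at hy; exact hy
    rw [this]; infer_instance
  | succ N ih =>
    let g : Submodule.torsionBy R H (x ^ (N + 1)) →ₗ[R] Submodule.torsionBy R H x :=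
      ((LinearMap.lsmul R H (x ^ N)).comp (Submodule.torsionBy R H (x ^ (N + 1))).subtype).codRestrict _
        fun y => by
          rw [Submodule.mem_torsionBy_iff]
          change x • x ^ N • (y : H) = 0
          rw [← mul_smul, ← pow_succ']
          exact y.2
    have hle : Submodule.torsionBy R H (x ^ N) ≤ Submodule.torsionBy R H (x ^ (N + 1)) := fun y hy => by
      rw [Submodule.mem_torsionBy_iff] at hy ⊢
      rw [pow_succ', mul_smul, hy, smul_zero]
    refine finite_middle (f := Submodule.inclusion hle) (g := g) fun y => ?_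
    constructor
    · intro hy
      exact ⟨⟨y, congrArg Subtype.val hy⟩, rfl⟩
    · rintro ⟨z, rfl⟩
      exact Subtype.ext z.2

/-- An `x`-torsion module, finitely generated at every prime, with finite `x`-torsion. -/
theorem finite_of_torsion_of_locFG {H : Type u} [AddCommGroup H] [Module R H] (x : R)
    (ht : ∀ h : H, ∃ n : ℕ, x ^ n • h = 0) (hfin : Module.Finite R (Submodule.torsionBy R H x))
    (hloc : LocFG R H) : Module.Finite R H := by
  classical
  let U : ℕ → Submodule R H := fun N => (Submodule.torsionBy R H (x ^ (N + 1))).map (LinearMap.lsmul R H (x ^ N))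
  have hUx : ∀ N, U N ≤ Submodule.torsionBy R H x := by
    rintro N _ ⟨y, hy, rfl⟩
    rw [Submodule.mem_torsionBy_iff, LinearMap.lsmul_apply, ← mul_smul, ← pow_succ']
    exact hy
  have hUm : ∀ N, U (N + 1) ≤ U N := by
    rintro N _ ⟨y, hy, rfl⟩
    refine ⟨x • y, ?_, by simp only [LinearMap.lsmul_apply, pow_succ, mul_smul]⟩
    rw [SetLike.mem_coe, Submodule.mem_torsionBy_iff] at hy ⊢
    rw [← mul_smul, ← pow_succ]
    exact hy
  obtain ⟨N₀, hN₀⟩ := monotone_stabilizes_iff_noetherian.2 (inferInstance : IsNoetherian R R)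
    ⟨fun N => (U N).annihilator, monotone_nat_of_le_succ fun N => Submodule.annihilator_mono (hUm N)⟩
  have htop : (U N₀).annihilator = ⊤ := by
    by_contra hne
    obtain ⟨p, hp, hle⟩ := Ideal.exists_le_maximal _ hne
    obtain ⟨W, ⟨t, ht'⟩, hW⟩ := hloc ⟨p, hp.isPrime⟩
    choose n hn using ht
    let K := max N₀ (t.sup n)
    have hkill : ∀ y : H, ∃ s ∉ p, s • x ^ K • y = 0 := by
      intro y
      obtain ⟨s, hs, hsy⟩ := hW y
      refine ⟨s, hs, ?_⟩
      rw [smul_comm]
      rw [← ht'] at hsy
      generalize s • y = z at hsy ⊢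
      induction hsy using Submodule.span_induction with
      | mem w hw =>
        have hle' : n w ≤ K := le_trans (Finset.le_sup hw) (le_max_right _ _)
        rw [← Nat.add_sub_cancel' hle', pow_add, mul_comm, mul_smul, hn w, smul_zero]
      | zero => simp
      | add a b _ _ ha hb => rw [smul_add, ha, hb, add_zero]
      | smul r a _ ha => rw [smul_comm, ha, smul_zero]
    have hUfg : (U K).FG := by
      have h := (IsNoetherian.noetherian
        (Submodule.comap (Submodule.torsionBy R H x).subtype (U K))).map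
        (Submodule.torsionBy R H x).subtype
      rwa [Submodule.map_comap_subtype, inf_eq_right.2 (hUx K)] at h
    obtain ⟨g, hg⟩ := hUfg
    have hs : ∀ z : H, ∃ s ∉ p, z ∈ U K → s • z = 0 := by
      intro z
      by_cases hz : z ∈ U K
      · obtain ⟨y, -, rfl⟩ := hz
        obtain ⟨s, hs, h⟩ := hkill y
        exact ⟨s, hs, fun _ => h⟩
      · exact ⟨1, fun h => hp.ne_top ((Ideal.eq_top_iff_one _).2 h), fun h => absurd h hz⟩
    choose s hs hsz using hs
    have hmem : ∏ z ∈ g, s z ∈ (U K).annihilator := by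
      rw [← hg, Submodule.mem_annihilator_span]
      rintro ⟨z, hz⟩
      rw [← Finset.prod_erase_mul _ _ hz, mul_smul, hsz z (hg ▸ Submodule.subset_span hz), smul_zero]
    have hstab : (U K).annihilator = (U N₀).annihilator := (hN₀ K (le_max_left _ _)).symm
    rw [hstab] at hmem
    obtain ⟨z, -, hz⟩ := hp.isPrime.prod_mem_iff.1 (hle hmem)
    exact hs z hz
  have hU0 : ∀ N, N₀ ≤ N → U N = ⊥ := by
    intro N hN
    rw [← Submodule.annihilator_eq_top_iff, ← htop]
    exact (hN₀ N hN).symm
  have hall : ∀ N, ∀ y : H, x ^ N • y = 0 → x ^ N₀ • y = 0 := by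
    intro N
    induction N with
    | zero => intro y hy; rw [pow_zero, one_smul] at hy; rw [hy, smul_zero]
    | succ N ih =>
      intro y hy
      by_cases h : N₀ ≤ N
      · refine ih y ?_
        have hmem : x ^ N • y ∈ U N := ⟨y, by rw [SetLike.mem_coe, Submodule.mem_torsionBy_iff]; exact hy, rfl⟩
        rwa [hU0 N h, Submodule.mem_bot] at hmem
      · rw [← Nat.add_sub_cancel' (show N + 1 ≤ N₀ by omega), pow_add, mul_comm, mul_smul, hy, smul_zero]
  haveI := finite_torsionBy_pow (H := H) x N₀
  refine Module.Finite.of_surjective (Submodule.torsionBy R H (x ^ N₀)).subtype fun y => ?_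
  obtain ⟨N, hN⟩ := ht y
  exact ⟨⟨y, hall N y hN⟩, rfl⟩

variable (I : Ideal R)

theorem exists_pow_smul_H_eq_zero {i : ℕ} {M : Type u} [AddCommGroup M] [Module R M]
    [h : Module.Finite R (LocCoh.H I i M)] :
    ∃ k : ℕ, ∀ a ∈ I ^ k, ∀ y : LocCoh.H I i M, a • y = 0 := by
  classical
  obtain ⟨t, ht⟩ := h.fg_top
  choose n hn using isPowerTorsion_H I i (M := M)
  refine ⟨t.sup n, fun a ha y => ?_⟩
  have hy : y ∈ Submodule.span R (t : Set (LocCoh.H I i M)) := ht.symm ▸ Submodule.mem_top
  induction hy using Submodule.span_induction with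
  | mem w hw => exact hn w a (Ideal.pow_le_pow_right (Finset.le_sup hw) ha)
  | zero => simp
  | add a b _ _ ha hb => rw [smul_add, ha, hb, add_zero]
  | smul r a _ ha => rw [smul_comm, ha, smul_zero]

theorem finite_H_zero (M : Type u) [AddCommGroup M] [Module R M] [Module.Finite R M] :
    Module.Finite R (LocCoh.H I 0 M) :=
  Module.Finite.equiv (H0equiv I M).symm

theorem finite_H_of_quot_gamma {i : ℕ} (hi : 0 < i) {M : Type u} [AddCommGroup M] [Module R M]
    [Module.Finite R (LocCoh.H I i (M ⧸ gamma I M))] : Module.Finite R (LocCoh.H I i M) :=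
  Module.Finite.equiv
    (LinearEquiv.ofBijective _ (Hmap_mkQ_gamma_bijective I (M := M) hi)).symm

theorem finite_H_of_annihilated (n : ℕ) :
    ∀ (M : Type u) [AddCommGroup M] [Module R M] [Module.Finite R M] (k : ℕ),
      (∀ i, i ≤ n → ∀ a ∈ I ^ k, ∀ y : LocCoh.H I i M, a • y = 0) →
      Module.Finite R (LocCoh.H I n M) := by
  induction n with
  | zero => intro M _ _ _ _ _; exact finite_H_zero I M
  | succ n ih =>
    intro M _ _ _ k hk
    haveI : Module.Finite R (LocCoh.H I (n + 1) (M ⧸ gamma I M)) := by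
      have hk' : ∀ i, i ≤ n + 1 → ∀ a ∈ I ^ k, ∀ y : LocCoh.H I i (M ⧸ gamma I M), a • y = 0 := by
        intro i hi a ha y
        rcases i with _ | i
        · haveI := (subsingleton_H0_iff I (M ⧸ gamma I M)).2 (gamma_quot_gamma I)
          exact Subsingleton.elim _ _
        · obtain ⟨z, rfl⟩ := (Hmap_mkQ_gamma_bijective I (M := M) i.succ_pos).2 y
          rw [← map_smul, hk _ hi a ha, map_zero]
      obtain ⟨x, hx, hreg⟩ := LC17.exists_isSMulRegular_mem (gamma_quot_gamma I (M := M))
      have hreg' : IsSMulRegular (M ⧸ gamma I M) (x ^ k) := hreg.pow k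
      have hses := LC17.regular_ses hreg'
      have hzero : ∀ i, i ≤ n + 1 → ∀ y : LocCoh.H I i (M ⧸ gamma I M), x ^ k • y = 0 :=
        fun i hi y => hk' i hi _ (Ideal.pow_mem_pow hx k) y
      haveI := ih ((M ⧸ gamma I M) ⧸ (x ^ k) • (⊤ : Submodule R (M ⧸ gamma I M))) (k + k)
        fun i hi a ha z => by
          rw [pow_add] at ha
          induction ha using Submodule.mul_induction_on' with
          | mem_mul_mem b hb c hc =>
            have h1 : Hδ I i hses.1 hses.2 (Submodule.mkQ_surjective _) (c • z) = 0 := by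
              rw [map_smul]
              exact hk' (i + 1) (by omega) c hc _
            obtain ⟨w, hw⟩ := (H_exact₃ I i hses.1 hses.2 (Submodule.mkQ_surjective _) _).1 h1
            rw [mul_smul, ← hw, ← map_smul, hk' i (by omega) b hb w, map_zero]
          | add b _ c _ hb hc => rw [add_smul, hb, hc, add_zero]
      refine Module.Finite.of_surjective (Hδ I n hses.1 hses.2 (Submodule.mkQ_surjective _)) fun y => ?_
      refine (H_exact₁ I n hses.1 hses.2 (Submodule.mkQ_surjective _) y).1 ?_
      rw [Hmap_lsmul]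
      exact hzero _ le_rfl y
    exact finite_H_of_quot_gamma I n.succ_pos

theorem finite_H_of_locFG (n : ℕ) :
    ∀ (M : Type u) [AddCommGroup M] [Module R M] [Module.Finite R M],
      (∀ i, i ≤ n → LocFG R (LocCoh.H I i M)) → Module.Finite R (LocCoh.H I n M) := by
  induction n with
  | zero => intro M _ _ _ _; exact finite_H_zero I M
  | succ n ih =>
    intro M _ _ _ h
    haveI : Module.Finite R (LocCoh.H I (n + 1) (M ⧸ gamma I M)) := by
      have h' : ∀ i, i ≤ n + 1 → LocFG R (LocCoh.H I i (M ⧸ gamma I M)) := by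
        intro i hi
        rcases i with _ | i
        · haveI := finite_H_zero I (M ⧸ gamma I M)
          exact locFG_of_finite _
        · exact locFG_of_surjective (Hmap_mkQ_gamma_bijective I (M := M) i.succ_pos).2 (h _ hi)
      obtain ⟨x, hx, hreg⟩ := LC17.exists_isSMulRegular_mem (gamma_quot_gamma I (M := M))
      have hses := LC17.regular_ses hreg
      haveI := ih ((M ⧸ gamma I M) ⧸ x • (⊤ : Submodule R (M ⧸ gamma I M))) fun i hi =>
        locFG_middle (H_exact₃ I i hses.1 hses.2 (Submodule.mkQ_surjective _)) (h' i (by omega))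
          (h' (i + 1) (by omega))
      let δ := Hδ I n hses.1 hses.2 (Submodule.mkQ_surjective _)
      refine finite_of_torsion_of_locFG x (fun y => ?_) ?_ (h' _ le_rfl)
      · obtain ⟨k, hk⟩ := isPowerTorsion_H I (n + 1) y
        exact ⟨k, hk _ (Ideal.pow_mem_pow hx k)⟩
      · have heq : Submodule.torsionBy R (LocCoh.H I (n + 1) (M ⧸ gamma I M)) x =
            LinearMap.range δ := by
          ext y
          rw [Submodule.mem_torsionBy_iff, ← Hmap_lsmul I (n + 1) x y]
          exact H_exact₁ I n hses.1 hses.2 (Submodule.mkQ_surjective _) y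
        rw [heq]
        exact Module.Finite.of_surjective δ.rangeRestrict δ.surjective_rangeRestrict
    exact finite_H_of_quot_gamma I n.succ_pos

end Groth.Agent.LC15
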