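import Groth.Agent.LC15.HT
import Groth.Agent.LC15.Finiteness

/-!
Finiteness of local cohomology with supports in a specialisation stable subset is equivalent to
being annihilated by an ideal with zero locus in the subset.
-/

set_option autoImplicit false

universe u

namespace Groth.Agent.LC15.HT

open CategoryTheory
open scoped Pointwise

variable {R : Type u} [CommRing R] {T : Set (PrimeSpectrum R)}

/-- Powers. -/
theorem exists_powI (J : Dual2.IdealsIn T) (n : ℕ) :
    ∃ K : Dual2.IdealsIn T, idl K = idl J ^ n := by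
  induction n with
  | zero => exact ⟨topI, by rw [pow_zero, Ideal.one_eq_top]; rfl⟩
  | succ n ih =>
    obtain ⟨K, hK⟩ := ih
    exact ⟨prodI K J, by rw [pow_succ, ← hK]; rfl⟩

variable [IsNoetherianRing R]

theorem subsingleton_HT_of_killed {i : ℕ} (hi : 0 < i) {M : Type u} [AddCommGroup M] [Module R M]
    (J₁ : Dual2.IdealsIn T) (hM : ∀ a ∈ idl J₁, ∀ m : M, a • m = 0) :
    Subsingleton (Dual2.HT T i M) := by
  refine subsingleton_of_forall_eq 0 fun y => ?_
  obtain ⟨J, hJ, x, rfl⟩ := toT_surj_le i M y J₁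
  have htor : LocCoh.IsPowerTorsion (idl J) M := fun m => ⟨1, fun a ha => by
    rw [pow_one] at ha
    exact hM a (hJ ha) m⟩
  haveI := subsingleton_H_of_powerTorsion (idl J) htor hi
  let q₁ : quotPow (idl J) 1 ⟶ qI J := ModuleCat.ofHom (Submodule.mapQ _ _ LinearMap.id
    (fun a ha => by simpa using ha))
  obtain ⟨m, hm, he⟩ := (toH_eq_zero_iff (idl J) i M ((Abelian.Ext.mk₀ q₁).comp x (zero_add i))).1
    (Subsingleton.elim _ _)
  obtain ⟨K, hK⟩ := exists_powI J m
  have hKJ : idl K ≤ idl J := by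
    rw [hK]
    exact (Ideal.pow_le_pow_right hm).trans (pow_one (idl J)).le
  refine (toT_eq_zero_iff i M x).2 ⟨K, hKJ, ?_⟩
  let q₂ : qI K ⟶ quotPow (idl J) m := ModuleCat.ofHom (Submodule.mapQ _ _ LinearMap.id
    (fun a ha => (show a ∈ idl J ^ m from hK ▸ ha)))
  have hq : qle hKJ = q₂ ≫ qmap (idl J) hm ≫ q₁ := ModuleCat.hom_ext <| LinearMap.ext fun z => by
    obtain ⟨r, rfl⟩ := Submodule.Quotient.mk_surjective _ z
    rfl
  rw [hq, ← Abelian.Ext.mk₀_comp_mk₀, ← Abelian.Ext.mk₀_comp_mk₀,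
    Abelian.Ext.comp_assoc_of_second_deg_zero, Abelian.Ext.comp_assoc_of_second_deg_zero, he,
    Abelian.Ext.comp_zero]

variable (T) in
theorem exists_torsion_part (M : Type u) [AddCommGroup M] [Module R M] [Module.Finite R M] :
    ∃ (Γ : Submodule R M) (J₁ : Dual2.IdealsIn T), (∀ a ∈ idl J₁, ∀ m ∈ Γ, a • m = 0) ∧
      ∀ (J : Dual2.IdealsIn T) (x : M ⧸ Γ), (∀ a ∈ idl J, a • x = 0) → x = 0 := by
  haveI := finite_HT_zero T M
  obtain ⟨J₁, hJ₁⟩ := exists_kills_finite (T := T) (M := M) 0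
  refine ⟨LinearMap.range (t0 T M), J₁, ?_, ?_⟩
  · rintro a ha _ ⟨y, rfl⟩
    rw [← map_smul, hJ₁ a ha y, map_zero]
  · intro J x hx
    obtain ⟨m, rfl⟩ := Submodule.mkQ_surjective _ x
    refine (Submodule.Quotient.mk_eq_zero _).2 (mem_range_t0 T M (prodI J₁ J) fun c hc => ?_)
    change c ∈ idl J₁ * idl J at hc
    induction hc using Submodule.mul_induction_on' with
    | mem_mul_mem b hb a ha =>
      have h1 : a • m ∈ LinearMap.range (t0 T M) := by
        rw [← Submodule.Quotient.mk_eq_zero]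
        exact hx a ha
      obtain ⟨y, hy⟩ := h1
      rw [mul_smul, ← hy, ← map_smul, hJ₁ b hb y, map_zero]
    | add a _ b _ iha ihb => rw [add_smul, iha, ihb, add_zero]

theorem finite_HT_of_annihilated (n : ℕ) :
    ∀ (M : Type u) [AddCommGroup M] [Module R M] [Module.Finite R M] (J₀ : Dual2.IdealsIn T),
      (∀ i, i ≤ n → ∀ a ∈ idl J₀, ∀ y : Dual2.HT T i M, a • y = 0) →
      Module.Finite R (Dual2.HT T n M) := by
  induction n with
  | zero => intro M _ _ _ _ _; exact finite_HT_zero T M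
  | succ n ih =>
    intro M _ _ _ J₀ hJ₀
    obtain ⟨Γ, J₁, hΓ, hfree⟩ := exists_torsion_part T M
    have hsub : ∀ i, 0 < i → Subsingleton (Dual2.HT T i Γ) := fun i hi =>
      subsingleton_HT_of_killed hi J₁ fun a ha m => Subtype.ext (hΓ a ha m m.2)
    have hinjΓ : Function.Injective Γ.subtype := Γ.injective_subtype
    have hex := LinearMap.exact_subtype_mkQ Γ
    have hsurjΓ := Submodule.mkQ_surjective Γ
    have hbij : ∀ i, 0 < i → Function.Bijective (Tmap T i Γ.mkQ) := by
      intro i hi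
      refine ⟨(injective_iff_map_eq_zero _).2 fun y hy => ?_, fun y => ?_⟩
      · obtain ⟨z, rfl⟩ := (T_exact₂ i hinjΓ hex hsurjΓ y).1 hy
        haveI := hsub i hi
        rw [Subsingleton.elim z 0, map_zero]
      · exact (T_exact₃ i hinjΓ hex hsurjΓ y).1
          (haveI := hsub (i + 1) i.succ_pos; Subsingleton.elim _ _)
    have hkill : ∀ i, i ≤ n + 1 → ∀ a ∈ idl J₀, ∀ y : Dual2.HT T i (M ⧸ Γ), a • y = 0 := by
      intro i hi a ha y
      rcases i with _ | i
      · obtain ⟨J, hJ⟩ := exists_kills (T := T) (M := M ⧸ Γ) 0 y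
        have h0 : t0 T _ y = 0 := hfree J _ fun b hb => by rw [← map_smul, hJ b hb, map_zero]
        rw [t0_injective T _ (h0.trans (map_zero _).symm), smul_zero]
      · obtain ⟨z, rfl⟩ := (hbij _ i.succ_pos).2 y
        rw [← map_smul, hJ₀ _ hi a ha, map_zero]
    have hgam : gamma (idl J₀) (M ⧸ Γ) = ⊥ := by
      refine (Submodule.eq_bot_iff _).2 fun x hx => ?_
      obtain ⟨k, hk⟩ := hx
      obtain ⟨K, hK⟩ := exists_powI J₀ k
      exact hfree K x fun a ha => hk a (hK ▸ ha)
    obtain ⟨x, hx, hreg⟩ := LC17.exists_isSMulRegular_mem hgam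
    have hses := LC17.regular_ses hreg
    haveI := ih ((M ⧸ Γ) ⧸ x • (⊤ : Submodule R (M ⧸ Γ))) (prodI J₀ J₀) fun i hi a ha z => by
      change a ∈ idl J₀ * idl J₀ at ha
      induction ha using Submodule.mul_induction_on' with
      | mem_mul_mem b hb c hc =>
        have h1 : Tδ T i hses.1 hses.2 (Submodule.mkQ_surjective _) (c • z) = 0 := by
          rw [map_smul]
          exact hkill (i + 1) (by omega) c hc _
        obtain ⟨w, hw⟩ := (T_exact₃ i hses.1 hses.2 (Submodule.mkQ_surjective _) _).1 h1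
        rw [mul_smul, ← hw, ← map_smul, hkill i (by omega) b hb w, map_zero]
      | add b _ c _ hb hc => rw [add_smul, hb, hc, add_zero]
    haveI : Module.Finite R (Dual2.HT T (n + 1) (M ⧸ Γ)) := by
      refine Module.Finite.of_surjective
        (Tδ T n hses.1 hses.2 (Submodule.mkQ_surjective _)) fun y => ?_
      refine (T_exact₁ n hses.1 hses.2 (Submodule.mkQ_surjective _) y).1 ?_
      rw [Tmap_lsmul]
      exact hkill _ le_rfl x hx y
    exact Module.Finite.equiv (LinearEquiv.ofBijective _ (hbij _ n.succ_pos)).symm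

theorem finite_HT_iff_annihilated (M : Type u) [AddCommGroup M] [Module R M] [Module.Finite R M]
    (n : ℕ) : (∀ i, i ≤ n → Module.Finite R (Dual2.HT T i M)) ↔
      ∃ J : Ideal R, PrimeSpectrum.zeroLocus (J : Set R) ⊆ T ∧
        ∀ i, i ≤ n → ∀ a ∈ J, ∀ x : Dual2.HT T i M, a • x = 0 := by
  constructor
  · intro h
    have hk : ∀ k, k ≤ n + 1 → ∃ K : Dual2.IdealsIn T,
        ∀ i, i < k → ∀ a ∈ idl K, ∀ x : Dual2.HT T i M, a • x = 0 := by
      intro k
      induction k with
      | zero => exact fun _ => ⟨topI, fun i hi => absurd hi (Nat.not_lt_zero i)⟩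
      | succ k ih =>
        intro hk
        obtain ⟨K, hK⟩ := ih (by omega)
        haveI := h k (by omega)
        obtain ⟨L, hL⟩ := exists_kills_finite (T := T) (M := M) k
        refine ⟨prodI K L, fun i hi a ha x => ?_⟩
        rcases Nat.lt_succ_iff_lt_or_eq.1 hi with hi | rfl
        · exact hK i hi a (Ideal.mul_le_left ha) x
        · exact hL a (Ideal.mul_le_right ha) x
    obtain ⟨K, hK⟩ := hk (n + 1) le_rfl
    exact ⟨idl K, zeroLocus_idl K, fun i hi => hK i (by omega)⟩
  · rintro ⟨J, hJ, hk⟩ i hi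
    exact finite_HT_of_annihilated i M (mkI J hJ) fun j hj => hk j (hj.trans hi)

end Groth.Agent.LC15.HT
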