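import Groth.Agent.LC15.Cd
import Mathlib.RingTheory.Support
import Mathlib.RingTheory.Ideal.MinimalPrime.Noetherian
import Mathlib.RingTheory.KrullDimension.Basic

set_option autoImplicit false

universe u

namespace Groth.Agent.LC15

variable {R : Type u} [CommRing R] [IsNoetherianRing R] (I : Ideal R)
  {M : Type u} [AddCommGroup M] [Module R M]

/-- Every prime in the support has coheight less than `d`. -/
def CoheightLT (R : Type u) [CommRing R] (M : Type u) [AddCommGroup M] [Module R M] (d : ℕ) : Prop :=
  ∀ p ∈ Module.support R M, Order.coheight p < (d : ℕ∞)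

variable {I}

theorem coheight_eq_of_lt_succ {p : PrimeSpectrum R} {d : ℕ}
    (h : Order.coheight p < ((d + 1 : ℕ) : ℕ∞)) (h' : ¬ Order.coheight p < (d : ℕ∞)) :
    Order.coheight p = (d : ℕ∞) := by
  rw [Nat.cast_succ] at h
  exact le_antisymm (ENat.lt_add_one_iff (ENat.coe_ne_top d) |>.1 h) (not_lt.1 h')

theorem eq_of_le_of_coheight {d : ℕ} (hM : CoheightLT R M (d + 1)) {p q : PrimeSpectrum R}
    (hq : q ∈ Module.support R M) (hp : Order.coheight p = (d : ℕ∞)) (hqp : q ≤ p) : q = p := by
  by_contra hne
  have h1 := Order.coheight_add_one_le (lt_of_le_of_ne hqp hne)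
  have h2 := hM q hq
  rw [hp] at h1
  exact not_lt.2 h1 (by exact_mod_cast h2)

theorem exists_pow_smul_eq_zero_atPrime {d : ℕ} (hM : CoheightLT R M (d + 1))
    {p : PrimeSpectrum R} (hp : Order.coheight p = (d : ℕ∞)) {t : R} (ht : t ∈ p.asIdeal)
    (x : LocalizedModule p.asIdeal.primeCompl M) : ∃ n : ℕ, t ^ n • x = 0 := by
  induction x using LocalizedModule.induction_on with
  | _ m s =>
    by_contra hne
    push Not at hne
    have hdis : Disjoint ((R ∙ m).annihilator : Set R)
        ((p.asIdeal.primeCompl ⊔ Submonoid.powers t : Submonoid R) : Set R) := by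
      rw [Set.disjoint_left]
      intro a ha hmem
      obtain ⟨u, hu, _, ⟨n, rfl⟩, rfl⟩ := Submonoid.mem_sup.1 hmem
      refine hne n ?_
      rw [LocalizedModule.smul'_mk, ← LocalizedModule.zero_mk s, LocalizedModule.mk_eq]
      refine ⟨⟨u, hu⟩, ?_⟩
      simp only [Submonoid.smul_def, smul_zero]
      have : (u * t ^ n) • m = 0 := (Submodule.mem_annihilator_span_singleton _ _).1 ha
      rw [smul_comm, ← mul_smul u, this, smul_zero]
    obtain ⟨q, hqp, hq, hqS⟩ := Ideal.exists_le_prime_disjoint _ _ hdis
    rw [Set.disjoint_left] at hqS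
    have hqsupp : (⟨q, hqp⟩ : PrimeSpectrum R) ∈ Module.support R M :=
      Module.mem_support_iff_exists_annihilator.2 ⟨m, hq⟩
    have hle : (⟨q, hqp⟩ : PrimeSpectrum R) ≤ p := fun a ha => by
      by_contra hna
      exact hqS ha (Submonoid.mem_sup_left (show a ∈ p.asIdeal.primeCompl from hna))
    have heq := eq_of_le_of_coheight hM hqsupp hp hle
    have htq : t ∈ q := by
      have : t ∈ (⟨q, hqp⟩ : PrimeSpectrum R).asIdeal := heq ▸ ht
      exact this
    exact hqS htq (Submonoid.mem_sup_right (Submonoid.mem_powers t))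

theorem isPowerTorsion_atPrime {d : ℕ} (hM : CoheightLT R M (d + 1)) {p : PrimeSpectrum R}
    (hp : Order.coheight p = (d : ℕ∞)) (hI : I ≤ p.asIdeal) :
    LocCoh.IsPowerTorsion I (LocalizedModule p.asIdeal.primeCompl M) := by
  intro x
  have hle : I ≤ (R ∙ x).annihilator.radical := fun a ha => by
    obtain ⟨n, hn⟩ := exists_pow_smul_eq_zero_atPrime hM hp (hI ha) x
    exact ⟨n, (Submodule.mem_annihilator_span_singleton _ _).2 hn⟩
  obtain ⟨n, hn⟩ := Ideal.exists_pow_le_of_le_radical_of_fg hle (IsNoetherian.noetherian I)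
  exact ⟨n, fun a ha => (Submodule.mem_annihilator_span_singleton _ _).1 (hn ha)⟩

section Families

variable {ι : Type u} (F : ι → Type u) [∀ j, AddCommGroup (F j)] [∀ j, Module R (F j)]

/-- Finitely supported families. -/
def finFamilies : Submodule R (∀ j, F j) where
  carrier := {f | {j | f j ≠ 0}.Finite}
  zero_mem' := by simp
  add_mem' := by
    intro f g hf hg
    refine (hf.union hg).subset fun j hj => ?_
    by_contra h
    simp only [Set.mem_union, Set.mem_setOf_eq, not_or, not_not] at h
    exact hj (by rw [Pi.add_apply, h.1, h.2, add_zero])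
  smul_mem' := by
    intro r f hf
    refine hf.subset fun j hj hj' => hj ?_
    rw [Pi.smul_apply, hj', smul_zero]

theorem subsingleton_H_finFamilies (s : Finset R) (hsI : ∀ a ∈ s, a ∈ I)
    (h : ∀ j, LocCoh.IsPowerTorsion I (F j) ∨ ∃ a ∈ s, Function.Bijective fun x : F j => a • x)
    {i : ℕ} (hi : 0 < i) : Subsingleton (LocCoh.H I i (finFamilies (R := R) F)) := by
  classical
  have hκ : ∀ j, ∃ c : Option s, (c = none → LocCoh.IsPowerTorsion I (F j)) ∧
      ∀ a : s, c = some a → Function.Bijective fun x : F j => (a : R) • x := by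
    intro j
    rcases h j with ht | ⟨a, ha, hb⟩
    · exact ⟨none, fun _ => ht, fun a ha => by simp at ha⟩
    · refine ⟨some ⟨a, ha⟩, fun hn => by simp at hn, fun b hb' => ?_⟩
      rw [Option.some.injEq] at hb'
      subst hb'
      exact hb
  choose κ hκt hκb using hκ
  let L := finFamilies (R := R) F
  let π (c : Option s) : L →ₗ[R] L :=
    { toFun := fun f => ⟨fun j => if κ j = c then (f : ∀ j, F j) j else 0,
        f.2.subset fun j hj hj0 => hj (by simp [hj0])⟩
      map_add' := fun f g => Subtype.ext <| funext fun j => by by_cases hj : κ j = c <;> simp [hj]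
      map_smul' := fun r f => Subtype.ext <| funext fun j => by by_cases hj : κ j = c <;> simp [hj] }
  have hsum : (LinearMap.id : L →ₗ[R] L) = ∑ c, π c := by
    refine LinearMap.ext fun f => Subtype.ext <| funext fun j => ?_
    simp [π, LinearMap.sum_apply, Finset.sum_apply]
    cases h : κ j <;> simp
  have hrange : ∀ c (f : L) j, f ∈ LinearMap.range (π c) → κ j ≠ c → (f : ∀ j, F j) j = 0 := by
    rintro c f j ⟨g, rfl⟩ hj
    simp [π, hj]
  have hzero : ∀ c, Hmap I i (π c) = 0 := by
    intro c
    have hsub : Subsingleton (LocCoh.H I i (LinearMap.range (π c))) := by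
      rcases c with _ | a
      · refine subsingleton_H_of_powerTorsion I (fun f => ?_) hi
        have hfin := (f : L).2
        have hex : ∀ j, ∃ n, ∀ b ∈ I ^ n, b • ((f : L) : ∀ j, F j) j = 0 := by
          intro j
          by_cases hj : κ j = none
          · exact hκt j hj _
          · exact ⟨0, fun b _ => by rw [hrange _ _ j f.2 hj, smul_zero]⟩
        choose n hn using hex
        refine ⟨hfin.toFinset.sup n, fun b hb => Subtype.ext <| Subtype.ext <| funext fun j => ?_⟩
        change b • ((f : L) : ∀ j, F j) j = 0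
        by_cases hj : ((f : L) : ∀ j, F j) j = 0
        · rw [hj, smul_zero]
        · exact hn j b (Ideal.pow_le_pow_right (Finset.le_sup (hfin.mem_toFinset.2 hj)) hb)
      · refine subsingleton_H_of_smul_bijective I (hsI a.1 a.2) ⟨?_, ?_⟩ i
        · intro f g hfg
          refine Subtype.ext <| Subtype.ext <| funext fun j => ?_
          by_cases hj : κ j = some a
          · exact (hκb j a hj).1 (congrArg (fun w : LinearMap.range (π (some a)) =>
              ((w : L) : ∀ j, F j) j) hfg)
          · rw [hrange _ _ j f.2 hj, hrange _ _ j g.2 hj]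
        · intro f
          have hex : ∀ j, ∃ y : F j, (κ j ≠ some a → y = 0) ∧
              (a : R) • y = ((f : L) : ∀ j, F j) j := by
            intro j
            by_cases hj : κ j = some a
            · obtain ⟨y, hy⟩ := (hκb j a hj).2 (((f : L) : ∀ j, F j) j)
              exact ⟨y, fun hne => absurd hj hne, hy⟩
            · exact ⟨0, fun _ => rfl, by rw [smul_zero, hrange _ _ j f.2 hj]⟩
          choose y hy0 hy using hex
          have hyfin : y ∈ finFamilies (R := R) F := (f : L).2.subset fun j hj hj0 => by
            by_cases hk : κ j = some a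
            · refine hj ((hκb j a hk).1 ?_)
              simp only [smul_zero]
              rw [hy j, hj0]
            · exact hj (hy0 j hk)
          refine ⟨⟨π (some a) ⟨y, hyfin⟩, LinearMap.mem_range_self _ _⟩,
            Subtype.ext <| Subtype.ext <| funext fun j => ?_⟩
          change (a : R) • (if κ j = some a then y j else 0) = ((f : L) : ∀ j, F j) j
          by_cases hj : κ j = some a
          · rw [if_pos hj, hy j]
          · rw [if_neg hj, smul_zero, hrange _ _ j f.2 hj]
    rw [show π c = (LinearMap.range (π c)).subtype ∘ₗ (π c).rangeRestrict from rfl]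
    refine (Hmap_comp (M := L) (N := LinearMap.range (π c)) (L := L) I i _ _).trans ?_
    refine LinearMap.ext fun y => ?_
    exact (congrArg (Hmap I i (LinearMap.range (π c)).subtype)
      (Subsingleton.elim (Hmap (N := LinearMap.range (π c)) I i (π c).rangeRestrict y) 0)).trans (map_zero _)
  refine subsingleton_of_forall_eq 0 fun y => ?_
  rw [← LinearMap.id_apply (R := R) y, ← Hmap_id, hsum]
  suffices ∀ S : Finset (Option s), Hmap I i (∑ c ∈ S, π c) = 0 by
    rw [this]; rfl
  intro S
  induction S using Finset.induction with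
  | empty => exact Hmap_zero I i
  | insert c S hc ih => rw [Finset.sum_insert hc, Hmap_add, hzero, ih, add_zero]

end Families

theorem smul_bijective_atPrime (p : PrimeSpectrum R) {a : R} (ha : a ∉ p.asIdeal) :
    Function.Bijective fun x : LocalizedModule p.asIdeal.primeCompl M => a • x :=
  (Module.End.isUnit_iff _).1
    (IsLocalizedModule.map_units (LocalizedModule.mkLinearMap p.asIdeal.primeCompl M)
      (⟨a, ha⟩ : p.asIdeal.primeCompl))

/-- Vanishing of local cohomology above the dimension of the support. -/
theorem subsingleton_H_of_coheightLT (d : ℕ) :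
    ∀ {M : Type u} [AddCommGroup M] [Module R M], CoheightLT R M d →
      ∀ i, d ≤ i → Subsingleton (LocCoh.H I i M) := by
  classical
  induction d with
  | zero =>
    intro M _ _ hM i _
    haveI : Subsingleton M := by
      rw [← Module.support_eq_empty_iff (R := R)]
      exact Set.eq_empty_iff_forall_notMem.2 fun p hp => not_lt_zero (hM p hp)
    exact subsingleton_H_of_subsingleton I i
  | succ d ih =>
    intro M _ _ hM i hi
    obtain ⟨s, hs⟩ := (IsNoetherian.noetherian I : Submodule.FG I)
    let P := {p : PrimeSpectrum R // p ∈ Module.support R M ∧ Order.coheight p = (d : ℕ∞)}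
    let F : P → Type u := fun p => LocalizedModule p.1.asIdeal.primeCompl M
    have hF : ∀ p : P, LocCoh.IsPowerTorsion I (F p) ∨
        ∃ a ∈ s, Function.Bijective fun x : F p => a • x := by
      intro p
      by_cases hp : ∀ a ∈ s, a ∈ p.1.asIdeal
      · exact Or.inl (isPowerTorsion_atPrime hM p.2.2 (hs ▸ Submodule.span_le.2 hp))
      · push Not at hp
        obtain ⟨a, ha, hap⟩ := hp
        exact Or.inr ⟨a, ha, smul_bijective_atPrime p.1 hap⟩
    have hfinm : ∀ m : M, {p : P | (LocalizedModule.mk m 1 : F p) ≠ 0}.Finite := by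
      intro m
      refine Set.Finite.of_finite_image (f := fun p : P => p.1.asIdeal)
        (((R ∙ m).annihilator.finite_minimalPrimes_of_isNoetherianRing R).subset ?_)
        (Function.Injective.injOn fun p q h => Subtype.ext (PrimeSpectrum.ext h))
      rintro _ ⟨p, hp, rfl⟩
      refine ⟨⟨p.1.isPrime, fun a ha => ?_⟩, fun q ⟨hq, hqm⟩ hle => ?_⟩
      · by_contra hna
        refine hp ?_
        rw [← LocalizedModule.zero_mk (1 : p.1.asIdeal.primeCompl), LocalizedModule.mk_eq]
        refine ⟨⟨a, hna⟩, ?_⟩
        simp only [one_smul, smul_zero, Submonoid.smul_def]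
        exact (Submodule.mem_annihilator_span_singleton _ _).1 ha
      · have hqs : (⟨q, hq⟩ : PrimeSpectrum R) ∈ Module.support R M :=
          Module.mem_support_iff_exists_annihilator.2 ⟨m, hqm⟩
        exact (congrArg PrimeSpectrum.asIdeal (eq_of_le_of_coheight hM hqs p.2.2 hle)).ge
    let φ : M →ₗ[R] finFamilies (R := R) F :=
      (LinearMap.pi fun p : P => LocalizedModule.mkLinearMap p.1.asIdeal.primeCompl M).codRestrict _
        hfinm
    have hK : CoheightLT R (LinearMap.ker φ) d := by
      intro q hq
      have hqM : q ∈ Module.support R M :=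
        Module.support_subset_of_injective _ (LinearMap.ker φ).injective_subtype hq
      by_contra hlt
      have hqP := coheight_eq_of_lt_succ (hM q hqM) hlt
      obtain ⟨k, hk⟩ := Module.mem_support_iff'.1 hq
      have h0 : (LocalizedModule.mk (k : M) 1 : F ⟨q, hqM, hqP⟩) = LocalizedModule.mk 0 1 := by
        rw [LocalizedModule.zero_mk]
        exact congrArg (fun f : finFamilies (R := R) F => (f : ∀ p, F p) ⟨q, hqM, hqP⟩) k.2
      obtain ⟨⟨u, hu⟩, hu'⟩ := LocalizedModule.mk_eq.1 h0
      simp only [one_smul, smul_zero, Submonoid.smul_def] at hu'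
      exact hk u hu (Subtype.ext hu')
    have hC : CoheightLT R ((finFamilies (R := R) F) ⧸ LinearMap.range φ) d := by
      intro q hq
      by_contra hlt
      obtain ⟨c, hc⟩ := Module.mem_support_iff'.1 hq
      obtain ⟨ℓ, rfl⟩ := Submodule.mkQ_surjective _ c
      obtain ⟨m, r, hr, hcomp⟩ : ∃ (m : M) (r : R), r ∉ q.asIdeal ∧
          ∀ p : P, p.1 = q → (r • ℓ - φ m : finFamilies (R := R) F).1 p = 0 := by
        by_cases hqP : q ∈ Module.support R M ∧ Order.coheight q = (d : ℕ∞)
        · obtain ⟨⟨m, t⟩, hmt⟩ := IsLocalizedModule.surj q.asIdeal.primeCompl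
            (LocalizedModule.mkLinearMap q.asIdeal.primeCompl M) (ℓ.1 ⟨q, hqP⟩)
          refine ⟨m, t, t.2, fun p hp => ?_⟩
          obtain rfl : p = ⟨q, hqP⟩ := Subtype.ext hp
          change (t : R) • ℓ.1 ⟨q, hqP⟩ - _ = 0
          rw [sub_eq_zero]
          exact hmt
        · refine ⟨0, 1, fun h => q.isPrime.ne_top ((Ideal.eq_top_iff_one _).2 h), fun p hp => ?_⟩
          exact absurd (hp ▸ p.2) hqP
      let g : finFamilies (R := R) F := r • ℓ - φ m
      have hex : ∀ p : P, ∃ t ∉ q.asIdeal, t • g.1 p = 0 := by
        intro p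
        by_cases hp : p.1 = q
        · exact ⟨1, fun h => q.isPrime.ne_top ((Ideal.eq_top_iff_one _).2 h),
            by rw [one_smul]; exact hcomp p hp⟩
        · have hnle : ¬ p.1.asIdeal ≤ q.asIdeal := fun hle => by
            have hlt' : p.1 < q := lt_of_le_of_ne hle hp
            have := Order.coheight_add_one_le hlt'
            rw [p.2.2] at this
            have h' : (d : ℕ∞) + 1 ≤ (d : ℕ∞) := (add_le_add_left (not_lt.1 hlt) 1).trans this
            exact Nat.not_succ_le_self d (by exact_mod_cast h')
          obtain ⟨t, htp, htq⟩ := SetLike.not_le_iff_exists.1 hnle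
          obtain ⟨n, hn⟩ := exists_pow_smul_eq_zero_atPrime hM p.2.2 htp (g.1 p)
          exact ⟨t ^ n, fun h => htq (q.isPrime.mem_of_pow_mem n h), hn⟩
      choose t ht htg using hex
      have hfin : {p : P | g.1 p ≠ 0}.Finite := g.2
      refine hc ((∏ p ∈ hfin.toFinset, t p) * r) (fun h => ?_) ?_
      · rcases q.isPrime.mem_or_mem h with h | h
        · obtain ⟨p, _, hp⟩ := q.isPrime.prod_mem_iff.1 h
          exact ht p hp
        · exact hr h
      · rw [← map_smul, Submodule.mkQ_apply, Submodule.Quotient.mk_eq_zero]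
        refine ⟨(∏ p ∈ hfin.toFinset, t p) • m, ?_⟩
        have hg : (∏ p ∈ hfin.toFinset, t p) • g = 0 := by
          refine Subtype.ext <| funext fun p => ?_
          change (∏ p ∈ hfin.toFinset, t p) • g.1 p = 0
          by_cases hp : g.1 p = 0
          · rw [hp, smul_zero]
          · rw [← Finset.prod_erase_mul _ _ (hfin.mem_toFinset.2 hp), mul_smul, htg p, smul_zero]
        rw [smul_sub, sub_eq_zero] at hg
        rw [map_smul, mul_smul, hg]
    obtain ⟨j, rfl⟩ : ∃ j, i = j + 1 := ⟨i - 1, by omega⟩
    have hex2 : Function.Exact (LinearMap.range φ).subtype (LinearMap.range φ).mkQ :=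
      LinearMap.exact_subtype_mkQ _
    have hIm : Subsingleton (LocCoh.H I (j + 1) (LinearMap.range φ)) :=
      subsingleton_H_left I j (Submodule.injective_subtype _) hex2 (Submodule.mkQ_surjective _)
        (ih hC j (by omega)) (subsingleton_H_finFamilies F s
          (fun a ha => hs ▸ Submodule.subset_span ha) hF (by omega))
    exact subsingleton_H_middle I (j + 1) (f := (LinearMap.ker φ).subtype) (g := φ.rangeRestrict)
      (Submodule.injective_subtype _)
      (LinearMap.exact_iff.2 (by rw [LinearMap.ker_rangeRestrict, Submodule.range_subtype]))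
      φ.surjective_rangeRestrict (ih hK (j + 1) (by omega)) hIm

theorem cdLE_of_ringKrullDim_le (I : Ideal R) {d : ℕ} (hd : ringKrullDim R ≤ d) :
    LocCoh.CdLE R I d := by
  intro M _ _ i hi
  refine subsingleton_H_of_coheightLT (d + 1) (fun p _ => ?_) i hi
  have h : (Order.coheight p : WithBot ℕ∞) ≤ ((d : ℕ∞) : WithBot ℕ∞) :=
    (Order.coheight_le_krullDim p).trans hd
  rw [Nat.cast_succ, ENat.lt_add_one_iff (ENat.coe_ne_top d)]
  exact WithBot.coe_le_coe.1 h

end Groth.Agent.LC15
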