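import Groth.Agent.LC15.OfLE
import Groth.Agent.LC15.Dim
import Groth.Agent.LC15.NonVanish
import Groth.Agent.LC16.ChangeRings
import Groth.Agent.CAlg4.RDLifting
import Mathlib.RingTheory.Localization.Away.Basic

set_option autoImplicit false

universe u

namespace Groth.Agent.LC15

open IsLocalRing

variable {R : Type u} [CommRing R] [IsNoetherianRing R] (I : Ideal R)

omit [IsNoetherianRing R] in
theorem coheight_eq_dim_quotient (q : PrimeSpectrum R) :
    (Order.coheight q : WithBot ℕ∞) = ringKrullDim (R ⧸ q.asIdeal) := by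
  rw [ringKrullDim_quotient, Order.coheight_eq_krullDim_Ici]
  refine Order.krullDim_eq_of_orderIso (OrderIso.setCongr _ _ ?_)
  ext x
  exact Iff.rfl

omit [IsNoetherianRing R] in
theorem coheightLT_succ {d : ℕ} (hd : ringKrullDim R ≤ d) (M : Type u) [AddCommGroup M]
    [Module R M] : CoheightLT R M (d + 1) := by
  intro p _
  have h : (Order.coheight p : WithBot ℕ∞) ≤ ((d : ℕ∞) : WithBot ℕ∞) :=
    (Order.coheight_le_krullDim p).trans hd
  rw [Nat.cast_succ, ENat.lt_add_one_iff (ENat.coe_ne_top d)]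
  exact WithBot.coe_le_coe.1 h

omit [IsNoetherianRing R] in
theorem coheight_lt_or_minimal {d : ℕ} (hd : ringKrullDim R ≤ d) (q : PrimeSpectrum R) :
    Order.coheight q < (d : ℕ∞) ∨
      (q.asIdeal ∈ minimalPrimes R ∧ ringKrullDim (R ⧸ q.asIdeal) = d) := by
  refine or_iff_not_imp_left.2 fun hlt => ?_
  have hle : (Order.coheight q : WithBot ℕ∞) ≤ ((d : ℕ∞) : WithBot ℕ∞) :=
    (Order.coheight_le_krullDim q).trans hd
  have heq : Order.coheight q = (d : ℕ∞) := le_antisymm (WithBot.coe_le_coe.1 hle) (not_lt.1 hlt)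
  refine ⟨⟨⟨q.isPrime, bot_le⟩, fun p hp hpq => ?_⟩, by rw [← coheight_eq_dim_quotient, heq]; rfl⟩
  by_contra hne
  have hlt : (⟨p, hp.1⟩ : PrimeSpectrum R) < q :=
    lt_of_le_of_ne hpq fun h => hne (congrArg PrimeSpectrum.asIdeal h).ge
  have h1 := Order.coheight_add_one_le hlt
  have h2 : (Order.coheight (⟨p, hp.1⟩ : PrimeSpectrum R) : WithBot ℕ∞) ≤ ((d : ℕ∞) : WithBot ℕ∞) :=
    (Order.coheight_le_krullDim _).trans hd
  rw [heq] at h1
  have h3 : ((d + 1 : ℕ) : ℕ∞) ≤ (d : ℕ∞) := by
    rw [Nat.cast_succ]; exact h1.trans (WithBot.coe_le_coe.1 h2)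
  exact absurd (Nat.cast_le.1 h3) (by omega)

omit [IsNoetherianRing R] in
theorem mem_support_quot_ideal (p : Ideal R) (r : PrimeSpectrum R) :
    r ∈ Module.support R (R ⧸ p) ↔ p ≤ r.asIdeal := by
  rw [Module.support_eq_zeroLocus, Ideal.annihilator_quotient]
  exact Iff.rfl

/-- Multiplication by an element outside the top minimal primes is onto on `H^d`. -/
theorem smul_surjective_H_top {d : ℕ} (hd : ringKrullDim R ≤ d) (f : R)
    (hf : ∀ p ∈ minimalPrimes R, ringKrullDim (R ⧸ p) = d → f ∉ p)
    (M : Type u) [AddCommGroup M] [Module R M] :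
    Function.Surjective (fun x : LocCoh.H I d M => f • x) := by
  let g := LinearMap.lsmul R M f
  have h1 := subsingleton_H_of_coheightLT (I := I) (d + 1) (M := LinearMap.ker g)
    (coheightLT_succ hd _) (d + 1) le_rfl
  have h2 : Subsingleton (LocCoh.H I d (M ⧸ LinearMap.range g)) := by
    refine subsingleton_H_of_coheightLT (I := I) d (fun q hq => ?_) d le_rfl
    refine (coheight_lt_or_minimal hd q).resolve_right fun ⟨hmin, hdim⟩ => ?_
    obtain ⟨y, hy⟩ := Module.mem_support_iff'.1 hq
    obtain ⟨m, rfl⟩ := Submodule.mkQ_surjective _ y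
    exact hy f (hf _ hmin hdim) (by
      rw [← map_smul, Submodule.mkQ_apply, Submodule.Quotient.mk_eq_zero]
      exact ⟨m, rfl⟩)
  intro y
  obtain ⟨z, rfl⟩ := (H_exact₂ I d (LinearMap.range g).injective_subtype
    (LinearMap.exact_subtype_mkQ _) (Submodule.mkQ_surjective _) y).1 (Subsingleton.elim _ _)
  have hex : Function.Exact (LinearMap.ker g).subtype g.rangeRestrict := LinearMap.exact_iff.2 (by
    rw [LinearMap.ker_rangeRestrict, Submodule.range_subtype])
  obtain ⟨w, rfl⟩ := (H_exact₃ I d (LinearMap.ker g).injective_subtype hex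
    g.surjective_rangeRestrict z).1 (Subsingleton.elim _ _)
  refine ⟨w, ?_⟩
  rw [← LinearMap.comp_apply, ← Hmap_comp]
  exact (Hmap_lsmul I d f w).symm

/-- `H^d(R/p) = 0` when some finite `M` supported at `p` has `H^d(M) = 0`, in top dimension. -/
theorem subsingleton_H_quotient_of_support {d : ℕ} (hd : ringKrullDim R ≤ d)
    (M : Type u) [AddCommGroup M] [Module R M] [Module.Finite R M]
    (hvan : Subsingleton (LocCoh.H I d M)) (q : PrimeSpectrum R) (hq : q ∈ Module.support R M) :
    Subsingleton (LocCoh.H I d (R ⧸ q.asIdeal)) := by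
  classical
  rcases coheight_lt_or_minimal hd q with hlt | ⟨hmin, hdim⟩
  · refine subsingleton_H_of_coheightLT (I := I) d (fun r hr => ?_) d le_rfl
    rw [mem_support_quot_ideal] at hr
    exact lt_of_le_of_lt (Order.coheight_anti (show q ≤ r from hr)) hlt
  set p := q.asIdeal
  let N := M ⧸ (p • ⊤ : Submodule R M)
  have hN : Subsingleton (LocCoh.H I d N) :=
    subsingleton_H_right I d (p • ⊤ : Submodule R M).injective_subtype
      (LinearMap.exact_subtype_mkQ _) (Submodule.mkQ_surjective _) hvan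
      (subsingleton_H_of_coheightLT (I := I) (d + 1) (coheightLT_succ hd _) (d + 1) le_rfl)
  -- a nonzero map to `R/p`
  let T : Submodule (R ⧸ p) N := Submodule.torsion (R ⧸ p) N
  let Q := N ⧸ T
  haveI : Module.Finite (R ⧸ p) N := Module.Finite.of_restrictScalars_finite R (R ⧸ p) N
  obtain ⟨n, e, he⟩ := CAlg4.RDLifting.exists_injective_free (R := R ⧸ p) Q
  have hTne : T ≠ ⊤ := by
    intro htop
    obtain ⟨s, hs⟩ := (Module.Finite.fg_top : (⊤ : Submodule (R ⧸ p) N).FG)
    have hc : ∀ y : N, ∃ c : R, c ∉ p ∧ c • y = 0 := fun y => by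
      obtain ⟨c, hc⟩ := (Submodule.mem_torsion_iff y).1 (htop.ge trivial : y ∈ T)
      obtain ⟨c', hc'⟩ := Ideal.Quotient.mk_surjective (c : R ⧸ p)
      refine ⟨c', fun hmem => nonZeroDivisors.coe_ne_zero c ?_, ?_⟩
      · rw [← hc']; exact Ideal.Quotient.eq_zero_iff_mem.2 hmem
      · have h' : (Ideal.Quotient.mk p c') • y = 0 := by rw [hc']; exact hc
        exact h'
    have hsub : q ∉ Module.support R N := by
      rw [Module.notMem_support_iff']
      exact hc
    refine hsub ?_
    rw [Module.support_quotient]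
    exact ⟨hq, show (p : Set R) ⊆ q.asIdeal from le_rfl⟩
  haveI : Nontrivial Q := Submodule.Quotient.nontrivial_iff.2 hTne
  obtain ⟨j, hj⟩ : ∃ j, ((LinearMap.proj j).comp e).restrictScalars R ≠ 0 := by
    by_contra hcon
    push Not at hcon
    obtain ⟨a, ha⟩ := exists_ne (0 : Q)
    exact ha (he (funext fun j => by simpa using congr($(hcon j) a)))
  let φ : N →ₗ[R] (R ⧸ p) :=
    (((LinearMap.proj j).comp e).restrictScalars R).comp (T.mkQ.restrictScalars R)
  have hφ : φ ≠ 0 := by
    intro h0
    refine hj (LinearMap.ext fun a => ?_)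
    obtain ⟨a, rfl⟩ := T.mkQ_surjective a
    exact congr($h0 a)
  have hcoker : Subsingleton (LocCoh.H I d ((R ⧸ p) ⧸ LinearMap.range φ)) := by
    refine subsingleton_H_of_coheightLT (I := I) d (fun r hr => ?_) d le_rfl
    obtain ⟨y, hy⟩ := DFunLike.ne_iff.1 hφ
    obtain ⟨c, hc⟩ := Ideal.Quotient.mk_surjective (φ y)
    have hcp : c ∉ p := fun h => hy (by rw [← hc]; exact Ideal.Quotient.eq_zero_iff_mem.2 h)
    obtain ⟨z, hz⟩ := Module.mem_support_iff'.1 hr
    obtain ⟨z, rfl⟩ := Submodule.mkQ_surjective _ z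
    have hcr : c ∈ r.asIdeal := by
      by_contra hcr
      obtain ⟨z', rfl⟩ := Ideal.Quotient.mk_surjective z
      refine hz c hcr ?_
      rw [← map_smul, Submodule.mkQ_apply, Submodule.Quotient.mk_eq_zero]
      refine ⟨z' • y, ?_⟩
      rw [map_smul, ← hc]
      exact congrArg (Ideal.Quotient.mk p) (mul_comm z' c)
    have hpr : p ≤ r.asIdeal := by
      intro a ha
      by_contra har
      refine hz a har ?_
      obtain ⟨z', rfl⟩ := Ideal.Quotient.mk_surjective z
      rw [← map_smul, Submodule.mkQ_apply, Submodule.Quotient.mk_eq_zero]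
      exact ⟨0, (map_zero φ).trans (Eq.symm (Ideal.Quotient.eq_zero_iff_mem.2 (p.mul_mem_right z' ha)))⟩
    have hlt : q < r := lt_of_le_of_ne hpr fun h => hcp (by rw [← h] at hcr; exact hcr)
    have h1 := Order.coheight_add_one_le hlt
    refine lt_of_not_ge fun hge => ?_
    have h2 : ((d + 1 : ℕ) : ℕ∞) ≤ Order.coheight q := by
      rw [Nat.cast_succ]; exact le_trans (add_le_add hge le_rfl) h1
    have h3 := coheightLT_succ hd (R ⧸ p) q (by
      rw [mem_support_quot_ideal])
    exact absurd (lt_of_le_of_lt h2 h3) (lt_irrefl _)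
  have himg : Subsingleton (LocCoh.H I d (LinearMap.range φ)) :=
    subsingleton_H_right I d (LinearMap.ker φ).injective_subtype
      (g := φ.rangeRestrict) (LinearMap.exact_iff.2 (by
        rw [LinearMap.ker_rangeRestrict, Submodule.range_subtype]))
      φ.surjective_rangeRestrict hN
      (subsingleton_H_of_coheightLT (I := I) (d + 1) (coheightLT_succ hd _) (d + 1) le_rfl)
  exact subsingleton_H_middle I d (LinearMap.range φ).injective_subtype
    (LinearMap.exact_subtype_mkQ _) (Submodule.mkQ_surjective _) himg hcoker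

theorem cdLT_of_support {d : ℕ} (hd : ringKrullDim R ≤ d)
    (M : Type u) [AddCommGroup M] [Module R M] [Module.Finite R M]
    (hsupp : ∀ q : PrimeSpectrum R, q.asIdeal ∈ minimalPrimes R →
      ringKrullDim (R ⧸ q.asIdeal) = d → q ∈ Module.support R M)
    (hvan : Subsingleton (LocCoh.H I d M)) (N : Type u) [AddCommGroup N] [Module R N] (i : ℕ)
    (hi : d ≤ i) : Subsingleton (LocCoh.H I i N) := by
  rcases lt_or_eq_of_le hi with hlt | rfl
  · exact subsingleton_H_of_coheightLT (I := I) (d + 1) (coheightLT_succ hd _) i hlt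
  have hfin : Subsingleton (LocCoh.H I d R) := by
    refine IsNoetherianRing.induction_on_isQuotientEquivQuotientPrime (A := R) (M := R)
      inferInstance (motive := fun W _ _ _ => Subsingleton (LocCoh.H I d W)) ?_ ?_ ?_
    · intro W _ _ _ _; exact subsingleton_H_of_subsingleton I d
    · intro W _ _ _ q e
      have : Subsingleton (LocCoh.H I d (R ⧸ q.asIdeal)) := by
        rcases coheight_lt_or_minimal hd q with hlt | ⟨hmin, hdim⟩
        · refine subsingleton_H_of_coheightLT (I := I) d (fun r hr => ?_) d le_rfl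
          rw [mem_support_quot_ideal] at hr
          exact lt_of_le_of_lt (Order.coheight_anti (show q ≤ r from hr)) hlt
        · exact subsingleton_H_quotient_of_support I hd M hvan q (hsupp q hmin hdim)
      exact (Hequiv I d e).toEquiv.subsingleton_congr.2 this
    · intro A _ _ _ B _ _ _ C _ _ _ f g hf hg hfg hA hC
      exact subsingleton_H_middle I d hf hfg hg hA hC
  by_cases hd0 : d = 0
  · subst hd0
    rw [subsingleton_H0_iff] at hfin ⊢
    rw [Submodule.eq_bot_iff]
    intro x hx
    obtain ⟨k, hk⟩ := hx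
    obtain ⟨a, ha, hreg⟩ := LC17.exists_isSMulRegular_mem hfin
    haveI : Ring.KrullDimLE 0 R := by
      rw [Ring.KrullDimLE, Order.krullDimLE_iff]; exact hd
    haveI : IsArtinianRing R := isArtinianRing_iff_isNoetherianRing_krullDimLE_zero.2 ⟨‹_›, ‹_›⟩
    have hu : IsUnit a := IsArtinianRing.isUnit_of_mem_nonZeroDivisors
      (mem_nonZeroDivisors_iff_right.2 fun z hz => hreg.right_eq_zero_of_smul
        (by rwa [smul_eq_mul, mul_comm]))
    have htop : I = ⊤ := Ideal.eq_top_of_isUnit_mem I ha hu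
    rw [htop, Ideal.top_pow] at hk
    simpa using hk 1 Submodule.mem_top
  · obtain ⟨e, rfl⟩ : ∃ e, d = e + 1 := ⟨d - 1, by omega⟩
    let s : (N →₀ R) →ₗ[R] N := Finsupp.linearCombination R id
    have hex : Function.Exact (⇑(LinearMap.ker s).subtype) (⇑s) :=
      LinearMap.exact_subtype_ker_map s
    exact subsingleton_H_right (M := LinearMap.ker s) (N := N →₀ R) (L := N) I (e + 1) (LinearMap.ker s).injective_subtype
      hex (Finsupp.linearCombination_id_surjective R N)
      (subsingleton_H_finsupp N e hfin)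
      (subsingleton_H_of_coheightLT (I := I) (e + 1 + 1) (coheightLT_succ hd _) _ le_rfl)

/-- Non-vanishing in degree `dim R/p` when `p + I` is `m`-primary. -/
theorem nontrivial_H_quotient [IsLocalRing R] (hI : I ≠ ⊤) (p : Ideal R) [p.IsPrime]
    (hpI : (p ⊔ I).radical = maximalIdeal R) (d : ℕ) (hd : ringKrullDim (R ⧸ p) = d) :
    Nontrivial (LocCoh.H I d (R ⧸ p)) := by
  have hle : I ≤ maximalIdeal R := le_maximalIdeal hI
  have htors : LocCoh.IsPowerTorsion p (R ⧸ p) := fun m => ⟨1, fun a ha => by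
    rw [pow_one] at ha
    obtain ⟨m, rfl⟩ := Ideal.Quotient.mk_surjective m
    exact Ideal.Quotient.eq_zero_iff_mem.2 (p.mul_mem_right m ha)⟩
  have hb := HofLE_bijective hle p (i := d) (M := R ⧸ p)
    (by rw [sup_comm, hpI]) htors
  haveI : Nontrivial (LocCoh.H (maximalIdeal R) d (R ⧸ p)) :=
    nontrivial_H_supportDim d (R ⧸ p) (by rw [Module.supportDim_quotient_eq_ringKrullDim, hd])
  exact hb.1.nontrivial

/-- The dimension drops when inverting an element of the Jacobson radical. -/
theorem ringKrullDim_away_le {d : ℕ} (hd : ringKrullDim R ≤ (d + 1 : ℕ)) {x : R}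
    (hx : x ∈ (⊥ : Ideal R).jacobson) (S : Type u) [CommRing S] [Algebra R S]
    [IsLocalization.Away x S] : ringKrullDim S ≤ d := by
  refine iSup_le fun l => ?_
  have hmono : StrictMono (PrimeSpectrum.comap (algebraMap R S)) :=
    Monotone.strictMono_of_injective (fun a b h => Ideal.comap_mono h)
      (PrimeSpectrum.localization_comap_injective S (Submonoid.powers x))
  let l' := LTSeries.map l (PrimeSpectrum.comap (algebraMap R S)) hmono
  obtain ⟨m, hm, hle⟩ := Ideal.exists_le_maximal l'.last.asIdeal l'.last.isPrime.ne_top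
  have hlt : l'.last < (⟨m, hm.isPrime⟩ : PrimeSpectrum R) := by
    refine lt_of_le_of_ne hle fun h => ?_
    have hxm : x ∈ l'.last.asIdeal := by
      rw [h]; exact Ideal.mem_sInf.1 hx ⟨bot_le, hm⟩
    rw [LTSeries.last_map] at hxm
    exact l.last.isPrime.ne_top (Ideal.eq_top_of_isUnit_mem _ (Ideal.mem_comap.1 hxm)
      (IsLocalization.map_units S (⟨x, Submonoid.mem_powers x⟩ : Submonoid.powers x)))
  have h := le_trans (Order.LTSeries.length_le_krullDim (l'.snoc _ hlt)) hd
  have h' : l.length + 1 ≤ d + 1 := by exact_mod_cast h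
  exact WithBot.coe_le_coe.2 (Nat.cast_le.2 (Nat.le_of_succ_le_succ h'))

theorem subsingleton_H_top_step {J : Ideal R} (hIJ : I ≤ J) {x : R} (hJ : J ≤ I ⊔ Ideal.span {x})
    {e : ℕ} (hloc : ∀ (W : Type u) [AddCommGroup W] [Module R W],
      (Function.Bijective fun w : W => x • w) → Subsingleton (LocCoh.H I (e + 1) W))
    (hJv : ∀ (W : Type u) [AddCommGroup W] [Module R W], Subsingleton (LocCoh.H J (e + 1) W))
    (M : Type u) [AddCommGroup M] [Module R M] : Subsingleton (LocCoh.H I (e + 1) M) := by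
  let T : Ideal R := Ideal.span {x}
  have hb : ∀ (i : ℕ) (W : Type u) [AddCommGroup W] [Module R W], LocCoh.IsPowerTorsion T W →
      Function.Bijective (HofLE hIJ i W) := HofLE_bijective hIJ T (hJ.trans Ideal.le_radical)
  let G := gamma T M
  have hG : Subsingleton (LocCoh.H I (e + 1) G) := by
    haveI := hJv G
    exact (hb (e + 1) G (isPowerTorsion_gamma T)).2.subsingleton
  refine subsingleton_H_middle I (e + 1) G.injective_subtype (LinearMap.exact_subtype_mkQ G)
    (Submodule.mkQ_surjective _) hG ?_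
  let Q := M ⧸ G
  have hreg : ∀ q : Q, x • q = 0 → q = 0 := by
    intro q hq
    have : q ∈ gamma T Q := ⟨1, fun a ha => by
      rw [pow_one] at ha
      obtain ⟨c, rfl⟩ := Ideal.mem_span_singleton'.1 ha
      rw [mul_smul, hq, smul_zero]⟩
    rw [gamma_quot_gamma] at this
    exact this
  let S := Submonoid.powers x
  let ι := LocalizedModule.mkLinearMap S Q
  have hι : Function.Injective ι := (injective_iff_map_eq_zero _).2 fun q hq => by
    obtain ⟨c, hc, hcq⟩ := LocalizedModule.mem_ker_mkLinearMap_iff.1 (LinearMap.mem_ker.2 hq)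
    obtain ⟨k, rfl⟩ := hc
    exact LC17.eq_zero_of_pow_smul hreg k q hcq
  have hC : LocCoh.IsPowerTorsion T (LocalizedModule S Q ⧸ LinearMap.range ι) := by
    intro z
    obtain ⟨z, rfl⟩ := Submodule.mkQ_surjective _ z
    induction z using LocalizedModule.induction_on with
    | h q s =>
      obtain ⟨k, hk⟩ : ∃ k, x ^ k = (s : R) := s.2
      refine ⟨k, fun a ha => ?_⟩
      rw [Ideal.span_singleton_pow, Ideal.mem_span_singleton'] at ha
      obtain ⟨c, rfl⟩ := ha
      rw [← map_smul, Submodule.mkQ_apply, Submodule.Quotient.mk_eq_zero, mul_smul, hk]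
      refine Submodule.smul_mem _ c ⟨q, ?_⟩
      rw [LocalizedModule.smul'_mk, LocalizedModule.mkLinearMap_apply]
      exact (LocalizedModule.mk_cancel s q).symm
  have hloc' : Subsingleton (LocCoh.H I (e + 1) (LocalizedModule S Q)) := by
    refine hloc _ ?_
    exact (Module.End.isUnit_iff _).1 (IsLocalizedModule.map_units ι (⟨x, Submonoid.mem_powers x⟩ : S))
  refine subsingleton_of_forall_eq 0 fun y => ?_
  obtain ⟨c, rfl⟩ := Hδ_surjective I e hι (LinearMap.exact_map_mkQ_range ι)
    (Submodule.mkQ_surjective _) hloc' y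
  obtain ⟨c', rfl⟩ := (hb e _ hC).2 c
  haveI := hJv Q
  rw [← HofLE_Hδ, Subsingleton.elim (Hδ J e _ _ _ c') 0, map_zero]

theorem subsingleton_H_top_of_le {d : ℕ} (hd : ringKrullDim R = d) {I' : Ideal R} (hII' : I ≤ I')
    (hJ : I' ≤ (⊥ : Ideal R).jacobson)
    (h : ∀ (M : Type u) [AddCommGroup M] [Module R M], Subsingleton (LocCoh.H I' d M))
    (M : Type u) [AddCommGroup M] [Module R M] (i : ℕ) (hi : d ≤ i) :
    Subsingleton (LocCoh.H I i M) := by
  classical
  rcases lt_or_eq_of_le hi with hlt | rfl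
  · exact subsingleton_H_of_coheightLT (I := I) (d + 1) (coheightLT_succ hd.le _) i hlt
  haveI : Nontrivial R := by
    rw [← not_subsingleton_iff_nontrivial]; intro hs
    rw [ringKrullDim_eq_bot_of_subsingleton] at hd
    exact WithBot.bot_ne_coe hd
  rcases d with _ | e
  · exfalso
    obtain ⟨m, hm⟩ := Ideal.exists_maximal R
    have hIm : I' ≤ m := hJ.trans (fun x hx => Ideal.mem_sInf.1 hx ⟨bot_le, hm⟩)
    have h0 := (subsingleton_H0_iff I' (R ⧸ m)).1 (h (R ⧸ m))
    have h1 : (Ideal.Quotient.mk m 1) ∈ gamma I' (R ⧸ m) := ⟨1, fun a ha => by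
      rw [pow_one] at ha
      exact Ideal.Quotient.eq_zero_iff_mem.2 (m.mul_mem_right 1 (hIm ha))⟩
    rw [h0, Submodule.mem_bot, Ideal.Quotient.eq_zero_iff_mem] at h1
    exact hm.ne_top ((Ideal.eq_top_iff_one m).2 h1)
  obtain ⟨s, hs⟩ := (IsNoetherian.noetherian I' : Submodule.FG I')
  suffices key : ∀ t : Finset R, t ⊆ s → ∀ J : Ideal R, I ≤ J → J ≤ I' →
      I' ≤ J ⊔ Ideal.span (t : Set R) →
      ∀ (W : Type u) [AddCommGroup W] [Module R W], Subsingleton (LocCoh.H J (e + 1) W) from
    key s (Finset.Subset.refl _) I le_rfl hII' (le_sup_of_le_right hs.ge) M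
  intro t
  induction t using Finset.induction with
  | empty =>
    intro _ J hIJ hJI' hle W _ _
    obtain rfl : J = I' := le_antisymm hJI' (by simpa using hle)
    exact h W
  | insert x t hxt ih =>
    intro hts J hIJ hJI' hle W _ _
    have hx : x ∈ I' := hs ▸ Submodule.subset_span (hts (Finset.mem_insert_self x t))
    have hnext := ih ((Finset.subset_insert x t).trans hts) (J ⊔ Ideal.span {x})
      (hIJ.trans le_sup_left) (sup_le hJI' (by rwa [Ideal.span_le, Set.singleton_subset_iff]))
      (hle.trans (by rw [Finset.coe_insert, Ideal.span_insert, sup_assoc]))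
    refine subsingleton_H_top_step J le_sup_left le_rfl (fun V _ _ hV => ?_) hnext W
    let S := Submonoid.powers x
    let L := LocalizedModule S V
    haveI : IsScalarTower R (Localization.Away x) L := inferInstance
    let j : V ≃ₗ[R] L := LinearEquiv.ofBijective (LocalizedModule.mkLinearMap S V) (by
      have hinj : ∀ v : V, x • v = 0 → v = 0 := fun v hv => hV.1 (hv.trans (smul_zero x).symm)
      refine ⟨(injective_iff_map_eq_zero _).2 fun q hq => ?_, fun z => ?_⟩
      · obtain ⟨c, hc, hcq⟩ := LocalizedModule.mem_ker_mkLinearMap_iff.1 (LinearMap.mem_ker.2 hq)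
        obtain ⟨k, rfl⟩ := hc
        exact LC17.eq_zero_of_pow_smul hinj k q hcq
      · induction z using LocalizedModule.induction_on with
        | h q c =>
          obtain ⟨k, hk⟩ : ∃ k, x ^ k = (c : R) := c.2
          obtain ⟨q', hq'⟩ : ∃ q', x ^ k • q' = q := by
            clear hk
            induction k generalizing q with
            | zero => exact ⟨q, by rw [pow_zero, one_smul]⟩
            | succ k ihk =>
              obtain ⟨v, rfl⟩ := hV.2 q
              obtain ⟨v', rfl⟩ := ihk v
              exact ⟨v', by rw [pow_succ', mul_smul]⟩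
          refine ⟨q', ?_⟩
          rw [← hq', hk, LocalizedModule.mkLinearMap_apply]
          exact (LocalizedModule.mk_cancel c q').symm)
    obtain ⟨φ, -⟩ := LC16.ChangeRings.exists_equiv J (R' := Localization.Away x) (e + 1) L
    have hsub := subsingleton_H_of_coheightLT
      (I := J.map (algebraMap R (Localization.Away x))) (e + 1)
      (coheightLT_succ (ringKrullDim_away_le hd.le (hJ hx) (Localization.Away x)) L) (e + 1) le_rfl
    exact (Hequiv J (e + 1) j).toEquiv.subsingleton_congr.2 (φ.toEquiv.subsingleton_congr.1 hsub)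

end Groth.Agent.LC15
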