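import Groth.Agent.LC15.Dim
import Groth.Agent.LC17.IDepth
import Mathlib.RingTheory.Artinian.Module
import Mathlib.RingTheory.HopkinsLevitzki
import Mathlib.RingTheory.Ideal.AssociatedPrime.Localization
import Mathlib.RingTheory.Spectrum.Prime.Basic

set_option autoImplicit false

universe u v

open scoped Pointwise

namespace Groth.Agent.LC15

section Torsion

variable {R : Type u} [CommRing R]

/-- A module of `x`-power torsion with Artinian `x`-torsion is Artinian. -/
theorem isArtinian_of_pow_torsion_single (x : R) {M : Type v} [AddCommGroup M] [Module R M]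
    (ht : ∀ m : M, ∃ n : ℕ, x ^ n • m = 0) (hA : IsArtinian R (Submodule.torsionBy R M x)) :
    IsArtinian R M := by
  classical
  rw [← monotone_stabilizes_iff_artinian]
  intro f
  let N : ℕ → Submodule R M := fun i => f i
  have hN : ∀ i j, i ≤ j → N j ≤ N i := fun i j h => f.monotone h
  let K := Submodule.torsionBy R M x
  let L : ℕ → ℕ → Submodule R K := fun i n =>
    Submodule.comap K.subtype ((N i).map (LinearMap.lsmul R M (x ^ n)))
  have hLi : ∀ i j n, i ≤ j → L j n ≤ L i n := fun i j n h =>
    Submodule.comap_mono (Submodule.map_mono (hN i j h))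
  have hLn : ∀ i n, L i (n + 1) ≤ L i n := by
    intro i n
    refine Submodule.comap_mono ?_
    rintro _ ⟨y, hy, rfl⟩
    exact ⟨x • y, (N i).smul_mem x hy, by
      simp only [LinearMap.lsmul_apply, pow_succ, mul_smul]⟩
  have hLn' : ∀ i n m, n ≤ m → L i m ≤ L i n := by
    intro i n m h
    induction m, h using Nat.le_induction with
    | base => exact le_rfl
    | succ m _ ih => exact (hLn i m).trans ih
  obtain ⟨_, ⟨⟨i₀, n₀⟩, rfl⟩, hmin⟩ := IsArtinian.set_has_minimal
    (Set.range fun p : ℕ × ℕ => L p.1 p.2) (Set.range_nonempty _)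
  have hbig : ∀ i n, i₀ ≤ i → n₀ ≤ n → L i n = L i₀ n₀ := fun i n hi hn =>
    eq_of_le_of_not_lt ((hLi i₀ i n hi).trans (hLn' i₀ n₀ n hn)) (hmin _ ⟨(i, n), rfl⟩)
  have hsmall : ∀ n, ∃ i₁, ∀ i, i₁ ≤ i → L i₁ n = L i n := by
    intro n
    obtain ⟨i₁, h⟩ := monotone_stabilizes_iff_artinian.2 hA
      ⟨fun i => OrderDual.toDual (L i n), fun a b h => hLi a b n h⟩
    exact ⟨i₁, h⟩
  choose s hs using hsmall
  refine ⟨max i₀ ((Finset.range n₀).sup s), fun i hi => ?_⟩
  let i₁ := max i₀ ((Finset.range n₀).sup s)
  have hi₀ : i₀ ≤ i₁ := le_max_left _ _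
  have hLeq : ∀ n, L i₁ n = L i n := by
    intro n
    by_cases hn : n₀ ≤ n
    · rw [hbig i₁ n hi₀ hn, hbig i n (hi₀.trans hi) hn]
    · have h1 : s n ≤ i₁ :=
        (Finset.le_sup (Finset.mem_range.2 (by omega))).trans (le_max_right _ _)
      exact (hs n i₁ h1).symm.trans (hs n i (h1.trans hi))
  have key : ∀ n, ∀ y ∈ N i₁, x ^ n • y = 0 → y ∈ N i := by
    intro n
    induction n with
    | zero => intro y _ hy; rw [pow_zero, one_smul] at hy; rw [hy]; exact zero_mem _
    | succ n ih =>
      intro y hy hxy
      have hK : x ^ n • y ∈ K := by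
        rw [Submodule.mem_torsionBy_iff, ← mul_smul, ← pow_succ']
        exact hxy
      have hmem : (⟨x ^ n • y, hK⟩ : K) ∈ L i₁ n := ⟨y, hy, rfl⟩
      rw [hLeq] at hmem
      obtain ⟨z, hz, hzy⟩ := hmem
      have hzy' : x ^ n • z = x ^ n • y := hzy
      have h2 := ih (y - z) (sub_mem hy (hN _ _ hi hz)) (by rw [smul_sub, hzy', sub_self])
      exact sub_add_cancel y z ▸ add_mem h2 hz
  have h3 : N i₁ = N i := le_antisymm (fun y hy => by
    obtain ⟨n, hn⟩ := ht y
    exact key n y hy hn) (hN i₁ i hi)
  exact h3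

theorem isArtinian_of_pow_torsion_finset (s : Finset R) :
    ∀ {M : Type v} [AddCommGroup M] [Module R M],
      (∀ x ∈ s, ∀ m : M, ∃ n : ℕ, x ^ n • m = 0) →
      IsArtinian R (Submodule.torsionBySet R M (s : Set R)) → IsArtinian R M := by
  classical
  induction s using Finset.induction with
  | empty =>
    intro M _ _ _ hA
    exact isArtinian_of_injective
      ((LinearMap.id : M →ₗ[R] M).codRestrict (Submodule.torsionBySet R M ((∅ : Finset R) : Set R))
        fun m => by simp [Submodule.mem_torsionBySet_iff]) fun a b h => congrArg Subtype.val h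
  | insert x s hx ih =>
    intro M _ _ ht hA
    refine ih (fun y hy => ht y (Finset.mem_insert_of_mem hy)) ?_
    let K := Submodule.torsionBySet R M (s : Set R)
    refine isArtinian_of_pow_torsion_single x (M := K) (fun m => ?_) ?_
    · obtain ⟨n, hn⟩ := ht x (Finset.mem_insert_self x s) (m : M)
      exact ⟨n, Subtype.ext hn⟩
    · refine isArtinian_of_injective
        ((K.subtype.comp (Submodule.torsionBy R K x).subtype).codRestrict
          (Submodule.torsionBySet R M ((insert x s : Finset R) : Set R)) fun m => ?_)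
        fun a b h => Subtype.ext (Subtype.ext (congrArg Subtype.val h :))
      rw [Submodule.mem_torsionBySet_iff]
      rintro ⟨a, ha⟩
      rcases Finset.mem_insert.1 ha with rfl | ha
      · exact congrArg Subtype.val ((Submodule.mem_torsionBy_iff _ _).1 m.2)
      · exact (Submodule.mem_torsionBySet_iff _ _).1 m.1.2 ⟨a, ha⟩

theorem isArtinian_of_powerTorsion {I : Ideal R} (hI : I.FG) {M : Type v} [AddCommGroup M]
    [Module R M] (hM : LocCoh.IsPowerTorsion I M)
    (hA : IsArtinian R (LocCoh.torsionBy I M)) : IsArtinian R M := by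
  obtain ⟨s, rfl⟩ := hI
  refine isArtinian_of_pow_torsion_finset s (fun x hx m => ?_) ?_
  · obtain ⟨n, hn⟩ := hM m
    exact ⟨n, hn _ (Ideal.pow_mem_pow (Submodule.subset_span hx) n)⟩
  · rw [Submodule.torsionBySet_eq_torsionBySet_span]
    exact hA

end Torsion

variable {R : Type u} [CommRing R] [IsNoetherianRing R] {I : Ideal R}

theorem isArtinian_of_support_maximal (M : Type u) [AddCommGroup M] [Module R M] [Module.Finite R M]
    (h : ∀ p ∈ Module.support R M, p.asIdeal.IsMaximal) : IsArtinian R M := by
  let J := Module.annihilator R M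
  haveI : Ring.KrullDimLE 0 (R ⧸ J) := by
    rw [Ring.krullDimLE_zero_iff]
    intro q hq
    have hp : (q.comap (Ideal.Quotient.mk J)).IsMaximal := by
      refine h ⟨_, Ideal.comap_isPrime _ q⟩ ?_
      rw [Module.support_eq_zeroLocus]
      intro a ha
      change Ideal.Quotient.mk J a ∈ q
      rw [Ideal.Quotient.eq_zero_iff_mem.2 ha]
      exact zero_mem q
    rw [← Ideal.map_comap_of_surjective _ Ideal.Quotient.mk_surjective q]
    exact (Ideal.map_eq_top_or_isMaximal_of_surjective _ Ideal.Quotient.mk_surjective hp).resolve_left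
      fun htop => hq.ne_top (by rwa [Ideal.map_comap_of_surjective _ Ideal.Quotient.mk_surjective] at htop)
  haveI : IsArtinianRing (R ⧸ J) := isArtinianRing_iff_krullDimLE_zero.2 inferInstance
  letI : Module (R ⧸ J) M := (Module.isTorsionBySet_annihilator R M).module
  haveI : IsScalarTower R (R ⧸ J) M := Module.IsTorsionBySet.isScalarTower _
  haveI : Module.Finite (R ⧸ J) M := Module.Finite.of_restrictScalars_finite R (R ⧸ J) M
  exact isArtinian_of_surjective_algebraMap (R := R ⧸ J) (S := R) Ideal.Quotient.mk_surjective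

theorem coheightLT_of_supportDim {M : Type u} [AddCommGroup M] [Module R M] {n : ℕ}
    (h : Module.supportDim R M ≤ (n : WithBot ℕ∞)) : CoheightLT R M (n + 1) := by
  intro p hp
  have h1 : (Order.coheight p : WithBot ℕ∞) ≤ Module.supportDim R M := by
    rw [Order.coheight_eq_krullDim_Ici]
    exact Order.krullDim_le_of_strictMono
      (fun q : Set.Ici p => (⟨q.1, Module.mem_support_mono q.2 hp⟩ : Module.support R M))
      fun a b hab => hab
  rw [Nat.cast_succ, ENat.lt_add_one_iff (ENat.coe_ne_top n)]
  exact WithBot.coe_le_coe.1 (h1.trans h)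

theorem coheightLT_of_injective {M N : Type u} [AddCommGroup M] [Module R M] [AddCommGroup N]
    [Module R N] {d : ℕ} (f : M →ₗ[R] N) (hf : Function.Injective f) (h : CoheightLT R N d) :
    CoheightLT R M d :=
  fun p hp => h p (Module.support_subset_of_injective f hf hp)

theorem coheightLT_of_surjective {M N : Type u} [AddCommGroup M] [Module R M] [AddCommGroup N]
    [Module R N] {d : ℕ} (f : M →ₗ[R] N) (hf : Function.Surjective f) (h : CoheightLT R M d) :
    CoheightLT R N d :=
  fun p hp => h p (Module.support_subset_of_surjective f hf hp)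

/-- Cutting by a regular element lowers the dimension. -/
theorem coheightLT_quotSMulTop {M : Type u} [AddCommGroup M] [Module R M] [Module.Finite R M]
    {d : ℕ} {x : R} (hx : IsSMulRegular M x) (h : CoheightLT R M (d + 1)) :
    CoheightLT R (QuotSMulTop x M) d := by
  intro q hq
  rw [Module.support_quotSMulTop] at hq
  have hqM := hq.1
  have hxq : x ∈ q.asIdeal := hq.2 rfl
  have hle : Module.annihilator R M ≤ q.asIdeal := Module.annihilator_le_of_mem_support hqM
  obtain ⟨P, hP, hPq⟩ := Ideal.exists_minimalPrimes_le (J := q.asIdeal) hle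
  have hass := Module.associatedPrimes.minimalPrimes_annihilator_subset_associatedPrimes R M hP
  have hxP : x ∉ P := fun hxP => by
    have h' : x ∈ ⋃ p ∈ associatedPrimes R M, (p : Set R) := Set.mem_biUnion hass hxP
    rw [biUnion_associatedPrimes_eq_compl_regular R] at h'
    exact h' hx
  have hPp : P.IsPrime := hP.1.1
  have hPM : (⟨P, hPp⟩ : PrimeSpectrum R) ∈ Module.support R M := by
    rw [Module.support_eq_zeroLocus]
    exact hP.1.2
  have hlt : (⟨P, hPp⟩ : PrimeSpectrum R) < q :=
    lt_of_le_of_ne hPq fun he => hxP (by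
      have : x ∈ (⟨P, hPp⟩ : PrimeSpectrum R).asIdeal := he ▸ hxq
      exact this)
  have h1 := (Order.coheight_add_one_le hlt).trans_lt (h _ hPM)
  rw [Nat.cast_succ] at h1
  by_contra hd
  exact absurd h1 (not_lt.2 (by gcongr; exact not_lt.1 hd))

variable (I)

theorem isArtinian_H_of_torsionBy (i : ℕ) (x : R) (hx : x ∈ I) {M : Type u} [AddCommGroup M]
    [Module R M] (hreg : IsSMulRegular M x) (hA : IsArtinian R (LocCoh.H I i (QuotSMulTop x M))) :
    IsArtinian R (LocCoh.H I (i + 1) M) := by
  have hses := LC17.regular_ses hreg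
  let δ := Hδ I i hses.1 hses.2 (Submodule.mkQ_surjective _)
  refine isArtinian_of_pow_torsion_single x (fun m => ?_) ?_
  · obtain ⟨n, hn⟩ := isPowerTorsion_H I (i + 1) m
    exact ⟨n, hn _ (Ideal.pow_mem_pow hx n)⟩
  · have heq : Submodule.torsionBy R (LocCoh.H I (i + 1) M) x = LinearMap.range δ := by
      ext y
      rw [Submodule.mem_torsionBy_iff, ← Hmap_lsmul I (i + 1) x y]
      exact H_exact₁ I i hses.1 hses.2 (Submodule.mkQ_surjective _) y
    rw [heq]
    haveI : IsArtinian R (LocCoh.H I i (M ⧸ x • (⊤ : Submodule R M))) := hA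
    exact isArtinian_of_surjective _ δ.rangeRestrict δ.surjective_rangeRestrict

theorem isArtinian_H_of_quot_gamma {i : ℕ} (hi : 0 < i) (M : Type u) [AddCommGroup M] [Module R M]
    (h : IsArtinian R (LocCoh.H I i (M ⧸ gamma I M))) : IsArtinian R (LocCoh.H I i M) :=
  isArtinian_of_injective _ (Hmap_mkQ_gamma_bijective I (M := M) hi).1

theorem isArtinian_H_maximalIdeal [IsLocalRing R] (i : ℕ) :
    ∀ (M : Type u) [AddCommGroup M] [Module R M] [Module.Finite R M],
      IsArtinian R (LocCoh.H (IsLocalRing.maximalIdeal R) i M) := by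
  induction i with
  | zero =>
    intro M _ _ _
    haveI : IsArtinian R (gamma (IsLocalRing.maximalIdeal R) M) := by
      refine isArtinian_of_support_maximal _ fun p hp => ?_
      have hle : IsLocalRing.maximalIdeal R ≤ p.asIdeal := fun a ha => by
        obtain ⟨m, hm⟩ := Module.mem_support_iff'.1 hp
        obtain ⟨n, hn⟩ := isPowerTorsion_gamma (IsLocalRing.maximalIdeal R) (M := M) m
        by_contra hna
        exact hm (a ^ n) (fun h => hna (p.isPrime.mem_of_pow_mem n h)) (hn _ (Ideal.pow_mem_pow ha n))
      rw [← (IsLocalRing.maximalIdeal.isMaximal R).eq_of_le p.isPrime.ne_top hle]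
      exact IsLocalRing.maximalIdeal.isMaximal R
    exact isArtinian_of_injective _ (H0equiv (IsLocalRing.maximalIdeal R) M).injective
  | succ i ih =>
    intro M _ _ _
    refine isArtinian_H_of_quot_gamma _ i.succ_pos M ?_
    obtain ⟨x, hx, hreg⟩ := LC17.exists_isSMulRegular_mem
      (gamma_quot_gamma (IsLocalRing.maximalIdeal R) (M := M))
    exact isArtinian_H_of_torsionBy _ i x hx hreg (ih _)

/-- The top local cohomology of a finite module is Artinian. -/
theorem isArtinian_H_top (n : ℕ) :
    ∀ (M : Type u) [AddCommGroup M] [Module R M] [Module.Finite R M],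
      CoheightLT R M (n + 1) → IsArtinian R (LocCoh.H I n M) := by
  induction n with
  | zero =>
    intro M _ _ _ hM
    haveI : IsArtinian R (gamma I M) := isArtinian_of_support_maximal _ fun p hp => by
      have := coheightLT_of_injective (gamma I M).subtype (Submodule.injective_subtype _) hM p hp
      rw [Nat.cast_one, ENat.lt_one_iff_eq_zero, Order.coheight_eq_zero, PrimeSpectrum.isMax_iff] at this
      exact this
    exact isArtinian_of_injective _ (H0equiv I M).injective
  | succ n ih =>
    intro M _ _ _ hM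
    refine isArtinian_H_of_quot_gamma I n.succ_pos M ?_
    obtain ⟨x, hx, hreg⟩ := LC17.exists_isSMulRegular_mem (gamma_quot_gamma I (M := M))
    exact isArtinian_H_of_torsionBy I n x hx hreg (ih _ (coheightLT_quotSMulTop hreg
      (coheightLT_of_surjective _ (Submodule.mkQ_surjective _) hM)))

end Groth.Agent.LC15
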