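import Groth.Agent.EGA4H10.Catenary
import Groth.Agent.LC16.CanonDim
import Groth.Agent.S0335
import Groth.Prelude.Def_CAlg

/-!
Catenary local rings whose primes of height at least two have depth at least two are equidimensional.
-/

namespace Groth.Agent.LC15.Equidim

universe u

set_option autoImplicit false

open IsLocalRing Groth.Agent.EGA4H10

variable {R : Type u} [CommRing R] [IsNoetherianRing R] [IsLocalRing R]

theorem dim_covBy (hc : CAlg.IsCatenary R) {p q : PrimeSpectrum R} (h : p ⋖ q) :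
    ringKrullDim (R ⧸ p.asIdeal) = ringKrullDim (R ⧸ q.asIdeal) + 1 := by
  obtain ⟨t, ht, hth, htl⟩ := exists_saturated q (closedPoint R) (le_maximalIdeal q.isPrime.ne_top)
  rw [dim_quotient_eq_length hc q t ht hth htl]
  have hlast : ((RelSeries.singleton _ p).snoc q (show (RelSeries.singleton _ p : LTSeries _).last < q from h.lt) :
      LTSeries (PrimeSpectrum R)).last = t.head := by rw [RelSeries.last_snoc, hth]
  rw [dim_quotient_eq_length hc p _ (saturated_smash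
      (saturated_snoc (saturated_singleton p) h) ht hlast)
    (by rw [RelSeries.head_smash, RelSeries.head_snoc]; rfl) (by rw [RelSeries.last_smash, htl]),
    RelSeries.smash_length, RelSeries.snoc_length, RelSeries.singleton_length]
  push_cast
  rw [add_comm]

theorem height_le_one (hd : ∀ p : PrimeSpectrum R, (2 : ℕ∞) ≤ p.asIdeal.height →
      (2 : ℕ∞) ≤ LocCoh.depth (Localization.AtPrime p.asIdeal) (Localization.AtPrime p.asIdeal))
    (a b P : Ideal R) (hPmin : P ∈ (a ⊔ b).minimalPrimes)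
    (hcov : ∀ q : Ideal R, q.IsPrime → a ≤ q ∨ b ≤ q)
    (ha : ∃ p : Ideal R, p.IsPrime ∧ a ≤ p ∧ p < P) (hb : ∃ p : Ideal R, p.IsPrime ∧ b ≤ p ∧ p < P) :
    P.height ≤ 1 := by
  have : P.IsPrime := hPmin.1.1
  by_contra h2
  set A := Localization.AtPrime P
  have hdepth : 2 ≤ LocCoh.depth A A :=
    hd ⟨P, hPmin.1.1⟩ (Order.add_one_le_of_lt (not_le.1 h2))
  have hconn := (S0335.result A hdepth).isPreconnected
  rw [isPreconnected_closed_iff] at hconn
  set U : Set (PrimeSpectrum A) := {x | x.asIdeal ≠ maximalIdeal A}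
  have hcomap : ∀ x : PrimeSpectrum A, x ∈ U → (x.asIdeal.comap (algebraMap R A)) < P := by
    intro x hx
    have hle : x.asIdeal.comap (algebraMap R A) ≤ P := fun y hy =>
      (IsLocalization.AtPrime.to_map_mem_maximal_iff A P y).1
        (IsLocalRing.le_maximalIdeal x.isPrime.ne_top hy)
    refine hle.lt_of_ne fun h => hx ?_
    exact (IsLocalization.map_under P.primeCompl A x.asIdeal).symm.trans
      ((congrArg (Ideal.map (algebraMap R A)) h).trans Localization.AtPrime.map_eq_maximalIdeal)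
  have hlift : ∀ p : Ideal R, p.IsPrime → p < P → ∃ x ∈ U, x.asIdeal.comap (algebraMap R A) = p := by
    intro p hp hpP
    have hd : Disjoint (P.primeCompl : Set R) p :=
      Set.disjoint_left.2 fun y hy hyp => hy (hpP.le hyp)
    refine ⟨⟨p.map (algebraMap R A), IsLocalization.isPrime_of_isPrime_disjoint P.primeCompl A p hp hd⟩,
      fun h => ?_, IsLocalization.under_map_of_isPrime_disjoint P.primeCompl A hp hd⟩
    have := congrArg (Ideal.comap (algebraMap R A)) h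
    exact hpP.ne ((IsLocalization.under_map_of_isPrime_disjoint P.primeCompl A hp hd).symm.trans
      (this.trans Localization.AtPrime.under_maximalIdeal))
  obtain ⟨p₁, hp₁, hap₁, hlt₁⟩ := ha
  obtain ⟨p₂, hp₂, hbp₂, hlt₂⟩ := hb
  obtain ⟨x₁, hx₁, hx₁'⟩ := hlift p₁ hp₁ hlt₁
  obtain ⟨x₂, hx₂, hx₂'⟩ := hlift p₂ hp₂ hlt₂
  obtain ⟨x, hxU, hxa, hxb⟩ := hconn
    (PrimeSpectrum.zeroLocus (a.map (algebraMap R A) : Set A))
    (PrimeSpectrum.zeroLocus (b.map (algebraMap R A) : Set A))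
    (PrimeSpectrum.isClosed_zeroLocus _) (PrimeSpectrum.isClosed_zeroLocus _)
    (fun x _ => (hcov (x.asIdeal.comap (algebraMap R A)) inferInstance).imp
      (fun h => Ideal.map_le_iff_le_comap.2 h) fun h => Ideal.map_le_iff_le_comap.2 h)
    ⟨x₁, hx₁, Ideal.map_le_iff_le_comap.2 (hx₁' ▸ hap₁)⟩
    ⟨x₂, hx₂, Ideal.map_le_iff_le_comap.2 (hx₂' ▸ hbp₂)⟩
  have hlt := hcomap x hxU
  exact hlt.not_ge (hPmin.2 ⟨Ideal.comap_isPrime _ _, sup_le (Ideal.map_le_iff_le_comap.1 hxa)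
    (Ideal.map_le_iff_le_comap.1 hxb)⟩ hlt.le)

theorem ringKrullDim_quotient_eq (hc : CAlg.IsCatenary R)
    (hd : ∀ p : PrimeSpectrum R, (2 : ℕ∞) ≤ p.asIdeal.height →
      (2 : ℕ∞) ≤ LocCoh.depth (Localization.AtPrime p.asIdeal) (Localization.AtPrime p.asIdeal))
    (p : Ideal R) (hp : p ∈ minimalPrimes R) : ringKrullDim (R ⧸ p) = ringKrullDim R := by
  classical
  by_contra hne
  have hfin := minimalPrimes.finite_of_isNoetherianRing R
  let P1 := hfin.toFinset.filter fun q => ringKrullDim (R ⧸ q) = ringKrullDim R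
  let P2 := hfin.toFinset.filter fun q => ¬ ringKrullDim (R ⧸ q) = ringKrullDim R
  let a : Ideal R := P1.inf id
  let b : Ideal R := P2.inf id
  have hmin : ∀ q ∈ minimalPrimes R, q ∈ P1 ∨ q ∈ P2 := fun q hq => by
    by_cases h : ringKrullDim (R ⧸ q) = ringKrullDim R
    · exact Or.inl (Finset.mem_filter.mpr ⟨hfin.mem_toFinset.mpr hq, h⟩)
    · exact Or.inr (Finset.mem_filter.mpr ⟨hfin.mem_toFinset.mpr hq, h⟩)
  have hcov : ∀ q : Ideal R, q.IsPrime → a ≤ q ∨ b ≤ q := fun q hq => by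
    obtain ⟨r, hr, hrq⟩ := Ideal.exists_minimalPrimes_le (bot_le : (⊥ : Ideal R) ≤ q)
    exact (hmin r hr).imp (fun h => (Finset.inf_le (f := id) h).trans hrq)
      fun h => (Finset.inf_le (f := id) h).trans hrq
  have hsup : a ⊔ b ≤ maximalIdeal R := by
    refine sup_le ?_ ?_
    · obtain ⟨d, hd⟩ := ENat.ne_top_iff_exists.mp
        (Ideal.height_ne_top (I := maximalIdeal R) (maximalIdeal.isMaximal R).ne_top)
      have hdim : ringKrullDim R = ((d : ℕ) : WithBot ℕ∞) := by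
        rw [← maximalIdeal_height_eq_ringKrullDim, ← hd]; rfl
      obtain ⟨q, -, hq⟩ := LC16.CanonDim.exists_prime_of_le_supportDim (R := R) (M := R) (n := d)
        (by rw [Module.supportDim_self_eq_ringKrullDim, hdim])
      obtain ⟨r, hr, hrq⟩ := Ideal.exists_minimalPrimes_le (bot_le : (⊥ : Ideal R) ≤ q.asIdeal)
      have hmem : r ∈ P1 := Finset.mem_filter.mpr ⟨hfin.mem_toFinset.mpr hr, le_antisymm
        (ringKrullDim_quotient_le r) ((hdim.le.trans hq).trans
          (ringKrullDim_le_of_surjective (Ideal.Quotient.factor hrq)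
            (Ideal.Quotient.factor_surjective hrq)))⟩
      exact (Finset.inf_le (f := id) hmem).trans (le_maximalIdeal hr.1.1.ne_top)
    · exact (Finset.inf_le (f := id) (Finset.mem_filter.mpr ⟨hfin.mem_toFinset.mpr hp, hne⟩ : p ∈ P2)).trans
        (le_maximalIdeal hp.1.1.ne_top)
  obtain ⟨P, hP, -⟩ := Ideal.exists_minimalPrimes_le hsup
  haveI : P.IsPrime := hP.1.1
  obtain ⟨p₁, hp₁, hle₁⟩ := (Ideal.IsPrime.inf_le' ‹P.IsPrime›).1 (le_sup_left.trans hP.1.2)
  obtain ⟨p₂, hp₂, hle₂⟩ := (Ideal.IsPrime.inf_le' ‹P.IsPrime›).1 (le_sup_right.trans hP.1.2)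
  obtain ⟨hp₁', he₁⟩ := Finset.mem_filter.mp hp₁
  obtain ⟨hp₂', he₂⟩ := Finset.mem_filter.mp hp₂
  replace hp₁' := hfin.mem_toFinset.mp hp₁'
  replace hp₂' := hfin.mem_toFinset.mp hp₂'
  have hne' : p₁ ≠ p₂ := fun e => he₂ (e ▸ he₁)
  have hlt₁ : p₁ < P := lt_of_le_of_ne hle₁ fun e => hne' (le_antisymm
    (hp₁'.2 ⟨hp₂'.1.1, bot_le⟩ (e.symm ▸ hle₂)) (e.symm ▸ hle₂))
  have hlt₂ : p₂ < P := lt_of_le_of_ne hle₂ fun e => hne' (le_antisymm
    (e.symm ▸ hle₁) (hp₂'.2 ⟨hp₁'.1.1, bot_le⟩ (e.symm ▸ hle₁)))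
  have hht := height_le_one hd a b P hP hcov
    ⟨p₁, hp₁'.1.1, Finset.inf_le (f := id) hp₁, hlt₁⟩ ⟨p₂, hp₂'.1.1, Finset.inf_le (f := id) hp₂, hlt₂⟩
  have hcovBy : ∀ (r : Ideal R) (hr : r ∈ minimalPrimes R), r < P →
      (⟨r, hr.1.1⟩ : PrimeSpectrum R) ⋖ ⟨P, inferInstance⟩ := by
    intro r hr hlt
    refine ⟨hlt, fun t h1 h2 => ?_⟩
    haveI := hr.1.1
    have e1 := Ideal.height_add_one_le_of_lt_of_isPrime (show r < t.asIdeal from h1)
    have e2 := Ideal.height_add_one_le_of_lt_of_isPrime (show t.asIdeal < P from h2)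
    have h5 : (1 : ℕ∞) + 1 ≤ 1 := (add_le_add (le_add_self.trans e1) le_rfl).trans (e2.trans hht)
    norm_num at h5
  exact he₂ ((dim_covBy hc (hcovBy p₂ hp₂' hlt₂)).trans
    ((dim_covBy hc (hcovBy p₁ hp₁' hlt₁)).symm.trans he₁))

end Groth.Agent.LC15.Equidim
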