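import Groth.Prelude.Def_DualLC
import Groth.Agent.EGA4H10.FlatSk
import Groth.Agent.EGA4H10.FlatCatenary
import Groth.Agent.LC16.RelCodim
import Groth.Agent.LC17.Chain

/-!
The cutoff `s_{A,I}(M)` along flat algebras whose quotients `B/pB` are catenary and equidimensional.
-/

namespace Groth.Agent.LC15.CutoffFlat

universe u

set_option autoImplicit false
set_option linter.unusedSectionVars false
set_option linter.style.haveILetI false
set_option linter.overlappingInstances false

open IsLocalRing TensorProduct Groth.Agent.EGA4H10 LC17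

/-- the general formula for the cutoff -/
theorem le_cutoff_iff {A : Type u} [CommRing A] {I : Ideal A} {M : Type u} [AddCommGroup M]
    [Module A M] {c : ℕ∞} :
    c ≤ Dual2.cutoff A I M ↔ ∀ p q : PrimeSpectrum A, p ≤ q → ¬ I ≤ p.asIdeal → I ≤ q.asIdeal →
      c ≤ LocCoh.depth (Localization.AtPrime p.asIdeal) (LocalizedModule p.asIdeal.primeCompl M) +
        htq p.asIdeal q.asIdeal := by
  simp only [Dual2.cutoff, le_iInf_iff, LC16.RelCodim.height_ici]

theorem cutoff_le {A : Type u} [CommRing A] {I : Ideal A} {M : Type u} [AddCommGroup M]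
    [Module A M] (p q : PrimeSpectrum A) (h : p ≤ q) (hp : ¬ I ≤ p.asIdeal) (hq : I ≤ q.asIdeal) :
    Dual2.cutoff A I M ≤
      LocCoh.depth (Localization.AtPrime p.asIdeal) (LocalizedModule p.asIdeal.primeCompl M) +
        htq p.asIdeal q.asIdeal :=
  le_cutoff_iff.mp le_rfl p q h hp hq

theorem htq_eq_of_coverSucc {B : Type u} [CommRing B] [IsNoetherianRing B] {J P Q : Ideal B}
    [P.IsPrime] [Q.IsPrime] (hJP : J ≤ P) (hPQ : P ≤ Q) (hC : CoverSucc (B ⧸ J)) :
    htq J Q = htq J P + htq P Q := by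
  refine le_antisymm ?_ (htq_add_le hJP hPQ)
  let Pb : PrimeSpectrum (B ⧸ J) := ⟨P.map (Ideal.Quotient.mk J), isPrime_map_mk hJP⟩
  let Qb : PrimeSpectrum (B ⧸ J) := ⟨Q.map (Ideal.Quotient.mk J), isPrime_map_mk (hJP.trans hPQ)⟩
  obtain ⟨s, hs, hh, hl⟩ := exists_saturated Pb Qb (Ideal.map_mono hPQ)
  have h1 : htq J Q = htq J P + s.length := by
    have h := height_saturated hC s hs
    rw [hh, hl] at h
    exact h
  rw [h1]
  refine add_le_add le_rfl ?_
  have key : ∀ i : ℕ, ∀ hi : i ≤ s.length,
      (i : ℕ∞) ≤ htq P ((s ⟨i, by omega⟩).asIdeal.comap (Ideal.Quotient.mk J)) := by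
    intro i
    induction i with
    | zero => intro _; simp
    | succ i ih =>
      intro hi
      have hlt := comap_mk_lt (show (s ⟨i, by omega⟩).asIdeal < (s ⟨i + 1, by omega⟩).asIdeal from
        s.step ⟨i, by omega⟩)
      have hP : P ≤ (s ⟨i, by omega⟩).asIdeal.comap (Ideal.Quotient.mk J) := by
        have h0 := Ideal.comap_mono (f := Ideal.Quotient.mk J)
          (show s.head.asIdeal ≤ (s ⟨i, by omega⟩).asIdeal from s.head_le _)
        rw [hh, comap_map_mk' hJP] at h0
        exact h0
      push_cast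
      exact le_trans (add_le_add (ih (by omega)) le_rfl) (htq_add_one_le hP hlt)
  refine (key s.length le_rfl).trans_eq ?_
  rw [show s ⟨s.length, by omega⟩ = Qb from hl, comap_map_mk' (hJP.trans hPQ)]

variable {A B : Type u} [CommRing A] [CommRing B] [IsNoetherianRing A] [IsNoetherianRing B]
  [Algebra A B] [Module.Flat A B]

theorem htq_le_map {p q : Ideal A} [p.IsPrime] [q.IsPrime] (Q : Ideal B) [Q.IsPrime]
    (hpq : p ≤ q) (hQ : Q.comap (algebraMap A B) = q) :
    htq p q ≤ htq (p.map (algebraMap A B)) Q := by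
  suffices H : ∀ (n : ℕ) (q : Ideal A) [q.IsPrime] (Q : Ideal B) [Q.IsPrime], p ≤ q →
      Q.comap (algebraMap A B) = q → (n : ℕ∞) ≤ htq p q →
      (n : ℕ∞) ≤ htq (p.map (algebraMap A B)) Q by
    obtain ⟨n, hn⟩ := exists_htq_eq hpq
    rw [hn]
    exact H n q Q hpq hQ hn.ge
  intro n
  induction n with
  | zero => intro q _ Q _ _ _ _; simp
  | succ n ih =>
    intro q _ Q _ hpq hQ h
    obtain ⟨t, ht, h1, h2, h3⟩ := exists_prime_below hpq h
    obtain ⟨T, hT, hTQ, hTc, -, -⟩ := exists_minimal_over t q h2.le Q hQ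
    have hlt : T < Q := lt_of_le_of_ne hTQ fun e => h2.ne (by rw [← hTc, e, hQ])
    push_cast
    exact le_trans (add_le_add (ih t T h1 hTc h3) le_rfl)
      (htq_add_one_le (Ideal.map_le_iff_le_comap.mpr (h1.trans hTc.ge)) hlt)

omit [Module.Flat A B] in
theorem map_le_of_minimal {p q : Ideal A} [p.IsPrime] [q.IsPrime] (Q : Ideal B) [Q.IsPrime]
    (hpq : p ≤ q) (hQ : Q.comap (algebraMap A B) = q)
    (hmin : Q ∈ (q.map (algebraMap A B)).minimalPrimes) :
    htq (p.map (algebraMap A B)) Q ≤ htq p q := by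
  let J := p.map (algebraMap A B)
  have hJQ : J ≤ Q := Ideal.map_le_iff_le_comap.mpr (hpq.trans hQ.ge)
  letI : Algebra (A ⧸ p) (B ⧸ J) :=
    (Ideal.quotientMap J (algebraMap A B) Ideal.le_comap_map).toAlgebra
  haveI := isPrime_map_mk (q := q) hpq
  haveI := isPrime_map_mk (q := Q) hJQ
  have hcomm : ∀ a : A, algebraMap (A ⧸ p) (B ⧸ J) (Ideal.Quotient.mk p a) =
      Ideal.Quotient.mk J (algebraMap A B a) := fun a => Ideal.quotientMap_mk
  have hlo : (Q.map (Ideal.Quotient.mk J)).LiesOver (q.map (Ideal.Quotient.mk p)) := by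
    refine ⟨?_⟩
    ext x
    obtain ⟨a, rfl⟩ := Ideal.Quotient.mk_surjective x
    rw [Ideal.mem_comap, hcomm, ← Ideal.mem_comap, comap_map_mk' hpq, ← Ideal.mem_comap,
      comap_map_mk' hJQ, ← hQ, Ideal.mem_comap]
  refine (Ideal.height_le_height_add_of_liesOver (q.map (Ideal.Quotient.mk p))
    (Q.map (Ideal.Quotient.mk J))).trans ?_
  rw [height_map_quotient_of_minimal
    (I := (q.map (Ideal.Quotient.mk p)).map (algebraMap (A ⧸ p) (B ⧸ J)))]
  · rw [add_zero]
  · have hqm : (q.map (Ideal.Quotient.mk p)).map (algebraMap (A ⧸ p) (B ⧸ J)) =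
        (q.map (algebraMap A B)).map (Ideal.Quotient.mk J) := by
      rw [Ideal.map_map, Ideal.map_map]
      exact congrArg (fun f => Ideal.map f q) (RingHom.ext hcomm)
    rw [hqm]
    refine ⟨⟨inferInstance, Ideal.map_mono hmin.1.2⟩, fun S hS hle => ?_⟩
    haveI := hS.1
    have h2 := hmin.2 ⟨inferInstance, Ideal.map_le_iff_le_comap.mp hS.2⟩
      ((Ideal.comap_mono hle).trans (comap_map_mk' hJQ).le)
    exact Ideal.map_le_iff_le_comap.mpr h2

theorem supportDim_fibLocMod_self (Q : Ideal B) [Q.IsPrime] :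
    Module.supportDim (Localization.AtPrime Q) (EGA4.FibLocMod A B Q B) =
      ((htq ((Q.comap (algebraMap A B)).map (algebraMap A B)) Q : ℕ∞) : WithBot ℕ∞) := by
  let p := Q.comap (algebraMap A B)
  haveI : Nontrivial (LocalizedModule Q.primeCompl B) := (CAlg1.locSelfEquiv Q).toEquiv.nontrivial
  haveI : Nontrivial (LocalizedModule p.primeCompl A) := (CAlg1.locSelfEquiv p).toEquiv.nontrivial
  have hs := (tensor_loc_invariants (A := A) B A Q).2
  let e : LocalizedModule Q.primeCompl (B ⊗[A] A) ≃ₗ[Localization.AtPrime Q]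
      LocalizedModule Q.primeCompl B :=
    IsLocalizedModule.mapEquiv Q.primeCompl (LocalizedModule.mkLinearMap Q.primeCompl (B ⊗[A] A))
      (LocalizedModule.mkLinearMap Q.primeCompl B) (Localization.AtPrime Q)
      (TensorProduct.AlgebraTensorModule.rid A B B)
  rw [Module.supportDim_eq_of_equiv (e.trans (CAlg1.locSelfEquiv Q)),
    Module.supportDim_eq_of_equiv (CAlg1.locSelfEquiv p), Module.supportDim_self_eq_ringKrullDim,
    Module.supportDim_self_eq_ringKrullDim, IsLocalization.AtPrime.ringKrullDim_eq_height Q,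
    IsLocalization.AtPrime.ringKrullDim_eq_height p] at hs
  haveI : Q.LiesOver p := ⟨rfl⟩
  rw [Ideal.height_eq_height_add_of_liesOver_of_hasGoingDown p Q] at hs
  obtain ⟨k, hk⟩ := ENat.ne_top_iff_exists.mp (Ideal.height_ne_top (I := p) (Ideal.IsPrime.ne_top'))
  obtain ⟨m, hm⟩ := exists_htq_eq (R := B) (p := p.map (algebraMap A B)) (q := Q) Ideal.map_comap_le
  rw [hm]
  have hm' : (Q.map (Ideal.Quotient.mk (p.map (algebraMap A B)))).height = (m : ℕ∞) := hm
  rw [← hk, hm'] at hs
  revert hs
  generalize Module.supportDim (Localization.AtPrime Q) (EGA4.FibLocMod A B Q B) = d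
  intro hs
  induction d using WithBot.recBotCoe with
  | bot => rw [WithBot.add_bot] at hs; exact absurd hs WithBot.coe_ne_bot
  | coe d =>
    rw [← WithBot.coe_add, WithBot.coe_inj] at hs
    exact congrArg _ ((WithTop.add_left_inj (ENat.natCast_ne_top k)).mp hs).symm

variable (M : Type u) [AddCommGroup M] [Module A M] [Module.Finite A M]
  (N : Type u) [AddCommGroup N] [Module B N]

theorem depth_loc (e : (B ⊗[A] M) ≃ₗ[B] N) (Q : Ideal B) [Q.IsPrime] :
    LocCoh.depth (Localization.AtPrime Q) (LocalizedModule Q.primeCompl N) =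
      LocCoh.depth (Localization.AtPrime (Q.comap (algebraMap A B)))
        (LocalizedModule (Q.comap (algebraMap A B)).primeCompl M) +
      LocCoh.depth (Localization.AtPrime Q) (EGA4.FibLocMod A B Q B) := by
  let el : LocalizedModule Q.primeCompl (B ⊗[A] M) ≃ₗ[Localization.AtPrime Q]
      LocalizedModule Q.primeCompl N :=
    IsLocalizedModule.mapEquiv Q.primeCompl (LocalizedModule.mkLinearMap Q.primeCompl (B ⊗[A] M))
      (LocalizedModule.mkLinearMap Q.primeCompl N) (Localization.AtPrime Q) e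
  rw [← EGA4Alg4.depth_eq_of_equiv (M := LocalizedModule Q.primeCompl (B ⊗[A] M)) el]
  haveI : Nontrivial (LocalizedModule Q.primeCompl B) := (CAlg1.locSelfEquiv Q).toEquiv.nontrivial
  by_cases hM : Nontrivial (LocalizedModule (Q.comap (algebraMap A B)).primeCompl M)
  · exact (tensor_loc_invariants (A := A) B M Q).1
  · rw [not_nontrivial_iff_subsingleton] at hM
    haveI : Subsingleton (LocalizedModule Q.primeCompl (B ⊗[A] M)) := by
      rw [← not_nontrivial_iff_subsingleton]
      intro hh
      have hann := Module.annihilator_le_of_mem_support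
        (show (⟨Q, inferInstance⟩ : PrimeSpectrum B) ∈ Module.support B (B ⊗[A] M) from
          Module.mem_support_iff.mpr hh)
      refine not_nontrivial_iff_subsingleton.mpr hM (Module.mem_support_iff.mp
        ((Module.mem_support_iff_of_finite
          (p := ⟨Q.comap (algebraMap A B), inferInstance⟩)).mpr fun a ha => hann ?_))
      rw [Module.mem_annihilator]
      intro t
      induction t with
      | zero => simp
      | tmul x y =>
        rw [algebraMap_smul, ← TensorProduct.tmul_smul, Module.mem_annihilator.mp ha,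
          TensorProduct.tmul_zero]
      | add x y hx hy => rw [smul_add, hx, hy, add_zero]
    haveI : IsNoetherianRing (Localization.AtPrime Q) :=
      IsLocalization.isNoetherianRing Q.primeCompl _ inferInstance
    rw [EGA4Alg4.depth_of_subsingleton, EGA4Alg4.depth_of_subsingleton, top_add]

theorem depth_fib_eq_zero (Q : Ideal B) [Q.IsPrime] (h : htq ((Q.comap (algebraMap A B)).map
    (algebraMap A B)) Q = 0) :
    LocCoh.depth (Localization.AtPrime Q) (EGA4.FibLocMod A B Q B) = 0 := by
  haveI : IsNoetherianRing (Localization.AtPrime Q) :=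
    IsLocalization.isNoetherianRing Q.primeCompl _ inferInstance
  haveI : Module.Finite (Localization.AtPrime Q) (LocalizedModule Q.primeCompl B) :=
    Module.Finite.of_isLocalizedModule Q.primeCompl (LocalizedModule.mkLinearMap Q.primeCompl B)
  have hs := supportDim_fibLocMod_self (A := A) Q
  rw [h] at hs
  haveI : Nontrivial (EGA4.FibLocMod A B Q B) := by
    rw [← not_subsingleton_iff_nontrivial]
    intro hh
    rw [Module.supportDim_eq_bot_of_subsingleton] at hs
    exact absurd hs.symm WithBot.coe_ne_bot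
  have := EGA4Alg4.depth_le_supportDim (A := Localization.AtPrime Q) (M := EGA4.FibLocMod A B Q B)
  rw [hs] at this
  exact le_antisymm (WithBot.coe_le_coe.mp this) zero_le

/-- the cutoff does not go up along faithfully flat algebras -/
theorem cutoff_flat_le [Module.FaithfullyFlat A B]
    (hC : ∀ p : PrimeSpectrum A, CoverSucc (B ⧸ p.asIdeal.map (algebraMap A B)))
    (e : (B ⊗[A] M) ≃ₗ[B] N) (I : Ideal A) :
    Dual2.cutoff B (I.map (algebraMap A B)) N ≤ Dual2.cutoff A I M := by
  rw [le_cutoff_iff]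
  intro p q hpq hp hq
  obtain ⟨Q0, hQ0⟩ := PrimeSpectrum.comap_surjective_of_faithfullyFlat (B := B) q
  obtain ⟨Q, hQp, -, hQc, hQmin, -⟩ := exists_minimal_over q.asIdeal q.asIdeal le_rfl Q0.asIdeal
    (congrArg PrimeSpectrum.asIdeal hQ0)
  obtain ⟨P, hPp, hPQ, hPc, hPmin, -⟩ := exists_minimal_over p.asIdeal q.asIdeal hpq Q hQc
  have h1 := cutoff_le (I := I.map (algebraMap A B)) (M := N) ⟨P, hPp⟩ ⟨Q, hQp⟩ hPQ
    (fun h => hp ((Ideal.map_le_iff_le_comap.mp h).trans hPc.le))
    (Ideal.map_le_iff_le_comap.mpr (hq.trans hQc.ge))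
  refine h1.trans ?_
  have hP0 : htq (p.asIdeal.map (algebraMap A B)) P = 0 := height_map_quotient_of_minimal hPmin
  have hd : LocCoh.depth (Localization.AtPrime P) (LocalizedModule P.primeCompl N) =
      LocCoh.depth (Localization.AtPrime p.asIdeal) (LocalizedModule p.asIdeal.primeCompl M) := by
    have h0 : htq ((P.comap (algebraMap A B)).map (algebraMap A B)) P = 0 := by rw [hPc]; exact hP0
    obtain rfl : (⟨P.comap (algebraMap A B), inferInstance⟩ : PrimeSpectrum A) = p :=
      PrimeSpectrum.ext hPc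
    rw [depth_loc M N e P, depth_fib_eq_zero P h0, add_zero]
  dsimp only
  rw [hd]
  refine add_le_add le_rfl ?_
  have h2 := map_le_of_minimal Q hpq hQc hQmin
  rw [htq_eq_of_coverSucc (P := P) (hPmin.1.2) hPQ (hC p), hP0, zero_add] at h2
  exact h2

/-- lower bound for the cutoff when the fibres have depth at least `min n dim` -/
theorem le_cutoff_flat
    (hC : ∀ p : PrimeSpectrum A, CoverSucc (B ⧸ p.asIdeal.map (algebraMap A B)))
    (e : (B ⊗[A] M) ≃ₗ[B] N) (I : Ideal A) (n : ℕ∞)
    (hfib : ∀ P : PrimeSpectrum B,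
      min n (htq ((P.asIdeal.comap (algebraMap A B)).map (algebraMap A B)) P.asIdeal) ≤
        LocCoh.depth (Localization.AtPrime P.asIdeal) (EGA4.FibLocMod A B P.asIdeal B)) :
    min (n + 1) (Dual2.cutoff A I M) ≤ Dual2.cutoff B (I.map (algebraMap A B)) N := by
  rw [le_cutoff_iff]
  intro P Q hPQ hP hQ
  let p : PrimeSpectrum A := ⟨P.asIdeal.comap (algebraMap A B), inferInstance⟩
  let q : PrimeSpectrum A := ⟨Q.asIdeal.comap (algebraMap A B), inferInstance⟩
  have hpq : p ≤ q := Ideal.comap_mono hPQ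
  have h1 := cutoff_le (I := I) (M := M) p q hpq
    (fun h => hP (Ideal.map_le_iff_le_comap.mpr h)) (Ideal.map_le_iff_le_comap.mp hQ)
  rw [depth_loc M N e P.asIdeal]
  refine le_trans ?_ (add_le_add (add_le_add le_rfl (hfib P)) le_rfl)
  rcases le_total (htq ((P.asIdeal.comap (algebraMap A B)).map (algebraMap A B)) P.asIdeal) n
    with h | h
  · rw [min_eq_right h]
    refine (min_le_right _ _).trans (h1.trans ?_)
    rw [add_assoc, ← htq_eq_of_coverSucc (P := P.asIdeal) Ideal.map_comap_le hPQ (hC p)]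
    exact add_le_add le_rfl (htq_le_map Q.asIdeal hpq rfl)
  · rw [min_eq_left h]
    refine (min_le_left _ _).trans ?_
    have hne : P.asIdeal < Q.asIdeal :=
      lt_of_le_of_ne hPQ fun e' => hP (hQ.trans e'.ge)
    exact add_le_add le_add_self (one_le_htq hne)

end Groth.Agent.LC15.CutoffFlat
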