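import Groth.Agent.LC16.RelCodim
import Groth.Agent.LC16.CanonDim
import Groth.Agent.LC16.MatlisBasic
import Groth.Agent.LC15.Finiteness
import Groth.Agent.S11653
import Groth.Agent.S11660
import Groth.Agent.CAlg1.Catenary

/-!
Finiteness of local cohomology below a degree in terms of depth and relative codimension;
catenary facts for quotients of Cohen–Macaulay rings.
-/

namespace Groth.Agent.LC15.CritDepth

universe u

set_option autoImplicit false

open Groth.Agent.LC17

variable {A : Type u} [CommRing A]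

section basic

variable [IsNoetherianRing A]

theorem relCodim_eq_htq (I : Ideal A) (p : PrimeSpectrum A) :
    SGA2.relCodim I p = htq p.asIdeal (I ⊔ p.asIdeal) := by
  refine le_antisymm ?_ (LC16.RelCodim.le_relCodim p fun q hpq hIq => htq_mono (sup_le hIq hpq))
  cases h : htq p.asIdeal (I ⊔ p.asIdeal) with
  | top => exact le_top
  | coe n =>
    obtain ⟨q, hq, hle, hn⟩ := exists_prime_htq_eq (p := p.asIdeal) le_sup_right h
    exact hn ▸ LC16.RelCodim.relCodim_le p ⟨q, hq⟩ (le_sup_right.trans hle) (le_sup_left.trans hle)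

theorem covBy_of_htq {p q : PrimeSpectrum A} (h : p < q) (hq : htq p.asIdeal q.asIdeal ≤ 1) :
    p ⋖ q := by
  refine ⟨h, fun t h1 h2 => ?_⟩
  exact h2.ne (PrimeSpectrum.ext (eq_of_between hq
    (show p.asIdeal < t.asIdeal from h1) (show t.asIdeal ≤ q.asIdeal from h2.le)))

theorem htq_eq_one_of_covBy {p q : PrimeSpectrum A} (h : p ⋖ q) :
    htq p.asIdeal q.asIdeal = 1 := by
  refine le_antisymm (le_of_not_gt fun hgt => ?_) (one_le_htq h.lt)
  obtain ⟨a, haq, hap⟩ := SetLike.exists_of_lt (show p.asIdeal < q.asIdeal from h.lt)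
  obtain ⟨t, ht, h1, h2, -⟩ := exists_prime_between hap haq h.lt hgt
  exact h.2 (show p < (⟨t, ht⟩ : PrimeSpectrum A) from h1) h2

theorem relCodim_eq_one_iff (I : Ideal A) (p : PrimeSpectrum A) (hp : ¬ I ≤ p.asIdeal) :
    SGA2.relCodim I p = 1 ↔ ∃ q : PrimeSpectrum A, I ≤ q.asIdeal ∧ p ⋖ q := by
  constructor
  · intro h
    rw [relCodim_eq_htq] at h
    obtain ⟨q, hq, hle, hn⟩ := exists_prime_htq_eq (p := p.asIdeal) (n := 1) le_sup_right
      (by simpa using h)
    refine ⟨⟨q, hq⟩, le_sup_left.trans hle, covBy_of_htq ?_ (by rw [hn]; simp)⟩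
    exact lt_of_le_of_ne (le_sup_right.trans hle) fun e =>
      hp ((le_sup_left.trans hle).trans (congrArg PrimeSpectrum.asIdeal e).ge)
  · rintro ⟨q, hIq, hpq⟩
    refine le_antisymm ((LC16.RelCodim.relCodim_le p q hpq.le hIq).trans
      (htq_eq_one_of_covBy hpq).le) (LC16.RelCodim.le_relCodim p fun q' h1 h2 => ?_)
    exact one_le_htq (lt_of_le_of_ne (show p.asIdeal ≤ q'.asIdeal from h1)
      (fun e => hp (e ▸ h2)))

theorem finite_iff {R : Type u} [CommRing R] [IsRegularRing R] (π : R →+* A)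
    (hπ : Function.Surjective π) (I : Ideal A) (M : Type u) [AddCommGroup M] [Module A M]
    [Module.Finite A M] (n : ℕ) :
    (∀ i : ℕ, i ≤ n → Module.Finite A (LocCoh.H I i M)) ↔
      ∀ p : PrimeSpectrum A, ¬ I ≤ p.asIdeal → (n : ℕ∞) <
        LocCoh.depth (Localization.AtPrime p.asIdeal) (LocalizedModule p.asIdeal.primeCompl M) +
          SGA2.relCodim I p := by
  have hadj : ∀ p : PrimeSpectrum A, LocCoh.adjDepth I M p =
      LocCoh.depth (Localization.AtPrime p.asIdeal) (LocalizedModule p.asIdeal.primeCompl M) +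
          SGA2.relCodim I p := fun p => by rw [relCodim_eq_htq]; rfl
  have hlt : ∀ x : ℕ∞, (n : ℕ∞) < x ↔ (n : ℕ∞) + 1 ≤ x := fun x =>
    (ENat.add_one_le_iff (ENat.natCast_ne_top n)).symm
  constructor
  · intro h p hp
    rw [← hadj, hlt]
    refine le_trans ?_ ((S11653.result A I I M).trans (iInf₂_le p hp))
    refine le_iInf₂ fun i hi => ?_
    rw [← hlt, Nat.cast_lt]
    by_contra hni
    have := h i (not_lt.mp hni)
    obtain ⟨k, hk⟩ := exists_pow_smul_H_eq_zero I (i := i) (M := M)
    exact hi fun x hx => ⟨k, Module.mem_annihilator.mpr fun y => hk _ (Ideal.pow_mem_pow hx k) y⟩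
  · intro h
    have h1 : (n : ℕ∞) + 1 ≤ LocCoh.finDimRel I I M :=
      le_trans (le_iInf₂ fun p hp => (hlt _).1 (by rw [hadj]; exact h p hp))
        (S11660.result R A π hπ I I M)
    have h2 : ∀ i, i ≤ n → ∃ k, I ^ k ≤ Module.annihilator A (LocCoh.H I i M) := fun i hi => by
      refine Ideal.exists_pow_le_of_le_radical_of_fg ?_ (IsNoetherian.noetherian I)
      by_contra hnot
      have h3 : (n : ℕ∞) + 1 ≤ (i : ℕ∞) := h1.trans (iInf₂_le i hnot)
      rw [← hlt, Nat.cast_lt] at h3
      omega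
    choose! k hk using h2
    intro i hi
    exact finite_H_of_annihilated I i M ((Finset.range (n + 1)).sup k) fun j hj a ha y =>
      Module.mem_annihilator.mp (hk j (hj.trans hi)
        (Ideal.pow_le_pow_right (Finset.le_sup (Finset.mem_range.mpr (by omega))) ha)) y

theorem finite_iff_codim_one {R : Type u} [CommRing R] [IsRegularRing R] (π : R →+* A)
    (hπ : Function.Surjective π) (I : Ideal A) (M : Type u) [AddCommGroup M] [Module A M]
    [Module.Finite A M] (n : ℕ) :
    (∀ i : ℕ, i ≤ n → Module.Finite A (LocCoh.H I i M)) ↔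
      ∀ p : PrimeSpectrum A, ¬ I ≤ p.asIdeal → SGA2.relCodim I p = 1 → (n : ℕ∞) ≤
        LocCoh.depth (Localization.AtPrime p.asIdeal) (LocalizedModule p.asIdeal.primeCompl M) :=
  (finite_iff π hπ I M n).trans (LC16.RelCodim.depth_iff I n)

end basic

section catenary

variable {R : Type u} [CommRing R]

theorem htq_comap (π : R →+* A) (hπ : Function.Surjective π) (p J : Ideal A) :
    htq (p.comap π) (J.comap π) = htq p J := by
  have hker : RingHom.ker ((Ideal.Quotient.mk p).comp π) = p.comap π := by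
    rw [← RingHom.comap_ker, Ideal.mk_ker]
  let e : R ⧸ p.comap π ≃+* A ⧸ p :=
    (Ideal.quotEquivOfEq hker.symm).trans (RingHom.quotientKerEquivOfSurjective
      (Ideal.Quotient.mk_surjective.comp hπ))
  have he : (e : R ⧸ p.comap π →+* _).comp (Ideal.Quotient.mk (p.comap π)) =
      (Ideal.Quotient.mk p).comp π := RingHom.ext fun r => rfl
  have h1 : ((J.comap π).map (Ideal.Quotient.mk (p.comap π))).map (e : R ⧸ p.comap π →+* _) =
      J.map (Ideal.Quotient.mk p) := by
    rw [Ideal.map_map, he, ← Ideal.map_map, Ideal.map_comap_of_surjective _ hπ]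
  show ((J.comap π).map (Ideal.Quotient.mk (p.comap π))).height = (J.map (Ideal.Quotient.mk p)).height
  rw [← h1]
  exact (RingEquiv.height_map e _).symm

theorem covBy_comap (π : R →+* A) (hπ : Function.Surjective π) {p q : PrimeSpectrum A}
    (h : p ⋖ q) : PrimeSpectrum.comap π p ⋖ PrimeSpectrum.comap π q := by
  have hmem : ∀ t : PrimeSpectrum R, PrimeSpectrum.comap π p ≤ t →
      ∃ s : PrimeSpectrum A, PrimeSpectrum.comap π s = t := fun t ht => by
    have hk : RingHom.ker π ≤ t.asIdeal :=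
      le_trans (fun x hx => by
        show π x ∈ p.asIdeal
        rw [hx]
        exact zero_mem _) ht
    haveI := Ideal.map_isPrime_of_surjective hπ hk
    refine ⟨⟨t.asIdeal.map π, inferInstance⟩, PrimeSpectrum.ext ?_⟩
    show (t.asIdeal.map π).comap π = t.asIdeal
    rw [Ideal.comap_map_of_surjective _ hπ, ← RingHom.ker_eq_comap_bot, sup_eq_left.mpr hk]
  have hle : ∀ a b : PrimeSpectrum A, PrimeSpectrum.comap π a ≤ PrimeSpectrum.comap π b ↔ a ≤ b :=
    fun a b => Ideal.comap_le_comap_iff_of_surjective π hπ _ _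
  refine ⟨lt_of_le_not_ge ((hle p q).2 h.le) fun h' => h.lt.not_ge ((hle q p).1 h'),
    fun t h1 h2 => ?_⟩
  obtain ⟨s, rfl⟩ := hmem t h1.le
  exact h.2 (lt_of_le_not_ge ((hle p s).1 h1.le) fun h' => h1.not_ge ((hle s p).2 h'))
    (lt_of_le_not_ge ((hle s q).1 h2.le) fun h' => h2.not_ge ((hle q s).2 h'))

variable [LocCoh.IsCohenMacaulayRing R]

theorem height_eq_add_htq {p q : PrimeSpectrum R} (h : p ≤ q) :
    q.asIdeal.height = p.asIdeal.height + htq p.asIdeal q.asIdeal := by
  obtain ⟨n, hn⟩ := exists_htq_eq (q := q.asIdeal) (show p.asIdeal ≤ q.asIdeal from h)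
  induction n generalizing q with
  | zero =>
    rcases h.eq_or_lt with rfl | hlt
    · rw [hn]; simp
    · exact absurd (one_le_htq hlt) (by rw [hn]; simp)
  | succ n ih =>
    obtain ⟨t, ht, h1, h2, h3⟩ := exists_prime_below h hn.ge
    have h4 : htq p.asIdeal t = n := by
      refine le_antisymm ?_ h3
      have h5 := htq_add_one_le (b := q.asIdeal) h1 h2
      rw [hn, Nat.cast_add, Nat.cast_one] at h5
      exact (ENat.add_le_add_iff_right (by simp)).mp h5
    have h5 : htq t q.asIdeal ≤ 1 := by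
      have h6 := htq_add_le (q := q.asIdeal) h1 h2.le
      rw [h4, hn, Nat.cast_add, Nat.cast_one] at h6
      exact (ENat.add_le_add_iff_left (ENat.natCast_ne_top n)).mp h6
    rw [CAlg1.height_succ_of_covBy_cm (covBy_of_htq (p := ⟨t, ht⟩) h2 h5),
      ih (q := ⟨t, ht⟩) h1 h4, h4, hn, Nat.cast_add, Nat.cast_one, add_assoc]

/-- quotients of Cohen–Macaulay rings are catenary -/
theorem htq_covBy (π : R →+* A) (hπ : Function.Surjective π) {p₀ p q : PrimeSpectrum A}
    (h : p₀ ≤ p) (hpq : p ⋖ q) :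
    htq p₀.asIdeal q.asIdeal = htq p₀.asIdeal p.asIdeal + 1 := by
  have h' : PrimeSpectrum.comap π p₀ ≤ PrimeSpectrum.comap π p := Ideal.comap_mono h
  have hc := covBy_comap π hπ hpq
  have e1 := height_eq_add_htq h'
  have e2 := height_eq_add_htq (h'.trans hc.le)
  have e3 := CAlg1.height_succ_of_covBy_cm hc
  obtain ⟨a, ha⟩ := ENat.ne_top_iff_exists.mp
    (Ideal.height_ne_top (I := (PrimeSpectrum.comap π p₀).asIdeal) (Ideal.IsPrime.ne_top inferInstance))
  rw [e2, e1, add_assoc, ← ha] at e3
  have e4 := (WithTop.add_left_inj (ENat.natCast_ne_top a)).mp e3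
  simp only [PrimeSpectrum.comap_asIdeal, htq_comap π hπ] at e4
  exact e4

end catenary

section cm

variable [IsNoetherianRing A] {M : Type u} [AddCommGroup M] [Module A M] [Module.Finite A M]

omit [Module.Finite A M] in
theorem depth_eq_top_of_subsingleton {B : Type u} [CommRing B] [IsLocalRing B] (N : Type u)
    [AddCommGroup N] [Module B N] [Subsingleton N] : LocCoh.depth B N = ⊤ := by
  rw [LocCoh.depth, LocCoh.idealDepth, if_pos (Subsingleton.elim _ _)]

theorem depth_eq_zero_of_minimal (p : PrimeSpectrum A)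
    (hp : p.asIdeal ∈ (Module.annihilator A M).minimalPrimes) :
    LocCoh.depth (Localization.AtPrime p.asIdeal) (LocalizedModule p.asIdeal.primeCompl M) = 0 := by
  have hsupp : p ∈ Module.support A M := Module.mem_support_iff_of_finite.mpr hp.1.2
  haveI : Nontrivial (LocalizedModule p.asIdeal.primeCompl M) := Module.mem_support_iff.mp hsupp
  haveI : Module.Finite (Localization.AtPrime p.asIdeal) (LocalizedModule p.asIdeal.primeCompl M) :=
    Module.Finite.of_isLocalizedModule p.asIdeal.primeCompl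
      (LocalizedModule.mkLinearMap p.asIdeal.primeCompl M)
  have hsub : Subsingleton (Ega11.SupportLoc.suppBelow A M p.asIdeal) := ⟨fun x y => by
    have key : ∀ z : Ega11.SupportLoc.suppBelow A M p.asIdeal, z.1 = p := fun z =>
      PrimeSpectrum.ext (le_antisymm z.2.2
        (hp.2 ⟨z.1.isPrime, Module.mem_support_iff_of_finite.mp z.2.1⟩ z.2.2))
    exact Subtype.ext ((key x).trans (key y).symm)⟩
  have h := EGA4Alg4.depth_le_supportDim (A := Localization.AtPrime p.asIdeal)
    (M := LocalizedModule p.asIdeal.primeCompl M)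
  rw [Ega11.SupportLoc.supportDim_localizedModule_eq] at h
  refine nonpos_iff_eq_zero.mp (WithBot.coe_le_coe.mp (h.trans ?_))
  exact Order.krullDim_nonpos_of_subsingleton

theorem htq_le_supportDim (p₀ p : PrimeSpectrum A) (h : p₀ ≤ p) (hs : p₀ ∈ Module.support A M)
    {k : ℕ} (hk : htq p₀.asIdeal p.asIdeal = k) :
    (k : WithBot ℕ∞) ≤ Module.supportDim (Localization.AtPrime p.asIdeal)
      (LocalizedModule p.asIdeal.primeCompl M) := by
  rw [← LC16.RelCodim.height_ici p₀ p h] at hk
  obtain ⟨l, hlast, hlen⟩ := Order.exists_series_of_height_eq_coe (⟨p, h⟩ : Set.Ici p₀) hk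
  exact LC16.CanonDim.le_supportDim_localized hs (l.map Subtype.val fun _ _ hab => hab)
    (by simp [hlen]) l.head.2 (by simp [hlast])

end cm

end Groth.Agent.LC15.CritDepth
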