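import Groth.Agent.LC15.Cd
import Groth.Agent.LC17.DepthLoc
import Groth.Agent.EGA4Alg4.Depth
import Mathlib.RingTheory.Regular.LinearMap

set_option autoImplicit false

universe u

open CategoryTheory RingTheory.Sequence
open scoped Pointwise

namespace Groth.Agent.LC15

variable {R : Type u} [CommRing R] {I : Ideal R}

/-- Degree zero `Ext` and linear maps. -/
theorem subsingleton_ext_zero_iff (M N : Type u) [AddCommGroup M] [Module R M] [AddCommGroup N]
    [Module R N] :
    Subsingleton (Abelian.Ext (ModuleCat.of R M) (ModuleCat.of R N) 0) ↔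
      Subsingleton (M →ₗ[R] N) :=
  (Abelian.Ext.addEquiv₀.toEquiv.trans
    (ModuleCat.homLinearEquiv (S := R)).toEquiv).subsingleton_congr

theorem ext_smul_eq_zero_of_annihilator {M N : ModuleCat.{u} R} {r : R}
    (hr : ∀ m : M, r • m = 0) (i : ℕ) (x : Abelian.Ext M N i) : r • x = 0 := by
  have h : r • x = (Abelian.Ext.mk₀ (r • 𝟙 M)).comp x (zero_add i) := by
    rw [Abelian.Ext.mk₀_smul, Abelian.Ext.smul_comp, Abelian.Ext.mk₀_id_comp]
  rw [h, show r • 𝟙 M = 0 from ModuleCat.hom_ext (LinearMap.ext hr), Abelian.Ext.mk₀_zero,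
    Abelian.Ext.zero_comp]

theorem subsingleton_of_hom_subsingleton [IsNoetherianRing R] (P H : Type u) [AddCommGroup P]
    [Module R P] [Module.Finite R P] [AddCommGroup H] [Module R H]
    (hsupp : Module.support R H ⊆ Module.support R P) (hhom : Subsingleton (P →ₗ[R] H)) :
    Subsingleton H := by
  refine subsingleton_of_forall_eq 0 fun h => ?_
  let W : Submodule R H := R ∙ h
  haveI : Module.Finite R W := Module.Finite.iff_fg.2 (Submodule.fg_span_singleton h)
  haveI : Subsingleton (P →ₗ[R] W) := ⟨fun f g => LinearMap.ext fun p => Subtype.ext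
    (DFunLike.congr_fun (Subsingleton.elim (W.subtype.comp f) (W.subtype.comp g)) p)⟩
  obtain ⟨r, hr, hreg⟩ := IsSMulRegular.subsingleton_linearMap_iff.1 this
  have hsub : Module.support R W ⊆ PrimeSpectrum.zeroLocus (Module.annihilator R P : Set R) := by
    rw [← Module.support_eq_zeroLocus]
    exact (Module.support_subset_of_injective _ W.injective_subtype).trans hsupp
  rw [Module.support_eq_zeroLocus, PrimeSpectrum.zeroLocus_subset_zeroLocus_iff] at hsub
  obtain ⟨n, hn⟩ := hsub hr
  have h0 : r ^ n • (⟨h, Submodule.mem_span_singleton_self h⟩ : W) = 0 :=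
    Module.mem_annihilator.1 hn _
  exact congrArg Subtype.val ((hreg.pow n).right_eq_zero_of_smul h0)

variable [IsNoetherianRing R]

theorem isPowerTorsion_of_support_subset {F : Type u} [AddCommGroup F] [Module R F]
    [Module.Finite R F] (h : Module.support R F ⊆ PrimeSpectrum.zeroLocus (I : Set R)) :
    LocCoh.IsPowerTorsion I F := by
  rw [Module.support_eq_zeroLocus, PrimeSpectrum.zeroLocus_subset_zeroLocus_iff] at h
  obtain ⟨n, hn⟩ := Ideal.exists_pow_le_of_le_radical_of_fg h (IsNoetherian.noetherian I)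
  exact fun m => ⟨n, fun a ha => Module.mem_annihilator.1 (hn ha) m⟩

theorem exists_torsionFree_injective_embedding {G : Type u} [AddCommGroup G] [Module R G]
    (hG : gamma I G = ⊥) :
    ∃ (E : Type u) (_ : AddCommGroup E) (_ : Module R E) (f : G →ₗ[R] E),
      Function.Injective f ∧ Module.Injective R E ∧ gamma I E = ⊥ := by
  obtain ⟨E, _, _, f, hf, _⟩ := exists_injective_embedding (R := R) G
  haveI := injective_gamma I E
  obtain ⟨r, hr⟩ := Module.Injective.out (gamma I E).subtype (Submodule.injective_subtype _)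
    (LinearMap.id : gamma I E →ₗ[R] gamma I E)
  let K := LinearMap.ker r
  let π : E →ₗ[R] K := (LinearMap.id - (gamma I E).subtype.comp r).codRestrict K fun e => by
    change r (e - (r e : E)) = 0
    rw [map_sub, show r (r e : E) = r e from hr (r e), sub_self]
  have hπ : ∀ k : K, π k = k := fun k => Subtype.ext <| by
    change (k : E) - (r (k : E) : E) = k
    rw [show r (k : E) = 0 from k.2, Submodule.coe_zero, sub_zero]
  refine ⟨K, inferInstance, inferInstance, π.comp f, ?_, ⟨?_⟩, ?_⟩
  · refine (injective_iff_map_eq_zero _).2 fun g hg => ?_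
    have h2 : f g - (r (f g) : E) = 0 := congrArg Subtype.val hg
    have h3 : f g ∈ gamma I E := by rw [sub_eq_zero.1 h2]; exact (r (f g)).2
    obtain ⟨n, hn⟩ := h3
    refine (Submodule.eq_bot_iff _).1 hG g ⟨n, fun a ha => hf ?_⟩
    rw [map_smul, hn a ha, map_zero]
  · intro X Y _ _ _ _ i hi g
    obtain ⟨h, hh⟩ := Module.Injective.out i hi (K.subtype.comp g)
    exact ⟨π.comp h, fun x => by rw [LinearMap.comp_apply, hh, LinearMap.comp_apply]; exact hπ _⟩
  · refine (Submodule.eq_bot_iff _).2 fun k hk => ?_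
    have hk' : (k : E) ∈ gamma I E := map_mem_gamma K.subtype hk
    have h4 : r (k : E) = ⟨k, hk'⟩ := hr ⟨k, hk'⟩
    exact Subtype.ext (congrArg (fun z : gamma I E => (z : E)) (h4.symm.trans k.2))

theorem subsingleton_hom_of_gamma_eq_bot {F G : Type u} [AddCommGroup F] [Module R F]
    [AddCommGroup G] [Module R G] (hF : LocCoh.IsPowerTorsion I F) (hG : gamma I G = ⊥) :
    Subsingleton (F →ₗ[R] G) :=
  subsingleton_of_forall_eq 0 fun f => LinearMap.ext fun m =>
    (Submodule.eq_bot_iff _).1 hG _ (map_mem_gamma f (hF m))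

theorem subsingleton_ext_of_H {F : Type u} [AddCommGroup F] [Module R F]
    (hF : LocCoh.IsPowerTorsion I F) : ∀ (n : ℕ) (G : Type u) [AddCommGroup G] [Module R G],
    (∀ i < n, Subsingleton (LocCoh.H I i G)) →
      ∀ i < n, Subsingleton (Abelian.Ext (ModuleCat.of R F) (ModuleCat.of R G) i) := by
  intro n
  induction n with
  | zero => intro G _ _ _ i hi; omega
  | succ n ih =>
    intro G _ _ hH i hi
    have hG : gamma I G = ⊥ := (subsingleton_H0_iff I G).1 (hH 0 (by omega))
    rcases i with _ | j
    · exact (subsingleton_ext_zero_iff F G).2 (subsingleton_hom_of_gamma_eq_bot hF hG)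
    obtain ⟨E, _, _, f, hf, hE, hEΓ⟩ := exists_torsionFree_injective_embedding hG
    haveI : CategoryTheory.Injective (ModuleCat.of R E) :=
      Module.injective_object_of_injective_module R E
    have hex := LinearMap.exact_map_mkQ_range f
    have hHE : ∀ k, Subsingleton (LocCoh.H I k E) := by
      rintro (_ | k)
      · exact (subsingleton_H0_iff I E).2 hEΓ
      · exact subsingleton_H_succ_of_injective I k
    haveI := ih (E ⧸ LinearMap.range f) (fun k hk => subsingleton_H_right I k hf hex
      (Submodule.mkQ_surjective _) (hHE k) (hH (k + 1) (by omega))) j (by omega)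
    refine subsingleton_of_forall_eq 0 fun x => ?_
    obtain ⟨y, hy⟩ := Abelian.Ext.covariant_sequence_exact₁ (ModuleCat.of R F)
      (seqSC_shortExact hf hex (Submodule.mkQ_surjective _)) x
      (Abelian.Ext.eq_zero_of_injective _) rfl
    rw [← hy]
    have : y = 0 := Subsingleton.elim (α := Abelian.Ext (ModuleCat.of R F)
      (ModuleCat.of R (E ⧸ LinearMap.range f)) j) _ _
    rw [this, Abelian.Ext.zero_comp]

theorem subsingleton_H_of_ext {F : Type u} [AddCommGroup F] [Module R F] [Module.Finite R F]
    (hF : Module.support R F = PrimeSpectrum.zeroLocus (I : Set R)) :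
    ∀ (n : ℕ) (G : Type u) [AddCommGroup G] [Module R G],
      (∀ i < n, Subsingleton (Abelian.Ext (ModuleCat.of R F) (ModuleCat.of R G) i)) →
      ∀ i < n, Subsingleton (LocCoh.H I i G) := by
  intro n
  induction n with
  | zero => intro G _ _ _ i hi; omega
  | succ n ih =>
    intro G _ _ hext i hi
    have hG : gamma I G = ⊥ := by
      rw [← Submodule.subsingleton_iff_eq_bot]
      refine subsingleton_of_hom_subsingleton (R := R) F (gamma I G) ?_ ⟨fun f g => LinearMap.ext fun m =>
        Subtype.ext ?_⟩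
      · intro p hp
        rw [hF]
        intro a ha
        obtain ⟨m, hm⟩ := Module.mem_support_iff'.1 hp
        obtain ⟨k, hk⟩ := isPowerTorsion_gamma I (M := G) m
        by_contra hap
        exact hm (a ^ k) (fun h => hap (p.isPrime.mem_of_pow_mem k h)) (hk _ (Ideal.pow_mem_pow ha k))
      · haveI := (subsingleton_ext_zero_iff F G).1 (hext 0 (by omega))
        exact DFunLike.congr_fun (Subsingleton.elim ((gamma I G).subtype.comp f)
          ((gamma I G).subtype.comp g)) m
    rcases i with _ | j
    · exact (subsingleton_H0_iff I G).2 hG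
    obtain ⟨E, _, _, f, hf, hE, hEΓ⟩ := exists_torsionFree_injective_embedding hG
    haveI : CategoryTheory.Injective (ModuleCat.of R E) :=
      Module.injective_object_of_injective_module R E
    have hex := LinearMap.exact_map_mkQ_range f
    refine subsingleton_H_left I j hf hex (Submodule.mkQ_surjective _)
      (ih (E ⧸ LinearMap.range f) (fun k hk => ?_) j (by omega)) (subsingleton_H_succ_of_injective I j)
    have hEk : Subsingleton (Abelian.Ext (ModuleCat.of R F) (ModuleCat.of R E) k) := by
      rcases k with _ | k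
      · exact (subsingleton_ext_zero_iff F E).2 (subsingleton_hom_of_gamma_eq_bot
          (isPowerTorsion_of_support_subset hF.subset) hEΓ)
      · exact Abelian.Ext.subsingleton_of_injective _ _ k
    haveI := hext (k + 1) (by omega)
    refine subsingleton_of_forall_eq 0 fun y => ?_
    obtain ⟨z, hz⟩ := Abelian.Ext.covariant_sequence_exact₃ (ModuleCat.of R F)
      (seqSC_shortExact hf hex (Submodule.mkQ_surjective _)) y rfl
      (Subsingleton.elim (α := Abelian.Ext (ModuleCat.of R F) (ModuleCat.of R G) (k + 1)) _ _)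
    rw [← hz]
    have : z = 0 := Subsingleton.elim (α := Abelian.Ext (ModuleCat.of R F) (ModuleCat.of R E) k) _ _
    rw [this, Abelian.Ext.zero_comp]

theorem support_quotient_ideal (I : Ideal R) :
    Module.support R (R ⧸ I) = PrimeSpectrum.zeroLocus (I : Set R) := by
  rw [Module.support_eq_zeroLocus, Ideal.annihilator_quotient]

theorem H_vanishing_iff_ext_quotient (I : Ideal R) (n : ℕ) (G : Type u) [AddCommGroup G]
    [Module R G] :
    (∀ i < n, Subsingleton (LocCoh.H I i G)) ↔
      ∀ i < n, Subsingleton (Abelian.Ext (ModuleCat.of R (R ⧸ I)) (ModuleCat.of R G) i) :=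
  ⟨subsingleton_ext_of_H (isPowerTorsion_of_support_subset (support_quotient_ideal I).subset) n G,
    subsingleton_H_of_ext (support_quotient_ideal I) n G⟩

variable (I) {M : Type u} [AddCommGroup M] [Module R M] [Module.Finite R M]

theorem natCast_le_idealDepth_iff_ext (n : ℕ) :
    (n : ℕ∞) ≤ LocCoh.idealDepth I M ↔
      ∀ i < n, Subsingleton (Abelian.Ext (ModuleCat.of R (R ⧸ I)) (ModuleCat.of R M) i) :=
  (LC17.natCast_le_idealDepth_iff I M n).trans (H_vanishing_iff_ext_quotient I n M)

theorem idealDepth_eq_iff (n : ℕ) (hIM : I • (⊤ : Submodule R M) ≠ ⊤) :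
    LocCoh.idealDepth I M = n ↔
      ((∀ i : ℕ, i < n → Subsingleton (Abelian.Ext (ModuleCat.of R (R ⧸ I)) (ModuleCat.of R M) i)) ∧
        Nontrivial (Abelian.Ext (ModuleCat.of R (R ⧸ I)) (ModuleCat.of R M) n)) := by
  constructor
  · intro h
    refine ⟨(natCast_le_idealDepth_iff_ext I n).1 h.ge, ?_⟩
    rw [← not_subsingleton_iff_nontrivial]
    intro hn
    have h2 : ((n + 1 : ℕ) : ℕ∞) ≤ LocCoh.idealDepth I M :=
      (natCast_le_idealDepth_iff_ext I (n + 1)).2 fun i hi => by
        rcases Nat.lt_succ_iff_lt_or_eq.1 hi with hi | rfl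
        · exact (natCast_le_idealDepth_iff_ext I n).1 h.ge i hi
        · exact hn
    rw [h, Nat.cast_le] at h2
    omega
  · rintro ⟨h1, h2⟩
    refine le_antisymm ?_ ((natCast_le_idealDepth_iff_ext I n).2 h1)
    by_contra hlt
    rw [not_le, ← ENat.add_one_le_iff (ENat.coe_ne_top n), ← Nat.cast_one, ← Nat.cast_add] at hlt
    exact not_nontrivial_iff_subsingleton.2
      ((natCast_le_idealDepth_iff_ext I (n + 1)).1 hlt n (by omega)) h2

theorem idealDepth_ne_top (hIM : I • (⊤ : Submodule R M) ≠ ⊤) : LocCoh.idealDepth I M ≠ ⊤ := by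
  haveI : Nontrivial (M ⧸ (I • (⊤ : Submodule R M))) := Submodule.Quotient.nontrivial_iff.2 hIM
  obtain ⟨p, hp⟩ := Module.nonempty_support_of_nontrivial (R := R)
    (M := M ⧸ (I • (⊤ : Submodule R M)))
  rw [Module.support_quotient] at hp
  haveI : Nontrivial (LocalizedModule p.asIdeal.primeCompl M) := Module.mem_support_iff.1 hp.1
  intro htop
  have h := LC17.idealDepth_le_depth_loc (M := M) (p := p.asIdeal) (a := I) hp.2
  rw [htop, top_le_iff] at h
  exact EGA4Alg4.depth_ne_top h

theorem idealDepth_quotSMulTop_add_one {x : R} (hxI : x ∈ I) (hreg : IsSMulRegular M x) :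
    LocCoh.idealDepth I (QuotSMulTop x M) + 1 = LocCoh.idealDepth I M := by
  have h1 : ((1 : ℕ) : ℕ∞) ≤ LocCoh.idealDepth I M :=
    (LC17.natCast_succ_le_idealDepth_iff I hxI hreg 0).2 (by simp)
  refine le_antisymm (LC17.eNat_le_of_forall fun n hn => ?_) (LC17.eNat_le_of_forall fun n hn => ?_)
  · rcases n with _ | n
    · simp
    refine (LC17.natCast_succ_le_idealDepth_iff I hxI hreg n).2 ?_
    rwa [Nat.cast_succ, ENat.add_le_add_iff_right ENat.one_ne_top] at hn
  · rcases n with _ | n
    · simp
    rw [Nat.cast_succ, ENat.add_le_add_iff_right ENat.one_ne_top]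
    exact (LC17.natCast_succ_le_idealDepth_iff I hxI hreg n).1 hn

end Groth.Agent.LC15
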