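import Groth.Agent.LC15.DepthSeq
import Groth.Agent.LC17.DepthLoc
import Groth.Agent.EGA4Alg4.CMMod

set_option autoImplicit false

universe u

open RingTheory.Sequence Module IsLocalRing

namespace Groth.Agent.LC15

variable {R : Type u} [CommRing R] [IsLocalRing R] [IsNoetherianRing R] (I : Ideal R)
  {M : Type u} [AddCommGroup M] [Module R M] [Module.Finite R M]

theorem supportDim_eq_add_idealDepth (hI : I ≠ ⊤) (hM : LocCoh.IsCohenMacaulayModule R M) :
    supportDim R M =
      supportDim R (M ⧸ (I • (⊤ : Submodule R M))) + ((LocCoh.idealDepth I M : ℕ∞) : WithBot ℕ∞) := by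
  have := EGA4Alg4.isCohenMacaulayModule_nontrivial hM
  have hIm := IsLocalRing.le_maximalIdeal hI
  have hIM : I • (⊤ : Submodule R M) ≠ ⊤ := (EGA4Alg4.smul_top_lt_top I hIm).ne
  obtain ⟨xs, -, hreg, hmem, hmax⟩ := exists_maximal_extension I hIM (IsWeaklyRegular.nil R M)
    (fun r hr => by simp at hr)
  have hlen := length_eq_idealDepth_of_maximal I hIM hreg hmem hmax
  have hmemm : ∀ x ∈ xs, x ∈ maximalIdeal R := fun x hx => hIm (hmem x hx)
  have hN := EGA4Alg4.isCohenMacaulayModule_quotient hM hreg hmemm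
  have := EGA4Alg4.isCohenMacaulayModule_nontrivial hN
  have hdim : supportDim R (M ⧸ (Ideal.ofList xs • (⊤ : Submodule R M))) + (xs.length : WithBot ℕ∞) =
      supportDim R M :=
    supportDim_add_length_eq_supportDim_of_isRegular xs
      (EGA4Alg4.isRegular_of_isWeaklyRegular hreg hmemm)
  obtain ⟨q, hq, hIq⟩ := EGA4Alg4.exists_le_assoc_of_forall_not_regular
    (M := M ⧸ (Ideal.ofList xs • (⊤ : Submodule R M))) I fun x hx hxreg =>
    hmax x hx ((isWeaklyRegular_append_iff M xs [x]).2
      ⟨hreg, (isWeaklyRegular_singleton_iff _ x).2 hxreg⟩)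
  have hle : supportDim R (M ⧸ (I • (⊤ : Submodule R M))) ≤
      supportDim R (M ⧸ (Ideal.ofList xs • (⊤ : Submodule R M))) := by
    have hsub : Ideal.ofList xs • (⊤ : Submodule R M) ≤ I • ⊤ :=
      Submodule.smul_mono_left (EGA4Alg4.ofList_le hmem)
    exact supportDim_le_of_surjective (Submodule.factor hsub) (Submodule.factor_surjective hsub)
  have hge : supportDim R (M ⧸ (Ideal.ofList xs • (⊤ : Submodule R M))) ≤
      supportDim R (M ⧸ (I • (⊤ : Submodule R M))) := by
    rw [← EGA4Alg4.ringKrullDim_quotient_assoc hN hq]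
    refine EGA4Alg4.ringKrullDim_quotient_le_supportDim
      (p := ⟨q, hq.isPrime⟩) ?_
    rw [Module.support_quotient]
    refine ⟨?_, hIq⟩
    exact Module.support_subset_of_surjective _ (Submodule.mkQ_surjective _)
      (EGA4Alg4.mem_support_of_assoc hq)
  rw [le_antisymm hle hge, ← hlen, ← hdim]
  rfl

theorem vanishing_iff_supportDim {A : Type u} [CommRing A] [IsNoetherianRing A] (J : Ideal A)
    {G : Type u} [AddCommGroup G] [Module A G] [Module.Finite A G]
    (hCM : ∀ p : PrimeSpectrum A, Subsingleton (LocalizedModule p.asIdeal.primeCompl G) ∨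
      LocCoh.IsCohenMacaulayModule (Localization.AtPrime p.asIdeal)
        (LocalizedModule p.asIdeal.primeCompl G)) (n : ℕ) :
    (∀ i : ℕ, i < n → Subsingleton (LocCoh.H J i G)) ↔
      ∀ p : PrimeSpectrum A, J ≤ p.asIdeal → p ∈ support A G →
        (n : WithBot ℕ∞) ≤ supportDim (Localization.AtPrime p.asIdeal)
          (LocalizedModule p.asIdeal.primeCompl G) := by
  rw [← LC17.natCast_le_idealDepth_iff J G n, LC17.idealDepth_eq_iInf J, le_iInf₂_iff]
  have hcast : ((n : ℕ∞) : WithBot ℕ∞) = (n : WithBot ℕ∞) := rfl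
  refine ⟨fun h p hp hps => ?_, fun h p hp => ?_⟩
  · have hne : ¬ Subsingleton (LocalizedModule p.asIdeal.primeCompl G) :=
      not_subsingleton_iff_nontrivial.2 (Module.mem_support_iff.1 hps)
    rw [((hCM p).resolve_left hne : _ = _), ← hcast]
    exact WithBot.coe_le_coe.2 (h p hp)
  · rcases hCM p with hs | hcm
    · rw [EGA4Alg4.depth_of_subsingleton]
      exact le_top
    · have hps : p ∈ support A G := Module.mem_support_iff.2
        (EGA4Alg4.isCohenMacaulayModule_nontrivial hcm)
      have := h p hp hps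
      rw [(hcm : _ = _), ← hcast] at this
      exact WithBot.coe_le_coe.1 this

end Groth.Agent.LC15
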