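import Groth.Agent.LC15.Gamma
import Mathlib.LinearAlgebra.TensorProduct.Pi
import Mathlib.RingTheory.Flat.Basic
import Mathlib.LinearAlgebra.StdBasis

set_option autoImplicit false

universe u

open TensorProduct

namespace Groth.Agent.LC15

variable {R : Type u} [CommRing R]

section HomTensor

variable (F : Type u) [AddCommGroup F] [Module R F] (J E : Type u) [AddCommGroup J] [Module R J]
  [AddCommGroup E] [Module R E]

/-- `f ⊗ h ↦ (f ⊗ₜ ·) ∘ h`. -/
noncomputable def tensorHomTo : F ⊗[R] (J →ₗ[R] E) →ₗ[R] J →ₗ[R] F ⊗[R] E :=
  TensorProduct.lift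
    { toFun := fun f =>
        { toFun := fun h => (TensorProduct.mk R F E f).comp h
          map_add' := fun _ _ => by ext; simp [TensorProduct.tmul_add]
          map_smul' := fun _ _ => by ext; simp [TensorProduct.tmul_smul] }
      map_add' := fun _ _ => by ext; simp [TensorProduct.add_tmul]
      map_smul' := fun _ _ => by ext; simp [TensorProduct.smul_tmul'] }

theorem tensorHomTo_tmul (f : F) (h : J →ₗ[R] E) (x : J) :
    tensorHomTo F J E (f ⊗ₜ h) x = f ⊗ₜ h x := rfl

variable [Module.Flat R F]

theorem tensorHomTo_surjective [IsNoetherianRing R] [Module.Finite R J] :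
    Function.Surjective (tensorHomTo (R := R) F J E) := by
  classical
  obtain ⟨n, p, hp⟩ := Module.Finite.exists_fin' R J
  obtain ⟨k, c, hc⟩ := Submodule.fg_iff_exists_fin_generating_family.1
    (IsNoetherian.noetherian (LinearMap.ker p))
  intro φ
  let ev : (J →ₗ[R] E) →ₗ[R] (Fin n → E) :=
    { toFun := fun h i => h (p (Pi.single i 1))
      map_add' := fun _ _ => rfl
      map_smul' := fun _ _ => rfl }
  let L : (Fin n → E) →ₗ[R] (Fin k → E) :=
    LinearMap.pi fun j => ∑ i, c j i • LinearMap.proj i
  have hdec : ∀ v : Fin n → R, v = ∑ i, v i • Pi.single i (1 : R) := pi_eq_sum_univ' 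
  have hker : ∀ j, p (c j) = 0 := fun j =>
    (hc ▸ Submodule.subset_span ⟨j, rfl⟩ : c j ∈ LinearMap.ker p)
  have hex : Function.Exact ev L := by
    intro x
    constructor
    · intro hx
      let ψ : (Fin n → R) →ₗ[R] E := Fintype.linearCombination R x
      have hψ : ∀ v, ψ v = ∑ i, v i • x i := fun v => Fintype.linearCombination_apply R x v
      have hψc : ∀ j, c j ∈ LinearMap.ker ψ := fun j => by
        rw [LinearMap.mem_ker, hψ]
        have := congrFun hx j
        simpa [L] using this
      have hle : LinearMap.ker p ≤ LinearMap.ker ψ := by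
        rw [← hc, Submodule.span_le]
        rintro _ ⟨j, rfl⟩
        exact hψc j
      let h : J →ₗ[R] E := ((LinearMap.ker p).liftQ ψ hle).comp
        (p.quotKerEquivOfSurjective hp).symm.toLinearMap
      refine ⟨h, funext fun i => ?_⟩
      change ((LinearMap.ker p).liftQ ψ hle) ((p.quotKerEquivOfSurjective hp).symm (p (Pi.single i 1))) = x i
      rw [show (p.quotKerEquivOfSurjective hp).symm (p (Pi.single i 1)) =
        Submodule.Quotient.mk (Pi.single i 1) from
          (LinearEquiv.symm_apply_eq _).2 rfl, Submodule.liftQ_apply, hψ]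
      simp [Pi.single_apply]
    · rintro ⟨h, rfl⟩
      funext j
      have := congrArg h (hker j)
      rw [hdec (c j)] at this
      simpa [L, ev, map_sum] using this
  let x : F ⊗[R] (Fin n → E) :=
    (TensorProduct.piRight R R F _).symm fun i => φ (p (Pi.single i 1))
  have hLT : ∀ (y : F ⊗[R] (Fin n → E)) (j : Fin k),
      TensorProduct.piRight R R F _ (L.lTensor F y) j =
        ∑ i, c j i • TensorProduct.piRight R R F _ y i := by
    intro y j
    induction y using TensorProduct.induction_on with
    | zero => simp
    | tmul f v => simp [L, TensorProduct.tmul_sum, TensorProduct.tmul_smul]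
    | add a b ha hb => simp only [map_add, Pi.add_apply, ha, hb, smul_add, Finset.sum_add_distrib]
  have hx : L.lTensor F x = 0 := by
    apply (TensorProduct.piRight R R F fun _ : Fin k => E).injective
    funext j
    rw [hLT, map_zero]
    simp only [x, LinearEquiv.apply_symm_apply, Pi.zero_apply]
    have := congrArg φ (hker j)
    rw [hdec (c j)] at this
    simpa [map_sum] using this
  obtain ⟨z, hz⟩ := (Module.Flat.lTensor_exact F hex x).1 hx
  refine ⟨z, ?_⟩
  have hev : ∀ (z : F ⊗[R] (J →ₗ[R] E)) i,
      tensorHomTo (R := R) F J E z (p (Pi.single i 1)) =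
        TensorProduct.piRight R R F _ (ev.lTensor F z) i := by
    intro z i
    induction z using TensorProduct.induction_on with
    | zero => simp
    | tmul f h => simp [tensorHomTo_tmul, ev]
    | add a b ha hb => simp [ha, hb]
  have : (tensorHomTo F J E z).comp p = φ.comp p := LinearMap.pi_ext' fun i => by
    ext
    simp only [LinearMap.comp_apply, LinearMap.single_apply]
    rw [hev, hz]
    simp [x]
  exact LinearMap.ext fun v => by
    obtain ⟨w, rfl⟩ := hp v
    exact DFunLike.congr_fun this w

end HomTensor

variable [IsNoetherianRing R] (F : Type u) [AddCommGroup F] [Module R F] [Module.Flat R F]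

/-- Flat tensor injective is injective over a Noetherian ring. -/
theorem injective_tensor (E : Type u) [AddCommGroup E] [Module R E] [Module.Injective R E] :
    Module.Injective R (F ⊗[R] E) := by
  refine Module.Baer.injective fun J φ => ?_
  obtain ⟨z, rfl⟩ := tensorHomTo_surjective F J E φ
  let res : (R →ₗ[R] E) →ₗ[R] (J →ₗ[R] E) := LinearMap.lcomp R E J.subtype
  have hres : Function.Surjective res := fun h => by
    obtain ⟨h', hh'⟩ := Module.Injective.out J.subtype J.injective_subtype h
    exact ⟨h', LinearMap.ext hh'⟩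
  obtain ⟨w, rfl⟩ := LinearMap.lTensor_surjective F hres z
  refine ⟨tensorHomTo F R E w, fun r hr => ?_⟩
  induction w using TensorProduct.induction_on with
  | zero => simp
  | tmul f h => rfl
  | add a b ha hb => simp only [map_add, LinearMap.add_apply, ha, hb]

variable (I : Ideal R) (M : Type u) [AddCommGroup M] [Module R M]

theorem range_lTensor_gamma :
    LinearMap.range ((gamma I M).subtype.lTensor F) = gamma I (F ⊗[R] M) := by
  refine le_antisymm ?_ fun y hy => ?_
  · rintro _ ⟨z, rfl⟩
    induction z using TensorProduct.induction_on with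
    | zero => simp
    | tmul f m =>
      obtain ⟨n, hn⟩ := m.2
      exact ⟨n, fun a ha => by
        rw [LinearMap.lTensor_tmul, Submodule.coe_subtype, ← TensorProduct.tmul_smul, hn a ha,
          TensorProduct.tmul_zero]⟩
    | add a b ha hb => rw [map_add]; exact add_mem ha hb
  · obtain ⟨n, hn⟩ := hy
    obtain ⟨k, c, hc⟩ := Submodule.fg_iff_exists_fin_generating_family.1
      (IsNoetherian.noetherian (I ^ n) : Submodule.FG (I ^ n))
    let L : M →ₗ[R] (Fin k → M) := LinearMap.pi fun j => LinearMap.lsmul R M (c j)
    have hy0 : L.lTensor F y = 0 := by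
      classical
      apply (TensorProduct.piRight R R F fun _ : Fin k => M).injective
      funext j
      have hj : ∀ z : F ⊗[R] M, TensorProduct.piRight R R F _ (L.lTensor F z) j = c j • z := by
        intro z
        induction z using TensorProduct.induction_on with
        | zero => simp
        | tmul f m => simp [L, TensorProduct.tmul_smul]
        | add a b ha hb => simp only [map_add, Pi.add_apply, ha, hb, smul_add]
      rw [hj, map_zero, Pi.zero_apply]
      exact hn _ (hc ▸ Submodule.subset_span ⟨j, rfl⟩)
    obtain ⟨z, rfl⟩ :=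
      (Module.Flat.lTensor_exact F (LinearMap.exact_subtype_ker_map L) y).1 hy0
    have hker : LinearMap.ker L ≤ gamma I M := fun m hm => ⟨n, fun a ha => by
      rw [← hc] at ha
      induction ha using Submodule.span_induction with
      | mem a ha =>
        obtain ⟨j, rfl⟩ := ha
        exact congrFun hm j
      | zero => simp
      | add a a' _ _ h h' => rw [add_smul, h, h', add_zero]
      | smul r a _ h => rw [smul_assoc, h, smul_zero]⟩
    refine ⟨(Submodule.inclusion hker).lTensor F z, ?_⟩
    rw [← LinearMap.comp_apply, ← LinearMap.lTensor_comp]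
    rfl

theorem range_lTensor_h0 :
    LinearMap.range ((h0 I M).lTensor F) = LinearMap.range (h0 I (F ⊗[R] M)) := by
  rw [range_h0, ← range_lTensor_gamma F I M]
  have : (h0 I M).lTensor F = (gamma I M).subtype.lTensor F ∘ₗ (H0equiv I M).toLinearMap.lTensor F := by
    rw [← LinearMap.lTensor_comp]
    rfl
  rw [this, LinearMap.range_comp,
    LinearMap.range_eq_top.2 (LinearMap.lTensor_surjective F (H0equiv I M).surjective),
    Submodule.map_top]

/-- `F ⊗ H^0_I(M) ≅ H^0_I(F ⊗ M)`. -/
noncomputable def tensorH0 : F ⊗[R] LocCoh.H I 0 M ≃ₗ[R] LocCoh.H I 0 (F ⊗[R] M) :=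
  ((LinearEquiv.ofInjective _
      (Module.Flat.lTensor_preserves_injective_linearMap (h0 I M) (h0_injective I M))).trans
    (LinearEquiv.ofEq _ _ (range_lTensor_h0 F I M))).trans
    (LinearEquiv.ofInjective _ (h0_injective I (F ⊗[R] M))).symm

theorem h0_tensorH0 (x : F ⊗[R] LocCoh.H I 0 M) :
    h0 I (F ⊗[R] M) (tensorH0 F I M x) = (h0 I M).lTensor F x :=
  congrArg Subtype.val ((LinearEquiv.ofInjective _ (h0_injective I (F ⊗[R] M))).apply_symm_apply
    ((LinearEquiv.ofEq _ _ (range_lTensor_h0 F I M)) (LinearEquiv.ofInjective _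
      (Module.Flat.lTensor_preserves_injective_linearMap (h0 I M) (h0_injective I M)) x)))

variable {M} in
theorem tensorH0_natural {N : Type u} [AddCommGroup N] [Module R N] (f : M →ₗ[R] N)
    (x : F ⊗[R] LocCoh.H I 0 M) :
    Hmap I 0 (f.lTensor F) (tensorH0 F I M x) = tensorH0 F I N ((Hmap I 0 f).lTensor F x) := by
  apply h0_injective I (F ⊗[R] N)
  rw [h0_Hmap, h0_tensorH0, h0_tensorH0, ← LinearMap.comp_apply, ← LinearMap.comp_apply,
    ← LinearMap.lTensor_comp, ← LinearMap.lTensor_comp]
  congr 2
  ext y
  exact (h0_Hmap I f y).symm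

/-- Local cohomology commutes with flat tensor products. -/
theorem nonempty_tensor_H_equiv (i : ℕ) :
    ∀ (M : Type u) [AddCommGroup M] [Module R M],
      Nonempty (F ⊗[R] LocCoh.H I i M ≃ₗ[R] LocCoh.H I i (F ⊗[R] M)) := by
  induction i with
  | zero => exact fun M _ _ => ⟨tensorH0 F I M⟩
  | succ i ih =>
    intro M _ _
    obtain ⟨E, _, _, f, hf, hE⟩ := exists_injective_embedding (R := R) M
    haveI := injective_tensor (R := R) F E
    let g := (LinearMap.range f).mkQ
    have hex : Function.Exact f g := LinearMap.exact_map_mkQ_range f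
    have hg : Function.Surjective g := Submodule.mkQ_surjective _
    have hf' : Function.Injective (f.lTensor F) :=
      Module.Flat.lTensor_preserves_injective_linearMap f hf
    have hex' : Function.Exact (f.lTensor F) (g.lTensor F) := Module.Flat.lTensor_exact F hex
    have hg' : Function.Surjective (g.lTensor F) := LinearMap.lTensor_surjective F hg
    rcases i with _ | j
    · let d := (Hδ I 0 hf hex hg).lTensor F
      let d' : F ⊗[R] LocCoh.H I 0 (E ⧸ LinearMap.range f) →ₗ[R] LocCoh.H I 1 (F ⊗[R] M) :=
        (Hδ I 0 hf' hex' hg').comp (tensorH0 F I _).toLinearMap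
      have hd : Function.Surjective d := LinearMap.lTensor_surjective F
        (Hδ_surjective I 0 hf hex hg (subsingleton_H_succ_of_injective I 0))
      have hd' : Function.Surjective d' := (Hδ_surjective I 0 hf' hex' hg'
        (subsingleton_H_succ_of_injective I 0)).comp (tensorH0 F I _).surjective
      have hker : LinearMap.ker d = LinearMap.ker d' := by
        ext x
        have h1 : d x = 0 ↔ x ∈ Set.range ((Hmap I 0 g).lTensor F) :=
          Module.Flat.lTensor_exact F (H_exact₃ I 0 hf hex hg) x
        rw [LinearMap.mem_ker, LinearMap.mem_ker, h1,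
          show d' x = Hδ I 0 hf' hex' hg' (tensorH0 F I _ x) from rfl,
          H_exact₃ I 0 hf' hex' hg']
        constructor
        · rintro ⟨w, rfl⟩
          exact ⟨_, tensorH0_natural F I g w⟩
        · rintro ⟨w, hw⟩
          obtain ⟨w', rfl⟩ := (tensorH0 F I E).surjective w
          rw [tensorH0_natural] at hw
          exact ⟨w', (tensorH0 F I _).injective hw⟩
      exact ⟨((d.quotKerEquivOfSurjective hd).symm.trans (Submodule.quotEquivOfEq _ _ hker)).trans
        (d'.quotKerEquivOfSurjective hd')⟩
    · obtain ⟨e⟩ := ih (E ⧸ LinearMap.range f)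
      exact ⟨((LinearEquiv.lTensor F (HδEquiv I (j + 1) hf hex hg
        (subsingleton_H_succ_of_injective I j) (subsingleton_H_succ_of_injective I (j + 1)))).symm.trans
        e).trans (HδEquiv I (j + 1) hf' hex' hg' (subsingleton_H_succ_of_injective I j)
          (subsingleton_H_succ_of_injective I (j + 1)))⟩

end Groth.Agent.LC15
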