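import Groth.Agent.LC15.ExtKoszul
import Groth.Agent.Om3.DetSeq
import Groth.Agent.Om3.Chart
import Groth.Agent.Props58.LocFree.Affine
import Groth.Prelude.Def_FlatMod2
import Mathlib.RingTheory.Regular.Flat
import Mathlib.RingTheory.Flat.Localization

/-!
Sheaf Koszul complexes of regular sections are exact in positive degrees.
-/

set_option autoImplicit false
set_option backward.isDefEq.respectTransparency false
set_option linter.style.haveILetI false

noncomputable section

universe u

open CategoryTheory CategoryTheory.Limits AlgebraicGeometry TopologicalSpace Opposite exteriorPower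

namespace Groth.Agent.LC15.KoszExact

open Groth.Agent QC70

variable {X : Scheme.{u}} {E : X.Modules} {s : E ⟶ Coh.structureModule X} (C : KoszSh.Cx E s)

/-- The differential on affine sections is contraction. -/
theorem d_app_eq (p : ℕ) (U : X.affineOpens) (y : Γ(C.K.X (p + 1), U.1)) :
    (C.K.d (p + 1) p).app U.1 y =
      (C.loc p U).symm (DR29.contr (KoszSh.secForm s U.1) p (C.loc (p + 1) U y)) := by
  obtain ⟨z, rfl⟩ := (C.loc (p + 1) U).symm.surjective y
  rw [LinearEquiv.apply_symm_apply]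
  have hz : z ∈ Submodule.span Γ(X, U.1) (Set.range (ιMulti Γ(X, U.1) (p + 1))) :=
    (ιMulti_span Γ(X, U.1) (p + 1) Γ(E, U.1)).ge trivial
  induction hz using Submodule.span_induction with
  | mem z hz =>
    obtain ⟨e, rfl⟩ := hz
    rw [ExtKoszul.contr_ιMulti, C.rule]
  | zero => simp
  | add a b _ _ ha hb => simp [map_add, ha, hb]
  | smul r a _ ha =>
    rw [map_smul, Scheme.Modules.Hom.app_smul, ha, map_smul, map_smul]

/-- Exactness on an affine open with a basis sent to a weakly regular sequence. -/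
theorem exact_affine {n : ℕ} (U : X.affineOpens) (b : Module.Basis (Fin n) Γ(X, U.1) Γ(E, U.1))
    (hreg : RingTheory.Sequence.IsWeaklyRegular Γ(X, U.1) (List.ofFn fun k => KoszSh.secForm s U.1 (b k)))
    (p : ℕ) (x : Γ(C.K.X (p + 1), U.1)) (hx : (C.K.d (p + 1) p).app U.1 x = 0) :
    ∃ y, (C.K.d (p + 2) (p + 1)).app U.1 y = x := by
  rw [d_app_eq, LinearEquiv.map_eq_zero_iff] at hx
  obtain ⟨y, hy⟩ := ExtKoszul.exists_contr_eq _ b hreg p _ hx
  refine ⟨(C.loc (p + 2) U).symm y, ?_⟩
  rw [d_app_eq, LinearEquiv.apply_symm_apply, hy, LinearEquiv.symm_apply_apply]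

theorem secForm_res {U V : X.Opens} (h : V ≤ U) (e : Γ(E, U)) :
    KoszSh.secForm s V (res E h e) = X.presheaf.map (homOfLE h).op (KoszSh.secForm s U e) := by
  rw [KoszSh.secForm_apply, KoszSh.secForm_apply, app_res]
  rfl

/-- Regular bases restrict to basic opens. -/
theorem exists_basis_regular [E.IsQuasicoherent] {n : ℕ} (U : X.affineOpens)
    (b : Module.Basis (Fin n) Γ(X, U.1) Γ(E, U.1))
    (hreg : RingTheory.Sequence.IsWeaklyRegular Γ(X, U.1) (List.ofFn fun k => KoszSh.secForm s U.1 (b k)))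
    (f : Γ(X, U.1)) :
    ∃ b' : Module.Basis (Fin n) Γ(X, X.basicOpen f) Γ(E, X.basicOpen f),
      RingTheory.Sequence.IsWeaklyRegular Γ(X, X.basicOpen f)
        (List.ofFn fun k => KoszSh.secForm s (X.basicOpen f) (b' k)) := by
  obtain ⟨b', hb'⟩ := Om3.DetSeq.exists_basis_res b (X.basicOpen_le f)
  refine ⟨b', ?_⟩
  haveI := U.2.isLocalization_basicOpen f
  have h := hreg.of_isLocalization Γ(X, X.basicOpen f) (Submonoid.powers f)
  rw [List.map_ofFn] at h
  have e : (algebraMap Γ(X, U.1) Γ(X, X.basicOpen f)) ∘ (fun k => KoszSh.secForm s U.1 (b k)) =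
      fun k => KoszSh.secForm s (X.basicOpen f) (b' k) := funext fun k => by
    rw [hb' k, secForm_res]
    rfl
  rwa [e] at h

/-- The complex is exact in positive degrees. -/
theorem exactAt [E.IsQuasicoherent] {n : ℕ}
    (hs : ∀ x : X, ∃ U : X.affineOpens, x ∈ U.1 ∧
      ∃ b : Module.Basis (Fin n) Γ(X, U.1) Γ(E, U.1),
        RingTheory.Sequence.IsWeaklyRegular Γ(X, U.1) (List.ofFn fun k => KoszSh.secForm s U.1 (b k)))
    (p : ℕ) : C.K.ExactAt (p + 1) := by
  rw [HomologicalComplex.exactAt_iff' C.K (p + 2) (p + 1) p (by simp) (by simp)]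
  refine Om3.exact_of_basis _ fun O x hxO => ?_
  obtain ⟨U, hxU, b, hreg⟩ := hs x
  obtain ⟨f, hf, hxf⟩ := U.2.exists_basicOpen_le (V := O) ⟨x, hxO⟩ hxU
  obtain ⟨b', hb'⟩ := exists_basis_regular U b hreg f
  exact ⟨X.basicOpen f, hxf, hf, exact_affine C ⟨_, U.2.basicOpen f⟩ b' hb' p⟩

end Groth.Agent.LC15.KoszExact
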