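import Groth.Agent.LC15.ExtKoszul
import Mathlib.LinearAlgebra.ExteriorPower.Basis
import Mathlib.RingTheory.Flat.TorsionFree

/-!
The Koszul complex of `n` copies of one non-zero-divisor: cycles and boundaries.
-/

set_option autoImplicit false
set_option linter.unusedSectionVars false
set_option linter.style.haveILetI false

noncomputable section

universe u

open exteriorPower

namespace Groth.Agent.LC15.KoszCopies

variable {R M F : Type u} [CommRing R] [AddCommGroup M] [Module R M] [AddCommGroup F] [Module R F]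

theorem coe_map (g : F →ₗ[R] M) (p : ℕ) (z : ↥(⋀[R]^p F)) :
    ((exteriorPower.map p g z : ↥(⋀[R]^p M)) : ExteriorAlgebra R M) = ExteriorAlgebra.map g (z : ExteriorAlgebra R F) := by
  refine LinearMap.congr_fun (f := (⋀[R]^p M).subtype ∘ₗ exteriorPower.map p g)
    (g := (ExteriorAlgebra.map g).toLinearMap ∘ₗ (⋀[R]^p F).subtype) (exteriorPower.linearMap_ext ?_) z
  ext e
  show ((exteriorPower.map p g (ιMulti R p e) : ↥(⋀[R]^p M)) : ExteriorAlgebra R M) =
    ExteriorAlgebra.map g ((ιMulti R p e : ↥(⋀[R]^p F)) : ExteriorAlgebra R F)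
  rw [exteriorPower.map_apply_ιMulti, exteriorPower.ιMulti_apply_coe, exteriorPower.ιMulti_apply_coe,
    ExteriorAlgebra.map_apply_ιMulti]

variable (φ : M →ₗ[R] R) (g : F →ₗ[R] M)

theorem contr_map (hg : ∀ v, φ (g v) = 0) (p : ℕ) (z : ↥(⋀[R]^(p + 1) F)) :
    DR29.contr φ p (exteriorPower.map (p + 1) g z) = 0 := by
  refine LinearMap.congr_fun (f := DR29.contr φ p ∘ₗ exteriorPower.map (p + 1) g) (g := 0)
    (exteriorPower.linearMap_ext ?_) z
  ext e
  show ((DR29.contr φ p (exteriorPower.map (p + 1) g (ιMulti R (p + 1) e)) : ↥(⋀[R]^p M)) : ExteriorAlgebra R M) =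
    ((0 : ↥(⋀[R]^p M)) : ExteriorAlgebra R M)
  refine congrArg Subtype.val ?_
  rw [exteriorPower.map_apply_ιMulti, ExtKoszul.contr_ιMulti]
  simp [KoszSh.dGen, hg]

theorem d_map (hg : ∀ v, φ (g v) = 0) (p : ℕ) (z : ↥(⋀[R]^p F)) :
    CliffordAlgebra.contractLeft φ ((exteriorPower.map p g z : ↥(⋀[R]^p M)) : ExteriorAlgebra R M) = 0 := by
  cases p with
  | zero =>
    refine ExtKoszul.d_algebraMap φ ?_
    have h : ((exteriorPower.map 0 g z : ↥(⋀[R]^0 M)) : ExteriorAlgebra R M) ∈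
        LinearMap.range (ExteriorAlgebra.ι R (M := M)) ^ 0 := (exteriorPower.map 0 g z).2
    rwa [pow_zero] at h
  | succ p => exact congrArg Subtype.val (contr_map φ g hg p z)

variable (b : ℕ → M) (f : ℕ → F)

theorem exists_map_of_mem_Sub (k : ℕ) (hb : ∀ j < k, b j = g (f j)) : ∀ (j p : ℕ), j ≤ k → ∀ x ∈ ExtKoszul.Sub (R := R) b j p,
    ∃ z ∈ ⋀[R]^p F, ExteriorAlgebra.map g z = x
  | j, 0, _, x, hx => by
    obtain ⟨t, rfl⟩ := ExtKoszul.mem_zero b hx
    refine ⟨algebraMap R _ t, ?_, AlgHom.commutes _ t⟩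
    show algebraMap R _ t ∈ LinearMap.range (ExteriorAlgebra.ι R (M := F)) ^ 0
    rw [pow_zero]
    exact Submodule.mem_one.2 ⟨t, rfl⟩
  | 0, p + 1, _, x, hx => ⟨0, Submodule.zero_mem _, by rw [map_zero, (Submodule.mem_bot R).1 hx]⟩
  | j + 1, p + 1, hj, x, hx => by
    obtain ⟨a, ha, c, hc, rfl⟩ := ExtKoszul.mem_succ b hx
    obtain ⟨za, hza, rfl⟩ := exists_map_of_mem_Sub k hb j (p + 1) (Nat.le_of_succ_le hj) a ha
    obtain ⟨zc, hzc, rfl⟩ := exists_map_of_mem_Sub k hb j p (Nat.le_of_succ_le hj) c hc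
    refine ⟨za + ExteriorAlgebra.ι R (f j) * zc, Submodule.add_mem _ hza ?_, ?_⟩
    · show _ ∈ LinearMap.range (ExteriorAlgebra.ι R (M := F)) ^ (p + 1)
      rw [pow_succ']
      exact Submodule.mul_mem_mul (LinearMap.mem_range_self _ _) hzc
    · rw [map_add, map_mul, ExteriorAlgebra.map_apply_ι, ← hb j hj]

/-- The data: `n + 1` copies of `y`, with `F` free on the differences. -/
structure Setup (n : ℕ) (y : R) where
  bs : Module.Basis (Fin (n + 1)) R M
  fs : Module.Basis (Fin n) R F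
  hφ : ∀ i, φ (bs i) = y
  hg : ∀ k : Fin n, g (fs k) = bs k.succ - bs 0

variable {φ g} {n : ℕ} {y : R} (S : Setup φ g n y)
include S

theorem Setup.phi_g (v : F) : φ (g v) = 0 := by
  refine LinearMap.congr_fun (f := φ ∘ₗ g) (g := 0) (S.fs.ext fun k => ?_) v
  simp [S.hg, S.hφ]

variable (hy : y ∈ nonZeroDivisors R)
include hy

theorem Setup.isSMulRegular (p : ℕ) (k : ℕ) : IsSMulRegular ↥(⋀[R]^p M) (y ^ k) := by
  haveI := Module.Free.of_basis S.bs
  exact Module.Flat.isSMulRegular_of_nonZeroDivisors (M := ↥(⋀[R]^p M)) (pow_mem hy k)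

/-- Cycles are images of forms in the differences; boundaries are `y` times those. -/
theorem Setup.main (p : ℕ) :
    (∀ x : ↥(⋀[R]^p M), CliffordAlgebra.contractLeft φ (x : ExteriorAlgebra R M) = 0 →
      ∃ z, exteriorPower.map p g z = x) ∧
    (∀ x : ↥(⋀[R]^(p + 1) M), ∃ z, DR29.contr φ p x = y • exteriorPower.map p g z) ∧
    (∀ z : ↥(⋀[R]^p F), ∃ x, DR29.contr φ p x = y • exteriorPower.map p g z) := by
  classical
  let f : ℕ → F := fun j => if h : j < n then S.fs ⟨j, h⟩ else 0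
  let b : ℕ → M := fun j => if j < n then g (f j) else S.bs 0
  have hbn : b n = S.bs 0 := by simp [b]
  have hblt : ∀ j < n, b j = g (f j) := fun j h => by simp [b, h]
  have hzero : ∀ j < n, φ (b j) = 0 := fun j h => by rw [hblt j h, S.phi_g]
  have hspan : ∀ v : M, ∃ e : ℕ → R, v = ∑ j ∈ Finset.range (n + 1), e j • b j := fun v => by
    refine ⟨fun j => if h : j < n then S.bs.repr v (Fin.succ ⟨j, h⟩) else ∑ i, S.bs.repr v i, ?_⟩
    simp only [Finset.sum_range_succ, dif_neg (lt_irrefl n), hbn]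
    rw [← Fin.sum_univ_eq_sum_range]
    conv_lhs => rw [← S.bs.sum_repr v, Fin.sum_univ_succ]
    rw [Fin.sum_univ_succ (f := fun i => S.bs.repr v i), add_smul, Finset.sum_smul]
    have : ∀ j : Fin n, b j.1 = S.bs j.succ - S.bs 0 := fun j => by
      rw [hblt j j.2, ← S.hg]; simp [f]
    simp only [this, Fin.is_lt, dif_pos, smul_sub, Finset.sum_sub_distrib, Fin.eta]
    abel
  have hφn : φ (b n) = y := by rw [hbn, S.hφ]
  have hmap : ∀ (q : ℕ) (a : ExteriorAlgebra R M), a ∈ ExtKoszul.Sub b n q →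
      ∃ z : ↥(⋀[R]^q F), ((exteriorPower.map q g z : ↥(⋀[R]^q M)) : ExteriorAlgebra R M) = a := fun q a ha => by
    obtain ⟨z, hz, hza⟩ := exists_map_of_mem_Sub g b f n hblt n q le_rfl a ha
    exact ⟨⟨z, hz⟩, (coe_map g q _).trans hza⟩
  have hd0 : ∀ (q : ℕ) (a : ExteriorAlgebra R M), a ∈ ExtKoszul.Sub b n q → CliffordAlgebra.contractLeft φ a = 0 :=
    fun q a ha => ExtKoszul.d_eq_zero b φ n q hzero a ha
  have hdx : ∀ (q : ℕ) (x : ExteriorAlgebra R M), x ∈ ExtKoszul.Sub b (n + 1) (q + 1) →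
      ∃ a ∈ ExtKoszul.Sub b n (q + 1), ∃ c ∈ ExtKoszul.Sub b n q,
        x = a + ExteriorAlgebra.ι R (b n) * c ∧ CliffordAlgebra.contractLeft φ x = y • c := fun q x hx => by
    obtain ⟨a, ha, c, hc, rfl⟩ := ExtKoszul.mem_succ b hx
    refine ⟨a, ha, c, hc, rfl, ?_⟩
    rw [map_add, ExtKoszul.d_ι_mul, hd0 _ a ha, hd0 _ c hc, mul_zero, sub_zero, zero_add, hφn]
  refine ⟨fun x hx => ?_, fun x => ?_, fun z => ?_⟩
  · cases p with
    | zero =>
      obtain ⟨t, ht⟩ := ExtKoszul.mem_zero b (ExtKoszul.mem_Sub_of_span b (n + 1) hspan 0 x.1 x.2)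
      obtain ⟨z, hz⟩ := hmap 0 x.1 (by rw [ExtKoszul.Sub_zero]; exact Submodule.mem_one.2 ⟨t, ht⟩)
      exact ⟨z, Subtype.ext hz⟩
    | succ p =>
      obtain ⟨a, ha, c, hc, hxe, hde⟩ := hdx p x.1 (ExtKoszul.mem_Sub_of_span b (n + 1) hspan _ x.1 x.2)
      rw [hx] at hde
      have hc0 : c = 0 := congrArg Subtype.val
        ((S.isSMulRegular hy p 1).right_eq_zero_of_smul (x := (⟨c, ExtKoszul.Sub_le b n p hc⟩ : ↥(⋀[R]^p M)))
          (Subtype.ext (by rw [pow_one]; exact hde.symm)))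
      obtain ⟨z, hz⟩ := hmap (p + 1) a ha
      refine ⟨z, Subtype.ext ?_⟩
      rw [hz, hxe, hc0, mul_zero, add_zero]
  · obtain ⟨a, ha, c, hc, hxe, hde⟩ := hdx p x.1 (ExtKoszul.mem_Sub_of_span b (n + 1) hspan _ x.1 x.2)
    obtain ⟨z, hz⟩ := hmap p c hc
    exact ⟨z, Subtype.ext (hde.trans (congrArg (y • ·) hz.symm))⟩
  · refine ⟨DR29.wedge (S.bs 0) p (exteriorPower.map p g z), Subtype.ext ?_⟩
    show CliffordAlgebra.contractLeft φ (ExteriorAlgebra.ι R (S.bs 0) *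
      ((exteriorPower.map p g z : ↥(⋀[R]^p M)) : ExteriorAlgebra R M)) = _
    rw [ExtKoszul.d_ι_mul, d_map φ g S.phi_g p z, mul_zero, sub_zero, S.hφ]
    rfl

end Groth.Agent.LC15.KoszCopies
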