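import Groth.Agent.LC15.KoszTwistHom
import Groth.Agent.LC15.KoszCopies
import Groth.Agent.QCTens72.Basic
import Groth.Prelude.Def_FlatMod2

/-!
Cycles and homology of the Koszul complex of copies of one effective Cartier divisor.
-/

set_option autoImplicit false
set_option backward.isDefEq.respectTransparency false
set_option linter.style.haveILetI false

noncomputable section

universe u

open CategoryTheory CategoryTheory.Limits AlgebraicGeometry TopologicalSpace Opposite exteriorPower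

namespace Groth.Agent.LC15.KoszCopiesSheaf

open Groth.Agent QC70 KoszTwist

variable {X : Scheme.{u}} (n : ℕ) (I : X.IdealSheafData)

/-- The sum of the copies maps to the free module by forgetting the first copy. -/
@[irreducible] def hMap : Esum (fun _ : Fin n => I) ⟶ FlatMod.freeMod X (n - 1) :=
  Sigma.desc fun i =>
    if h : 0 < i.1 then
      ClSub.idealModι I ≫ Sigma.ι (fun _ : Fin (n - 1) => Coh.structureModule X) ⟨i.1 - 1, by have := i.2; omega⟩
    else 0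

theorem ι_hMap_zero (i : Fin n) (h : ¬ 0 < i.1) :
    Sigma.ι (fun _ : Fin n => ClSub.idealMod I) i ≫ hMap n I = 0 := by
  unfold hMap
  rw [Sigma.ι_desc, dif_neg h]

theorem ι_hMap_succ (m : ℕ) (i : Fin m) :
    Sigma.ι (fun _ : Fin (m + 1) => ClSub.idealMod I) i.succ ≫ hMap (m + 1) I =
      ClSub.idealModι I ≫ Sigma.ι (fun _ : Fin (m + 1 - 1) => Coh.structureModule X) i := by
  unfold hMap
  rw [Sigma.ι_desc, dif_pos (by simp)]
  rfl

theorem isFrame_one (U : X.Opens) :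
    Var76.LineBundle.IsFrame (Coh.structureModule X) U (OmegaSh.strSect X U 1) := fun V h => by
  show Function.Bijective fun a : Γ(X, V) => a * X.presheaf.map (homOfLE h).op (1 : Γ(X, U))
  simp only [map_one, mul_one]
  exact Function.bijective_id

theorem exists_free_basis (m : ℕ) (U : X.Opens) :
    ∃ b : Module.Basis (Fin m) Γ(X, U) Γ(FlatMod.freeMod X m, U), ∀ i,
      b i = (Sigma.ι (fun _ : Fin m => Coh.structureModule X) i).app U (OmegaSh.strSect X U 1) :=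
  SecTools.exists_basis_coprod (fun _ : Fin m => Coh.structureModule X) U (fun _ => OmegaSh.strSect X U 1)
    fun _ => isFrame_one U

theorem isQuasicoherent_free (m : ℕ) : (FlatMod.freeMod X m).IsQuasicoherent :=
  SecTools.isQuasicoherent_coprod_fin _ fun _ => inferInstance

variable {n I} (C : KoszSh.Cx (Esum fun _ : Fin n => I) (ssum fun _ : Fin n => I)) (q : ℕ)
variable {W : X.affineOpens} {y : Γ(X, W.1)}

/-- Local splitting of the complex on cycles. -/
def IsSplit (W : X.affineOpens) (y : Γ(X, W.1)) (p : ℕ)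
    (j : Γ(FlatMod.freeMod X (n - 1), W.1) →ₗ[Γ(X, W.1)] Γ(Esum (fun _ : Fin n => I), W.1)) : Prop :=
  (∀ v, KoszMap.secHom (hMap n I) W.1 (j v) = y • v) ∧
    (∀ v, KoszSh.secForm (ssum fun _ : Fin n => I) W.1 (j v) = 0) ∧
    ∀ x : ↥(⋀[Γ(X, W.1)]^p Γ(Esum (fun _ : Fin n => I), W.1)),
      CliffordAlgebra.contractLeft (KoszSh.secForm (ssum fun _ : Fin n => I) W.1)
        (x : ExteriorAlgebra Γ(X, W.1) Γ(Esum (fun _ : Fin n => I), W.1)) = 0 →
      ∃ z, exteriorPower.map p j z = x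

theorem exists_setup {m : ℕ} (hy : y ∈ nonZeroDivisors Γ(X, W.1)) (hI : I.ideal W = Ideal.span {y}) :
    ∃ (j : Γ(FlatMod.freeMod X (m + 1 - 1), W.1) →ₗ[Γ(X, W.1)] Γ(Esum (fun _ : Fin (m + 1) => I), W.1))
      (_ : KoszCopies.Setup (KoszSh.secForm (ssum fun _ : Fin (m + 1) => I) W.1) j m y),
      ∀ v, KoszMap.secHom (hMap (m + 1) I) W.1 (j v) = y • v := by
  obtain ⟨e, he⟩ := Curves2.exists_idealSect_of_mem I W (hI ▸ Ideal.mem_span_singleton_self y)
  obtain ⟨b, hb⟩ := SecTools.exists_basis_coprod (fun _ : Fin (m + 1) => ClSub.idealMod I) W.1 (fun _ => e)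
    fun _ => Curves2.isFrame_of_span I W hy hI e he
  obtain ⟨f, hf⟩ := exists_free_basis (X := X) (m + 1 - 1) W.1
  refine ⟨f.constr Γ(X, W.1) (fun k : Fin m => b k.succ - b 0), ⟨b, f, fun i => ?_, fun k => f.constr_basis _ _ k⟩, ?_⟩
  · rw [hb, KoszSh.secForm_apply]
    exact Eq.trans (congrArg (OmegaSh.fnSect X W.1)
      (app_congr (Sigma.ι_desc (fun _ : Fin (m + 1) => ClSub.idealModι I) i) W.1 e)) he
  · intro v
    refine LinearMap.congr_fun (f := KoszMap.secHom (hMap (m + 1) I) W.1 ∘ₗ f.constr Γ(X, W.1) _)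
      (g := y • LinearMap.id) (f.ext fun k => ?_) v
    rw [LinearMap.comp_apply, Module.Basis.constr_basis, map_sub, LinearMap.smul_apply, LinearMap.id_apply, hb, hb, hf]
    have h0 : KoszMap.secHom (hMap (m + 1) I) W.1
        ((Sigma.ι (fun _ : Fin (m + 1) => ClSub.idealMod I) 0).app W.1 e) = 0 :=
      (app_congr (ι_hMap_zero (m + 1) I 0 (by simp)) W.1 e).trans rfl
    have h1 : KoszMap.secHom (hMap (m + 1) I) W.1
        ((Sigma.ι (fun _ : Fin (m + 1) => ClSub.idealMod I) (Fin.succ k)).app W.1 e) =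
        y • (Sigma.ι (fun _ : Fin (m + 1 - 1) => Coh.structureModule X) k).app W.1 (OmegaSh.strSect X W.1 1) := by
      refine (app_congr (ι_hMap_succ I m k) W.1 e).trans ?_
      rw [← Scheme.Modules.Hom.app_smul]
      refine congrArg ((Sigma.ι (fun _ : Fin (m + 1 - 1) => Coh.structureModule X) k).app W.1) ?_
      show OmegaSh.idealSect I W.1 e = y * 1
      rw [he, mul_one]
    rw [h0, h1, sub_zero]

theorem exists_split (hy : y ∈ nonZeroDivisors Γ(X, W.1)) (hI : I.ideal W = Ideal.span {y}) (p : ℕ) :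
    ∃ j, IsSplit (n := n) (I := I) W y p j := by
  cases n with
  | zero =>
    obtain ⟨f, -⟩ := exists_free_basis (X := X) (0 - 1) W.1
    obtain ⟨e, he⟩ := Curves2.exists_idealSect_of_mem I W (hI ▸ Ideal.mem_span_singleton_self y)
    obtain ⟨b, -⟩ := SecTools.exists_basis_coprod (fun _ : Fin 0 => ClSub.idealMod I) W.1 (fun _ => e)
      fun _ => Curves2.isFrame_of_span I W hy hI e he
    haveI : IsEmpty (Fin (0 - 1)) := inferInstanceAs (IsEmpty (Fin 0))
    haveI : Subsingleton Γ(FlatMod.freeMod X (0 - 1), W.1) := f.repr.toEquiv.subsingleton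
    haveI : Subsingleton Γ(Esum (fun _ : Fin 0 => I), W.1) := b.repr.toEquiv.subsingleton
    refine ⟨0, fun v => Subsingleton.elim _ _, fun v => map_zero _, fun x _ => ?_⟩
    obtain ⟨z, hz, hzx⟩ := KoszCopies.exists_map_of_mem_Sub
      (0 : Γ(FlatMod.freeMod X (0 - 1), W.1) →ₗ[Γ(X, W.1)] Γ(Esum (fun _ : Fin 0 => I), W.1))
      (fun _ => 0) (fun _ => 0) 0 (fun j hj => absurd hj (Nat.not_lt_zero j)) 0 p le_rfl x.1
      (ExtKoszul.mem_Sub_of_span _ 0 (fun v => ⟨0, Subsingleton.elim _ _⟩) p x.1 x.2)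
    exact ⟨⟨z, hz⟩, Subtype.ext ((KoszCopies.coe_map _ p _).trans hzx)⟩
  | succ m =>
    obtain ⟨j, S, hj⟩ := exists_setup (m := m) hy hI
    exact ⟨j, hj, S.phi_g, (S.main hy p).1⟩

variable {L : X.Modules}
  (ψ : ∀ U : X.affineOpens, Γ(L, U.1) ≃ₗ[Γ(X, U.1)] ↥(⋀[Γ(X, U.1)]^q Γ(FlatMod.freeMod X (n - 1), U.1)))
  (hψ : ∀ (U V : X.affineOpens) (h : V.1 ≤ U.1) (e : Fin q → Γ(FlatMod.freeMod X (n - 1), U.1)),
    QC70.res L h ((ψ U).symm (ιMulti _ q e)) =
      (ψ V).symm (ιMulti _ q fun k => QC70.res (FlatMod.freeMod X (n - 1)) h (e k)))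

/-- `Λ^q` of `hMap` on affine sections. -/
def tLoc (U : X.affineOpens) : Γ(C.K.X q, U.1) →ₗ[Γ(X, U.1)] Γ(L, U.1) :=
  (ψ U).symm.toLinearMap ∘ₗ exteriorPower.map q (KoszMap.secHom (hMap n I) U.1) ∘ₗ (C.loc q U).toLinearMap

include hψ in
theorem tLoc_res (U V : X.affineOpens) (h : V.1 ≤ U.1) (m : Γ(C.K.X q, U.1)) :
    tLoc C q ψ V (QC70.res (C.K.X q) h m) = QC70.res L h (tLoc C q ψ U m) := by
  have hgen : ∀ (W : X.affineOpens) (e : Fin q → Γ(Esum (fun _ : Fin n => I), W.1)),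
      tLoc C q ψ W ((C.loc q W).symm (ιMulti _ q e)) = (ψ W).symm (ιMulti _ q fun k => (hMap n I).app W.1 (e k)) := by
    intro W e
    show (ψ W).symm (exteriorPower.map q (KoszMap.secHom (hMap n I) W.1) (C.loc q W ((C.loc q W).symm _))) = _
    rw [LinearEquiv.apply_symm_apply, exteriorPower.map_apply_ιMulti]
    rfl
  obtain ⟨z, rfl⟩ := (C.loc q U).symm.surjective m
  have hz : z ∈ Submodule.span Γ(X, U.1) (Set.range (ιMulti Γ(X, U.1) q)) :=
    (ιMulti_span Γ(X, U.1) q Γ(Esum (fun _ : Fin n => I), U.1)).ge trivial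
  induction hz using Submodule.span_induction with
  | mem z hz =>
    obtain ⟨e, rfl⟩ := hz
    have h1 : QC70.res (C.K.X q) h ((C.loc q U).symm (ιMulti _ q e)) = _ := C.loc_res q U V h e
    rw [h1, hgen, hgen, hψ U V h]
    exact congrArg _ (congrArg _ (funext fun k => app_res (hMap n I) h (e k)))
  | zero => rw [map_zero, QC70.res_zero, map_zero, map_zero, QC70.res_zero]
  | add a b _ _ ha hb => rw [map_add, res_add, map_add, map_add, res_add, ha, hb]
  | smul r a _ ha => rw [map_smul, res_smul, map_smul, map_smul, res_smul, ha]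

include hψ in
theorem exists_tMap : ∃ T : C.K.X q ⟶ L, ∀ (U : X.affineOpens) (m : Γ(C.K.X q, U.1)),
    T.app U.1 m = tLoc C q ψ U m := by
  haveI := isQuasicoherent_term C q
  obtain ⟨T, hT, -⟩ := EGAProj74.existsUnique_hom_of_affine (M := C.K.X q) (N := L)
    (fun U => tLoc C q ψ ⟨U.1, U.2⟩)
    (fun U r m => tLoc_res C q ψ hψ ⟨U.1, U.2⟩ ⟨_, U.2.basicOpen r⟩ (X.basicOpen_le r) m)
  exact ⟨T, fun U m => hT ⟨U.1, U.2⟩ m⟩

theorem isSMulRegular_L (hy : y ∈ nonZeroDivisors Γ(X, W.1)) (k : ℕ) (ψW : Γ(L, W.1) ≃ₗ[Γ(X, W.1)]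
    ↥(⋀[Γ(X, W.1)]^q Γ(FlatMod.freeMod X (n - 1), W.1))) : IsSMulRegular Γ(L, W.1) (y ^ k) := by
  obtain ⟨f, -⟩ := exists_free_basis (X := X) (n - 1) W.1
  haveI := Module.Free.of_basis f
  haveI : Module.Free Γ(X, W.1) Γ(L, W.1) := Module.Free.of_equiv ψW.symm
  exact Module.Flat.isSMulRegular_of_nonZeroDivisors (pow_mem hy k)

theorem map_map_split {j : Γ(FlatMod.freeMod X (n - 1), W.1) →ₗ[Γ(X, W.1)] Γ(Esum (fun _ : Fin n => I), W.1)}
    (hj : IsSplit W y q j) (z : ↥(⋀[Γ(X, W.1)]^q Γ(FlatMod.freeMod X (n - 1), W.1))) :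
    exteriorPower.map q (KoszMap.secHom (hMap n I) W.1) (exteriorPower.map q j z) = y ^ q • z := by
  rw [← LinearMap.comp_apply, ← exteriorPower.map_comp,
    show (KoszMap.secHom (hMap n I) W.1).comp j = y • LinearMap.id from LinearMap.ext hj.1,
    map_smul_apply, exteriorPower.map_id, LinearMap.id_apply]

/-- Closedness of a chain on sections, read in the exterior algebra. -/
theorem contract_iCycles (z : Γ(C.K.cycles q, W.1)) :
    CliffordAlgebra.contractLeft (KoszSh.secForm (ssum fun _ : Fin n => I) W.1)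
      ((C.loc q W ((C.K.iCycles q).app W.1 z) : ↥(⋀[Γ(X, W.1)]^q Γ(Esum (fun _ : Fin n => I), W.1))) :
        ExteriorAlgebra Γ(X, W.1) Γ(Esum (fun _ : Fin n => I), W.1)) = 0 := by
  cases q with
  | zero =>
    refine ExtKoszul.d_algebraMap _ ?_
    have h1 : ((C.loc 0 W ((C.K.iCycles 0).app W.1 z) : ↥(⋀[Γ(X, W.1)]^0 Γ(Esum (fun _ : Fin n => I), W.1))) :
        ExteriorAlgebra Γ(X, W.1) Γ(Esum (fun _ : Fin n => I), W.1)) ∈
        LinearMap.range (ExteriorAlgebra.ι Γ(X, W.1) (M := Γ(Esum (fun _ : Fin n => I), W.1))) ^ 0 :=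
      (C.loc 0 W _).2
    rwa [pow_zero] at h1
  | succ p =>
    have h1 : DR29.contr (KoszSh.secForm (ssum fun _ : Fin n => I) W.1) p
        (C.loc (p + 1) W ((C.K.iCycles (p + 1)).app W.1 z)) = 0 := by
      refine (C.loc p W).symm.injective ?_
      rw [← KoszExact.d_app_eq C p W, map_zero, ← app_comp, app_congr (C.K.iCycles_d (p + 1) p) W.1 z]
      rfl
    exact congrArg Subtype.val h1

theorem exists_cycle_of_map {j : Γ(FlatMod.freeMod X (n - 1), W.1) →ₗ[Γ(X, W.1)] Γ(Esum (fun _ : Fin n => I), W.1)}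
    (hj : ∀ v, KoszSh.secForm (ssum fun _ : Fin n => I) W.1 (j v) = 0)
    (z : ↥(⋀[Γ(X, W.1)]^q Γ(FlatMod.freeMod X (n - 1), W.1))) :
    ∃ c, (C.K.iCycles q).app W.1 c = (C.loc q W).symm (exteriorPower.map q j z) := by
  refine exists_iCycles_eq q C W.1 _ ?_
  cases q with
  | zero =>
    rw [C.K.shape _ _ (by simp)]
    rfl
  | succ p =>
    rw [show (ComplexShape.down ℕ).next (p + 1) = p from by simp, KoszExact.d_app_eq, LinearEquiv.apply_symm_apply,
      KoszCopies.contr_map _ _ hj, map_zero]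

variable {ψ} {T : C.K.X q ⟶ L}
  (hT : ∀ (U : X.affineOpens) (m : Γ(C.K.X q, U.1)), T.app U.1 m = tLoc C q ψ U m)

include hT

theorem theta_range (hy : y ∈ nonZeroDivisors Γ(X, W.1)) (hI : I.ideal W = Ideal.span {y})
    (c : Γ(C.K.cycles q, W.1)) : ∃ l, (C.K.iCycles q ≫ T).app W.1 c = y ^ q • l := by
  obtain ⟨j, hj⟩ := exists_split (n := n) hy hI q
  obtain ⟨z, hz⟩ := hj.2.2 _ (contract_iCycles C q c)
  refine ⟨(ψ W).symm z, ?_⟩
  rw [app_comp, hT]
  show (ψ W).symm (exteriorPower.map q (KoszMap.secHom (hMap n I) W.1) (C.loc q W _)) = _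
  rw [← hz, map_map_split q hj, map_smul]

theorem theta_hits (hy : y ∈ nonZeroDivisors Γ(X, W.1)) (hI : I.ideal W = Ideal.span {y})
    (l : Γ(L, W.1)) : ∃ c, (C.K.iCycles q ≫ T).app W.1 c = y ^ q • l := by
  obtain ⟨j, hj⟩ := exists_split (n := n) hy hI q
  obtain ⟨c, hc⟩ := exists_cycle_of_map C q hj.2.1 (ψ W l)
  refine ⟨c, ?_⟩
  rw [app_comp, hT, hc]
  show (ψ W).symm (exteriorPower.map q (KoszMap.secHom (hMap n I) W.1)
    (C.loc q W ((C.loc q W).symm _))) = _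
  rw [LinearEquiv.apply_symm_apply, map_map_split q hj, map_smul, LinearEquiv.symm_apply_apply]

theorem theta_injective' (hy : y ∈ nonZeroDivisors Γ(X, W.1)) (hI : I.ideal W = Ideal.span {y}) :
    Function.Injective ((C.K.iCycles q ≫ T).app W.1) := by
  obtain ⟨j, hj⟩ := exists_split (n := n) hy hI q
  intro a b hab
  refine iCycles_app_injective q C W.1 ((C.loc q W).injective ?_)
  obtain ⟨za, hza⟩ := hj.2.2 _ (contract_iCycles C q a)
  obtain ⟨zb, hzb⟩ := hj.2.2 _ (contract_iCycles C q b)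
  rw [app_comp, app_comp, hT, hT] at hab
  replace hab : (ψ W).symm (exteriorPower.map q (KoszMap.secHom (hMap n I) W.1) (C.loc q W ((C.K.iCycles q).app W.1 a))) =
      (ψ W).symm (exteriorPower.map q (KoszMap.secHom (hMap n I) W.1) (C.loc q W ((C.K.iCycles q).app W.1 b))) := hab
  rw [← hza, ← hzb, map_map_split q hj, map_map_split q hj, map_smul, map_smul] at hab
  rw [← hza, ← hzb, (ψ W).symm.injective (isSMulRegular_L q hy q (ψ W) hab)]

omit hT

theorem nonempty_cycles_iso (hE : BlowUp.IsEffCartierIdeal I)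
    (hL : ExtPow.IsExtPow q (FlatMod.freeMod X (n - 1)) L) :
    Nonempty (C.K.cycles q ≅ CohB1.tensorMod L (CohB1.tensorPow (ClSub.idealMod I) q)) := by
  obtain ⟨ψ, hψ⟩ := hL
  obtain ⟨T, hT⟩ := exists_tMap C q ψ hψ
  let N := CohB1.tensorPow (ClSub.idealMod I) q
  let μ : CohB1.tensorMod L N ⟶ L := SecTools.mulHom (SecTools.powι I q) L
  let θ := C.K.iCycles q ≫ T
  have hgood : ∀ (O : X.Opens) (p : X), p ∈ O → ∃ (W : X.affineOpens) (y : Γ(X, W.1)) (ξ : Γ(N, W.1)),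
      p ∈ W.1 ∧ W.1 ≤ O ∧ y ∈ nonZeroDivisors Γ(X, W.1) ∧ I.ideal W = Ideal.span {y} ∧
        IsTwistFrame I q W y ξ := fun O p hp => by
    obtain ⟨W, y, hpW, hWO, hW⟩ := exists_good (fun _ : Fin 0 => I) I (fun i => i.elim0) hE O p hp
    obtain ⟨ξ, hξ⟩ := exists_twistFrame q hW
    exact ⟨W, y, ξ, hpW, hWO, hW.1, hW.2.1, hξ⟩
  have hμ : ∀ (W : X.affineOpens) (y : Γ(X, W.1)) (ξ : Γ(N, W.1)), IsTwistFrame I q W y ξ → ∀ l : Γ(L, W.1),
      μ.app W.1 (Amp73.tm L N l ξ) = y ^ q • l := fun W y ξ hξ l =>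
    (SecTools.mulHom_tm _ _ W.1 l ξ).trans (by rw [hξ.2])
  haveI : Mono μ := Om3.mono_of_basis _ fun O p hp => by
    obtain ⟨W, y, ξ, hpW, hWO, hy, hI, hξ⟩ := hgood O p hp
    refine ⟨W.1, hpW, hWO, fun a b hab => ?_⟩
    obtain ⟨l, rfl⟩ := exists_eq_tm q hξ a
    obtain ⟨l', rfl⟩ := exists_eq_tm q hξ b
    rw [hμ W y ξ hξ, hμ W y ξ hξ] at hab
    rw [isSMulRegular_L q hy q (ψ W) hab]
  have hcok : θ ≫ cokernel.π μ = 0 := Om3.comp_eq_zero_of_basis _ _ fun O p hp => by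
    obtain ⟨W, y, ξ, hpW, hWO, hy, hI, hξ⟩ := hgood O p hp
    refine ⟨W.1, hpW, hWO, fun c => ?_⟩
    obtain ⟨l, hl⟩ := theta_range C q hT hy hI c
    rw [hl, ← hμ W y ξ hξ, ← app_comp, app_congr (cokernel.condition μ) W.1]
    rfl
  let e := Abelian.monoLift μ θ hcok
  have he : e ≫ μ = θ := Abelian.monoLift_comp _ _ _
  haveI : Mono e := by
    haveI : Mono (e ≫ μ) := he ▸ Om3.mono_of_basis _ fun O p hp => by
      obtain ⟨W, y, ξ, hpW, hWO, hy, hI, hξ⟩ := hgood O p hp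
      exact ⟨W.1, hpW, hWO, theta_injective' C q hT hy hI⟩
    exact mono_of_mono e μ
  haveI : Epi e := Om3.epi_of_basis _ fun O p hp => by
    obtain ⟨W, y, ξ, hpW, hWO, hy, hI, hξ⟩ := hgood O p hp
    refine ⟨W.1, hpW, hWO, fun t => ?_⟩
    obtain ⟨l, rfl⟩ := exists_eq_tm q hξ t
    obtain ⟨c, hc⟩ := theta_hits C q hT hy hI l
    refine ⟨c, QC70.app_injective_of_mono μ W.1 ?_⟩
    rw [← app_comp, app_congr he W.1 c, hc, hμ W y ξ hξ]
  haveI : IsIso e := isIso_of_mono_of_epi e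
  exact ⟨asIso e⟩

/-- For at least one copy, the homology is the cycles modulo the generator. -/
theorem homologyπ_eq_zero_iff {m : ℕ}
    (D : KoszSh.Cx (Esum fun _ : Fin (m + 1) => I) (ssum fun _ : Fin (m + 1) => I))
    (hy : y ∈ nonZeroDivisors Γ(X, W.1)) (hI : I.ideal W = Ideal.span {y}) (c : Γ(D.K.cycles q, W.1)) :
    (D.K.homologyπ q).app W.1 c = 0 ↔ ∃ w, y • w = c := by
  obtain ⟨j, S, -⟩ := exists_setup (m := m) hy hI
  obtain ⟨h1, h2, h3⟩ := S.main hy q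
  constructor
  · intro hc
    obtain ⟨k, rfl⟩ := exists_toCycles_eq q D W c hc
    obtain ⟨z, hz⟩ := h2 (D.loc (q + 1) W k)
    obtain ⟨w, hw⟩ := exists_cycle_of_map D q S.phi_g z
    refine ⟨w, iCycles_app_injective q D W.1 ?_⟩
    rw [Scheme.Modules.Hom.app_smul, hw, ← app_comp, app_congr (D.K.toCycles_i (q + 1) q) W.1, KoszExact.d_app_eq,
      hz, map_smul]
  · rintro ⟨w, rfl⟩
    obtain ⟨z, hz⟩ := h1 _ (contract_iCycles D q w)
    obtain ⟨k, hk⟩ := h3 z
    have : (D.K.toCycles (q + 1) q).app W.1 ((D.loc (q + 1) W).symm k) = y • w := by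
      refine iCycles_app_injective q D W.1 ?_
      rw [Scheme.Modules.Hom.app_smul, ← app_comp, app_congr (D.K.toCycles_i (q + 1) q) W.1, KoszExact.d_app_eq,
        LinearEquiv.apply_symm_apply, hk, hz, map_smul, LinearEquiv.symm_apply_apply]
    rw [← this, ← app_comp, app_congr (D.K.toCycles_comp_homologyπ (q + 1) q) W.1]
    rfl

end Groth.Agent.LC15.KoszCopiesSheaf
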