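import Groth.Agent.LC15.KoszExact
import Groth.Agent.EGAProj74.SymAlg
import Groth.Agent.Om3.ExtPowPull

/-!
Functoriality of sheaf Koszul complexes.
-/

set_option autoImplicit false
set_option backward.isDefEq.respectTransparency false
set_option linter.style.haveILetI false

noncomputable section

universe u

open CategoryTheory CategoryTheory.Limits AlgebraicGeometry TopologicalSpace Opposite exteriorPower

namespace Groth.Agent.LC15.KoszMap

open Groth.Agent QC70

variable {X : Scheme.{u}} {E F : X.Modules} {s : E ⟶ Coh.structureModule X} {t : F ⟶ Coh.structureModule X}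

/-- A morphism on sections over an open, as a linear map. -/
def secHom (f : E ⟶ F) (U : X.Opens) : Γ(E, U) →ₗ[Γ(X, U)] Γ(F, U) where
  toFun := f.app U
  map_add' := map_add _
  map_smul' r a := Scheme.Modules.Hom.app_smul f r a

theorem hom_ext_affine {M N : X.Modules} (a b : M ⟶ N)
    (h : ∀ (U : X.affineOpens) (m : Γ(M, U.1)), a.app U.1 m = b.app U.1 m) : a = b := by
  refine Scheme.Modules.hom_ext _ _ fun O => ?_
  ext m
  refine section_ext N (a.app O m) (b.app O m) fun q hq => ?_
  obtain ⟨W, hW, hqW, hle⟩ := exists_isAffineOpen_mem_and_subset (x := q) (U := O) hq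
  exact ⟨W, hle, hqW, by rw [← app_res, ← app_res]; exact h ⟨W, hW⟩ _⟩

theorem map_dGen (f : E ⟶ F) (hf : f ≫ t = s) (U : X.Opens) (p : ℕ) (e : Fin (p + 1) → Γ(E, U)) :
    exteriorPower.map p (secHom f U) (KoszSh.dGen (KoszSh.secForm s U) p e) =
      KoszSh.dGen (KoszSh.secForm t U) p (fun j => f.app U (e j)) := by
  simp only [KoszSh.dGen, map_sum, map_smul, exteriorPower.map_apply_ιMulti]
  refine Finset.sum_congr rfl fun i _ => ?_
  have h : KoszSh.secForm s U (e i) = KoszSh.secForm t U (f.app U (e i)) := by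
    subst hf
    rfl
  rw [h]
  rfl

variable (C : KoszSh.Cx E s) (D : KoszSh.Cx F t) (f : E ⟶ F)

/-- the component on affine sections -/
def locMap (p : ℕ) (U : X.affineOpens) : Γ(C.K.X p, U.1) →ₗ[Γ(X, U.1)] Γ(D.K.X p, U.1) :=
  (D.loc p U).symm.toLinearMap ∘ₗ exteriorPower.map p (secHom f U.1) ∘ₗ (C.loc p U).toLinearMap

theorem locMap_gen (p : ℕ) (U : X.affineOpens) (e : Fin p → Γ(E, U.1)) :
    locMap C D f p U ((C.loc p U).symm (ιMulti _ p e)) = (D.loc p U).symm (ιMulti _ p fun j => f.app U.1 (e j)) := by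
  show (D.loc p U).symm (exteriorPower.map p (secHom f U.1) (C.loc p U ((C.loc p U).symm (ιMulti _ p e)))) = _
  rw [LinearEquiv.apply_symm_apply, exteriorPower.map_apply_ιMulti]
  rfl

theorem locMap_res (p : ℕ) (U V : X.affineOpens) (h : V.1 ≤ U.1) (m : Γ(C.K.X p, U.1)) :
    locMap C D f p V (res (C.K.X p) h m) = res (D.K.X p) h (locMap C D f p U m) := by
  obtain ⟨z, rfl⟩ := (C.loc p U).symm.surjective m
  have hz : z ∈ Submodule.span Γ(X, U.1) (Set.range (ιMulti Γ(X, U.1) p)) :=
    (ιMulti_span Γ(X, U.1) p Γ(E, U.1)).ge trivial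
  induction hz using Submodule.span_induction with
  | mem z hz =>
    obtain ⟨e, rfl⟩ := hz
    have h1 : res (C.K.X p) h ((C.loc p U).symm (ιMulti _ p e)) = _ := C.loc_res p U V h e
    have h2 : res (D.K.X p) h ((D.loc p U).symm (ιMulti _ p fun j => f.app U.1 (e j))) = _ :=
      D.loc_res p U V h fun j => f.app U.1 (e j)
    rw [h1, locMap_gen, locMap_gen, h2]
    refine congrArg _ (congrArg _ (funext fun j => ?_))
    exact app_res f h (e j)
  | zero =>
    rw [map_zero, QC70.res_zero, map_zero, map_zero, QC70.res_zero]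
  | add a b _ _ ha hb => rw [map_add, res_add, map_add, map_add, res_add, ha, hb]
  | smul r a _ ha => rw [map_smul, res_smul, map_smul, map_smul, res_smul, ha]

theorem existsUnique_map [E.IsQuasicoherent] (hf : f ≫ t = s) :
    ∃! φ : C.K ⟶ D.K, ∀ (p : ℕ) (U : X.affineOpens) (e : Fin p → Γ(E, U.1)),
      (φ.f p).app U.1 ((C.loc p U).symm (ιMulti _ p e)) =
        (D.loc p U).symm (ιMulti _ p (fun j => f.app U.1 (e j))) := by
  have hqc : ∀ p, (C.K.X p).IsQuasicoherent := fun p => Om3.isQuasicoherent_of_isExtPow (C.isExtPow p)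
  have key : ∀ p, ∃ φ : C.K.X p ⟶ D.K.X p, ∀ (U : X.affineOpens) (m : Γ(C.K.X p, U.1)),
      φ.app U.1 m = locMap C D f p U m := fun p => by
    haveI := hqc p
    obtain ⟨φ, hφ, -⟩ := EGAProj74.existsUnique_hom_of_affine (M := C.K.X p) (N := D.K.X p)
      (fun U => locMap C D f p ⟨U.1, U.2⟩)
      (fun U r m => locMap_res C D f p ⟨U.1, U.2⟩ ⟨_, U.2.basicOpen r⟩ (X.basicOpen_le r) m)
    exact ⟨φ, fun U m => hφ ⟨U.1, U.2⟩ m⟩
  choose φ hφ using key
  have hcomm : ∀ p, φ (p + 1) ≫ D.K.d (p + 1) p = C.K.d (p + 1) p ≫ φ p := fun p =>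
    hom_ext_affine _ _ fun U m => by
      show (D.K.d (p + 1) p).app U.1 ((φ (p + 1)).app U.1 m) = (φ p).app U.1 ((C.K.d (p + 1) p).app U.1 m)
      rw [hφ, hφ]
      obtain ⟨z, rfl⟩ := (C.loc (p + 1) U).symm.surjective m
      have hz : z ∈ Submodule.span Γ(X, U.1) (Set.range (ιMulti Γ(X, U.1) (p + 1))) :=
        (ιMulti_span Γ(X, U.1) (p + 1) Γ(E, U.1)).ge trivial
      induction hz using Submodule.span_induction with
      | mem z hz =>
        obtain ⟨e, rfl⟩ := hz
        rw [locMap_gen, D.rule, C.rule]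
        show _ = (D.loc p U).symm (exteriorPower.map p (secHom f U.1) (C.loc p U ((C.loc p U).symm _)))
        rw [LinearEquiv.apply_symm_apply, map_dGen f hf]
      | zero => simp only [map_zero]
      | add a b _ _ ha hb => simp only [map_add, ha, hb]
      | smul r a _ ha => simp only [map_smul, Scheme.Modules.Hom.app_smul, ha]
  refine ⟨{ f := φ, comm' := fun i j h => ?_ }, fun p U e => (hφ p U _).trans (locMap_gen C D f p U e), ?_⟩
  · obtain rfl : j + 1 = i := h
    exact hcomm j
  · intro ψ hψ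
    ext p : 1
    refine hom_ext_affine _ _ fun U m => ?_
    show (ψ.f p).app U.1 m = (φ p).app U.1 m
    obtain ⟨z, rfl⟩ := (C.loc p U).symm.surjective m
    have hz : z ∈ Submodule.span Γ(X, U.1) (Set.range (ιMulti Γ(X, U.1) p)) :=
      (ιMulti_span Γ(X, U.1) p Γ(E, U.1)).ge trivial
    induction hz using Submodule.span_induction with
    | mem z hz =>
      obtain ⟨e, rfl⟩ := hz
      rw [hψ, hφ, locMap_gen]
    | zero => simp only [map_zero]
    | add a b _ _ ha hb => simp only [map_add, ha, hb]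
    | smul r a _ ha => simp only [map_smul, Scheme.Modules.Hom.app_smul, ha]

end Groth.Agent.LC15.KoszMap
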