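import Groth.Agent.Koszul19.Cone
import Groth.Prelude.Def_ega3
import Mathlib.RingTheory.Ideal.Colon

/-!
Vanishing of the colimit of Koszul cohomology of powers for injective coefficients.
-/

set_option autoImplicit false

noncomputable section

universe u

open CategoryTheory CategoryTheory.Limits

namespace Groth.Agent.LC15.KL

open Koszul19 CochainComplex

variable {A : Type u} [CommRing A] {M : ModuleCat.{u} A}

/-- Divisibility in an injective module. -/
theorem exists_div [IsNoetherianRing A] (hM : Module.Injective A M) (fs : List A) (g : A) (m : ℕ)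
    (y : M) (hy : ∀ f ∈ fs, f ^ m • y = 0) :
    ∃ (D : ℕ) (z : M), (∀ f ∈ fs, f ^ (m + D) • z = 0) ∧ g ^ (m + D) • z = g ^ D • y := by
  let J : Ideal A := Ideal.span {x | ∃ f ∈ fs, f ^ m = x}
  let S : ℕ →o Ideal A :=
    { toFun := fun k => Submodule.comap (LinearMap.mulRight A (g ^ k)) J
      monotone' := fun k l hkl a (ha : a * g ^ k ∈ J) => by
        show a * g ^ l ∈ J
        rw [← Nat.sub_add_cancel hkl, pow_add, mul_left_comm]
        exact J.mul_mem_left _ ha }
  obtain ⟨D, hD⟩ := monotone_stabilizes_iff_noetherian.2 inferInstance S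
  let L : Ideal A := Ideal.span {x | ∃ f ∈ fs, f ^ (m + D) = x}
  have hLJ : L ≤ J := Ideal.span_le.2 (by
    rintro x ⟨f, hf, rfl⟩
    rw [pow_add]
    exact J.mul_mem_right _ (Ideal.subset_span ⟨f, hf, rfl⟩))
  have hJy : ∀ a ∈ J, a • y = 0 := fun a ha => by
    induction ha using Submodule.span_induction with
    | mem x hx => obtain ⟨f, hf, rfl⟩ := hx; exact hy f hf
    | zero => exact zero_smul _ _
    | add a b _ _ ha hb => rw [add_smul, ha, hb, add_zero]
    | smul c a _ ha => rw [smul_eq_mul, mul_smul, ha, smul_zero]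
  let μ : A →ₗ[A] A ⧸ L := L.mkQ ∘ₗ LinearMap.mulRight A (g ^ (m + D))
  let ν : A →ₗ[A] M := LinearMap.toSpanSingleton A M (g ^ D • y)
  have hker : LinearMap.ker μ ≤ LinearMap.ker ν := fun a ha => by
    have h1 : a * g ^ (m + D) ∈ L := (Submodule.Quotient.mk_eq_zero L).1 ha
    have h2 : a ∈ S (m + D) := hLJ h1
    rw [← hD (m + D) (Nat.le_add_left D m)] at h2
    show a • g ^ D • y = 0
    rw [smul_smul]
    exact hJy _ h2
  let ν' : LinearMap.range μ →ₗ[A] M :=
    (LinearMap.ker μ).liftQ ν hker ∘ₗ μ.quotKerEquivRange.symm.toLinearMap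
  obtain ⟨h, hh⟩ := hM.out (LinearMap.range μ).subtype (Submodule.subtype_injective _) ν'
  refine ⟨D, h (L.mkQ 1), fun f hf => ?_, ?_⟩
  · rw [← map_smul, ← map_smul]
    have : L.mkQ (f ^ (m + D) • (1 : A)) = 0 :=
      (Submodule.Quotient.mk_eq_zero L).2 (by
        rw [smul_eq_mul, mul_one]
        exact Ideal.subset_span ⟨f, hf, rfl⟩)
    rw [this, map_zero]
  · rw [← map_smul, ← map_smul]
    have e1 : L.mkQ (g ^ (m + D) • (1 : A)) = μ 1 := by simp [μ]
    rw [e1]
    refine (hh ⟨μ 1, LinearMap.mem_range_self μ 1⟩).trans ?_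
    have e2 : μ.quotKerEquivRange.symm ⟨μ 1, LinearMap.mem_range_self μ 1⟩ =
        (LinearMap.ker μ).mkQ 1 := by
      rw [LinearEquiv.symm_apply_eq]
      exact Subtype.ext (μ.quotKerEquivRange_apply_mk 1).symm
    show (LinearMap.ker μ).liftQ ν hker (μ.quotKerEquivRange.symm _) = _
    rw [e2]
    exact one_smul A _

variable (M) in
/-- the Koszul complex of the powers -/
abbrev KP (fs : List A) (n : ℕ) : CochainComplex (ModuleCat.{u} A) ℤ :=
  CohIII.koszulCx M (fs.map (· ^ n))

variable (M) in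
/-- cone decomposition -/
def cd (f : A) (fs : List A) (n : ℕ) : ConeData (f ^ n) (KP M fs n) (KP M (f :: fs) n) :=
  ConeData.standard (f ^ n) (KP M fs n)

/-- components of the transition maps -/
abbrev TT (fs : List A) (n m : ℕ) (h : n ≤ m) (q : ℤ) :
    (KP M fs n).X q →ₗ[A] (KP M fs m).X q :=
  ((CohIII.koszulTrans M n m h fs).f q).hom

theorem TT_d (fs : List A) (n m : ℕ) (h : n ≤ m) (q q₁ : ℤ) (x : (KP M fs n).X q) :
    TT fs n m h q₁ (dd (KP M fs n) q q₁ x) = dd (KP M fs m) q q₁ (TT fs n m h q x) :=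
  (congrArg (fun φ => φ.hom x) ((CohIII.koszulTrans M n m h fs).comm q q₁)).symm

theorem TT_cons_symm (f : A) (fs : List A) (n m : ℕ) (h : n ≤ m) (q q₁ : ℤ) (hq : q + 1 = q₁)
    (a : (KP M fs n).X q₁) (b : (KP M fs n).X q) :
    TT (f :: fs) n m h q (((cd M f fs n).e q q₁ hq).symm (a, b)) =
      ((cd M f fs m).e q q₁ hq).symm (TT fs n m h q₁ a, f ^ (m - n) • TT fs n m h q b) := by
  let φ := f ^ n • 𝟙 (KP M fs n)
  let φ' := f ^ m • 𝟙 (KP M fs m)
  let T := CohIII.koszulTrans M n m h (f :: fs)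
  let t := CohIII.koszulTrans M n m h fs
  have h1 : (mappingCone.inl φ).v q₁ q (by omega) ≫ T.f q =
      t.f q₁ ≫ (mappingCone.inl φ').v q₁ q (by omega) := by
    simp only [T, CohIII.koszulTrans, mappingCone.map]
    erw [mappingCone.inl_v_desc_f]
    erw [HomComplex.Cochain.comp_v _ _ _ q₁ q₁ q (add_zero q₁) (by omega),
      HomComplex.Cochain.ofHom_v]
    rfl
  have h2 : (mappingCone.inr φ).f q ≫ T.f q =
      (f ^ (m - n) • t).f q ≫ (mappingCone.inr φ').f q := by
    simp only [T, CohIII.koszulTrans, mappingCone.map]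
    erw [mappingCone.inr_f_desc_f]
    simp [t, φ']
  have h1' := congrArg (fun ψ => ψ.hom a) h1
  have h2' := congrArg (fun ψ => ψ.hom b) h2
  change (T.f q).hom (((mappingCone.inl φ).v q₁ q (by omega)).hom a + ((mappingCone.inr φ).f q).hom b) =
    ((mappingCone.inl φ').v q₁ q (by omega)).hom (t.f q₁ a) +
      ((mappingCone.inr φ').f q).hom (f ^ (m - n) • (t.f q).hom b)
  erw [map_add]
  exact congrArg₂ (· + ·) h1' h2'

theorem subsingleton_nil (n : ℕ) (q : ℤ) (hq : q ≠ 0) : Subsingleton ((KP M [] n).X q) :=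
  ModuleCat.subsingleton_of_isZero (HomologicalComplex.isZero_single_obj_X _ _ _ _ hq)

/-- the invariant proved by induction on the list -/
structure Inv (fs : List A) : Prop where
  zero : ∀ (n : ℕ) (q : ℤ), q < -(fs.length : ℤ) → Subsingleton ((KP M fs n).X q)
  bot : ∀ (b b₁ : ℤ), b = -(fs.length : ℤ) → b + 1 = b₁ → ∃ ι : ∀ n, (KP M fs n).X b ≃ₗ[A] M,
    (∀ n m (h : n ≤ m) x, ι m (TT fs n m h b x) = ι n x) ∧
    (∀ n x, dd (KP M fs n) b b₁ x = 0 ↔ ∀ f ∈ fs, f ^ n • ι n x = 0)
  lim : ∀ (n : ℕ) (q q₁ : ℤ) (_ : q + 1 = q₁) (_ : -(fs.length : ℤ) < q)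
    (z : (KP M fs n).X q), dd (KP M fs n) q q₁ z = 0 →
    ∃ (m : ℕ) (h : n ≤ m) (w : (KP M fs m).X (q - 1)), dd (KP M fs m) (q - 1) q w = TT fs n m h q z

theorem TT_trans (fs : List A) (n m l : ℕ) (h : n ≤ m) (h' : m ≤ l) :
    ∀ (q : ℤ) (x : (KP M fs n).X q),
      TT fs m l h' q (TT fs n m h q x) = TT fs n l (h.trans h') q x := by
  induction fs with
  | nil => intro q x; rfl
  | cons f fs ih =>
    intro q x
    obtain ⟨⟨a, b⟩, rfl⟩ := ((cd M f fs n).e q (q + 1) rfl).symm.surjective x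
    rw [TT_cons_symm, TT_cons_symm, TT_cons_symm, map_smul, ih, ih, smul_smul, ← pow_add,
      show l - m + (m - n) = l - n by omega]

theorem inv_nil : Inv (M := M) [] where
  zero n q hq := subsingleton_nil n q (by simp at hq; omega)
  bot b b₁ hb hb₁ := by
    obtain rfl : b = 0 := by simpa using hb
    refine ⟨fun n => (HomologicalComplex.singleObjXSelf (ComplexShape.up ℤ) 0 M).toLinearEquiv,
      fun n m h x => rfl, fun n x => ⟨fun _ f hf => absurd hf (by simp), fun _ => ?_⟩⟩
    haveI := subsingleton_nil (M := M) n b₁ (by omega)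
    exact Subsingleton.elim _ _
  lim n q q₁ _ hq z _ := by
    haveI := subsingleton_nil (M := M) n q (by simp at hq; omega)
    exact ⟨n, le_rfl, 0, Subsingleton.elim _ _⟩

theorem inv_cons [IsNoetherianRing A] (hM : Module.Injective A M) (f : A) (fs : List A)
    (ih : Inv (M := M) fs) : Inv (M := M) (f :: fs) := by
  have hlen : (((f :: fs).length : ℕ) : ℤ) = (fs.length : ℤ) + 1 := by simp
  refine ⟨fun n q hq => ?_, ?_, ?_⟩
  · haveI := ih.zero n q (by omega)
    haveI := ih.zero n (q + 1) (by omega)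
    exact (cd M f fs n).subsingleton_X q (q + 1) rfl
  · -- bottom degree
    intro b b₁ hb hb₁
    obtain ⟨ι, hιT, hιd⟩ := ih.bot b₁ (b₁ + 1) (by omega) rfl
    haveI hz : ∀ n, Subsingleton ((KP M fs n).X b) := fun n => ih.zero n b (by omega)
    let p : ∀ n, (KP M (f :: fs) n).X b ≃ₗ[A] (KP M fs n).X b₁ := fun n =>
      LinearEquiv.ofBijective (LinearMap.fst A _ _ ∘ₗ ((cd M f fs n).e b _ hb₁).toLinearMap)
        ⟨fun x y hxy => ((cd M f fs n).e b _ hb₁).injective (Prod.ext hxy (Subsingleton.elim _ _)),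
          fun a => ⟨((cd M f fs n).e b _ hb₁).symm (a, 0), by simp⟩⟩
    refine ⟨fun n => (p n).trans (ι n), fun n m h x => ?_, fun n x => ?_⟩
    · obtain ⟨⟨a, c⟩, rfl⟩ := ((cd M f fs n).e b _ hb₁).symm.surjective x
      show ι m (p m (TT (f :: fs) n m h b _)) = ι n (p n _)
      rw [TT_cons_symm]
      change ι m ((cd M f fs m).e b _ hb₁ (((cd M f fs m).e b _ hb₁).symm _)).1 =
        ι n ((cd M f fs n).e b _ hb₁ (((cd M f fs n).e b _ hb₁).symm _)).1
      rw [LinearEquiv.apply_symm_apply, LinearEquiv.apply_symm_apply]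
      exact hιT n m h a
    · obtain ⟨⟨a, c⟩, rfl⟩ := ((cd M f fs n).e b _ hb₁).symm.surjective x
      obtain rfl : c = 0 := Subsingleton.elim _ _
      have hpa : p n (((cd M f fs n).e b _ hb₁).symm (a, 0)) = a := by
        change ((cd M f fs n).e b _ hb₁ (((cd M f fs n).e b _ hb₁).symm (a, 0))).1 = a
        rw [LinearEquiv.apply_symm_apply]
      rw [(cd M f fs n).cycle_iff b b₁ (b₁ + 1) hb₁ rfl, LinearEquiv.apply_symm_apply]
      simp only [List.forall_mem_cons, LinearEquiv.trans_apply, hpa, map_zero, add_zero]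
      rw [hιd, ← map_smul, LinearEquiv.map_eq_zero_iff, and_comm]
  · intro n q q₁ hq hbot z hz
    obtain ⟨⟨a, b⟩, rfl⟩ := ((cd M f fs n).e q q₁ hq).symm.surjective z
    obtain ⟨ha, hb⟩ := ((cd M f fs n).cycle_iff q q₁ (q₁ + 1) hq rfl _).1 hz
    rw [LinearEquiv.apply_symm_apply] at ha hb
    obtain ⟨m, hnm, w, hw⟩ := ih.lim n q₁ (q₁ + 1) rfl (by omega) a ha
    obtain rfl : q = q₁ - 1 := by omega
    let b' := f ^ (m - n) • TT fs n m hnm (q₁ - 1) b + f ^ m • w
    have hb' : dd (KP M fs m) (q₁ - 1) q₁ b' = 0 := by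
      have hT := congrArg (fun v => f ^ (m - n) • TT fs n m hnm q₁ v) hb
      simp only [map_add, map_smul, map_zero, smul_zero, TT_d, smul_add, smul_smul, ← pow_add,
        Nat.sub_add_cancel hnm] at hT
      simp only [b', map_add, map_smul, hw]
      rw [add_comm]
      exact hT
    rcases (show -(fs.length : ℤ) < q₁ - 1 ∨ q₁ - 1 = -(fs.length : ℤ) by omega) with hlt | heq
    · obtain ⟨l, hml, v, hv⟩ := ih.lim m (q₁ - 1) q₁ hq hlt b' hb'
      refine ⟨l, hnm.trans hml, ((cd M f fs l).e (q₁ - 1 - 1) (q₁ - 1) (by omega)).symm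
        (-(TT fs m l hml _ w), f ^ (l - m) • v), ?_⟩
      apply ((cd M f fs l).e (q₁ - 1) q₁ hq).injective
      rw [(cd M f fs l).e_d_symm, TT_cons_symm, LinearEquiv.apply_symm_apply, map_neg, neg_neg,
        ← TT_d, hw, TT_trans, map_smul, hv]
      refine Prod.ext rfl ?_
      simp only [b', map_add, map_smul, smul_add, smul_smul, ← pow_add, Nat.sub_add_cancel hml,
        smul_neg, TT_trans, show l - m + (m - n) = l - n by omega]
      abel
    · obtain ⟨ι, hιT, hιd⟩ := ih.bot (q₁ - 1) q₁ heq hq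
      obtain ⟨D, y', hy', hfy⟩ := exists_div hM fs f m (ι m b') ((hιd m b').1 hb')
      have hml : m ≤ m + D := Nat.le_add_right m D
      let c := (ι (m + D)).symm y'
      have hc : dd (KP M fs (m + D)) (q₁ - 1) q₁ c = 0 := by
        rw [hιd]
        simpa [c] using hy'
      have hfc : f ^ (m + D) • c = f ^ D • TT fs m (m + D) hml (q₁ - 1) b' := by
        apply (ι (m + D)).injective
        simp only [map_smul, hιT, c, LinearEquiv.apply_symm_apply]
        exact hfy
      refine ⟨m + D, hnm.trans hml, ((cd M f fs (m + D)).e (q₁ - 1 - 1) (q₁ - 1) (by omega)).symm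
        (c - TT fs m (m + D) hml _ w, 0), ?_⟩
      apply ((cd M f fs (m + D)).e (q₁ - 1) q₁ hq).injective
      rw [(cd M f fs (m + D)).e_d_symm, TT_cons_symm, LinearEquiv.apply_symm_apply, map_sub, hc,
        zero_sub, neg_neg, ← TT_d, hw, TT_trans]
      refine Prod.ext rfl ?_
      rw [smul_sub, hfc]
      simp only [b', map_add, map_smul, smul_add, smul_smul, ← pow_add, map_zero, add_zero,
        TT_trans, show D + (m - n) = m + D - n by omega]
      rw [add_comm D m]
      abel

theorem inv [IsNoetherianRing A] (hM : Module.Injective A M) : ∀ fs : List A, Inv (M := M) fs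
  | [] => inv_nil
  | f :: fs => inv_cons hM f fs (inv hM fs)

theorem subsingleton_koszulHLim [IsNoetherianRing A] (hM : Module.Injective A M) (fs : List A)
    (i : ℕ) (hi : 0 < i) : Subsingleton (CohIII.koszulHLim fs M i) := by
  refine subsingleton_of_forall_eq 0 fun x => ?_
  change Module.DirectLimit (fun n : ℕ => (CohIII.koszulHPow fs M i n : Type u))
    (fun n m h => (HomologicalComplex.homologyMap (CohIII.koszulTrans M n m h fs)
      ((i : ℤ) - fs.length)).hom) at x
  obtain ⟨n, y, rfl⟩ := Module.DirectLimit.exists_of x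
  let K := KP M fs n
  obtain ⟨z, rfl⟩ := (ModuleCat.epi_iff_surjective (K.homologyπ ((i : ℤ) - fs.length))).1 inferInstance y
  obtain ⟨m, h, w, hw⟩ := (inv hM fs).lim n ((i : ℤ) - fs.length) (((i : ℤ) - fs.length) + 1) rfl (by omega) (K.iCycles ((i : ℤ) - fs.length) z)
    (congrArg (fun φ => φ.hom z) (K.iCycles_d ((i : ℤ) - fs.length) (((i : ℤ) - fs.length) + 1)))
  let T := CohIII.koszulTrans M n m h fs
  have h0 : HomologicalComplex.homologyMap T ((i : ℤ) - fs.length) (K.homologyπ ((i : ℤ) - fs.length) z) = 0 := by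
    rw [← ConcreteCategory.comp_apply, HomologicalComplex.homologyπ_naturality,
      ConcreteCategory.comp_apply]
    have e : HomologicalComplex.cyclesMap T ((i : ℤ) - fs.length) z = (KP M fs m).toCycles (((i : ℤ) - fs.length) - 1) ((i : ℤ) - fs.length) w := by
      apply (ModuleCat.mono_iff_injective ((KP M fs m).iCycles ((i : ℤ) - fs.length))).1 inferInstance
      rw [← ConcreteCategory.comp_apply, ← ConcreteCategory.comp_apply,
        HomologicalComplex.cyclesMap_i, HomologicalComplex.toCycles_i, ConcreteCategory.comp_apply]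
      exact hw.symm
    rw [e, ← ConcreteCategory.comp_apply, HomologicalComplex.toCycles_comp_homologyπ]
    rfl
  exact (Module.DirectLimit.of_f (hij := h) (x := _)).symm.trans
    ((congrArg _ h0).trans (map_zero _))

end Groth.Agent.LC15.KL
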