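import Groth.Agent.LC15.RgammaModel

/-!
`RΓ_I` is right adjoint to the inclusion of torsion objects; composites of `RΓ`.
-/

set_option autoImplicit false
set_option linter.unusedSectionVars false
set_option linter.style.haveILetI false

universe u

open CategoryTheory CategoryTheory.Limits
open Groth.Agent Groth.Agent.DR39

attribute [local instance] HasDerivedCategory.standard

namespace Groth.Agent.LC15.RgammaProps

open RgammaModel

variable {A : Type u} [CommRing A] [IsNoetherianRing A] (I : Ideal A) [DRing.HasRgammaI I]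

/-- objects with torsion cohomology -/
abbrev Tors (L : Dual.D A) : Prop := ∀ i : ℤ, LocCoh.IsPowerTorsion I (Dual.HD A L i)

/-- the universal property -/
noncomputable def homEquiv (L : Dual.D A) (hL : Tors I L) (K : Dual.D A) :
    (L ⟶ K) ≃ (L ⟶ (DRing.RgammaI I).obj K) where
  toFun f := haveI := isIso_ε_of_torsion I L hL
    inv ((DRing.RgammaIε I).app L) ≫ (DRing.RgammaI I).map f
  invFun g := g ≫ (DRing.RgammaIε I).app K
  left_inv f := by
    haveI := isIso_ε_of_torsion I L hL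
    dsimp only
    rw [Category.assoc, (DRing.RgammaIε I).naturality, IsIso.inv_hom_id_assoc]
    rfl
  right_inv g := by
    haveI := isIso_ε_of_torsion I L hL
    haveI := isIso_map_ε I K
    have key : ∀ g₁ g₂ : L ⟶ (DRing.RgammaI I).obj K,
        g₁ ≫ (DRing.RgammaIε I).app K = g₂ ≫ (DRing.RgammaIε I).app K → g₁ = g₂ := by
      intro g₁ g₂ h
      have h1 := congrArg (DRing.RgammaI I).map h
      rw [Functor.map_comp, Functor.map_comp, cancel_mono] at h1
      have n1 := (DRing.RgammaIε I).naturality g₁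
      rw [h1, (DRing.RgammaIε I).naturality g₂] at n1
      exact ((cancel_epi ((DRing.RgammaIε I).app L)).1 n1).symm
    refine key _ _ ?_
    dsimp only
    rw [Category.assoc, (DRing.RgammaIε I).naturality, IsIso.inv_hom_id_assoc]
    rfl

theorem nonempty_adjunction : Nonempty (ObjectProperty.ι (Tors I) ⊣
    ObjectProperty.lift (Tors I) (DRing.RgammaI I) (isPowerTorsion_Rgamma I)) :=
  ⟨Adjunction.mkOfHomEquiv
    { homEquiv := fun L K => (homEquiv I L.obj L.property K).trans
        { toFun := fun g => ObjectProperty.homMk g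
          invFun := fun g => g.hom
          left_inv := fun _ => rfl
          right_inv := fun _ => rfl }
      homEquiv_naturality_left_symm := fun f g => Category.assoc f.hom g.hom _
      homEquiv_naturality_right := fun {L K K'} f g => ObjectProperty.hom_ext _ (by
        haveI := isIso_ε_of_torsion I L.obj L.property
        show inv ((DRing.RgammaIε I).app L.obj) ≫ (DRing.RgammaI I).map (f ≫ g) =
          (inv ((DRing.RgammaIε I).app L.obj) ≫ (DRing.RgammaI I).map f) ≫ (DRing.RgammaI I).map g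
        rw [Functor.map_comp, Category.assoc]) }⟩

theorem nonempty_comp_iso (J : Ideal A) [DRing.HasRgammaI J] [DRing.HasRgammaI (I ⊔ J)] (K : Dual.D A) :
    Nonempty ((DRing.RgammaI J).obj ((DRing.RgammaI I).obj K) ≅ (DRing.RgammaI (I ⊔ J)).obj K) := by
  obtain ⟨X, hX, ⟨e⟩⟩ := LC16.GammaModel.exists_isRep K
  haveI := isIso_βn_of_isKInjective I X hX.kinj
  haveI := isIso_βn_of_isKInjective (I ⊔ J) X hX.kinj
  haveI := isIso_βn J (DR39.gCx I X) (divCx_gCx I hX.inj)
  have hsup : ∀ (i : ℤ) (x : X.X i), x ∈ DRing.torsionSub (I ⊔ J) (X.X i) ↔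
      x ∈ DRing.torsionSub I (X.X i) ∧ x ∈ DRing.torsionSub J (X.X i) := by
    intro i x
    refine ⟨fun ⟨n, hn⟩ => ⟨⟨n, fun a ha => hn a (Ideal.pow_right_mono le_sup_left n ha)⟩,
      ⟨n, fun a ha => hn a (Ideal.pow_right_mono le_sup_right n ha)⟩⟩, ?_⟩
    rintro ⟨⟨n, hn⟩, m, hm⟩
    refine ⟨n + m, fun a ha => ?_⟩
    obtain ⟨b, hb, c, hc, rfl⟩ := Submodule.mem_sup.1 (LC16.CechRgamma.ideal_pow_sup_le I J n m ha)
    rw [add_smul, hn b hb, hm c hc, add_zero]
  let θ : ∀ i, (DR39.gCx J (DR39.gCx I X)).X i ≅ (DR39.gCx (I ⊔ J) X).X i := fun i =>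
    (LinearEquiv.ofBijective
      (LinearMap.codRestrict (DRing.torsionSub (I ⊔ J) (X.X i))
        ((DRing.torsionSub I (X.X i)).subtype.comp (DRing.torsionSub J (DRing.torsionSub I (X.X i))).subtype)
        fun z => (hsup i _).2 ⟨z.1.2, by
          obtain ⟨n, hn⟩ := z.2
          exact ⟨n, fun a ha => congrArg Subtype.val (hn a ha)⟩⟩ :
        DRing.torsionSub J (DRing.torsionSub I (X.X i)) →ₗ[A] DRing.torsionSub (I ⊔ J) (X.X i))
      ⟨fun a b h => Subtype.ext (Subtype.ext
        (congrArg (fun w : DRing.torsionSub (I ⊔ J) (X.X i) => w.1) h : a.1.1 = b.1.1)), fun ⟨x, hx⟩ =>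
        ⟨⟨⟨x, ((hsup i x).1 hx).1⟩, by
          obtain ⟨n, hn⟩ := ((hsup i x).1 hx).2
          exact ⟨n, fun a ha => Subtype.ext (hn a ha)⟩⟩, rfl⟩⟩).toModuleIso
  let Θ : DR39.gCx J (DR39.gCx I X) ≅ DR39.gCx (I ⊔ J) X :=
    HomologicalComplex.Hom.isoOfComponents θ fun _ _ _ => rfl
  exact ⟨(DRing.RgammaI J).mapIso ((DRing.RgammaI I).mapIso e.symm ≪≫ (asIso ((βn I).app X)).symm) ≪≫
    (asIso ((βn J).app (DR39.gCx I X))).symm ≪≫ (QA A).mapIso Θ ≪≫ asIso ((βn (I ⊔ J)).app X) ≪≫
    (DRing.RgammaI (I ⊔ J)).mapIso e⟩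

end Groth.Agent.LC15.RgammaProps
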