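import Groth.Agent.LC15.GM
import Groth.Agent.LC15.RgammaProps
import Groth.Agent.LC16.CechPairs
import Groth.Agent.DR40.CechRHom

/-!
The extended Cech complex computes `RΓ_J`, naturally in the module.
-/

set_option autoImplicit false
set_option linter.unusedSectionVars false
set_option linter.style.haveILetI false
set_option backward.isDefEq.respectTransparency false

noncomputable section

universe u

open CategoryTheory CategoryTheory.Limits CategoryTheory.Pretriangulated
open Groth.Agent Groth.Agent.DR39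
open Groth.Agent.LC16 (CechPairs.C CechPairs.Cmap)

attribute [local instance] HasDerivedCategory.standard

namespace Groth.Agent.LC15.CechNat

variable {A : Type u} [CommRing A]

theorem fst_apply {K L : DRing.Cx A} (φ : K ⟶ L) (n : ℤ) (x : (CochainComplex.mappingCocone φ).X n) :
    ((CochainComplex.mappingCocone.fst φ).f n).hom x = (LC16.ConePair.cc φ n (n + -1) (by omega) x).1 := by
  have h : (CochainComplex.mappingCocone.fst φ).f n =
      (CochainComplex.mappingCone.fst φ).1.v (n + -1) n (by omega) := by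
    simp [CochainComplex.mappingCocone.fst,
      CochainComplex.HomComplex.Cochain.leftShift_v (n := 1) _ _ _ _ n n (add_zero n) (n + -1) (by omega)]
    exact Category.id_comp _
  rw [LC16.ConePair.cc_self, LC16.ConePair.cp_fst]
  exact congrArg (fun ψ => ψ.hom x) h

/-- the augmentation -/
def aug : ∀ (fs : List A) (N : ModuleCat.{u} A),
    DerCA.extCech N fs ⟶ (HomologicalComplex.single _ (ComplexShape.up ℤ) 0).obj N
  | [], N => 𝟙 _
  | f :: fs, N =>
    CochainComplex.mappingCocone.fst (DerCA.locCxUnit (Submonoid.powers f) (DerCA.extCech N fs)) ≫ aug fs N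

theorem aug_naturality : ∀ (fs : List A) {N N' : ModuleCat.{u} A} (g : N ⟶ N'),
    CechPairs.Cmap fs g ≫ aug fs N' =
      aug fs N ≫ (HomologicalComplex.single _ (ComplexShape.up ℤ) 0).map g
  | [], N, N', g => (Category.comp_id _).trans (Category.id_comp _).symm
  | f :: fs, N, N', g => by
    have h : CechPairs.Cmap (f :: fs) g ≫
        CochainComplex.mappingCocone.fst (DerCA.locCxUnit (Submonoid.powers f) (DerCA.extCech N' fs)) =
        CochainComplex.mappingCocone.fst (DerCA.locCxUnit (Submonoid.powers f) (DerCA.extCech N fs)) ≫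
          CechPairs.Cmap fs g := by
      refine HomologicalComplex.hom_ext _ _ fun n => ModuleCat.hom_ext (LinearMap.ext fun x => ?_)
      refine (fst_apply _ n _).trans ((congrArg Prod.fst (LC16.ConePair.cc_map _ _ _ _ _ n (n + -1) (by omega) x)).trans ?_)
      exact congrArg ((CechPairs.Cmap fs g).f n).hom (fst_apply _ n x).symm
    show CechPairs.Cmap (f :: fs) g ≫ _ ≫ aug fs N' = (_ ≫ aug fs N) ≫ _
    rw [reassoc_of% h, aug_naturality fs g, Category.assoc]

variable (J : Ideal A)

/-- objects with torsion cohomology -/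
abbrev Tors (L : Dual.D A) : Prop := ∀ i : ℤ, LocCoh.IsPowerTorsion J (Dual.HD A L i)

theorem tors_extCech [IsNoetherianRing A] (fs : List A) (hfs : Ideal.span {x | x ∈ fs} = J)
    (N : ModuleCat.{u} A) : Tors J ((QA A).obj (DerCA.extCech N fs)) := fun i y => by
  have hle : J ≤ Ideal.radical (LinearMap.ker (LinearMap.toSpanSingleton A _ y)) := by
    refine hfs ▸ Ideal.span_le.2 fun f hf => ?_
    obtain ⟨n, hn⟩ := (DR40.torsD_iff f _).2 (DR40.tors_extCech N fs f hf) i y
    exact ⟨n, hn⟩
  obtain ⟨k, hk⟩ := Ideal.exists_pow_le_of_le_radical_of_fg hle (IsNoetherian.noetherian J)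
  exact ⟨k, fun a ha => hk ha⟩

variable [IsNoetherianRing A] [DRing.HasRgammaI J]

theorem isZero_Rgamma_of_orth (Y : Dual.D A) (h : DR40.Orth J Y) :
    IsZero ((DRing.RgammaI J).obj Y) := by
  obtain ⟨Z, hZ, ⟨e⟩⟩ := LC16.GammaModel.exists_isRep Y
  haveI := RgammaModel.isIso_βn_of_isKInjective J Z hZ.kinj
  exact (GM.orth_torsion J Z (Div.divCx_of_injective hZ.inj) (h.of_iso e.symm)).of_iso
    ((DRing.RgammaI J).mapIso e.symm ≪≫ (asIso ((RgammaModel.βn J).app Z)).symm)

theorem hom_eq_zero {L Y : Dual.D A} (hL : Tors J L) (hY : DR40.Orth J Y) (g : L ⟶ Y) : g = 0 :=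
  (RgammaProps.homEquiv J L hL Y).injective ((isZero_Rgamma_of_orth J Y hY).eq_of_tgt _ _)

theorem bijective_aug : ∀ (fs : List A), (∀ f ∈ fs, f ∈ J) → ∀ (N : ModuleCat.{u} A) (L : Dual.D A),
    Tors J L → Function.Bijective fun g : L ⟶ (QA A).obj (DerCA.extCech N fs) => g ≫ (QA A).map (aug fs N) := by
  intro fs
  induction fs with
  | nil =>
    intro _ N L _
    have h : (fun g : L ⟶ (QA A).obj (DerCA.extCech N []) => g ≫ (QA A).map (aug [] N)) = id := funext fun g => by
      show g ≫ (QA A).map (𝟙 _) = g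
      rw [CategoryTheory.Functor.map_id, Category.comp_id]
    exact h ▸ Function.bijective_id
  | cons f fs ih =>
    intro hfs N L hL
    let φ := DerCA.locCxUnit (Submonoid.powers f) (DerCA.extCech N fs)
    have hY : DR40.Orth J ((QA A).obj ((DerCA.locCx (Submonoid.powers f)).obj (DerCA.extCech N fs))) :=
      GM.orth_loc (hfs f (List.mem_cons_self ..)) _
    have hT := LC16.CechRgamma.cocone_distinguished φ
    have hb : Function.Bijective fun g : L ⟶ (QA A).obj (CochainComplex.mappingCocone φ) =>
        g ≫ (QA A).map (CochainComplex.mappingCocone.fst φ) := by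
      refine ⟨fun a b hab => ?_, fun v => ?_⟩
      · obtain ⟨k, hk⟩ := Triangle.coyoneda_exact₂ _ (inv_rot_of_distTriang _ hT) (a - b) (by
          show (a - b) ≫ (QA A).map (CochainComplex.mappingCocone.fst φ) = 0
          rw [Preadditive.sub_comp]
          exact sub_eq_zero.2 hab)
        rw [hom_eq_zero J hL (hY.shift (-1)) k, zero_comp] at hk
        exact sub_eq_zero.1 hk
      · obtain ⟨k, hk⟩ := Triangle.coyoneda_exact₂ _ hT v (hom_eq_zero J hL hY _)
        exact ⟨k, hk.symm⟩
    have h2 := ih (fun g hg => hfs g (List.mem_cons_of_mem _ hg)) N L hL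
    have h := h2.comp hb
    simp only [Function.comp_def, Category.assoc] at h
    show Function.Bijective fun g : L ⟶ _ => g ≫ (QA A).map (_ ≫ aug fs N)
    rw [Functor.map_comp]
    exact h

variable (fs : List A) (hfs : Ideal.span {x | x ∈ fs} = J) (N : ModuleCat.{u} A)

/-- the augmentation in the derived category -/
def augD : (QA A).obj (DerCA.extCech N fs) ⟶ (DerivedCategory.singleFunctor (ModuleCat.{u} A) 0).obj N :=
  (QA A).map (aug fs N) ≫ (DerivedCategory.singleFunctorIsoCompQ (ModuleCat.{u} A) 0).inv.app N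

include hfs in
theorem bijective_augD (L : Dual.D A) (hL : Tors J L) :
    Function.Bijective fun g : L ⟶ (QA A).obj (DerCA.extCech N fs) => g ≫ augD fs N := by
  have h1 := bijective_aug J fs (fun f hf => hfs ▸ Ideal.subset_span hf) N L hL
  refine ⟨fun a b hab => h1.1 ((cancel_mono ((DerivedCategory.singleFunctorIsoCompQ (ModuleCat.{u} A) 0).inv.app N)).1
    ((Category.assoc _ _ _).trans (hab.trans (Category.assoc _ _ _).symm))), fun v => ?_⟩
  obtain ⟨g, hg⟩ := h1.2 (v ≫ (DerivedCategory.singleFunctorIsoCompQ (ModuleCat.{u} A) 0).hom.app N)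
  refine ⟨g, ?_⟩
  exact (Category.assoc _ _ _).symm.trans ((congrArg (· ≫ _) hg).trans
    ((Category.assoc _ _ _).trans ((congrArg (v ≫ ·) (Iso.hom_inv_id_app _ N)).trans (Category.comp_id _))))

/-- the comparison map -/
def toRgamma : (QA A).obj (DerCA.extCech N fs) ⟶
    (DRing.RgammaI J).obj ((DerivedCategory.singleFunctor (ModuleCat.{u} A) 0).obj N) :=
  RgammaProps.homEquiv J _ (tors_extCech J fs hfs N) _ (augD fs N)

theorem toRgamma_ε : toRgamma J fs hfs N ≫
    (DRing.RgammaIε J).app ((DerivedCategory.singleFunctor (ModuleCat.{u} A) 0).obj N) = augD fs N :=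
  (RgammaProps.homEquiv J _ (tors_extCech J fs hfs N) _).left_inv (augD fs N)

theorem rgamma_hom_ext {L K : Dual.D A} (hL : Tors J L) {a b : L ⟶ (DRing.RgammaI J).obj K}
    (h : a ≫ (DRing.RgammaIε J).app K = b ≫ (DRing.RgammaIε J).app K) : a = b :=
  (RgammaProps.homEquiv J L hL K).symm.injective h

theorem isIso_toRgamma : IsIso (toRgamma J fs hfs N) := by
  let X := (QA A).obj (DerCA.extCech N fs)
  let R := (DRing.RgammaI J).obj ((DerivedCategory.singleFunctor (ModuleCat.{u} A) 0).obj N)
  have hR : Tors J R := RgammaModel.isPowerTorsion_Rgamma J _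
  have hX : Tors J X := tors_extCech J fs hfs N
  obtain ⟨w, hw⟩ := (bijective_augD J fs hfs N R hR).2 ((DRing.RgammaIε J).app _)
  simp only at hw
  refine ⟨w, (bijective_augD J fs hfs N X hX).1 ?_, rgamma_hom_ext J hR ?_⟩
  · show (toRgamma J fs hfs N ≫ w) ≫ augD fs N = 𝟙 X ≫ augD fs N
    rw [Category.assoc, hw, toRgamma_ε, Category.id_comp]
  · rw [Category.assoc, toRgamma_ε, hw, Category.id_comp]

theorem toRgamma_naturality {N N' : ModuleCat.{u} A} (g : N ⟶ N') :
    (QA A).map (CechPairs.Cmap fs g) ≫ toRgamma J fs hfs N' =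
      toRgamma J fs hfs N ≫ (DRing.RgammaI J).map ((DerivedCategory.singleFunctor (ModuleCat.{u} A) 0).map g) := by
  refine rgamma_hom_ext J (tors_extCech J fs hfs N) ?_
  rw [Category.assoc, Category.assoc, toRgamma_ε, (DRing.RgammaIε J).naturality, ← Category.assoc,
    toRgamma_ε]
  show (QA A).map _ ≫ (QA A).map _ ≫ _ = ((QA A).map _ ≫ _) ≫ (DerivedCategory.singleFunctor _ 0).map g
  rw [← Functor.map_comp_assoc, aug_naturality, Functor.map_comp, Category.assoc, Category.assoc]
  exact congrArg (_ ≫ ·) ((DerivedCategory.singleFunctorIsoCompQ (ModuleCat.{u} A) 0).inv.naturality g)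

end Groth.Agent.LC15.CechNat
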