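import Groth.Agent.LC16.CechPairs

/-!
The extended Cech complex of a quotient by `a • ⊤`.
-/

set_option autoImplicit false
set_option linter.style.haveILetI false

noncomputable section

universe u

open CategoryTheory CategoryTheory.Limits

namespace Groth.Agent.LC15.CechQuot

open Groth.Agent.LC16 Groth.Agent.LC16.CechPairs

variable {R : Type u} [CommRing R]

theorem Cmap_comp : ∀ (fs : List R) {M N L : ModuleCat.{u} R} (g : M ⟶ N) (h : N ⟶ L),
    Cmap fs g ≫ Cmap fs h = Cmap fs (g ≫ h)
  | [], _, _, _, g, h => ((HomologicalComplex.single (ModuleCat.{u} R) (ComplexShape.up ℤ) 0).map_comp g h).symm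
  | f :: fs, M, N, L, g, h => by
    refine HomologicalComplex.hom_ext _ _ fun q => ModuleCat.hom_ext (LinearMap.ext fun x => ?_)
    have ih := fun i => congrArg (fun φ => HomologicalComplex.Hom.f φ i) (Cmap_comp fs g h)
    refine (pairs f fs L q (q - 1) (by omega)).injective ?_
    show pairs f fs L q (q - 1) _ (((Cmap (f :: fs) h).f q).hom (((Cmap (f :: fs) g).f q).hom x)) = _
    rw [pairs_Cmap, pairs_Cmap, pairs_Cmap]
    refine Prod.ext ?_ ?_
    · exact congrArg (fun φ => φ.hom (pairs f fs M q (q - 1) (by omega) x).1) (ih q)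
    · show _ = IsLocalizedModule.map _ _ _ ((Cmap fs (g ≫ h)).f (q - 1)).hom _
      rw [← ih (q - 1)]
      simp only [HomologicalComplex.comp_f, ModuleCat.hom_comp]
      rw [IsLocalizedModule.map_comp' (Submonoid.powers f) (LocalizedModule.mkLinearMap (Submonoid.powers f) ((C fs M).X (q - 1))) (LocalizedModule.mkLinearMap (Submonoid.powers f) ((C fs N).X (q - 1))) (LocalizedModule.mkLinearMap (Submonoid.powers f) ((C fs L).X (q - 1)))]
      rfl

/-- the kernel of a localised map -/
theorem loc_ker {P Q : Type u} [AddCommGroup P] [Module R P] [AddCommGroup Q] [Module R Q] (S : Submonoid R)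
    (φ : P →ₗ[R] Q) (a : Ideal R) (h : ∀ x, φ x = 0 ↔ x ∈ (a • ⊤ : Submodule R P))
    (z : LocalizedModule S P) :
    IsLocalizedModule.map S (LocalizedModule.mkLinearMap S P) (LocalizedModule.mkLinearMap S Q) φ z = 0 ↔
      z ∈ (a • ⊤ : Submodule R (LocalizedModule S P)) := by
  constructor
  · induction z using LocalizedModule.induction_on with | h x s => ?_
    intro hz
    rw [IsLocalizedModule.mk_eq_mk', IsLocalizedModule.map_mk', ← IsLocalizedModule.mk_eq_mk',
      ← LocalizedModule.zero_mk s, LocalizedModule.mk_eq] at hz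
    obtain ⟨t, ht⟩ := hz
    simp only [Submonoid.smul_def, smul_zero, ← map_smul] at ht
    have hx := (h _).1 ht
    have hmk : LocalizedModule.mk x s = LocalizedModule.mk ((t : R) • (s : R) • x) (t * s * s) := by
      rw [LocalizedModule.mk_eq]
      refine ⟨1, ?_⟩
      simp only [Submonoid.smul_def, one_smul, Submonoid.coe_mul, smul_smul]
      ring_nf
    rw [hmk]
    refine Submodule.smul_induction_on hx (fun r hr m _ => ?_) fun u v hu hv => ?_
    · rw [← LocalizedModule.smul'_mk]
      exact Submodule.smul_mem_smul hr trivial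
    · rw [show LocalizedModule.mk (u + v) (t * s * s) =
        LocalizedModule.mk u (t * s * s) + LocalizedModule.mk v (t * s * s) from by
          rw [IsLocalizedModule.mk_eq_mk', IsLocalizedModule.mk_eq_mk', IsLocalizedModule.mk_eq_mk',
            IsLocalizedModule.mk'_add]]
      exact Submodule.add_mem _ hu hv
  · intro hz
    refine Submodule.smul_induction_on hz (fun r hr m _ => ?_) fun u v hu hv => by rw [map_add, hu, hv, add_zero]
    induction m using LocalizedModule.induction_on with | h x s => ?_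
    rw [LocalizedModule.smul'_mk, IsLocalizedModule.mk_eq_mk', IsLocalizedModule.map_mk',
      (h (r • x)).2 (Submodule.smul_mem_smul hr trivial), IsLocalizedModule.mk'_zero]

/-- transport of `a • ⊤` along an equivalence -/
theorem mem_smul_top_iff {P Q : Type u} [AddCommGroup P] [Module R P] [AddCommGroup Q] [Module R Q]
    (e : P ≃ₗ[R] Q) (a : Ideal R) (x : P) :
    x ∈ (a • ⊤ : Submodule R P) ↔ e x ∈ (a • ⊤ : Submodule R Q) := by
  rw [← (show Submodule.map e.toLinearMap (a • ⊤) = a • ⊤ by
    rw [Submodule.map_smul'', Submodule.map_top, LinearEquiv.range])]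
  exact ⟨fun h => ⟨x, h, rfl⟩, fun ⟨y, hy, h⟩ => e.injective h ▸ hy⟩

theorem prod_smul_top {P Q : Type u} [AddCommGroup P] [Module R P] [AddCommGroup Q] [Module R Q]
    (a : Ideal R) (x : P × Q) :
    x ∈ (a • ⊤ : Submodule R (P × Q)) ↔
      x.1 ∈ (a • ⊤ : Submodule R P) ∧ x.2 ∈ (a • ⊤ : Submodule R Q) := by
  constructor
  · intro h
    exact ⟨Submodule.smul_top_le_comap_smul_top a (LinearMap.fst R P Q) h,
      Submodule.smul_top_le_comap_smul_top a (LinearMap.snd R P Q) h⟩
  · rintro ⟨h1, h2⟩
    rw [show x = LinearMap.inl R P Q x.1 + LinearMap.inr R P Q x.2 from Prod.ext (by simp) (by simp)]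
    exact Submodule.add_mem _ (Submodule.smul_top_le_comap_smul_top a (LinearMap.inl R P Q) h1)
      (Submodule.smul_top_le_comap_smul_top a (LinearMap.inr R P Q) h2)

theorem degreewise_quot {M N : ModuleCat.{u} R} (g : M ⟶ N) (a : Ideal R)
    (hs : Function.Surjective g.hom) (hk : ∀ x, g.hom x = 0 ↔ x ∈ (a • ⊤ : Submodule R M)) :
    ∀ (fs : List R) (q : ℤ), Function.Surjective ((Cmap fs g).f q).hom ∧
      ∀ x, ((Cmap fs g).f q).hom x = 0 ↔ x ∈ (a • ⊤ : Submodule R ((C fs M).X q)) := by
  intro fs
  induction fs with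
  | nil =>
    intro q
    rcases eq_or_ne q 0 with rfl | hq
    · have hA : ∀ x, nilEquiv N (((Cmap [] g).f 0).hom x) = g.hom (nilEquiv M x) := fun x => e0_Cmap [] g x
      refine ⟨fun z => ?_, fun x => ?_⟩
      · obtain ⟨y, hy⟩ := hs (nilEquiv N z)
        exact ⟨(nilEquiv M).symm y, (nilEquiv N).injective (by rw [hA, LinearEquiv.apply_symm_apply, hy])⟩
      · rw [← (nilEquiv N).map_eq_zero_iff, hA, hk, ← mem_smul_top_iff]
    · haveI := subsingleton_nil M hq
      haveI := subsingleton_nil N hq
      exact ⟨fun z => ⟨0, Subsingleton.elim _ _⟩, fun x =>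
        iff_of_true (Subsingleton.elim _ _) (Subsingleton.elim x 0 ▸ Submodule.zero_mem _)⟩
  | cons f fs ih =>
    intro q
    obtain ⟨s1, k1⟩ := ih q
    obtain ⟨s2, k2⟩ := ih (q - 1)
    have pA := fun x => pairs_Cmap f fs g q (q - 1) (by omega) x
    refine ⟨fun z => ?_, fun x => ?_⟩
    · obtain ⟨u, hu⟩ := s1 (pairs f fs N q (q - 1) (by omega) z).1
      obtain ⟨v, hv⟩ := IsLocalizedModule.map_surjective (Submonoid.powers f)
        (LocalizedModule.mkLinearMap (Submonoid.powers f) ((C fs M).X (q - 1)))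
        (LocalizedModule.mkLinearMap (Submonoid.powers f) ((C fs N).X (q - 1))) _ s2
        (pairs f fs N q (q - 1) (by omega) z).2
      exact ⟨(pairs f fs M q (q - 1) (by omega)).symm (u, v),
        (pairs f fs N q (q - 1) (by omega)).injective (by rw [pA, LinearEquiv.apply_symm_apply, hu, hv])⟩
    · rw [← (pairs f fs N q (q - 1) (by omega)).map_eq_zero_iff, pA, Prod.mk_eq_zero, k1,
        loc_ker _ _ a k2, mem_smul_top_iff (pairs f fs M q (q - 1) (by omega)), prod_smul_top]

end Groth.Agent.LC15.CechQuot
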