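import Groth.Agent.DR40.DCExist
import Groth.Agent.DR40.FlatCompl
import Groth.Agent.LC17.ComplGamma
import Groth.Agent.LC16.CechPairs

/-!
Termwise completion is the derived completion for complexes built from `M ⊗ flat` modules.
-/

set_option autoImplicit false
set_option linter.unusedSectionVars false
set_option linter.style.haveILetI false
set_option backward.isDefEq.respectTransparency false

noncomputable section

universe u

open CategoryTheory CategoryTheory.Limits CategoryTheory.Pretriangulated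
open Groth.Agent Groth.Agent.DR39
open scoped TensorProduct

attribute [local instance] HasDerivedCategory.standard

namespace Groth.Agent.LC15.ComplCx

variable {A : Type u} [CommRing A] (I : Ideal A)

/-- adic completion as an endofunctor -/
def G : ModuleCat.{u} A ⥤ ModuleCat.{u} A where
  obj N := ModuleCat.of A (AdicCompletion I N)
  map g := ModuleCat.ofHom ((AdicCompletion.map I g.hom).restrictScalars A)
  map_id N := ModuleCat.hom_ext (LinearMap.ext fun z => by
    show AdicCompletion.map I (LinearMap.id : N →ₗ[A] N) z = z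
    rw [AdicCompletion.map_id]; rfl)
  map_comp g g' := ModuleCat.hom_ext (LinearMap.ext fun z => (DR40.adicMap_comp_apply I g.hom g'.hom z).symm)

instance : (G (A := A) I).Additive where
  map_add {N N' g g'} := ModuleCat.hom_ext (LinearMap.ext fun z => DR40.adicMap_add I g.hom g'.hom z)

/-- the completion map -/
def uG : 𝟭 (ModuleCat.{u} A) ⟶ G I where
  app N := ModuleCat.ofHom (X := N) (Y := AdicCompletion I N) (AdicCompletion.of I N)
  naturality _ _ g := ModuleCat.hom_ext (LinearMap.ext fun x => (AdicCompletion.map_of I g.hom x).symm)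

/-- termwise completion -/
abbrev GC : DRing.Cx A ⥤ DRing.Cx A := (G I).mapHomologicalComplex (ComplexShape.up ℤ)

/-- termwise completion maps -/
def uC : 𝟭 (DRing.Cx A) ⟶ GC I where
  app Y := { f := fun i => (uG I).app (Y.X i)
             comm' := fun i j _ => ((uG I).naturality (Y.d i j)).symm }
  naturality _ _ g := HomologicalComplex.hom_ext _ _ fun i => (uG I).naturality (g.f i)

/-- termwise completion is derived completion -/
def P (Y : DRing.Cx A) : Prop := DR40.IsCompl I ((QA A).map ((uC I).app Y))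

variable {I}

theorem IsCompl.comp_iso {K C C' : Dual.D A} {η : K ⟶ C} (h : DR40.IsCompl I η) (e : C ≅ C') :
    DR40.IsCompl I (η ≫ e.hom) := by
  refine ⟨DR40.dc_of_iso h.1 e, fun E hE => ⟨fun a b hab => ?_, fun v => ?_⟩⟩
  · exact (cancel_epi e.hom).1 ((h.2 E hE).1 (by simpa using hab))
  · obtain ⟨g, hg⟩ := (h.2 E hE).2 v
    exact ⟨e.inv ≫ g, by simpa using hg⟩

theorem IsCompl.iso_comp {K K' C : Dual.D A} {η : K ⟶ C} (h : DR40.IsCompl I η) (e : K' ≅ K) :
    DR40.IsCompl I (e.hom ≫ η) := by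
  refine ⟨h.1, fun E hE => ⟨fun a b hab => ?_, fun v => ?_⟩⟩
  · exact (h.2 E hE).1 ((cancel_epi e.hom).1 (by simpa using hab))
  · obtain ⟨g, hg⟩ := (h.2 E hE).2 (e.inv ≫ v)
    exact ⟨g, by simp [hg]⟩

theorem IsCompl.shift {K C : Dual.D A} {η : K ⟶ C} (h : DR40.IsCompl I η) (k : ℤ) :
    DR40.IsCompl I (η⟦k⟧') := by
  refine ⟨DR40.dc_shift h.1 k, fun E hE => ?_⟩
  let adj := (shiftEquiv (Dual.D A) k).toAdjunction
  have : (fun g : C⟦k⟧ ⟶ E => η⟦k⟧' ≫ g) =
      (adj.homEquiv K E).symm ∘ (fun g : C ⟶ E⟦-k⟧ => η ≫ g) ∘ (adj.homEquiv C E) := by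
    funext g
    apply (adj.homEquiv K E).injective
    show adj.homEquiv K E _ = adj.homEquiv K E ((adj.homEquiv K E).symm (η ≫ adj.homEquiv C E g))
    rw [Equiv.apply_symm_apply]
    exact adj.homEquiv_naturality_left η g
  rw [this]
  exact ((adj.homEquiv K E).symm.bijective.comp (h.2 _ (DR40.dc_shift hE (-k)))).comp
    (adj.homEquiv C E).bijective

/-- completions of two vertices of a morphism of triangles give one of the third -/
theorem IsCompl.of_triangle {T T' : Triangle (Dual.D A)} (hT : T ∈ distinguishedTriangles)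
    (hT' : T' ∈ distinguishedTriangles) (φ : T ⟶ T') (h₁ : DR40.IsCompl I φ.hom₁)
    (h₂ : DR40.IsCompl I φ.hom₂) : DR40.IsCompl I φ.hom₃ := by
  have hψ := φ.comm₁
  have hγ2 := φ.comm₂
  have hγ3 := φ.comm₃
  have h0d : T'.mor₃ ≫ T'.mor₁⟦(1 : ℤ)⟧' = 0 := comp_distTriang_mor_zero₃₁ _ hT'
  refine ⟨DR40.dc_obj₃ hT' h₁.1 h₂.1, fun E hE => ⟨fun a b hab => ?_, fun w => ?_⟩⟩
  · rw [← sub_eq_zero]
    have hg : φ.hom₃ ≫ (a - b) = 0 := (Preadditive.comp_sub _ _ _).trans (sub_eq_zero.2 hab)
    have hpg : T'.mor₂ ≫ (a - b) = 0 := (h₂.2 E hE).1 (by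
      show φ.hom₂ ≫ T'.mor₂ ≫ (a - b) = φ.hom₂ ≫ 0
      rw [← reassoc_of% hγ2, hg, comp_zero, comp_zero])
    obtain ⟨k, hk⟩ := Triangle.yoneda_exact₃ _ hT' (a - b) hpg
    have h1 : T.mor₃ ≫ φ.hom₁⟦(1 : ℤ)⟧' ≫ k = 0 := by
      rw [reassoc_of% hγ3, ← hk, hg]
    obtain ⟨(l : T.obj₂⟦(1 : ℤ)⟧ ⟶ E), (hl : φ.hom₁⟦(1 : ℤ)⟧' ≫ k = (-T.mor₁⟦(1 : ℤ)⟧') ≫ l)⟩ :=
      Triangle.yoneda_exact₃ _ (rot_of_distTriang T hT) (φ.hom₁⟦(1 : ℤ)⟧' ≫ k) h1
    obtain ⟨l', hl'⟩ := (h₂.shift_bijective E hE).2 l
    simp only at hl'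
    have hk' : k = -(T'.mor₁⟦(1 : ℤ)⟧' ≫ l') := (h₁.shift_bijective E hE).1 (by
      show φ.hom₁⟦(1 : ℤ)⟧' ≫ k = φ.hom₁⟦(1 : ℤ)⟧' ≫ _
      rw [hl, ← hl', Preadditive.neg_comp, Preadditive.comp_neg, ← Functor.map_comp_assoc,
        ← Functor.map_comp_assoc, hψ])
    rw [hk, hk', Preadditive.comp_neg, reassoc_of% h0d, zero_comp, neg_zero]
  · obtain ⟨v, hv⟩ := (h₂.2 E hE).2 (T.mor₂ ≫ w)
    simp only at hv
    have hψv : T'.mor₁ ≫ v = 0 := (h₁.2 E hE).1 (by
      show φ.hom₁ ≫ T'.mor₁ ≫ v = φ.hom₁ ≫ 0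
      rw [← reassoc_of% hψ, hv, reassoc_of% (comp_distTriang_mor_zero₁₂ T hT), zero_comp, comp_zero])
    obtain ⟨g, hg⟩ := Triangle.yoneda_exact₂ _ hT' v hψv
    obtain ⟨k, hk⟩ := Triangle.yoneda_exact₃ T hT (w - φ.hom₃ ≫ g) (by
      rw [Preadditive.comp_sub, reassoc_of% hγ2, ← hg, hv, sub_self])
    obtain ⟨k', hk'⟩ := (h₁.shift_bijective E hE).2 k
    simp only at hk'
    refine ⟨g + T'.mor₃ ≫ k', ?_⟩
    show φ.hom₃ ≫ (g + T'.mor₃ ≫ k') = w
    rw [Preadditive.comp_add, ← reassoc_of% hγ3, hk', ← hk]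
    abel

theorem P.of_iso {K L : DRing.Cx A} (e : K ≅ L) (h : P I K) : P I L := by
  have h' := IsCompl.iso_comp (IsCompl.comp_iso h ((QA A).mapIso ((GC I).mapIso e))) ((QA A).mapIso e).symm
  have : (uC I).app L = e.inv ≫ (uC I).app K ≫ (GC I).map e.hom := by
    rw [← (uC I).naturality e.hom]; simp
  unfold P
  rw [this, Functor.map_comp, Functor.map_comp]
  exact h'

theorem P.shift {K : DRing.Cx A} (h : P I K) (k : ℤ) : P I (K⟦k⟧) := by
  let e := ((G (A := A) I).mapHomologicalComplex (ComplexShape.up ℤ)).commShiftIso (k : ℤ)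
  have hu : (uC I).app (K⟦k⟧) = ((uC I).app K)⟦k⟧' ≫ e.inv.app K :=
    HomologicalComplex.hom_ext _ _ fun i => by
      show (uG I).app _ = (uG I).app _ ≫ 𝟙 _
      exact (Category.comp_id _).symm
  have hn := ((QA A).commShiftIso k).hom.naturality ((uC I).app K)
  have hs := IsCompl.iso_comp (IsCompl.comp_iso (IsCompl.shift h k)
    (((QA A).commShiftIso k).app ((GC I).obj K)).symm) (((QA A).commShiftIso k).app K)
  have : (QA A).map (((uC I).app K)⟦k⟧') =
      (((QA A).commShiftIso k).app K).hom ≫ ((QA A).map ((uC I).app K))⟦k⟧' ≫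
        (((QA A).commShiftIso k).app ((GC I).obj K)).symm.hom := by
    simp only [Functor.comp_map] at hn
    simp only [Iso.app_hom, Iso.symm_hom, Iso.app_inv, Functor.id_obj]
    rw [← reassoc_of% hn]
    simp
  have h2 := IsCompl.comp_iso (this ▸ hs : DR40.IsCompl I ((QA A).map (((uC I).app K)⟦k⟧')))
    ((QA A).mapIso (e.app K).symm)
  unfold P
  rw [hu, Functor.map_comp]
  exact h2

theorem P.cone {K L : DRing.Cx A} (φ : K ⟶ L) (hK : P I K) (hL : P I L) :
    P I (CochainComplex.mappingCone φ) := by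
  have comm : φ ≫ (uC I).app L = (uC I).app K ≫ (GC I).map φ := (uC I).naturality φ
  let e := CochainComplex.mappingCone.mapHomologicalComplexIso φ (G I)
  have h3 : DR40.IsCompl I ((QA A).map (CochainComplex.mappingCone.map φ ((GC I).map φ)
      ((uC I).app K) ((uC I).app L) comm)) :=
    IsCompl.of_triangle (DerivedCategory.mappingCone_triangle_distinguished φ)
      (DerivedCategory.mappingCone_triangle_distinguished ((GC I).map φ))
      ((QA A).mapTriangle.map (CochainComplex.mappingCone.triangleMap φ ((GC I).map φ)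
        ((uC I).app K) ((uC I).app L) comm)) hK hL
  have hu : (uC I).app (CochainComplex.mappingCone φ) ≫ e.hom =
      CochainComplex.mappingCone.map φ ((GC I).map φ) ((uC I).app K) ((uC I).app L) comm := by
    refine HomologicalComplex.hom_ext _ _ fun n => ?_
    show (uG I).app _ ≫ (CochainComplex.mappingCone.mapHomologicalComplexXIso φ (G I) n).hom = _
    rw [CochainComplex.mappingCone.ext_from_iff φ (n + 1) n rfl]
    have n1 := fun (m : ℤ) (h : m + (-1) = n) => (uG I).naturality ((CochainComplex.mappingCone.inl φ).v m n h)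
    have n2 := (uG I).naturality ((CochainComplex.mappingCone.inr φ).f n)
    simp only [Functor.id_map] at n1 n2
    constructor
    · rw [reassoc_of% (n1 (n + 1) (by omega))]
      simp [CochainComplex.mappingCone.mapHomologicalComplexXIso,
        CochainComplex.mappingCone.map, ← Functor.map_comp_assoc, uC]
    · rw [reassoc_of% n2]
      simp [CochainComplex.mappingCone.mapHomologicalComplexXIso,
        CochainComplex.mappingCone.map, ← Functor.map_comp_assoc, uC]
  have h4 := IsCompl.comp_iso h3 ((QA A).mapIso e.symm)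
  unfold P
  rw [show (uC I).app (CochainComplex.mappingCone φ) = _ ≫ e.inv from (Iso.eq_comp_inv e).2 hu, Functor.map_comp]
  exact h4

section Single

variable [IsNoetherianRing A] (M : Type u) [AddCommGroup M] [Module A M] [Module.Finite A M]

theorem P.single (N : ModuleCat.{u} A) (F : Type u) [AddCommGroup F] [Module A F] [Module.Flat A F]
    (l : N ≃ₗ[A] M ⊗[A] F) : P I ((HomologicalComplex.single _ (ComplexShape.up ℤ) 0).obj N) := by
  let τ := DerivedCategory.singleFunctorIsoCompQ (ModuleCat.{u} A) 0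
  let i : N ≅ ModuleCat.of A (M ⊗[A] F) := l.toModuleIso
  have h0 : DR40.IsCompl I ((DerivedCategory.singleFunctor (ModuleCat.{u} A) 0).map
      ((uG I).app (ModuleCat.of A (M ⊗[A] F)))) := DR40.isCompl_inD_tensor I M F
  have h1 : DR40.IsCompl I ((DerivedCategory.singleFunctor (ModuleCat.{u} A) 0).map ((uG I).app N)) := by
    have h' := IsCompl.iso_comp (IsCompl.comp_iso h0
      ((DerivedCategory.singleFunctor (ModuleCat.{u} A) 0).mapIso ((G I).mapIso i).symm))
      ((DerivedCategory.singleFunctor (ModuleCat.{u} A) 0).mapIso i)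
    have : (uG I).app N = i.hom ≫ (uG I).app _ ≫ (G I).map i.inv := by
      rw [← (uG I).naturality i.inv]; simp
    rw [this, Functor.map_comp, Functor.map_comp]
    exact h'
  let s := (HomologicalComplex.singleMapHomologicalComplex (G (A := A) I) (ComplexShape.up ℤ) 0).app N
  have hu : (uC I).app ((HomologicalComplex.single _ (ComplexShape.up ℤ) 0).obj N) ≫ s.hom =
      (HomologicalComplex.single _ (ComplexShape.up ℤ) 0).map ((uG I).app N) := by
    refine HomologicalComplex.from_single_hom_ext ?_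
    have n1 := (uG I).naturality (HomologicalComplex.singleObjXSelf (ComplexShape.up ℤ) (0 : ℤ) N).inv
    simp only [Functor.id_map] at n1
    simp [s, uC, reassoc_of% n1, HomologicalComplex.single_map_f_self, ← Functor.map_comp_assoc]
    exact ((uG I).naturality (HomologicalComplex.singleObjXSelf (ComplexShape.up ℤ) (0 : ℤ) N).hom).symm
  have h2 := IsCompl.iso_comp (IsCompl.comp_iso h1 (τ.app ((G I).obj N))) (τ.app N).symm
  have h3 : DR40.IsCompl I ((QA A).map ((HomologicalComplex.single _ (ComplexShape.up ℤ) 0).map ((uG I).app N))) := by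
    refine Eq.subst (motive := fun z => DR40.IsCompl I z) ?_ h2
    have hn := τ.hom.naturality ((uG I).app N)
    exact (congrArg (τ.inv.app N ≫ ·) hn).trans (Iso.inv_hom_id_app_assoc τ _ _)
  have h4 := IsCompl.comp_iso h3 ((QA A).mapIso s.symm)
  unfold P
  rw [show (uC I).app _ = _ ≫ s.inv from (Iso.eq_comp_inv s).2 hu, Functor.map_comp]
  exact h4

/-- complexes built from `M ⊗ flat` modules -/
inductive Good : DRing.Cx A → Prop
  | single (N : ModuleCat.{u} A) (F : Type u) [AddCommGroup F] [Module A F] [Module.Flat A F]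
      (l : N ≃ₗ[A] M ⊗[A] F) : Good ((HomologicalComplex.single _ (ComplexShape.up ℤ) 0).obj N)
  | cone {K L : DRing.Cx A} (φ : K ⟶ L) : Good K → Good L → Good (CochainComplex.mappingCone φ)
  | shift {K : DRing.Cx A} (k : ℤ) : Good K → Good (K⟦k⟧)
  | of_iso {K L : DRing.Cx A} (e : K ≅ L) : Good K → Good L

theorem Good.p {Y : DRing.Cx A} (h : Good M Y) : P I Y := by
  induction h with
  | single N F l => exact P.single M N F l
  | cone φ _ _ hK hL => exact P.cone φ hK hL
  | shift k _ hK => exact P.shift hK k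
  | of_iso e _ hK => exact P.of_iso e hK

theorem Good.loc {Y : DRing.Cx A} (h : Good M Y) (f : A) :
    Good M ((DerCA.locCx (Submonoid.powers f)).obj Y) := by
  induction h with
  | single N F l =>
    refine Good.of_iso ((HomologicalComplex.singleMapHomologicalComplex
      (DerCA.locFunctor (Submonoid.powers f)) (ComplexShape.up ℤ) 0).app N).symm ?_
    exact Good.single _ (Localization (Submonoid.powers f) ⊗[A] F)
      (((LocalizedModule.equivTensorProduct (Submonoid.powers f) N).restrictScalars A) ≪≫ₗ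
        TensorProduct.congr (LinearEquiv.refl A (Localization (Submonoid.powers f))) l ≪≫ₗ
        TensorProduct.leftComm A (Localization (Submonoid.powers f)) M F)
  | cone φ _ _ hK hL =>
    exact Good.of_iso (CochainComplex.mappingCone.mapHomologicalComplexIso φ
      (DerCA.locFunctor (Submonoid.powers f))).symm (Good.cone _ hK hL)
  | @shift K k _ hK =>
    exact Good.of_iso ((((DerCA.locFunctor (R := A) (Submonoid.powers f)).mapHomologicalComplex
      (ComplexShape.up ℤ)).commShiftIso k).app K).symm (Good.shift k hK)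
  | of_iso e _ hK => exact Good.of_iso ((DerCA.locCx (Submonoid.powers f)).mapIso e) hK

theorem good_extCech : ∀ fs : List A, Good M (DerCA.extCech (ModuleCat.of A M) fs)
  | [] => Good.single _ A (TensorProduct.rid A M).symm
  | f :: fs => Good.shift (-1) (Good.cone _ (good_extCech fs) ((good_extCech fs).loc M f))

theorem isCompl_uC_extCech (fs : List A) :
    DR40.IsCompl I ((QA A).map ((uC I).app (DerCA.extCech (ModuleCat.of A M) fs))) :=
  (good_extCech M fs).p M

end Single

end Groth.Agent.LC15.ComplCx
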