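import Groth.Agent.LC15.RegDual
import Groth.Agent.LC15.CritDepth

/-!
Stalk vanishing shifted by codimension reduces to codimension one.
-/

namespace Groth.Agent.LC15.Crit1

universe u

set_option autoImplicit false

open LC17 RegDual

variable {R A : Type u} [CommRing R] [IsRegularRing R] [CommRing A] [IsNoetherianRing A]
  [Algebra R A]

theorem stk_of_codim_one (hπ : Function.Surjective (algebraMap R A)) (I : Ideal A) (M : Type u)
    [AddCommGroup M] [Module A M] [Module R M] [IsScalarTower R A M] [Module.Finite A M] (i : ℕ)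
    (h : ∀ t : PrimeSpectrum A, ¬ I ≤ t.asIdeal → SGA2.relCodim I t = 1 → ∀ j : ℕ, j + 1 = i →
      Stk t.asIdeal j M)
    (p : PrimeSpectrum A) (hp : ¬ I ≤ p.asIdeal) {c j : ℕ} (hc : SGA2.relCodim I p = c)
    (hj : j + c = i) : Stk p.asIdeal j M := by
  have hcm : LocCoh.IsCohenMacaulayRing R := LC17.isCohenMacaulayRing_of_isRegularRing
  haveI : Module.Finite R A := Module.Finite.of_surjective (Algebra.linearMap R A) hπ
  haveI : Module.Finite R M := Module.Finite.trans A M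
  rw [← stk_comap hπ]
  set P := PrimeSpectrum.comap (algebraMap R A) p with hP
  show Stk P.asIdeal j M
  obtain ⟨hP₀, hhP⟩ := ENat.ne_top_iff_exists.mp (P.asIdeal.height_ne_top P.isPrime.ne_top)
  by_cases hlt : hP₀ < j
  · exact stk_of_height_lt _ M (by rw [← hhP]; exact_mod_cast hlt)
  rw [stk_iff_ext (i := hP₀ - j) P.asIdeal M (by rw [← hhP, Nat.sub_add_cancel (not_lt.mp hlt)])]
  -- a prime of codimension one above `p`
  rw [CritDepth.relCodim_eq_htq] at hc
  obtain ⟨q, hq, hle, hqc⟩ := exists_prime_htq_eq (p := p.asIdeal) le_sup_right hc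
  have hpq : p.asIdeal ≤ q := le_sup_right.trans hle
  have hIq : I ≤ q := le_sup_left.trans hle
  have hc0 : 1 ≤ c := by
    have h1 := one_le_htq (p := p.asIdeal) (q := q)
      (lt_of_le_of_ne hpq fun e => hp (e ▸ hIq))
    rw [hqc] at h1
    exact_mod_cast h1
  obtain ⟨t, ⟨ht, hpt, htq', hIt⟩, hmax⟩ := set_has_maximal_iff_noetherian.mpr
    (inferInstanceAs (IsNoetherian A A))
    {t : Ideal A | t.IsPrime ∧ p.asIdeal ≤ t ∧ t ≤ q ∧ ¬ I ≤ t}
    ⟨p.asIdeal, p.isPrime, le_rfl, hpq, hp⟩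
  have hlt' : t < q := lt_of_le_of_ne htq' fun e => hIt (e ▸ hIq)
  have h1 : htq t q ≤ 1 := le_of_not_gt fun hgt => by
    obtain ⟨a, haI, hat⟩ := SetLike.not_le_iff_exists.mp hIt
    obtain ⟨s, hs, hts, hsq, has⟩ := exists_prime_between hat (hIq haI) hlt' hgt
    exact hmax s ⟨hs, hpt.trans hts.le, hsq.le, fun h => has (h haI)⟩ hts
  let T₀ : PrimeSpectrum A := ⟨t, ht⟩
  let Q₀ : PrimeSpectrum A := ⟨q, hq⟩
  have hTQ : T₀ ⋖ Q₀ := CritDepth.covBy_of_htq hlt' h1
  have hT1 := (CritDepth.relCodim_eq_one_iff I T₀ hIt).2 ⟨Q₀, hIq, hTQ⟩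
  -- heights
  have e1 := CritDepth.height_eq_add_htq
    (show P ≤ PrimeSpectrum.comap (algebraMap R A) Q₀ from Ideal.comap_mono hpq)
  simp only [hP, PrimeSpectrum.comap_asIdeal, CritDepth.htq_comap _ hπ] at e1
  rw [hqc] at e1
  have e2 := CAlg1.height_succ_of_covBy_cm (CritDepth.covBy_comap _ hπ hTQ)
  simp only [PrimeSpectrum.comap_asIdeal] at e2
  have hPh : (p.asIdeal.comap (algebraMap R A)).height = (hP₀ : ℕ∞) := hhP.symm
  have e3 : (Ideal.comap (algebraMap R A) t).height = ((hP₀ - j + (i - 1) : ℕ) : ℕ∞) := by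
    obtain ⟨a, ha⟩ := ENat.ne_top_iff_exists.mp
      ((Ideal.comap (algebraMap R A) t).height_ne_top Ideal.IsPrime.ne_top')
    rw [e1, hPh, ← ha] at e2
    have h2 : hP₀ + c = a + 1 := by exact_mod_cast e2
    rw [← ha, show a = hP₀ - j + (i - 1) by omega]
  have hnul : Nul (Ideal.comap (algebraMap R A) t).primeCompl (LC16.CanonDual.EK (R := R) R M (hP₀ - j)) :=
    (stk_iff_ext (Ideal.comap (algebraMap R A) t) M e3).1
      ((stk_comap hπ t M (i - 1)).2 (h T₀ hIt hT1 (i - 1) (by omega)))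
  intro y
  obtain ⟨u, hu, huy⟩ := hnul y
  exact ⟨u, fun hmem => hu (Ideal.comap_mono hpt hmem), huy⟩

end Groth.Agent.LC15.Crit1
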