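import Groth.Agent.LC15.CutoffFlat
import Groth.Agent.EGA4H10.FEquidim
import Groth.Agent.EGA4H10.Ratliff
import Groth.Agent.EGA4H10.CMCompletion

/-!
The cutoff `s_{A,I}(M)` and the completion of a universally catenary local ring.
-/

namespace Groth.Agent.LC15.CutoffCpl

universe u

set_option autoImplicit false
set_option linter.style.haveILetI false

open IsLocalRing TensorProduct Groth.Agent.EGA4H10 LC17

variable (A : Type u) [CommRing A] [IsLocalRing A] [IsNoetherianRing A]

theorem coverSucc_cpl_quotient (hA : CAlg.IsUniversallyCatenary A) (p : PrimeSpectrum A) :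
    CoverSucc (EGA4.Cpl A ⧸ p.asIdeal.map (algebraMap A (EGA4.Cpl A))) := by
  haveI : IsLocalRing (A ⧸ p.asIdeal) :=
    IsLocalRing.of_surjective' (Ideal.Quotient.mk p.asIdeal) Ideal.Quotient.mk_surjective
  let e := cplQuotEquiv A (A ⧸ p.asIdeal) Ideal.Quotient.mk_surjective
  let e' : (EGA4.Cpl A ⧸ p.asIdeal.map (algebraMap A (EGA4.Cpl A))) ≃+* EGA4.Cpl (A ⧸ p.asIdeal) :=
    (Ideal.quotEquivOfEq (congrArg (Ideal.map (algebraMap A (EGA4.Cpl A)))
      (Ideal.mk_ker (I := p.asIdeal)).symm)).trans e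
  exact coverSucc_of_ringEquiv e'.symm
    (coverSucc_cpl (isFormallyCatenary_of_universallyCatenary A hA p.asIdeal))

theorem faithfullyFlat_cpl : Module.FaithfullyFlat A (EGA4.Cpl A) := by
  haveI : IsLocalHom (algebraMap A (EGA4.Cpl A)) :=
    ((IsLocalRing.local_hom_TFAE _).out 2 0 rfl rfl).mp AdicCompletion.maximalIdeal_eq_map.symm.le
  exact Module.FaithfullyFlat.of_flat_of_isLocalHom

variable (I : Ideal A) (M : Type u) [AddCommGroup M] [Module A M] [Module.Finite A M]

theorem cutoff_cpl_le (hA : CAlg.IsUniversallyCatenary A) :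
    Dual2.cutoff (EGA4.Cpl A) (I.map (algebraMap A (EGA4.Cpl A)))
        (AdicCompletion (maximalIdeal A) M) ≤ Dual2.cutoff A I M := by
  haveI := Cohen12.isNoetherianRing_completion (A := A)
  haveI := faithfullyFlat_cpl A
  exact CutoffFlat.cutoff_flat_le M _ (coverSucc_cpl_quotient A hA)
    (AdicCompletion.ofTensorProductEquivOfFiniteNoetherian (maximalIdeal A) M) I

theorem le_cutoff_cpl (hA : CAlg.IsUniversallyCatenary A) (n : ℕ)
    (hF : EGA4.HasSnFormalFibres n A) :
    min ((n : ℕ∞) + 1) (Dual2.cutoff A I M) ≤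
      Dual2.cutoff (EGA4.Cpl A) (I.map (algebraMap A (EGA4.Cpl A)))
        (AdicCompletion (maximalIdeal A) M) := by
  haveI := Cohen12.isNoetherianRing_completion (A := A)
  haveI := faithfullyFlat_cpl A
  refine CutoffFlat.le_cutoff_flat M _ (coverSucc_cpl_quotient A hA)
    (AdicCompletion.ofTensorProductEquivOfFiniteNoetherian (maximalIdeal A) M) I n fun P => ?_
  have h := fibre_condition_of_fiber (A := A) (B := EGA4.Cpl A) n hF P.asIdeal
  rw [CutoffFlat.supportDim_fibLocMod_self] at h
  exact WithBot.coe_le_coe.mp ((WithBot.coe_min (n : ℕ∞) _).trans_le h)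

end Groth.Agent.LC15.CutoffCpl
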