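import Groth.Agent.LC15.CutoffFlat
import Groth.Agent.LC16.ChangeRings
import Groth.Agent.LC17.DepthLoc
import Groth.Agent.Ega11.UCDim
import Groth.Agent.CAlg1.Catenary

/-!
The cutoff `s_{A,I}(M)` is insensitive to finite ring maps over universally catenary rings.
-/

namespace Groth.Agent.LC15.CutoffFinite

universe u

set_option autoImplicit false
set_option linter.style.haveILetI false
set_option linter.unusedSectionVars false

open IsLocalRing LC17

variable {A B : Type u} [CommRing A] [CommRing B] [Algebra A B] [IsNoetherianRing A]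
  [IsNoetherianRing B] [Module.Finite A B]

section depth

variable {M : Type u} [AddCommGroup M] [Module B M] [Module A M] [IsScalarTower A B M]
  [Module.Finite B M]

theorem depth_loc_eq_idealDepth (P : Ideal B) [P.IsPrime] :
    LocCoh.depth (Localization.AtPrime P) (LocalizedModule P.primeCompl M) =
      LocCoh.idealDepth (((P.comap (algebraMap A B)).map (algebraMap A B)).map
        (algebraMap B (Localization.AtPrime P))) (LocalizedModule P.primeCompl M) := by
  haveI : IsNoetherianRing (Localization.AtPrime P) :=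
    IsLocalization.isNoetherianRing P.primeCompl _ inferInstance
  haveI : Module.Finite (Localization.AtPrime P) (LocalizedModule P.primeCompl M) :=
    Module.Finite.of_isLocalizedModule P.primeCompl (LocalizedModule.mkLinearMap P.primeCompl M)
  refine le_antisymm ?_ (idealDepth_mono
    ((Ideal.map_mono Ideal.map_comap_le).trans Localization.AtPrime.map_eq_maximalIdeal.le))
  rw [idealDepth_eq_iInf]
  refine le_iInf₂ fun r hr => ?_
  obtain rfl : r = closedPoint (Localization.AtPrime P) := by
    refine PrimeSpectrum.ext (le_antisymm (le_maximalIdeal r.2.ne_top) ?_)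
    show maximalIdeal (Localization.AtPrime P) ≤ r.asIdeal
    let r0 := r.asIdeal.comap (algebraMap B (Localization.AtPrime P))
    have h1 : r0 ≤ P := fun y hy => by
      by_contra hyP
      exact r.2.ne_top (r.asIdeal.eq_top_of_isUnit_mem hy
        (IsLocalization.map_units _ (⟨y, hyP⟩ : P.primeCompl)))
    have h2 : r0 = P := h1.eq_or_lt.resolve_right fun hlt =>
      (Ideal.IsIntegral.comap_lt_comap (R := A) hlt).not_ge (Ideal.map_le_iff_le_comap.mp
        (Ideal.map_le_iff_le_comap.mp hr))
    rw [← Localization.AtPrime.map_eq_maximalIdeal]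
    exact Ideal.map_le_iff_le_comap.mpr h2.ge
  exact ((EGA4H10.invariants_at_maximal (LocalizedModule P.primeCompl M)).1).ge

variable [Module.Finite A M]

theorem natCast_le_depth_iff (p : PrimeSpectrum A) (n : ℕ) :
    (n : ℕ∞) ≤ LocCoh.depth (Localization.AtPrime p.asIdeal)
        (LocalizedModule p.asIdeal.primeCompl M) ↔
      ∀ P : PrimeSpectrum B, P.asIdeal.comap (algebraMap A B) = p.asIdeal →
        (n : ℕ∞) ≤ LocCoh.depth (Localization.AtPrime P.asIdeal)
          (LocalizedModule P.asIdeal.primeCompl M) := by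
  have key : ∀ P : PrimeSpectrum B, P.asIdeal.comap (algebraMap A B) = p.asIdeal →
      ((n : ℕ∞) ≤ LocCoh.depth (Localization.AtPrime P.asIdeal)
          (LocalizedModule P.asIdeal.primeCompl M) ↔
        ∀ i < n, Nul P.asIdeal.primeCompl
          (LocCoh.H (p.asIdeal.map (algebraMap A B)) i M)) := fun P hP => by
    rw [depth_loc_eq_idealDepth (A := A), hP]
    exact natCast_le_idealDepth_loc_iff P.asIdeal.primeCompl _ n M
  rw [natCast_le_depth_loc_iff]
  constructor
  · intro h P hP
    rw [key P hP]
    intro i hi x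
    obtain ⟨φ, hφ⟩ := LC16.ChangeRings.exists_equiv (R' := B) p.asIdeal i M
    obtain ⟨u, hu, hux⟩ := h i hi (φ x)
    exact ⟨algebraMap A B u, fun hm => hu (hP ▸ hm),
      φ.injective (by rw [hφ, hux, map_zero])⟩
  · intro h i hi y
    obtain ⟨φ, hφ⟩ := LC16.ChangeRings.exists_equiv (R' := B) p.asIdeal i M
    obtain ⟨x, rfl⟩ := φ.surjective y
    by_contra hc
    simp only [not_exists, not_and] at hc
    let a : Ideal B := LinearMap.ker (LinearMap.toSpanSingleton B _ x)
    have ha : a.comap (algebraMap A B) ≤ p.asIdeal := fun u hu => by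
      by_contra hup
      refine hc u hup ?_
      have h' : algebraMap A B u • x = 0 := hu
      rw [← hφ, h', map_zero]
    obtain ⟨P, haP, hP, hPc⟩ :=
      Ideal.exists_ideal_over_prime_of_isIntegral p.asIdeal a ha
    obtain ⟨u, hu, hux⟩ := (key ⟨P, hP⟩ hPc).mp (h ⟨P, hP⟩ hPc) i hi x
    exact hu (haP hux)

end depth

theorem htq_eq (hA : CAlg.IsUniversallyCatenary A) (P Q : PrimeSpectrum B) (h : P ≤ Q) :
    htq P.asIdeal Q.asIdeal =
      htq (P.asIdeal.comap (algebraMap A B)) (Q.asIdeal.comap (algebraMap A B)) := by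
  let p := P.asIdeal.comap (algebraMap A B)
  let q := Q.asIdeal.comap (algebraMap A B)
  have hpq : p ≤ q := Ideal.comap_mono h
  haveI : P.asIdeal.LiesOver p := ⟨rfl⟩
  haveI := isPrime_map_mk (q := q) hpq
  haveI := isPrime_map_mk (q := Q.asIdeal) (show P.asIdeal ≤ Q.asIdeal from h)
  let qb := q.map (Ideal.Quotient.mk p)
  let Qb := Q.asIdeal.map (Ideal.Quotient.mk P.asIdeal)
  haveI : Qb.LiesOver qb := ⟨by
    ext x
    obtain ⟨a, rfl⟩ := Ideal.Quotient.mk_surjective x
    rw [Ideal.mem_comap, Ideal.Quotient.algebraMap_mk_of_liesOver, ← Ideal.mem_comap,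
      comap_map_mk' hpq, ← Ideal.mem_comap, comap_map_mk' (show P.asIdeal ≤ Q.asIdeal from h),
      Ideal.mem_comap]⟩
  have hUC : CAlg.IsUniversallyCatenary (Localization.AtPrime qb) :=
    CAlg1.isUniversallyCatenary_of_isLocalization qb.primeCompl
      (Ega11.UCDim.isUniversallyCatenary_of_surjective (Ideal.Quotient.mk p)
        Ideal.Quotient.mk_surjective hA)
  have hdim := Ega11.UCDim.height_eq_of_maximal_in_fibre (B := B ⧸ P.asIdeal) qb hUC Qb
    fun Q' _ hle hc => (hle.eq_or_lt.resolve_right fun hlt =>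
      (Ideal.IsIntegral.comap_lt_comap (R := A ⧸ p) hlt).ne
        ((Ideal.LiesOver.over (P := Qb) (p := qb)).symm.trans hc.symm)).symm
  rw [trdeg_eq_zero, add_zero] at hdim
  exact Cardinal.ofENat_injective hdim

variable {M : Type u} [AddCommGroup M] [Module B M] [Module A M] [IsScalarTower A B M]
  [Module.Finite B M]

theorem cutoff_eq (hA : CAlg.IsUniversallyCatenary A) (I : Ideal A) :
    Dual2.cutoff B (I.map (algebraMap A B)) M = Dual2.cutoff A I M := by
  haveI : Module.Finite A M := Module.Finite.trans B M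
  apply le_antisymm
  · rw [CutoffFlat.le_cutoff_iff]
    intro p q hpq hp hq
    generalize hd : LocCoh.depth (Localization.AtPrime p.asIdeal)
      (LocalizedModule p.asIdeal.primeCompl M) = d
    cases d with
    | top => simp
    | coe d =>
      obtain ⟨P, hPc, hP⟩ : ∃ P : PrimeSpectrum B, P.asIdeal.comap (algebraMap A B) = p.asIdeal ∧
          LocCoh.depth (Localization.AtPrime P.asIdeal)
            (LocalizedModule P.asIdeal.primeCompl M) ≤ d := by
        by_contra hc
        simp only [not_exists, not_and, not_le] at hc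
        have h1 : ((d + 1 : ℕ) : ℕ∞) ≤ LocCoh.depth (Localization.AtPrime p.asIdeal)
            (LocalizedModule p.asIdeal.primeCompl M) :=
          (natCast_le_depth_iff (B := B) p (d + 1)).mpr fun P hP => by
            push_cast
            exact (ENat.add_one_le_iff (ENat.natCast_ne_top d)).mpr (hc P hP)
        rw [hd] at h1
        exact absurd (Nat.cast_le.mp h1) (by omega)
      obtain ⟨Q, hPQ, hQ, hQc⟩ := Ideal.exists_ideal_over_prime_of_isIntegral q.asIdeal
        P.asIdeal (hPc.le.trans hpq)
      refine (CutoffFlat.cutoff_le (I := I.map (algebraMap A B)) (M := M) P ⟨Q, hQ⟩ hPQ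
        (fun h => hp ((Ideal.map_le_iff_le_comap.mp h).trans hPc.le))
        (Ideal.map_le_iff_le_comap.mpr (hq.trans hQc.ge))).trans (add_le_add hP ?_)
      rw [htq_eq hA P ⟨Q, hQ⟩ hPQ, hPc, hQc]
  · rw [CutoffFlat.le_cutoff_iff]
    intro P Q hPQ hP hQ
    let p : PrimeSpectrum A := ⟨P.asIdeal.comap (algebraMap A B), inferInstance⟩
    refine (CutoffFlat.cutoff_le (I := I) (M := M) p
      ⟨Q.asIdeal.comap (algebraMap A B), inferInstance⟩ (Ideal.comap_mono hPQ)
      (fun h => hP (Ideal.map_le_iff_le_comap.mpr h)) (Ideal.map_le_iff_le_comap.mp hQ)).trans ?_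
    refine add_le_add ?_ (htq_eq hA P Q hPQ).ge
    exact eNat_le_of_forall fun n hn => (natCast_le_depth_iff (B := B) p n).mp hn P rfl

end Groth.Agent.LC15.CutoffFinite
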