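import Groth.Agent.LC15.CutoffCpl
import Groth.Agent.LC15.CritDepth
import Groth.Agent.LC15.Flat
import Groth.Agent.LC16.ChangeRings
import Groth.Agent.EGA4H10.TensorSk
import Groth.Agent.EGA4H10.CompleteUC
import Groth.Agent.EGA4H10.FEquidimEFT
import Groth.Agent.CAlg1.Catenary
import Groth.Agent.CAlg1.CohenHom

/-!
Finiteness of local cohomology below the cutoff.
-/

namespace Groth.Agent.LC15.CutoffLocal

universe u

set_option autoImplicit false
set_option linter.style.haveILetI false
set_option linter.overlappingInstances false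

open IsLocalRing TensorProduct Groth.Agent.EGA4H10 LC17

theorem le_depth_add_relCodim {A : Type u} [CommRing A] [IsNoetherianRing A] (I : Ideal A)
    (M : Type u) [AddCommGroup M] [Module A M] (p : PrimeSpectrum A) (hp : ¬ I ≤ p.asIdeal) :
    Dual2.cutoff A I M ≤
      LocCoh.depth (Localization.AtPrime p.asIdeal) (LocalizedModule p.asIdeal.primeCompl M) +
        SGA2.relCodim I p := by
  rw [CritDepth.relCodim_eq_htq]
  cases h : htq p.asIdeal (I ⊔ p.asIdeal) with
  | top => rw [add_top]; exact le_top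
  | coe n =>
    obtain ⟨q, hq, hle, hn⟩ := exists_prime_htq_eq (p := p.asIdeal) le_sup_right h
    exact (CutoffFlat.cutoff_le (I := I) (M := M) p ⟨q, hq⟩ (le_sup_right.trans hle) hp
      (le_sup_left.trans hle)).trans (add_le_add le_rfl hn.le)

theorem cutoff_le_localization {A : Type u} [CommRing A] [IsNoetherianRing A]
    (hA : CAlg.IsUniversallyCatenary A) (I : Ideal A) (M : Type u) [AddCommGroup M] [Module A M]
    [Module.Finite A M] (q : Ideal A) [q.IsPrime] :
    Dual2.cutoff A I M ≤ Dual2.cutoff (Localization.AtPrime q)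
      (I.map (algebraMap A (Localization.AtPrime q))) (Localization.AtPrime q ⊗[A] M) := by
  let B := Localization.AtPrime q
  haveI : IsNoetherianRing B := IsLocalization.isNoetherianRing q.primeCompl _ inferInstance
  have hB : CAlg.IsUniversallyCatenary B :=
    CAlg1.isUniversallyCatenary_of_isLocalization q.primeCompl hA
  have hC : ∀ p : PrimeSpectrum A, CoverSucc (B ⧸ p.asIdeal.map (algebraMap A B)) := by
    intro p
    by_cases hpq : p.asIdeal ≤ q
    · haveI : (p.asIdeal.map (algebraMap A B)).IsPrime :=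
        IsLocalization.isPrime_of_isPrime_disjoint q.primeCompl B p.asIdeal p.2
          (Set.disjoint_left.mpr fun x hx hxp => hx (hpq hxp))
      haveI : IsLocalRing (B ⧸ p.asIdeal.map (algebraMap A B)) :=
        IsLocalRing.of_surjective' (Ideal.Quotient.mk _) Ideal.Quotient.mk_surjective
      exact coverSucc_of_catenary_equidim (isCatenary_of_universallyCatenary
        (Ega11.UCDim.isUniversallyCatenary_of_surjective (Ideal.Quotient.mk _)
          Ideal.Quotient.mk_surjective hB)) (isEquidim_of_isDomain _)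
    · intro P
      obtain ⟨x, hxp, hxq⟩ := SetLike.not_le_iff_exists.mp hpq
      have htop : p.asIdeal.map (algebraMap A B) = ⊤ := Ideal.eq_top_of_isUnit_mem _
        (Ideal.mem_map_of_mem _ hxp) (IsLocalization.map_units B (⟨x, hxq⟩ : q.primeCompl))
      haveI := Ideal.Quotient.subsingleton_iff.mpr htop
      exact absurd (Subsingleton.elim P.asIdeal ⊤) P.2.ne_top
  have h := CutoffFlat.le_cutoff_flat (B := B) M (B ⊗[A] M) hC (LinearEquiv.refl B _) I ⊤
    fun P => by
      have he : (P.asIdeal.comap (algebraMap A B)).map (algebraMap A B) = P.asIdeal :=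
        IsLocalization.map_comap q.primeCompl B P.asIdeal
      have h0 : htq P.asIdeal P.asIdeal = 0 := height_map_quotient_of_minimal
        (by rw [Ideal.minimalPrimes_eq_subsingleton_self]; rfl)
      rw [he, h0]
      simp
  simpa using h

theorem finite_H_local (C : Type u) [CommRing C] [IsLocalRing C] [IsNoetherianRing C]
    (hC : CAlg.IsUniversallyCatenary C) (hF : EGA4.HasCMFormalFibres C) (J : Ideal C)
    (N : Type u) [AddCommGroup N] [Module C N] [Module.Finite C N] (n : ℕ)
    (h : (n : ℕ∞) < Dual2.cutoff C J N) : Module.Finite C (LocCoh.H J n N) := by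
  let B := EGA4.Cpl C
  haveI := Cohen12.isNoetherianRing_completion (A := C)
  haveI := CutoffCpl.faithfullyFlat_cpl C
  haveI : IsAdicComplete (maximalIdeal B) B := by
    rw [AdicCompletion.maximalIdeal_eq_map]
    exact AdicCompletion.isAdicComplete_self (maximalIdeal C) (IsNoetherian.noetherian _)
  let N' := B ⊗[C] N
  have hsn : EGA4.HasSnFormalFibres n C := fun p hp => by
    haveI := hF p
    exact hasSk_of_cmRing n
  have hcut : min ((n : ℕ∞) + 1) (Dual2.cutoff C J N) ≤
      Dual2.cutoff B (J.map (algebraMap C B)) N' := by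
    refine CutoffFlat.le_cutoff_flat N _ (CutoffCpl.coverSucc_cpl_quotient C hC)
      (LinearEquiv.refl B _) J n fun P => ?_
    have h' := fibre_condition_of_fiber (A := C) (B := B) n hsn P.asIdeal
    rw [CutoffFlat.supportDim_fibLocMod_self] at h'
    exact WithBot.coe_le_coe.mp ((WithBot.coe_min (n : ℕ∞) _).trans_le h')
  rw [min_eq_left ((ENat.add_one_le_iff (ENat.natCast_ne_top n)).mpr h)] at hcut
  obtain ⟨S, _, _, π, hπ⟩ := exists_regular_surjection B
  haveI : IsRegularRing S := CAlg1.isRegularRing_of_isRegularLocalRing S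
  have hfin := (CritDepth.finite_iff π hπ (J.map (algebraMap C B)) N' n).mpr fun P hP =>
    (ENat.add_one_le_iff (ENat.natCast_ne_top n)).mp
      (hcut.trans (le_depth_add_relCodim _ N' P hP))
  have hk : ∀ i : ℕ, i ≤ n → ∃ k : ℕ, ∀ a ∈ J ^ k, ∀ y : LocCoh.H J i N, a • y = 0 := by
    intro i hi
    haveI := hfin i hi
    obtain ⟨k, hk⟩ := exists_pow_smul_H_eq_zero (J.map (algebraMap C B)) (i := i) (M := N')
    obtain ⟨e⟩ := nonempty_tensor_H_equiv B J i N
    obtain ⟨φ, hφ⟩ := LC16.ChangeRings.exists_equiv (R' := B) J i N'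
    refine ⟨k, fun a ha y => ?_⟩
    refine (Module.FaithfullyFlat.one_tmul_eq_zero_iff (R := C) (A := B) _ (a • y)).mp ?_
    refine e.injective ?_
    obtain ⟨x, hx⟩ := φ.surjective (e (1 ⊗ₜ[C] y))
    rw [TensorProduct.tmul_smul, map_smul, map_zero, ← hx, ← hφ,
      hk _ (Ideal.map_pow (algebraMap C B) J k ▸ Ideal.mem_map_of_mem _ ha), map_zero]
  choose! k hk using hk
  exact finite_H_of_annihilated J n N ((Finset.range (n + 1)).sup k) fun i hi a ha y =>
    hk i hi a (Ideal.pow_le_pow_right (Finset.le_sup (Finset.mem_range.mpr (by omega))) ha) y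

theorem finite_H_of_lt_cutoff (A : Type u) [CommRing A] [IsNoetherianRing A]
    (hA : CAlg.IsUniversallyCatenary A)
    (hF : ∀ q : PrimeSpectrum A, EGA4.HasCMFormalFibres (Localization.AtPrime q.asIdeal))
    (I : Ideal A) (M : Type u) [AddCommGroup M] [Module A M] [Module.Finite A M] (n : ℕ)
    (h : (n : ℕ∞) < Dual2.cutoff A I M) : Module.Finite A (LocCoh.H I n M) := by
  refine finite_H_of_locFG I n M fun i hi => locFG_of_localized _ fun q _ => ?_
  let Aq := Localization.AtPrime q
  haveI : IsNoetherianRing Aq := IsLocalization.isNoetherianRing q.primeCompl _ inferInstance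
  let Mq := Aq ⊗[A] M
  haveI : Module.Finite Aq (LocCoh.H (I.map (algebraMap A Aq)) i Mq) :=
    finite_H_local Aq (CAlg1.isUniversallyCatenary_of_isLocalization q.primeCompl hA)
      (hF ⟨q, inferInstance⟩) _ Mq i
      ((lt_of_le_of_lt (Nat.cast_le.mpr hi) h).trans_le (cutoff_le_localization hA I M q))
  obtain ⟨e⟩ := nonempty_tensor_H_equiv Aq I i M
  obtain ⟨φ, hφ⟩ := LC16.ChangeRings.exists_equiv (R' := Aq) I i Mq
  letI : Module A (LocCoh.H (I.map (algebraMap A Aq)) i Mq) :=
    Module.compHom _ (algebraMap A Aq)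
  haveI : IsScalarTower A Aq (LocCoh.H (I.map (algebraMap A Aq)) i Mq) :=
    IsScalarTower.of_compHom _ _ _
  let ψ : LocCoh.H (I.map (algebraMap A Aq)) i Mq ≃ₗ[A] LocCoh.H I i Mq :=
    { φ with map_smul' := hφ }
  let e' : Aq ⊗[A] LocCoh.H I i M ≃ₗ[Aq] LocCoh.H (I.map (algebraMap A Aq)) i Mq :=
    (e.trans ψ.symm).extendScalarsOfIsLocalization q.primeCompl Aq
  let e2 : Aq ⊗[A] LocCoh.H I i M ≃ₗ[Aq] LocalizedModule q.primeCompl (LocCoh.H I i M) :=
    ((isLocalizedModule_iff_isBaseChange q.primeCompl Aq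
      (LocalizedModule.mkLinearMap q.primeCompl (LocCoh.H I i M))).mp inferInstance).equiv
  exact Module.Finite.equiv (e'.symm.trans e2)

theorem not_finite_H_cutoff (A : Type u) [CommRing A] [IsNoetherianRing A] (I : Ideal A)
    (M : Type u) [AddCommGroup M] [Module A M] [Module.Finite A M] (s : ℕ)
    (hs : Dual2.cutoff A I M = s) (hlt : ∀ i : ℕ, i < s → Module.Finite A (LocCoh.H I i M)) :
    ¬ Module.Finite A (LocCoh.H I s M) := by
  intro hfin
  have hall : ∀ i, i ≤ s → Module.Finite A (LocCoh.H I i M) := fun i hi => by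
    rcases hi.eq_or_lt with rfl | hlt'
    · exact hfin
    · exact hlt i hlt'
  have h1 : ((s + 1 : ℕ) : ℕ∞) ≤ Dual2.cutoff A I M := by
    rw [CutoffFlat.le_cutoff_iff]
    intro p q hpq hp hq
    refine le_trans (le_trans ?_ ((S11653.result A I I M).trans (iInf₂_le p hp)))
      (add_le_add le_rfl (htq_mono (sup_le hq (show p.asIdeal ≤ q.asIdeal from hpq))))
    refine le_iInf₂ fun i hi => ?_
    rw [Nat.cast_le]
    by_contra hc
    haveI := hall i (by omega)
    obtain ⟨k, hk⟩ := exists_pow_smul_H_eq_zero I (i := i) (M := M)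
    exact hi fun x hx =>
      ⟨k, Module.mem_annihilator.mpr fun y => hk _ (Ideal.pow_mem_pow hx k) y⟩
  rw [hs, Nat.cast_le] at h1
  omega

end Groth.Agent.LC15.CutoffLocal
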