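import Groth.Agent.LC16.CechRgamma
import Groth.Agent.DR39.Gamma
import Groth.Agent.DR39.InjAmp
import Groth.Agent.DR39.TA

/-!
Torsion sections of unbounded complexes whose terms have the divisibility property of injective
modules: torsion cohomology is computed by torsion sections, and quasi-isomorphisms are preserved.
-/

set_option autoImplicit false
set_option linter.unusedSectionVars false
set_option linter.style.haveILetI false

universe u

open CategoryTheory CategoryTheory.Limits CategoryTheory.Pretriangulated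
open Groth.Agent Groth.Agent.DR39

attribute [local instance] HasDerivedCategory.standard

namespace Groth.Agent.LC15.Div

variable {A : Type u} [CommRing A]

/-- torsion sections are divisible up to torsion -/
def IsDiv (M : Type u) [AddCommGroup M] [Module A M] : Prop :=
  ∀ (J : Ideal A) (f : A) (n : ℕ) (x : M), x ∈ DRing.torsionSub J M →
    ∃ (c : M) (m : ℕ), c ∈ DRing.torsionSub J M ∧ f ^ m • f ^ n • c = f ^ m • x

theorem isDiv_of_injective [IsNoetherianRing A] (M : Type u) [AddCommGroup M] [Module A M]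
    (h : Module.Injective A M) : IsDiv (A := A) M := fun J f n x hx =>
  haveI := h
  LC16.CechRgamma.exists_smul_eq M J f n x hx

theorem isDiv_of_equiv {M N : Type u} [AddCommGroup M] [Module A M] [AddCommGroup N] [Module A N]
    (e : M ≃ₗ[A] N) (h : IsDiv (A := A) M) : IsDiv (A := A) N := fun J f n x hx => by
  obtain ⟨c, m, hc, hcm⟩ := h J f n (e.symm x) (DRing.map_mem_torsionSub J e.symm.toLinearMap hx)
  exact ⟨e c, m, DRing.map_mem_torsionSub J e.toLinearMap hc, by
    rw [← map_smul, ← map_smul, hcm, map_smul, LinearEquiv.apply_symm_apply]⟩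

theorem isDiv_prod {M N : Type u} [AddCommGroup M] [Module A M] [AddCommGroup N] [Module A N]
    (hM : IsDiv (A := A) M) (hN : IsDiv (A := A) N) : IsDiv (A := A) (M × N) := by
  intro J f n x hx
  obtain ⟨c, m, hc, hcm⟩ := hM J f n x.1 (DRing.map_mem_torsionSub J (LinearMap.fst A M N) hx)
  obtain ⟨d, m', hd, hdm⟩ := hN J f n x.2 (DRing.map_mem_torsionSub J (LinearMap.snd A M N) hx)
  refine ⟨(c, d), max m m', Submodule.add_mem _
    (DRing.map_mem_torsionSub J (LinearMap.inl A M N) hc)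
    (DRing.map_mem_torsionSub J (LinearMap.inr A M N) hd) |> fun h => by simpa using h, ?_⟩
  refine Prod.ext ?_ ?_
  · show f ^ max m m' • f ^ n • c = f ^ max m m' • x.1
    rw [← Nat.sub_add_cancel (le_max_left m m'), pow_add, mul_smul, mul_smul, hcm]
  · show f ^ max m m' • f ^ n • d = f ^ max m m' • x.2
    rw [← Nat.sub_add_cancel (le_max_right m m'), pow_add, mul_smul, mul_smul, hdm]

/-- a complex with divisible terms -/
def DivCx (E : DRing.Cx A) : Prop := ∀ i, IsDiv (A := A) (E.X i)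

theorem divCx_of_injective [IsNoetherianRing A] {E : DRing.Cx A}
    (h : ∀ i, Module.Injective A (E.X i)) : DivCx E := fun i => isDiv_of_injective _ (h i)

variable {E : DRing.Cx A}

theorem d_d (i j k : ℤ) (w : E.X i) : (E.d j k).hom ((E.d i j).hom w) = 0 := by
  rw [← ModuleCat.comp_apply, E.d_comp_d]
  rfl

theorem exists_sup_lift (hE : DivCx E) (I : Ideal A) (u : A) (i : ℤ)
    (x : E.X i) (hx : x ∈ DRing.torsionSub I (E.X i)) {M : ℕ} (w : E.X (i - 1))
    (hw : w ∈ DRing.torsionSub I (E.X (i - 1))) (hdw : (E.d (i - 1) i).hom w = u ^ M • x) :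
    ∃ w' ∈ DRing.torsionSub I (E.X (i - 1)),
      x - (E.d (i - 1) i).hom w' ∈ DRing.torsionSub (Ideal.span {u} ⊔ I) (E.X i) := by
  obtain ⟨c, m, hc, hcm⟩ := hE (i - 1) I u M w hw
  refine ⟨c, hc, (LC16.CechRgamma.mem_torsionSub_sup u I _ _).2 ⟨?_, m + M, ?_⟩⟩
  · exact Submodule.sub_mem _ hx (DRing.map_mem_torsionSub I (E.d (i - 1) i).hom hc)
  · rw [pow_add, mul_smul, smul_sub (u ^ M), ← hdw, ← map_smul, ← map_sub, ← map_smul, smul_sub,
      hcm, sub_self, map_zero]

/-- comparison of the torsion sections with the complex -/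
theorem tors_comparison (hE : DivCx E) (I : Ideal A) (hI : I.FG)
    (htor : ∀ (i : ℤ) (x : E.X i), (E.d i (i + 1)).hom x = 0 →
      ∃ n : ℕ, ∀ a ∈ I ^ n, a • x ∈ LinearMap.range (E.d (i - 1) i).hom) (i : ℤ) :
    (∀ x : E.X i, (E.d i (i + 1)).hom x = 0 → ∃ w : E.X (i - 1),
      x - (E.d (i - 1) i).hom w ∈ DRing.torsionSub I (E.X i)) ∧
    (∀ x ∈ DRing.torsionSub I (E.X i), x ∈ LinearMap.range (E.d (i - 1) i).hom →
      ∃ w ∈ DRing.torsionSub I (E.X (i - 1)), (E.d (i - 1) i).hom w = x) := by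
  classical
  obtain ⟨t, ht⟩ := hI
  suffices key : ∀ s : Finset A, s ⊆ t → ∀ i : ℤ,
      (∀ x : E.X i, (E.d i (i + 1)).hom x = 0 → ∃ w : E.X (i - 1),
        x - (E.d (i - 1) i).hom w ∈ DRing.torsionSub (Ideal.span (s : Set A)) (E.X i)) ∧
      (∀ x ∈ DRing.torsionSub (Ideal.span (s : Set A)) (E.X i),
        x ∈ LinearMap.range (E.d (i - 1) i).hom →
        ∃ w ∈ DRing.torsionSub (Ideal.span (s : Set A)) (E.X (i - 1)), (E.d (i - 1) i).hom w = x) by
    have h := key t subset_rfl i
    rwa [show Ideal.span (t : Set A) = I from ht] at h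
  intro s
  induction s using Finset.induction with
  | empty =>
    intro _ i
    have hall : ∀ (j : ℤ) (x : E.X j), x ∈ DRing.torsionSub (Ideal.span ((∅ : Finset A) : Set A)) (E.X j) :=
      fun j x => ⟨1, fun a ha => by
        rw [Finset.coe_empty, Ideal.span_empty, pow_one, Submodule.mem_bot] at ha
        rw [ha, zero_smul]⟩
    exact ⟨fun x _ => ⟨0, hall i _⟩, fun x _ ⟨w, hw⟩ => ⟨w, hall _ w, hw⟩⟩
  | insert v s _ ih =>
    intro hs i
    have ih' := ih ((Finset.subset_insert v s).trans hs)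
    have hv : v ∈ I := ht ▸ Submodule.subset_span (hs (Finset.mem_insert_self v s))
    rw [Finset.coe_insert, Ideal.span_insert]
    have hkill : ∀ (j : ℤ) (x : E.X j), x ∈ DRing.torsionSub (Ideal.span (s : Set A)) (E.X j) →
        (E.d j (j + 1)).hom x = 0 → ∃ (M : ℕ), ∃ w ∈ DRing.torsionSub (Ideal.span (s : Set A)) (E.X (j - 1)),
          (E.d (j - 1) j).hom w = v ^ M • x := by
      intro j x hx hdx
      obtain ⟨n, hn⟩ := htor j x hdx
      exact ⟨n, (ih' j).2 _ (Submodule.smul_mem _ _ hx) (hn _ (Ideal.pow_mem_pow hv n))⟩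
    constructor
    · intro x hdx
      obtain ⟨w, hw⟩ := (ih' i).1 x hdx
      obtain ⟨M, w₂, hw₂, hdw₂⟩ := hkill i _ hw (by rw [map_sub, hdx, d_d, sub_zero])
      obtain ⟨w', -, hlift⟩ := exists_sup_lift hE _ v i _ hw w₂ hw₂ hdw₂
      exact ⟨w + w', by rwa [map_add, ← sub_sub]⟩
    · intro x hx hxr
      obtain ⟨hx₁, M, hM⟩ := (LC16.CechRgamma.mem_torsionSub_sup v _ _ x).1 hx
      obtain ⟨y, hy, hdy⟩ := (ih' i).2 x hx₁ hxr
      have hdy' : (E.d (i - 1) (i - 1 + 1)).hom (v ^ M • y) = 0 := by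
        have hgen : ∀ j, j = i → (E.d (i - 1) j).hom (v ^ M • y) = 0 := by
          intro j hj
          subst hj
          rw [map_smul, hdy, hM]
        exact hgen _ (by ring)
      obtain ⟨M₂, w, hw, hdw⟩ := hkill (i - 1) _ (Submodule.smul_mem _ _ hy) hdy'
      rw [smul_smul, ← pow_add] at hdw
      obtain ⟨w', -, hlift⟩ := exists_sup_lift hE _ v (i - 1) y hy w hw hdw
      exact ⟨_, hlift, by rw [map_sub, d_d, sub_zero, hdy]⟩

/-- the inclusion of torsion sections -/
noncomputable def gι (I : Ideal A) (E : DRing.Cx A) : DR39.gCx I E ⟶ E where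
  f i := ModuleCat.ofHom (DRing.torsionSub I (E.X i)).subtype
  comm' _ _ _ := rfl

theorem isZero_homology_gCx (hE : DivCx E) (I : Ideal A) (hI : I.FG)
    (h : ∀ i, IsZero (E.homology i)) (i : ℤ) : IsZero ((DR39.gCx I E).homology i) := by
  rw [DR39.isZero_homology_iff]
  rintro ⟨x, hx⟩ hdx
  have h' := fun j => (DR39.isZero_homology_iff E j).1 (h j)
  obtain ⟨w, hw, hdw⟩ := (tors_comparison hE I hI
    (fun j y hy => ⟨0, fun a _ => Submodule.smul_mem _ a (h' j y hy)⟩) i).2 x hx
    (h' i x (congrArg Subtype.val hdx))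
  exact ⟨⟨w, hw⟩, Subtype.ext hdw⟩

theorem isZero_Q_of_homology {C : DRing.Cx A} (h : ∀ i, IsZero (C.homology i)) :
    IsZero ((QA A).obj C) :=
  DR39.isZero_of_forall fun i => (isZero_HF_Q_iff C i).2 (h i)

theorem divCx_cone {E' : DRing.Cx A} (hE : DivCx E) (hE' : DivCx E') (φ : E ⟶ E') :
    DivCx (CochainComplex.mappingCone φ) := fun i =>
  isDiv_of_equiv ((ModuleCat.biprodIsoProd (E.X (i + 1)) (E'.X i)).symm ≪≫
    (HomologicalComplex.homotopyCofiber.XIsoBiprod φ i (i + 1) rfl).symm).toLinearEquiv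
    (isDiv_prod (hE (i + 1)) (hE' i))

/-- torsion sections preserve quasi-isomorphisms between complexes with divisible terms -/
theorem isIso_Q_gCx_map {E' : DRing.Cx A} (hE : DivCx E) (hE' : DivCx E') (I : Ideal A) (hI : I.FG)
    (φ : E ⟶ E') (hφ : IsIso ((QA A).map φ)) :
    IsIso ((QA A).map (((DRing.gammaI I).mapHomologicalComplex (ComplexShape.up ℤ)).map φ)) := by
  let G := (DRing.gammaI I).mapHomologicalComplex (ComplexShape.up ℤ)
  have hT := DerivedCategory.mappingCone_triangle_distinguished φ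
  have hC : IsZero ((QA A).obj (CochainComplex.mappingCone φ)) :=
    (Triangle.isZero₃_iff_isIso₁ _ hT).2 hφ
  have hC' : ∀ i, IsZero ((CochainComplex.mappingCone φ).homology i) := fun i =>
    (isZero_HF_Q_iff _ i).1 ((HF A i).map_isZero hC)
  have h1 : IsZero ((QA A).obj (G.obj (CochainComplex.mappingCone φ))) :=
    isZero_Q_of_homology (isZero_homology_gCx (divCx_cone hE hE' φ) I hI hC')
  have h2 : IsZero ((QA A).obj (CochainComplex.mappingCone (G.map φ))) :=
    h1.of_iso ((QA A).mapIso (CochainComplex.mappingCone.mapHomologicalComplexIso φ (DRing.gammaI I)).symm)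
  exact (Triangle.isZero₃_iff_isIso₁ _ (DerivedCategory.mappingCone_triangle_distinguished (G.map φ))).1 h2

/-- torsion cohomology is computed by torsion sections -/
theorem isIso_Q_gι (hE : DivCx E) (I : Ideal A) (hI : I.FG)
    (htor : ∀ (i : ℤ) (x : E.X i), (E.d i (i + 1)).hom x = 0 →
      ∃ n : ℕ, ∀ a ∈ I ^ n, a • x ∈ LinearMap.range (E.d (i - 1) i).hom) :
    IsIso ((QA A).map (gι I E)) := by
  rw [DerivedCategory.isIso_iff]
  intro i
  refine (DR39.isIso_HF_Q_map_iff _ i).2 ?_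
  have h := tors_comparison hE I hI htor i
  rw [DR39.isIso_iff_bijective]
  refine ⟨(DR39.injective_homologyMap_iff _ i).2 ?_, (DR39.surjective_homologyMap_iff _ i).2 ?_⟩
  · rintro ⟨x, hx⟩ _ y hy
    obtain ⟨w', hw', hdw'⟩ := h.2 x hx ⟨y, hy⟩
    exact ⟨⟨w', hw'⟩, Subtype.ext hdw'⟩
  · intro z hz
    obtain ⟨w, hw⟩ := h.1 z hz
    refine ⟨⟨_, hw⟩, Subtype.ext (show (E.d i (i + 1)).hom (z - (E.d (i - 1) i).hom w) = 0 by
      rw [map_sub, d_d, sub_zero, hz]), -w, ?_⟩
    rw [map_neg]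
    show _ = z - (E.d (i - 1) i).hom w - z
    abel

end Groth.Agent.LC15.Div
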