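import Groth.Agent.LC15.RgammaModel
import Groth.Agent.LC16.FlatBC
import Groth.Agent.DR39.Dualizing
import Groth.Agent.DR39.Gamma

/-!
Local cohomology of unbounded complexes: change of rings and flat base change.
-/

set_option autoImplicit false
set_option linter.unusedSectionVars false
set_option linter.style.haveILetI false
set_option backward.isDefEq.respectTransparency false

universe u v

open CategoryTheory CategoryTheory.Limits TensorProduct
open Groth.Agent Groth.Agent.DR39

attribute [local instance] HasDerivedCategory.standard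

namespace Groth.Agent.LC15.DivBC

variable {A B : Type u} [CommRing A] [CommRing B] [Algebra A B]

/-- restriction of modules -/
noncomputable abbrev RS (A B : Type u) [CommRing A] [CommRing B] [Algebra A B] :
    ModuleCat.{u} B ⥤ ModuleCat.{u} A := ModuleCat.restrictScalars (algebraMap A B)

theorem torsion_res_iff (I : Ideal A) (M : ModuleCat.{u} B) (x : (RS A B).obj M) :
    x ∈ DRing.torsionSub I ((RS A B).obj M) ↔
      ((x : M) ∈ DRing.torsionSub (I.map (algebraMap A B)) M) := by
  refine exists_congr fun n => ?_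
  rw [← Ideal.map_pow]
  constructor
  · intro h b hb
    induction hb using Submodule.span_induction with
    | mem b hb =>
      obtain ⟨a, ha, rfl⟩ := hb
      exact h a ha
    | zero => exact zero_smul B (x : M)
    | add b c _ _ hb hc => exact (add_smul b c (x : M)).trans (by rw [hb, hc, add_zero])
    | smul r b _ hb => exact (mul_smul r b (x : M)).trans (by rw [hb, smul_zero])
  · exact fun h a ha => h _ (Ideal.mem_map_of_mem _ ha)

theorem isDiv_res (M : ModuleCat.{u} B) (h : Div.IsDiv (A := B) M) :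
    Div.IsDiv (A := A) ((RS A B).obj M) := by
  intro J f n x hx
  obtain ⟨c, m, hc, hcm⟩ := h (J.map (algebraMap A B)) (algebraMap A B f) n (x : M)
    ((torsion_res_iff J M x).1 hx)
  refine ⟨c, m, (torsion_res_iff J M c).2 hc, ?_⟩
  show (algebraMap A B (f ^ m)) • (algebraMap A B (f ^ n)) • (c : M) = algebraMap A B (f ^ m) • (x : M)
  rw [map_pow, map_pow]
  exact hcm

/-- torsion sections commute with restriction -/
noncomputable def gResIso (I : Ideal A) (X : DRing.Cx B) :
    DR39.gCx I ((DRing.restrictCx (algebraMap A B)).obj X) ≅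
      (DRing.restrictCx (algebraMap A B)).obj (DR39.gCx (I.map (algebraMap A B)) X) :=
  HomologicalComplex.Hom.isoOfComponents (fun i =>
    ({ toFun := fun x => ⟨(x : DRing.torsionSub I ((RS A B).obj (X.X i))).1,
          (torsion_res_iff I (X.X i) _).1 (x : DRing.torsionSub I ((RS A B).obj (X.X i))).2⟩
       invFun := fun y => ⟨(y : DRing.torsionSub (I.map (algebraMap A B)) (X.X i)).1,
          (torsion_res_iff I (X.X i) _).2 (y : DRing.torsionSub (I.map (algebraMap A B)) (X.X i)).2⟩
       map_add' := fun _ _ => rfl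
       map_smul' := fun _ _ => rfl
       left_inv := fun _ => rfl
       right_inv := fun _ => rfl } :
      (DR39.gCx I ((DRing.restrictCx (algebraMap A B)).obj X)).X i ≃ₗ[A]
        (RS A B).obj ((DR39.gCx (I.map (algebraMap A B)) X).X i)).toModuleIso) fun _ _ _ => rfl

/-- restriction of a linear equivalence, across universes -/
noncomputable def resEquiv {M : ModuleCat.{u + 1} B} {N : ModuleCat.{u} B} (e : M ≃ₗ[B] N) :
    (ModuleCat.restrictScalars (algebraMap A B)).obj M ≃ₗ[A] (RS A B).obj N where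
  toFun := e
  invFun := e.symm
  map_add' := e.map_add
  map_smul' a x := e.map_smul (algebraMap A B a) (x : M)
  left_inv := e.symm_apply_apply
  right_inv := e.apply_symm_apply

variable [IsNoetherianRing A] [IsNoetherianRing B]

theorem nonempty_HDI_restrict (I : Ideal A) (K : Dual.D B) (i : ℤ) :
    Nonempty (Dual2.HDI A I ((DRing.restrictD (algebraMap A B)).obj K) i ≅
      (ModuleCat.restrictScalars (algebraMap A B)).obj
        (Dual2.HDI B (I.map (algebraMap A B)) K i)) := by
  obtain ⟨X, hX, ⟨e⟩⟩ := LC16.GammaModel.exists_isRep K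
  haveI := hX.kinj
  let RX := (DRing.restrictCx (algebraMap A B)).obj X
  obtain ⟨Y, r, hY, hr⟩ := RgammaModel.exists_res RX
  haveI := hY.kinj
  haveI := hr
  have hdiv : Div.DivCx RX := fun l => isDiv_res (X.X l) (Div.isDiv_of_injective _ (hX.inj l))
  haveI : IsIso ((QA A).map (((DRing.gammaI I).mapHomologicalComplex (ComplexShape.up ℤ)).map r)) :=
    Div.isIso_Q_gCx_map hdiv (Div.divCx_of_injective hY.inj) I (IsNoetherian.noetherian I) r hr
  obtain ⟨e1⟩ := HDI_equiv I Y ((asIso ((QA A).map r)).symm ≪≫ (restrictDIso (algebraMap A B) X).symm ≪≫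
    (DRing.restrictD (algebraMap A B)).mapIso e) i
  obtain ⟨e2⟩ := HDI_equiv (I.map (algebraMap A B)) X e i
  let g : (DR39.gCx I Y).homology i ≅ (RS A B).obj ((DR39.gCx (I.map (algebraMap A B)) X).homology i) :=
    (HQIso _ i).symm ≪≫ (HF A i).mapIso ((asIso ((QA A).map
      (((DRing.gammaI I).mapHomologicalComplex (ComplexShape.up ℤ)).map r))).symm ≪≫
      (QA A).mapIso (gResIso I X)) ≪≫ HQIso _ i ≪≫
      ((DR39.gCx (I.map (algebraMap A B)) X).sc i).mapHomologyIso (RS A B)
  exact ⟨(e1.trans (g.toLinearEquiv.trans (resEquiv (A := A) e2).symm)).toModuleIso⟩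

variable [Module.Flat A B]

theorem isDiv_tensor (M : Type u) [AddCommGroup M] [Module A M] (hM : Div.IsDiv (A := A) M) :
    Div.IsDiv (A := A) (B ⊗[A] M) := by
  intro J f n x hx
  obtain ⟨z, rfl⟩ := LC16.FlatBC.exists_incl B J M (y := x)
    ((LC16.Acyclic.mem_gamma_map_iff (R' := B) J x).2 hx)
  clear hx
  induction z using TensorProduct.induction_on with
  | zero => exact ⟨0, 0, zero_mem _, by simp⟩
  | tmul b y =>
    obtain ⟨c, m, hc, hcm⟩ := hM J f n y.1 y.2
    refine ⟨b ⊗ₜ c, m, ?_, ?_⟩
    · obtain ⟨k, hk⟩ := hc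
      exact ⟨k, fun a ha => by rw [← TensorProduct.tmul_smul, hk a ha, TensorProduct.tmul_zero]⟩
    · rw [← TensorProduct.tmul_smul, ← TensorProduct.tmul_smul, hcm]
      exact TensorProduct.tmul_smul _ b y.1
  | add y z hy hz =>
    obtain ⟨c, m, hc, hcm⟩ := hy
    obtain ⟨d, m', hd, hdm⟩ := hz
    refine ⟨c + d, max m m', Submodule.add_mem _ hc hd, ?_⟩
    rw [map_add, smul_add, smul_add, smul_add]
    congr 1
    · rw [← Nat.sub_add_cancel (le_max_left m m'), pow_add, mul_smul, mul_smul, hcm]
    · rw [← Nat.sub_add_cancel (le_max_right m m'), pow_add, mul_smul, mul_smul, hdm]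

theorem isDiv_res_extA (M : ModuleCat.{u} A) (hM : Div.IsDiv (A := A) M) :
    Div.IsDiv (A := A) ((RS A B).obj ((extA A B).obj M)) := by
  obtain ⟨e, -⟩ := exists_extA_equiv (B := B) M
  exact Div.isDiv_of_equiv
    ({ toFun := e
       invFun := e.symm
       map_add' := e.map_add
       map_smul' := fun a x => (congrArg e (algebraMap_smul B a x).symm).trans (e.map_smul _ x)
       left_inv := e.symm_apply_apply
       right_inv := e.apply_symm_apply } : B ⊗[A] M ≃ₗ[A] (RS A B).obj ((extA A B).obj M))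
    (isDiv_tensor M hM)

omit [IsNoetherianRing B] in
theorem nonempty_gExtIso (I : Ideal A) (E : DRing.Cx A) :
    Nonempty (((extA A B).mapHomologicalComplex (ComplexShape.up ℤ)).obj (DR39.gCx I E) ≅
      DR39.gCx (I.map (algebraMap A B)) (((extA A B).mapHomologicalComplex (ComplexShape.up ℤ)).obj E)) := by
  rename_i alg _ _
  obtain ⟨φ, rfl⟩ : ∃ φ : A →+* B, alg = φ.toAlgebra :=
    ⟨algebraMap A B, Algebra.algebra_ext _ _ fun _ => rfl⟩
  letI := φ.toAlgebra
  exact ⟨HomologicalComplex.Hom.isoOfComponents (fun i =>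
    ((LC16.FlatBC.gammaEquiv B I (E.X i) :
      B ⊗[A] DRing.torsionSub I (E.X i) ≃ₗ[B]
        DRing.torsionSub (I.map (algebraMap A B)) (B ⊗[A] (E.X i))).toModuleIso))
    fun i j _ => ModuleCat.hom_ext (LinearMap.ext fun z => Subtype.ext (by
      induction z using TensorProduct.induction_on with
      | zero => simp
      | tmul b y => rfl
      | add y z hy hz =>
        simp only [map_add, Submodule.coe_add]
        exact congrArg₂ (· + ·) hy hz))⟩

omit [IsNoetherianRing A] [IsNoetherianRing B] [Module.Flat A B] in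
theorem nonempty_extEquiv (M : ModuleCat.{u + 1} A) (N : ModuleCat.{u} A) (e : M ≃ₗ[A] N) :
    Nonempty ((ModuleCat.extendScalars (algebraMap A B)).obj M ≃ₗ[B] (extA A B).obj N) := by
  rename_i alg
  obtain ⟨φ, rfl⟩ : ∃ φ : A →+* B, alg = φ.toAlgebra :=
    ⟨algebraMap A B, Algebra.algebra_ext _ _ fun _ => rfl⟩
  letI := φ.toAlgebra
  exact ⟨(TensorProduct.AlgebraTensorModule.congr (LinearEquiv.refl B B) e :
    B ⊗[A] M ≃ₗ[B] B ⊗[A] N)⟩

theorem nonempty_HDI_baseChange [DRing.HasLBaseChange (algebraMap A B)] (I : Ideal A) (K : Dual.D A)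
    (i : ℤ) :
    Nonempty (Dual2.HDI B (I.map (algebraMap A B)) ((DRing.LBaseChange (algebraMap A B)).obj K) i ≅
      (ModuleCat.extendScalars (algebraMap A B)).obj (Dual2.HDI A I K i)) := by
  obtain ⟨E, hE, ⟨e⟩⟩ := LC16.GammaModel.exists_isRep K
  haveI := hE.kinj
  obtain ⟨eB⟩ := DR39.lbcIso (B := B) K
  let E' := ((extA A B).mapHomologicalComplex (ComplexShape.up ℤ)).obj E
  obtain ⟨Y, r, hY, hr⟩ := RgammaModel.exists_res E'
  haveI := hY.kinj
  haveI := hr
  let RC := DRing.restrictCx (algebraMap A B)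
  let G := (DRing.gammaI (I.map (algebraMap A B))).mapHomologicalComplex (ComplexShape.up ℤ)
  -- reflect along restriction
  have hq : QuasiIso (G.map r) := by
    have hres : IsIso ((QA A).map (RC.map r)) := by
      rw [DerivedCategory.isIso_Q_map_iff_quasiIso]
      haveI : QuasiIso r := (DerivedCategory.isIso_Q_map_iff_quasiIso _ r).1 hr
      exact inferInstanceAs (QuasiIso (((RS A B).mapHomologicalComplex _).map r))
    have hdiv : Div.DivCx (RC.obj E') := fun l =>
      isDiv_res_extA (E.X l) (Div.isDiv_of_injective _ (hE.inj l))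
    have hdiv' : Div.DivCx (RC.obj Y) := fun l => isDiv_res (Y.X l) (Div.isDiv_of_injective _ (hY.inj l))
    have h1 := Div.isIso_Q_gCx_map hdiv hdiv' I (IsNoetherian.noetherian I) (RC.map r) hres
    haveI : QuasiIso (((DRing.gammaI I).mapHomologicalComplex (ComplexShape.up ℤ)).map (RC.map r)) :=
      (DerivedCategory.isIso_Q_map_iff_quasiIso _ _).1 h1
    have hnat : (gResIso I E').hom ≫ RC.map (G.map r) =
        ((DRing.gammaI I).mapHomologicalComplex (ComplexShape.up ℤ)).map (RC.map r) ≫ (gResIso I Y).hom :=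
      rfl
    haveI : QuasiIso ((gResIso I E').hom ≫ RC.map (G.map r)) := by
      rw [hnat]
      exact quasiIso_comp _ _
    haveI : QuasiIso (((RS A B).mapHomologicalComplex (ComplexShape.up ℤ)).map (G.map r)) :=
      quasiIso_of_comp_left (gResIso I E').hom (RC.map (G.map r))
    exact (HomologicalComplex.quasiIso_map_iff_of_preservesHomology (G.map r) (RS A B)).1 inferInstance
  haveI : IsIso ((QA B).map (G.map r)) := (DerivedCategory.isIso_Q_map_iff_quasiIso _ _).2 hq
  obtain ⟨e1⟩ := HDI_equiv (I.map (algebraMap A B)) Y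
    ((asIso ((QA B).map r)).symm ≪≫ (DFQ (extA A B) E).symm ≪≫ (DF (extA A B)).mapIso e ≪≫ eB.symm) i
  obtain ⟨e2⟩ := HDI_equiv I E e i
  obtain ⟨Θ⟩ := nonempty_gExtIso (B := B) I E
  obtain ⟨e3⟩ := nonempty_extEquiv (B := B) _ _ e2
  let g : (DR39.gCx (I.map (algebraMap A B)) Y).homology i ≅ (extA A B).obj ((DR39.gCx I E).homology i) :=
    (HQIso _ i).symm ≪≫ (HF B i).mapIso ((asIso ((QA B).map (G.map r))).symm ≪≫
      (QA B).mapIso Θ.symm) ≪≫ HQIso _ i ≪≫ ((DR39.gCx I E).sc i).mapHomologyIso (extA A B)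
  exact ⟨(e1.trans (g.toLinearEquiv.trans e3.symm)).toModuleIso⟩

end Groth.Agent.LC15.DivBC
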