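import Groth.Agent.An92.DivDesc.Algebra
import Groth.Agent.SpFP87.CartierDesc
import Groth.Agent.FlatMor67.GenericFibre
import Mathlib.AlgebraicGeometry.PullbackCarrier

/-!
Descent of effective Cartier divisors is decided at the points of depth at most one.
-/

set_option autoImplicit false
set_option linter.style.haveILetI false

noncomputable section

universe u

open CategoryTheory CategoryTheory.Limits AlgebraicGeometry IsLocalRing Opposite nonZeroDivisors

namespace Groth.Agent.LC15.DivDepth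

open Groth.Agent.Div89 Groth.Agent.An92.DivDesc

variable {X Y : Scheme.{u}}

theorem germ_appLE (f : X ⟶ Y) {V : Y.Opens} {U : X.Opens} (h : U ≤ f ⁻¹ᵁ V) (x : X) (hx : x ∈ U)
    (s : Γ(Y, V)) : (X.presheaf.germ U x hx).hom ((f.appLE V U h).hom s) =
      (f.stalkMap x).hom ((Y.presheaf.germ V (f x) (h hx)).hom s) := by
  erw [Scheme.Hom.germ_stalkMap_apply]
  exact X.presheaf.germ_res_apply (homOfLE h) x hx (f.app V s)

/-- A section outside an ideal sheaf at `x` stays outside at an embedded point generizing `x`. -/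
theorem exists_bad [IsLocallyNoetherian X] (J : X.IdealSheafData) (U : X.affineOpens) (a : Γ(X, U.1))
    (x : X) (hx : x ∈ U.1) (ha : (X.presheaf.germ U.1 x hx).hom a ∉ stalkIdeal J x) :
    ∃ (z : X) (hz : z ∈ U.1), z ⤳ x ∧ Bad (stalkIdeal J z) ∧
      (X.presheaf.germ U.1 z hz).hom a ∉ stalkIdeal J z := by
  letI := stalkAlg U.1 x hx
  haveI := isLocalization_stalk U x hx
  set φ := (X.presheaf.germ U.1 x hx).hom
  obtain ⟨c, hc, e, he, Q, hQ, hQc, hQe⟩ := exists_prime_of_not_le (I := Ideal.span {φ a})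
    (J := stalkIdeal J x) fun h => ha (h (Ideal.mem_span_singleton_self _))
  obtain ⟨⟨e₀, u⟩, hu⟩ := IsLocalization.surj (primeAt U x hx).primeCompl e
  change e * φ u.1 = φ e₀ at hu
  have huu : IsUnit (φ u.1) := (germ_isUnit_iff U x hx u.1).2 u.2
  obtain ⟨z, hz, hzP⟩ := exists_point U (Q.comap φ) (hp := Ideal.IsPrime.comap φ)
  have hle : primeAt U z hz ≤ primeAt U x hx := by
    rw [hzP]
    exact fun r hr => by_contra fun hn => hQ.ne_top (Q.eq_top_of_isUnit_mem hr ((germ_isUnit_iff U x hx r).2 hn))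
  letI := stalkAlg U.1 z hz
  haveI := isLocalization_stalk U z hz
  have key : ∀ b, (X.presheaf.germ U.1 z hz).hom b ∈ stalkIdeal J z →
      ∃ r, r ∉ primeAt U z hz ∧ φ (r * b) ∈ stalkIdeal J x := fun b hb => by
    rw [stalkIdeal_eq J U z hz] at hb
    obtain ⟨r, hr, hrb⟩ := (IsLocalization.algebraMap_mem_map_algebraMap_iff (primeAt U z hz).primeCompl
      (X.presheaf.stalk z) _ b).1 hb
    exact ⟨r, hr, stalkIdeal_eq J U x hx ▸ Ideal.mem_map_of_mem φ hrb⟩
  have hback : ∀ b, φ b ∈ stalkIdeal J x → (X.presheaf.germ U.1 z hz).hom b ∈ stalkIdeal J z := fun b hb => by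
    rw [stalkIdeal_eq J U x hx] at hb
    obtain ⟨r, hr, hrb⟩ := (IsLocalization.algebraMap_mem_map_algebraMap_iff (primeAt U x hx).primeCompl
      (X.presheaf.stalk x) _ b).1 hb
    rw [stalkIdeal_eq J U z hz]
    exact (IsLocalization.algebraMap_mem_map_algebraMap_iff (primeAt U z hz).primeCompl
      (X.presheaf.stalk z) _ b).2 ⟨r, fun h => hr (hle h), hrb⟩
  refine ⟨z, hz, (specializes_iff_primeAt_le U hx hz).2 hle,
    ⟨(X.presheaf.germ U.1 z hz).hom e₀, fun hmem => ?_, fun t ht => ?_⟩, fun hmem => ?_⟩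
  · obtain ⟨r, hr, hre⟩ := key e₀ hmem
    rw [map_mul, ← hu, ← mul_assoc, Ideal.mul_unit_mem_iff_mem _ huu] at hre
    exact hr (hzP ▸ Ideal.mem_comap.2 ((hQe _).2 hre))
  · rw [← IsLocalization.AtPrime.map_eq_maximalIdeal (primeAt U z hz) (X.presheaf.stalk z)] at ht
    have h2 : (primeAt U z hz).map (algebraMap Γ(X, U.1) (X.presheaf.stalk z)) ≤
        (stalkIdeal J z).colon {(X.presheaf.germ U.1 z hz).hom e₀} :=
      Ideal.map_le_iff_le_comap.2 fun s hs => by
        rw [Ideal.mem_comap, Submodule.mem_colon_singleton, smul_eq_mul]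
        refine (congrArg (· ∈ stalkIdeal J z) (map_mul (X.presheaf.germ U.1 z hz).hom s e₀)).mp (hback _ ?_)
        rw [map_mul, ← hu, ← mul_assoc, Ideal.mul_unit_mem_iff_mem _ huu]
        exact (hQe _).1 (Ideal.mem_comap.1 (hzP.le hs))
    exact Submodule.mem_colon_singleton.1 (h2 ht)
  · obtain ⟨r, hr, hra⟩ := key a hmem
    obtain ⟨k, rfl⟩ := Ideal.mem_span_singleton'.1 hc
    refine hr (hzP ▸ Ideal.mem_comap.2 (hQc _ ?_))
    rw [map_mul] at hra
    rw [mul_left_comm]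
    exact Ideal.mul_mem_left _ k hra

variable (f : X ⟶ Y) (J : X.IdealSheafData)

/-- A germ downstairs whose pullback to `x` lies in `J`. -/
def Mem (V : Y.Opens) (x : X) (hx : f x ∈ V) (s : Γ(Y, V)) : Prop :=
  (f.stalkMap x).hom ((Y.presheaf.germ V (f x) hx).hom s) ∈ stalkIdeal J x

/-- At every point of depth at most one, `J` comes from downstairs. -/
def HasGen : Prop :=
  ∀ y : Y, LocCoh.depth (Y.presheaf.stalk y) (Y.presheaf.stalk y) ≤ 1 →
    ∀ V : Y.affineOpens, ∀ hy : y ∈ V.1, ∃ s : Γ(Y, V.1), ∀ (x : X) (h : f x ⤳ y),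
      stalkIdeal J x = Ideal.span {(f.stalkMap x).hom ((Y.presheaf.germ V.1 (f x) (mem_affine_of_specializes h hy)).hom s)}

theorem hasGen_of_local
    (h : ∀ y : Y, LocCoh.depth (Y.presheaf.stalk y) (Y.presheaf.stalk y) ≤ 1 →
      ∃ I₁ : (Spec (Y.presheaf.stalk y)).IdealSheafData, BlowUp.IsEffCartierIdeal I₁ ∧
        I₁.comap (pullback.snd f (Y.fromSpecStalk y)) = J.comap (pullback.fst f (Y.fromSpecStalk y)))
    [Flat f] : HasGen f J := by
  intro y hy V hyV
  obtain ⟨I₁, hI₁, he⟩ := h y hy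
  let T : (Spec (Y.presheaf.stalk y)).affineOpens := ⟨⊤, isAffineOpen_top _⟩
  let e := Scheme.ΓSpecIso (Y.presheaf.stalk y)
  obtain ⟨g, -, hg⟩ := exists_stalk_generator hI₁ (closedPoint (Y.presheaf.stalk y))
  rw [stalkIdeal_eq I₁ T _ trivial] at hg
  have hiso : ((Spec (Y.presheaf.stalk y)).presheaf.germ ⊤ (closedPoint (Y.presheaf.stalk y)) trivial) ≫
      (stalkClosedPointIso (Y.presheaf.stalk y)).hom = e.hom := germ_stalkClosedPointIso_hom _
  replace hg := congrArg (Ideal.map (stalkClosedPointIso (Y.presheaf.stalk y)).hom.hom) hg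
  rw [Ideal.map_map, ← CommRingCat.hom_comp, Ideal.map_span, Set.image_singleton] at hg
  erw [hiso] at hg
  obtain ⟨g₀, hg₀⟩ : ∃ g₀, g₀ = (stalkClosedPointIso (Y.presheaf.stalk y)).hom.hom g := ⟨_, rfl⟩
  rw [← hg₀] at hg
  letI := stalkAlg V.1 y hyV
  haveI := isLocalization_stalk V y hyV
  obtain ⟨⟨s, u⟩, hu⟩ := IsLocalization.surj (primeAt V y hyV).primeCompl g₀
  change g₀ * (Y.presheaf.germ V.1 y hyV).hom u.1 = (Y.presheaf.germ V.1 y hyV).hom s at hu
  have hsp : Ideal.span {(Y.presheaf.germ V.1 y hyV).hom s} = Ideal.span {g₀} := by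
    rw [← hu]
    exact Ideal.span_singleton_mul_right_unit ((germ_isUnit_iff V y hyV u.1).2 u.2) g₀
  have hI : I₁.ideal T = Ideal.span {e.inv.hom ((Y.presheaf.germ V.1 y hyV).hom s)} := by
    have h2 := congrArg (Ideal.map e.inv.hom) (hg.trans hsp.symm)
    rw [Ideal.map_map, ← CommRingCat.hom_comp, e.hom_inv_id, CommRingCat.hom_id, Ideal.map_id, Ideal.map_span,
      Set.image_singleton] at h2
    exact h2
  refine ⟨s, fun x hx => ?_⟩
  obtain ⟨p, hp⟩ : ∃ p, Y.fromSpecStalk y p = f x := by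
    have : f x ∈ Set.range (Y.fromSpecStalk y) := by rw [Scheme.range_fromSpecStalk]; exact hx
    exact this
  obtain ⟨x₁, rfl, rfl⟩ := Scheme.Pullback.exists_preimage_pullback x p hp.symm
  set a := pullback.fst f (Y.fromSpecStalk y) with ha
  set b := pullback.snd f (Y.fromSpecStalk y) with hb
  have h1 := congrArg (stalkIdeal · x₁) he
  simp only [stalkIdeal_comap] at h1
  rw [stalkIdeal_eq I₁ T (b x₁) trivial, hI, Ideal.map_map, Ideal.map_span, Set.image_singleton] at h1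
  haveI : Flat a := inferInstanceAs (Flat (pullback.fst f (Y.fromSpecStalk y)))
  letI := (a.stalkMap x₁).hom.toAlgebra
  haveI : IsLocalHom (algebraMap (X.presheaf.stalk (a x₁)) ((pullback f (Y.fromSpecStalk y)).presheaf.stalk x₁)) :=
    inferInstanceAs (IsLocalHom (a.stalkMap x₁).hom)
  haveI : Module.Flat (X.presheaf.stalk (a x₁)) ((pullback f (Y.fromSpecStalk y)).presheaf.stalk x₁) :=
    Flat.stalkMap a x₁
  haveI := Module.FaithfullyFlat.of_flat_of_isLocalHom (A := X.presheaf.stalk (a x₁))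
    (B := (pullback f (Y.fromSpecStalk y)).presheaf.stalk x₁)
  have hgerm : (a.stalkMap x₁).hom ((f.stalkMap (a x₁)).hom
      ((Y.presheaf.germ V.1 (f (a x₁)) (mem_affine_of_specializes hx hyV)).hom s)) =
      (b.stalkMap x₁).hom (((Spec (Y.presheaf.stalk y)).presheaf.germ ⊤ (b x₁) trivial).hom
        (e.inv.hom ((Y.presheaf.germ V.1 y hyV).hom s))) := by
    have hcond : a ≫ f = b ≫ Y.fromSpecStalk y := pullback.condition
    have hl : ((a ≫ f).stalkMap x₁).hom ((Y.presheaf.germ V.1 ((a ≫ f) x₁) (mem_affine_of_specializes hx hyV)).hom s) =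
        ((b ≫ Y.fromSpecStalk y).stalkMap x₁).hom ((Y.presheaf.germ V.1 ((b ≫ Y.fromSpecStalk y) x₁)
          (hcond ▸ mem_affine_of_specializes hx hyV)).hom s) := by
      rw [Scheme.Hom.stalkMap_congr_hom (a ≫ f) _ hcond x₁]
      show ((b ≫ Y.fromSpecStalk y).stalkMap x₁).hom _ = _
      refine congrArg _ ?_
      show ((Y.presheaf.germ V.1 _ _) ≫ (Y.presheaf.stalkCongr _).hom).hom s = _
      rw [TopCat.Presheaf.stalkCongr_hom, TopCat.Presheaf.germ_stalkSpecializes]
    rw [Scheme.Hom.stalkMap_comp, Scheme.Hom.stalkMap_comp] at hl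
    refine hl.trans (congrArg (b.stalkMap x₁).hom ?_)
    erw [Scheme.Hom.germ_stalkMap_apply, Scheme.fromSpecStalk_app hyV]
    exact (Spec (Y.presheaf.stalk y)).presheaf.germ_res_apply (homOfLE le_top) _ _ _
  rw [← Ideal.comap_map_eq_self_of_faithfullyFlat
      (B := (pullback f (Y.fromSpecStalk y)).presheaf.stalk x₁) (stalkIdeal J (a x₁)),
    ← Ideal.comap_map_eq_self_of_faithfullyFlat
      (B := (pullback f (Y.fromSpecStalk y)).presheaf.stalk x₁) (Ideal.span {_})]
  refine congrArg (Ideal.comap (a.stalkMap x₁).hom) (h1.symm.trans ?_)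
  rw [Ideal.map_span, Set.image_singleton]
  exact congrArg (fun t => Ideal.span {t}) hgerm.symm

variable [IsLocallyNoetherian X] [IsLocallyNoetherian Y] [Flat f] {f J}

theorem depth_le_one_of_bad (hJ : BlowUp.IsEffCartierIdeal J) {z : X} (hz : Bad (stalkIdeal J z)) :
    LocCoh.depth (Y.presheaf.stalk (f z)) (Y.presheaf.stalk (f z)) ≤ 1 := by
  letI := (f.stalkMap z).hom.toAlgebra
  haveI : IsLocalHom (algebraMap (Y.presheaf.stalk (f z)) (X.presheaf.stalk z)) :=
    inferInstanceAs (IsLocalHom (f.stalkMap z).hom)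
  haveI : Module.Flat (Y.presheaf.stalk (f z)) (X.presheaf.stalk z) := Flat.stalkMap f z
  obtain ⟨g, hg, hgJ⟩ := exists_stalk_generator hJ z
  rw [hgJ] at hz
  obtain ⟨c, hc, hmc⟩ := hz
  have hgm : g ∈ maximalIdeal (X.presheaf.stalk z) := fun hu => hc (by
    rw [Ideal.span_singleton_eq_top.2 hu]; trivial)
  have hd : LocCoh.depth (X.presheaf.stalk z) (X.presheaf.stalk z) = 1 := Mero90.depth_eq_one hgm hg (x := c)
    (fun hdvd => hc (Ideal.mem_span_singleton.2 hdvd)) (fun t ht => Ideal.mem_span_singleton.1 (hmc t ht))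
  rw [CAlg1.depth_of_flat_local (Y.presheaf.stalk (f z)) (X.presheaf.stalk z)] at hd
  exact hd ▸ le_self_add

/-- Over a point of depth at most one the choice of the point upstairs does not matter. -/
theorem mem_of_mem (hgen : HasGen f J) {V : Y.Opens} (s : Γ(Y, V)) {x₀ x : X} (hx₀ : f x₀ ∈ V)
    (h : f x = f x₀) (hd : LocCoh.depth (Y.presheaf.stalk (f x₀)) (Y.presheaf.stalk (f x₀)) ≤ 1)
    (hs : Mem f J V x₀ hx₀ s) : Mem f J V x (h ▸ hx₀) s := by
  obtain ⟨W, hW⟩ := exists_affine_mem (f x₀)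
  obtain ⟨t, ht⟩ := hgen _ hd W hW
  letI := (f.stalkMap x₀).hom.toAlgebra
  haveI : IsLocalHom (algebraMap (Y.presheaf.stalk (f x₀)) (X.presheaf.stalk x₀)) :=
    inferInstanceAs (IsLocalHom (f.stalkMap x₀).hom)
  haveI : Module.Flat (Y.presheaf.stalk (f x₀)) (X.presheaf.stalk x₀) := Flat.stalkMap f x₀
  haveI := Module.FaithfullyFlat.of_flat_of_isLocalHom (A := Y.presheaf.stalk (f x₀))
    (B := X.presheaf.stalk x₀)
  have h0 : (Y.presheaf.germ V (f x₀) hx₀).hom s ∈ Ideal.span {(Y.presheaf.germ W.1 (f x₀) hW).hom t} := by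
    rw [← Ideal.comap_map_eq_self_of_faithfullyFlat (B := X.presheaf.stalk x₀) (Ideal.span {_}),
      Ideal.mem_comap, Ideal.map_span, Set.image_singleton]
    unfold Mem at hs
    rw [ht x₀ (specializes_refl _)] at hs
    exact hs
  obtain ⟨k, hk⟩ := Ideal.mem_span_singleton'.1 h0
  have hsp : f x ⤳ f x₀ := specializes_of_eq h
  have h1 := congrArg (Y.presheaf.stalkSpecializes hsp).hom hk
  rw [map_mul] at h1
  erw [TopCat.Presheaf.germ_stalkSpecializes_apply, TopCat.Presheaf.germ_stalkSpecializes_apply] at h1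
  unfold Mem
  rw [ht x hsp, ← h1, map_mul]
  exact Ideal.mul_mem_left _ _ (Ideal.mem_span_singleton_self _)

variable (f J)

/-- Functions whose pullback lies in `J`. -/
def descIdeal (V : Y.affineOpens) : Ideal Γ(Y, V.1) :=
  ⨅ x : (f ⁻¹ᵁ V.1 : X.Opens), (stalkIdeal J x.1).comap
    ((f.stalkMap x.1).hom.comp (Y.presheaf.germ V.1 (f x.1) x.2).hom)

variable {f J}

omit [IsLocallyNoetherian X] [IsLocallyNoetherian Y] [Flat f] in
theorem mem_descIdeal {V : Y.affineOpens} {s : Γ(Y, V.1)} :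
    s ∈ descIdeal f J V ↔ ∀ (x : X) (hx : f x ∈ V.1), Mem f J V.1 x hx s := by
  simp only [descIdeal, Submodule.mem_iInf, Ideal.mem_comap, Subtype.forall, RingHom.comp_apply]
  rfl

variable [Surjective f] (hf : QuasiCompact f ∨ IsOpenMap f) (hJ : BlowUp.IsEffCartierIdeal J) (hgen : HasGen f J)
include hf hJ hgen

theorem exists_mul_mem (V : Y.affineOpens) (M : Submonoid Γ(Y, V.1)) (s : Γ(Y, V.1))
    (h : ∀ (x : X) (hx : f x ∈ V.1), (∀ t ∈ M, f x ∈ Y.basicOpen t) → Mem f J V.1 x hx s) :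
    ∃ t ∈ M, t * s ∈ descIdeal f J V := by
  classical
  obtain ⟨S, hS⟩ : ∃ S : Finset {U : X.affineOpens // U.1 ≤ f ⁻¹ᵁ V.1},
      ∀ y ∈ V.1, ∃ U ∈ S, ∃ x ∈ U.1.1, f x = y := by
    rcases hf with hqc | hop
    · obtain ⟨S, hS⟩ := (f.isCompact_preimage V.2.isCompact).elim_finite_subcover
        (fun U : {U : X.affineOpens // U.1 ≤ f ⁻¹ᵁ V.1} => (U.1.1 : Set X)) (fun U => U.1.1.isOpen)
        (fun x hx => by
          obtain ⟨U, hU, hle⟩ := exists_affine_le (U := f ⁻¹ᵁ V.1) (x := x) hx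
          exact Set.mem_iUnion.2 ⟨⟨U, hle⟩, hU⟩)
      refine ⟨S, fun y hy => ?_⟩
      obtain ⟨x, rfl⟩ := f.surjective y
      obtain ⟨U, hU, hxU⟩ := Set.mem_iUnion₂.1 (hS (show x ∈ f ⁻¹' V.1 from hy))
      exact ⟨U, hU, x, hxU, rfl⟩
    · obtain ⟨S, hS⟩ := V.2.isCompact.elim_finite_subcover
        (fun U : {U : X.affineOpens // U.1 ≤ f ⁻¹ᵁ V.1} => f '' U.1.1) (fun U => hop _ U.1.1.isOpen)
        (fun y hy => by
          obtain ⟨x, rfl⟩ := f.surjective y
          obtain ⟨U, hU, hle⟩ := exists_affine_le (U := f ⁻¹ᵁ V.1) (x := x) hy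
          exact Set.mem_iUnion.2 ⟨⟨U, hle⟩, x, hU, rfl⟩)
      refine ⟨S, fun y hy => ?_⟩
      obtain ⟨U, hU, x, hxU, hx⟩ := Set.mem_iUnion₂.1 (hS hy)
      exact ⟨U, hU, x, hxU, hx⟩
  have hU : ∀ U : {U : X.affineOpens // U.1 ≤ f ⁻¹ᵁ V.1},
      ∃ t ∈ M, (f.appLE V.1 U.1.1 U.2).hom (t * s) ∈ J.ideal U.1 := by
    rintro ⟨U, hle⟩
    set φ := (f.appLE V.1 U.1 hle).hom
    by_contra! hne
    have hdisj : Disjoint (((J.ideal U).colon {φ s} : Ideal Γ(X, U.1)) : Set Γ(X, U.1)) (M.map φ) := by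
      rw [Set.disjoint_left]
      rintro _ hc ⟨t, ht, rfl⟩
      refine hne t ht ?_
      rw [map_mul]
      exact Submodule.mem_colon_singleton.1 hc
    obtain ⟨Q, hQ, hcQ, hQM⟩ := Ideal.exists_le_prime_disjoint _ _ hdisj
    obtain ⟨x, hx, hxQ⟩ := exists_point U Q
    have hmem := h x (hle hx) fun t ht => by
      refine (Y.mem_basicOpen t (f x) (hle hx)).2 (IsUnit.of_map (f.stalkMap x).hom _ ?_)
      rw [← germ_appLE f hle x hx, germ_isUnit_iff U x hx, hxQ]
      exact fun htQ => Set.disjoint_left.1 hQM htQ ⟨t, ht, rfl⟩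
    unfold Mem at hmem
    rw [← germ_appLE f hle x hx, stalkIdeal_eq J U x hx] at hmem
    letI := stalkAlg U.1 x hx
    haveI := isLocalization_stalk U x hx
    obtain ⟨r, hr, hrs⟩ := (IsLocalization.algebraMap_mem_map_algebraMap_iff (primeAt U x hx).primeCompl
      (X.presheaf.stalk x) _ (φ s)).1 hmem
    exact hr (hxQ ▸ hcQ (Submodule.mem_colon_singleton.2 hrs))
  choose t htM hts using hU
  refine ⟨∏ U ∈ S, t U, prod_mem fun U _ => htM U, mem_descIdeal.2 fun x hx => ?_⟩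
  obtain ⟨W, hxW, hWV⟩ := exists_affine_le (U := f ⁻¹ᵁ V.1) (x := x) hx
  by_contra hn
  unfold Mem at hn
  rw [← germ_appLE f hWV x hxW] at hn
  obtain ⟨z, hz, -, hbad, hza⟩ := exists_bad J W _ x hxW hn
  obtain ⟨U, hUS, x₀, hx₀, hfx⟩ := hS (f z) (hWV hz)
  refine hza ?_
  rw [germ_appLE f hWV z hz]
  refine mem_of_mem hgen _ (U.2 hx₀) hfx.symm (hfx ▸ depth_le_one_of_bad hJ hbad) ?_
  unfold Mem
  rw [← germ_appLE f U.2 x₀ hx₀, stalkIdeal_eq J U.1 x₀ hx₀]
  refine Ideal.mem_map_of_mem _ ?_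
  rw [← Finset.mul_prod_erase S t hUS, mul_right_comm, map_mul]
  exact Ideal.mul_mem_right _ _ (hts U)

/-- The descended ideal sheaf. -/
def descSheaf : Y.IdealSheafData where
  ideal := descIdeal f J
  map_ideal_basicOpen V r := by
    have hle := Y.basicOpen_le r
    refine le_antisymm (Ideal.map_le_iff_le_comap.2 fun a ha => mem_descIdeal.2 fun x hx => ?_) fun b hb => ?_
    · unfold Mem
      erw [TopCat.Presheaf.germ_res_apply]
      exact mem_descIdeal.1 ha x (hle hx)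
    · letI : Algebra Γ(Y, V.1) Γ(Y, Y.basicOpen r) := (Y.presheaf.map (homOfLE hle).op).hom.toAlgebra
      haveI : IsLocalization.Away r Γ(Y, Y.basicOpen r) := V.2.isLocalization_basicOpen r
      obtain ⟨⟨a, u⟩, hu⟩ := IsLocalization.surj (Submonoid.powers r) b
      obtain ⟨t, ht, hta⟩ := exists_mul_mem hf hJ hgen V (Submonoid.powers r) a fun x hx hpow => by
        have hxr : f x ∈ Y.basicOpen r := hpow r (Submonoid.mem_powers r)
        have e := congrArg (Y.presheaf.germ (Y.basicOpen r) (f x) hxr).hom hu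
        rw [map_mul] at e
        unfold Mem
        rw [← TopCat.Presheaf.germ_res_apply Y.presheaf (homOfLE hle) (f x) hxr a]
        refine (congrArg (fun z => (f.stalkMap x).hom z ∈ stalkIdeal J x) e).mp ?_
        rw [map_mul]
        exact Ideal.mul_mem_right _ _ (mem_descIdeal.1 hb x hxr)
      have h1 := Ideal.mem_map_of_mem (algebraMap Γ(Y, V.1) Γ(Y, Y.basicOpen r)) hta
      rw [map_mul, Ideal.unit_mul_mem_iff_mem _ (IsLocalization.map_units _ ⟨t, ht⟩)] at h1
      refine (Ideal.mul_unit_mem_iff_mem _ (IsLocalization.map_units Γ(Y, Y.basicOpen r) u)).1 ?_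
      exact hu ▸ h1

theorem mem_stalk_descSheaf (y : Y) (V : Y.affineOpens) (hy : y ∈ V.1) (a : Γ(Y, V.1))
    (h : ∀ (x : X) (hx : f x ⤳ y), Mem f J V.1 x (mem_affine_of_specializes hx hy) a) :
    (Y.presheaf.germ V.1 y hy).hom a ∈ stalkIdeal (descSheaf hf hJ hgen) y := by
  obtain ⟨t, ht, hta⟩ := exists_mul_mem hf hJ hgen V (primeAt V y hy).primeCompl a fun x hx hu =>
    h x ((specializes_iff_primeAt_le V hy hx).2 fun t ht => by_contra fun hn =>
      (mem_primeAt_iff V (f x) hx t).1 ht (hu t hn))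
  rw [stalkIdeal_eq _ V y hy]
  have h1 := Ideal.mem_map_of_mem (Y.presheaf.germ V.1 y hy).hom hta
  rwa [map_mul, Ideal.unit_mul_mem_iff_mem _ ((germ_isUnit_iff V y hy t).2 ht)] at h1

theorem comap_descSheaf : (descSheaf hf hJ hgen).comap f = J := by
  refine le_antisymm ((le_iff_stalkIdeal _ _).2 fun x => ?_) fun U a ha => ?_
  · obtain ⟨V, hV⟩ := exists_affine_mem (f x)
    rw [stalkIdeal_comap, stalkIdeal_eq _ V (f x) hV, Ideal.map_map, Ideal.map_le_iff_le_comap]
    exact fun s hs => mem_descIdeal.1 hs x hV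
  · refine (IsAffineOpen.mem_ideal_iff U.2).2 fun x hx => by_contra fun hn => ?_
    rw [← stalkIdeal_eq _ U x hx] at hn
    obtain ⟨z, hz, -, hbad, hza⟩ := exists_bad _ U a x hx hn
    refine hza ?_
    suffices hle : stalkIdeal J z ≤ stalkIdeal ((descSheaf hf hJ hgen).comap f) z by
      exact hle (stalkIdeal_eq J U z hz ▸ Ideal.mem_map_of_mem _ ha)
    rw [stalkIdeal_comap] at hbad ⊢
    letI := (f.stalkMap z).hom.toAlgebra
    haveI : IsLocalHom (algebraMap (Y.presheaf.stalk (f z)) (X.presheaf.stalk z)) :=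
      inferInstanceAs (IsLocalHom (f.stalkMap z).hom)
    haveI : Module.Flat (Y.presheaf.stalk (f z)) (X.presheaf.stalk z) := Flat.stalkMap f z
    obtain ⟨⟨c, hc, hmc⟩, -⟩ := bad_of_bad_map (A := Y.presheaf.stalk (f z)) (B := X.presheaf.stalk z)
      (I := stalkIdeal (descSheaf hf hJ hgen) (f z)) hbad
    obtain ⟨V, hV⟩ := exists_affine_mem (f z)
    have hd : LocCoh.depth (Y.presheaf.stalk (f z)) (Y.presheaf.stalk (f z)) ≤ 1 := by
      letI := stalkAlg V.1 (f z) hV
      haveI := isLocalization_stalk V (f z) hV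
      obtain ⟨⟨b, u⟩, hu⟩ := IsLocalization.surj (primeAt V (f z) hV).primeCompl c
      change c * (Y.presheaf.germ V.1 (f z) hV).hom u.1 = (Y.presheaf.germ V.1 (f z) hV).hom b at hu
      have hb : (Y.presheaf.germ V.1 (f z) hV).hom b ∉ stalkIdeal (descSheaf hf hJ hgen) (f z) := by
        rw [← hu, Ideal.mul_unit_mem_iff_mem _ ((germ_isUnit_iff V _ hV u.1).2 u.2)]
        exact hc
      obtain ⟨x₁, hx₁, hx₁b⟩ : ∃ (x₁ : X) (h : f x₁ ⤳ f z), ¬ Mem f J V.1 x₁ (mem_affine_of_specializes h hV) b := by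
        by_contra! hall
        exact hb (mem_stalk_descSheaf hf hJ hgen (f z) V hV b hall)
      obtain ⟨W, hxW, hWV⟩ := exists_affine_le (U := f ⁻¹ᵁ V.1) (x := x₁) (mem_affine_of_specializes (U := V.1) hx₁ hV)
      unfold Mem at hx₁b
      rw [← germ_appLE f hWV x₁ hxW] at hx₁b
      obtain ⟨w, hw, hwx, hwbad, hwb⟩ := exists_bad J W _ x₁ hxW hx₁b
      have hwz : f w ⤳ f z := (hwx.map f.continuous).trans hx₁
      by_cases heq : f w = f z
      · exact heq ▸ depth_le_one_of_bad hJ hwbad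
      · exfalso
        obtain ⟨t, htz, htw⟩ : ∃ t ∈ primeAt V (f z) hV, t ∉ primeAt V (f w) (hWV hw) :=
          SetLike.not_le_iff_exists.1 fun hle => heq (Specializes.antisymm hwz
            ((specializes_iff_primeAt_le V (hWV hw) hV).2 hle)).eq
        have htm : (Y.presheaf.germ V.1 (f z) hV).hom t ∈ maximalIdeal (Y.presheaf.stalk (f z)) :=
          fun hu' => (germ_isUnit_iff V _ hV t).1 hu' htz
        have htb : (Y.presheaf.germ V.1 (f z) hV).hom (t * b) ∈ stalkIdeal (descSheaf hf hJ hgen) (f z) := by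
          rw [map_mul, ← hu, ← mul_assoc]
          exact Ideal.mul_mem_right _ _ (hmc _ htm)
        rw [stalkIdeal_eq _ V (f z) hV] at htb
        obtain ⟨r, hr, hrtb⟩ := (IsLocalization.algebraMap_mem_map_algebraMap_iff (primeAt V (f z) hV).primeCompl
          (Y.presheaf.stalk (f z)) _ (t * b)).1 htb
        have h2 := mem_descIdeal.1 hrtb w (hWV hw)
        unfold Mem at h2
        rw [map_mul, map_mul, map_mul, map_mul, ← germ_appLE f hWV w hw b] at h2
        refine hwb ((Ideal.unit_mul_mem_iff_mem _ (((germ_isUnit_iff V _ (hWV hw) t).2 htw).map _)).1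
          ((Ideal.unit_mul_mem_iff_mem _ (((germ_isUnit_iff V _ (hWV hw) r).2 fun hr' =>
            hr ((specializes_iff_primeAt_le V hV (hWV hw)).1 hwz hr')).map _)).1 h2))
    obtain ⟨s, hs⟩ := hgen (f z) hd V hV
    rw [hs z (specializes_refl _), Ideal.span_singleton_le_iff_mem]
    refine Ideal.mem_map_of_mem _ (mem_stalk_descSheaf hf hJ hgen (f z) V hV s fun x hx => ?_)
    unfold Mem
    rw [hs x hx]
    exact Ideal.mem_span_singleton_self _

theorem exists_descent : ∃ I : Y.IdealSheafData, BlowUp.IsEffCartierIdeal I ∧ I.comap f = J := by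
  refine ⟨descSheaf hf hJ hgen, isEffCartier_of_stalk fun y _ => ?_, comap_descSheaf hf hJ hgen⟩
  obtain ⟨x, rfl⟩ := f.surjective y
  obtain ⟨g, hg, hgJ⟩ := exists_stalk_generator hJ x
  rw [← comap_descSheaf hf hJ hgen, stalkIdeal_comap] at hgJ
  have hspan : stalkIdeal (descSheaf hf hJ hgen) (f x) =
      Ideal.span (Set.range fun a : stalkIdeal (descSheaf hf hJ hgen) (f x) => a.1) := by
    rw [Subtype.range_coe_subtype]
    exact (Ideal.span_eq _).symm
  obtain ⟨a, ha, han, -⟩ := SpFP87.exists_generator_of_map_local (f.stalkMap x).hom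
    (Flat.stalkMap f x) _ _ hspan hg hgJ
  exact ⟨a.1, han, ha⟩

end Groth.Agent.LC15.DivDepth
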