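import Groth.Agent.InjHull18.Criterion
import Groth.Agent.LC15.Cd
import Mathlib.RingTheory.Derivation.Basic

/-!
A power torsion module on which the generators act divisibly, level by level, is a sum of injective hulls.
-/

set_option autoImplicit false
set_option linter.style.haveILetI false
set_option linter.unusedSectionVars false

universe u

namespace Groth.Agent.LC15.DivSum

open Groth.Agent

variable {A : Type u} [CommRing A] [IsNoetherianRing A] (m : Ideal A) [m.IsMaximal]
  {E : Type u} [AddCommGroup E] [Module A E] {f : (A ⧸ m) →ₗ[A] E} (hf : InjHull.IsInjectiveHull f)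

include hf in
theorem exists_equiv {d : ℕ} (x : Fin d → A) (hx : Ideal.span (Set.range x) = m)
    (M : Type u) [AddCommGroup M] [Module A M] (hM : LocCoh.IsPowerTorsion m M)
    (hdiv : ∀ (i : Fin d) (z : M), (∀ l : Fin d, l < i → x l • z = 0) →
      ∃ w : M, (∀ l : Fin d, l < i → x l • w = 0) ∧ x i • w = z) :
    ∃ J : Type u, Nonempty (M ≃ₗ[A] (J →₀ E)) := by
  classical
  letI : Field (A ⧸ m) := Ideal.Quotient.field m
  let S := LocCoh.torsionBy m M
  have hSt : Module.IsTorsionBySet A S (m : Set A) := fun z a =>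
    Subtype.ext ((Submodule.mem_torsionBySet_iff _ _).1 z.2 a)
  letI : Module (A ⧸ m) S := Module.IsTorsionBySet.module hSt
  haveI : IsScalarTower A (A ⧸ m) S := Module.IsTorsionBySet.isScalarTower hSt
  let J := Module.Basis.ofVectorSpaceIndex (A ⧸ m) S
  let e : S ≃ₗ[A] (J →₀ A ⧸ m) := (Module.Basis.ofVectorSpace (A ⧸ m) S).repr.restrictScalars A
  let F : (J →₀ A ⧸ m) →ₗ[A] (J →₀ E) := Finsupp.mapRange.linearMap f
  have hFinj : Function.Injective F := Finsupp.mapRange_injective f (map_zero f) hf.injective
  haveI := hf.isInjective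
  haveI : Module.Injective A (J →₀ E) := LC15.injective_finsupp J E
  obtain ⟨g, hg⟩ := Module.Injective.out S.subtype S.injective_subtype (F ∘ₗ e.toLinearMap)
  have hgS : ∀ z : S, g z.1 = F (e z) := hg
  have hginj : Function.Injective g := InjHull18.injective_of_socle g hM fun z hz h0 => by
    have := (hgS ⟨z, hz⟩).symm.trans h0
    exact congrArg Subtype.val (e.map_eq_zero_iff.1 ((map_eq_zero_iff F hFinj).1 this))
  have hE : LocCoh.IsPowerTorsion m E := InjHull18.isPowerTorsion_hull hf
  have hEJ : ∀ (i : Fin d) (y : J →₀ E), ∃ n : ℕ, x i ^ n • y = 0 := fun i y => by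
    choose n hn using fun j => hE (y j)
    refine ⟨y.support.sup n, Finsupp.ext fun j => ?_⟩
    by_cases hj : j ∈ y.support
    · exact hn j _ (Ideal.pow_le_pow_right (Finset.le_sup hj)
        (Ideal.pow_mem_pow (hx ▸ Ideal.subset_span ⟨i, rfl⟩) _))
    · simp [Finsupp.notMem_support_iff.1 hj]
  have key : ∀ (k i : ℕ), i + k = d → ∀ y : J →₀ E, (∀ l : Fin d, l.1 < i → x l • y = 0) →
      ∃ z, g z = y := by
    intro k
    induction k with
    | zero =>
      intro i hi y hy
      have hy' : ∀ j, y j ∈ LinearMap.range f := fun j => by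
        rw [← InjHull18.torsionBy_eq_range hf.toIsEssentialInj, Submodule.mem_torsionBySet_iff]
        rintro ⟨a, ha⟩
        have hle : m ≤ LinearMap.ker (LinearMap.toSpanSingleton A E (y j)) := by
          rw [← hx, Ideal.span_le]
          rintro _ ⟨l, rfl⟩
          exact DFunLike.congr_fun (hy l (by omega)) j
        exact hle ha
      choose c hc using hy'
      let w : J →₀ A ⧸ m := Finsupp.onFinset y.support c fun j hj => by
        rw [Finsupp.mem_support_iff]
        exact fun h0 => hj (hf.injective ((hc j).trans (h0.trans (map_zero f).symm)))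
      refine ⟨(e.symm w).1, (hgS _).trans ?_⟩
      rw [LinearEquiv.apply_symm_apply]
      exact Finsupp.ext fun j => hc j
    | succ k ih =>
      intro i hi y hy
      let v : Fin d := ⟨i, by omega⟩
      obtain ⟨n, hn⟩ := hEJ v y
      induction n generalizing y with
      | zero => exact ⟨0, by rw [map_zero, ← hn, pow_zero, one_smul]⟩
      | succ n ihn =>
        obtain ⟨z', hz'⟩ := ihn (x v • y) (fun l hl => by rw [smul_comm, hy l hl, smul_zero])
          (by rw [← mul_smul, ← pow_succ, hn])
        obtain ⟨w, hw, hwz⟩ := hdiv v z' fun l hl => hginj (by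
          rw [map_smul, hz', map_zero, smul_comm, hy l hl, smul_zero])
        obtain ⟨z, hz⟩ := ih (i + 1) (by omega) (y - g w) fun l hl => by
          rw [smul_sub, ← map_smul]
          rcases Nat.lt_succ_iff_lt_or_eq.1 hl with h | h
          · rw [hy l h, hw l h, map_zero, sub_zero]
          · rw [show l = v from Fin.ext h, hwz, hz', sub_self]
        exact ⟨z + w, by rw [map_add, hz, sub_add_cancel]⟩
  exact ⟨J, ⟨LinearEquiv.ofBijective g ⟨hginj, fun y => key d 0 (zero_add d) y
    (fun l hl => absurd hl (Nat.not_lt_zero _))⟩⟩⟩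

/-- divisibility from derivations in characteristic zero -/
theorem exists_divisible {k : Type u} [Field k] [CharZero k] {B : Type u} [CommRing B] [Algebra k B]
    {d : ℕ} (x : Fin d → B) (θ : Fin d → Derivation k B B) (hθ : ∀ i j, θ i (x j) = if i = j then 1 else 0)
    (M : Type u) [AddCommGroup M] [Module B M] (hM : ∀ (i : Fin d) (z : M), ∃ n : ℕ, x i ^ n • z = 0)
    (D : Fin d → M →+ M) (hD : ∀ (i : Fin d) (b : B) (z : M), D i (b • z) = θ i b • z + b • D i z)
    (i : Fin d) (z : M) (hz : ∀ l : Fin d, l < i → x l • z = 0) :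
    ∃ w : M, (∀ l : Fin d, l < i → x l • w = 0) ∧ x i • w = z := by
  obtain ⟨n, hn⟩ := hM i z
  induction n generalizing z with
  | zero => exact ⟨0, fun l _ => smul_zero _, by rw [smul_zero, ← hn, pow_zero, one_smul]⟩
  | succ n ih =>
    have hDz : ∀ l : Fin d, l < i → x l • D i z = 0 := fun l hl => by
      have := congrArg (D i) (hz l hl)
      rwa [hD, hθ, if_neg hl.ne', zero_smul, zero_add, map_zero] at this
    have hu : x i ^ n • (((n + 1 : ℕ) : B) • z + x i • D i z) = 0 := by
      have := congrArg (D i) hn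
      rw [hD, map_zero, Derivation.leibniz_pow, hθ, if_pos rfl, add_tsub_cancel_right] at this
      rw [smul_add, ← mul_smul, ← mul_smul, ← pow_succ, mul_comm]
      simpa [nsmul_eq_mul] using this
    obtain ⟨w, hw, hwu⟩ := ih _ (fun l hl => by
      rw [smul_add, smul_comm, hz l hl, smul_zero, smul_comm, hDz l hl, smul_zero, add_zero]) hu
    let c : B := algebraMap k B ((n + 1 : ℕ) : k)⁻¹
    have hc : c * ((n + 1 : ℕ) : B) = 1 := by
      rw [show ((n + 1 : ℕ) : B) = algebraMap k B ((n + 1 : ℕ) : k) from (map_natCast _ _).symm, ← map_mul,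
        inv_mul_cancel₀ (Nat.cast_ne_zero.2 (Nat.succ_ne_zero n)), map_one]
    refine ⟨c • (w - D i z), fun l hl => by rw [smul_comm, smul_sub, hw l hl, hDz l hl, sub_zero, smul_zero], ?_⟩
    rw [smul_comm, smul_sub, hwu, add_sub_cancel_right, ← mul_smul, hc, one_smul]

end Groth.Agent.LC15.DivSum
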