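import Groth.Agent.LC15.DualDim
import Groth.Agent.LC16.CanonExists
import Groth.Agent.InjHull18.Dual
import Groth.Agent.EGA4H10.CompleteUC
import Groth.Agent.CAlg1.CohenHom

/-!
Matlis duals of local cohomology over a complete local ring.
-/

namespace Groth.Agent.LC15.DualComplete

universe u

set_option autoImplicit false
set_option linter.overlappingInstances false

open CategoryTheory IsLocalRing LC17 RegDual LC16 LC16.CanonDual

section restrict

variable {R A : Type u} [CommRing R] [CommRing A] [Algebra R A]
  (hg : Function.Surjective (algebraMap R A))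
variable {X : Type u} [AddCommGroup X] [Module A X] [Module R X] [IsScalarTower R A X]

include hg in
theorem ringKrullDim_quotient_comap (J : Ideal A) :
    ringKrullDim (R ⧸ J.comap (algebraMap R A)) = ringKrullDim (A ⧸ J) := by
  refine ringKrullDim_eq_of_ringEquiv ((Ideal.quotEquivOfEq ?_).trans
    (RingHom.quotientKerEquivOfSurjective (f := (Ideal.Quotient.mk J).comp (algebraMap R A))
      (Ideal.Quotient.mk_surjective.comp hg)))
  ext x
  simp only [Ideal.mem_comap, RingHom.mem_ker, RingHom.comp_apply, Ideal.Quotient.eq_zero_iff_mem]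

theorem annihilator_restrict :
    Module.annihilator R X = (Module.annihilator A X).comap (algebraMap R A) := by
  ext r
  simp only [Ideal.mem_comap, Module.mem_annihilator, algebraMap_smul]

include hg in
theorem supportDim_restrict [Module.Finite A X] [Module.Finite R X] :
    Module.supportDim R X = Module.supportDim A X := by
  rw [Module.supportDim_eq_ringKrullDim_quotient_annihilator,
    Module.supportDim_eq_ringKrullDim_quotient_annihilator, annihilator_restrict (A := A)]
  exact ringKrullDim_quotient_comap hg _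

include hg in
theorem mem_associatedPrimes_restrict (p : Ideal A) [IsNoetherianRing R] [IsNoetherianRing A]
    [Module.Finite A X] [Module.Finite R X] :
    p ∈ associatedPrimes A X ↔ p.comap (algebraMap R A) ∈ associatedPrimes R X := by
  constructor
  · intro hp
    obtain ⟨z, hz⟩ := exists_annihilator_mem hp
    have := IsAssociatedPrime.isPrime hp
    rw [AssociatedPrimes.mem_iff, isAssociatedPrime_iff]
    refine ⟨inferInstance, z, ?_⟩
    ext r
    rw [Submodule.mem_colon_singleton, Submodule.mem_bot, Ideal.mem_comap, ← hz, algebraMap_smul]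
  · intro hp
    obtain ⟨z, hz⟩ := exists_annihilator_mem hp
    haveI := IsAssociatedPrime.isPrime hp
    have hpp : p.IsPrime := Ideal.map_comap_of_surjective _ hg p ▸
      Ideal.map_isPrime_of_surjective hg (I := p.comap (algebraMap R A)) (Ideal.comap_mono bot_le)
    rw [AssociatedPrimes.mem_iff, isAssociatedPrime_iff]
    refine ⟨hpp, z, ?_⟩
    ext a
    obtain ⟨r, rfl⟩ := hg a
    rw [Submodule.mem_colon_singleton, Submodule.mem_bot, ← Ideal.mem_comap, ← hz, algebraMap_smul]

end restrict

variable {A : Type u} [CommRing A] [IsLocalRing A] [IsNoetherianRing A]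
  [IsAdicComplete (maximalIdeal A) A]

theorem main (E : Type u) [AddCommGroup E] [Module A E] (f : ResidueField A →ₗ[A] E)
    (hf : InjHull.IsInjectiveHull f) (M : Type u) [AddCommGroup M] [Module A M] [Module.Finite A M]
    [Nontrivial M] (n : ℕ) (hn : Module.supportDim A M = n) :
    (∀ i : ℕ, Module.Finite A (LocCoh.H (maximalIdeal A) i M →ₗ[A] E) ∧
      Module.supportDim A (LocCoh.H (maximalIdeal A) i M →ₗ[A] E) ≤ (i : WithBot ℕ∞)) ∧
    Module.supportDim A (LocCoh.H (maximalIdeal A) n M →ₗ[A] E) = n ∧
    associatedPrimes A (LocCoh.H (maximalIdeal A) n M →ₗ[A] E) =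
      {p | p ∈ associatedPrimes A M ∧ ringKrullDim (A ⧸ p) = n} := by
  obtain ⟨R, _, _, π, hπ⟩ := EGA4H10.exists_regular_surjection A
  haveI : IsRegularRing R := CAlg1.isRegularRing_of_isRegularLocalRing R
  letI := π.toAlgebra
  letI : Module R M := Module.compHom M π
  haveI : IsScalarTower R A M := IsScalarTower.of_algebraMap_smul fun _ _ => rfl
  have hg : Function.Surjective (algebraMap R A) := hπ
  haveI : Module.Finite R A := Module.Finite.of_surjective (Algebra.linearMap R A) hg
  haveI : Module.Finite R M := Module.Finite.trans A M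
  obtain ⟨d, hd⟩ : ∃ d : ℕ, ringKrullDim R = d := by
    have := Gor18.regular_gor R
    have := Gor18.gor_cm R
    exact Gor18.gor_cm.exists_ringKrullDim_eq_nat R
  obtain ⟨E₀, _, _, f₀, hf₀, hdual⟩ := exists_duality hd
  -- the hull over `A` inside the hull over `R`
  obtain ⟨ek⟩ := CanonExists.nonempty_residue_equiv hg
  let b : Ideal R := RingHom.ker (algebraMap R A)
  let T := LocCoh.torsionBy b E₀
  have hkill : ∀ a ∈ b, ∀ t : T, a • t = 0 := fun a ha t =>
    Subtype.ext ((Submodule.mem_torsionBySet_iff _ _).1 t.2 ⟨a, ha⟩)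
  let iS : SMul A T := ⟨fun r t => Function.surjInv hg r • t⟩
  have hsmul : ∀ (a : R) (t : T), algebraMap R A a • t = a • t := fun a t => by
    refine sub_eq_zero.1 ?_
    change Function.surjInv hg (algebraMap R A a) • t - a • t = 0
    rw [← sub_smul, hkill _ (RingHom.mem_ker.2 (by
      rw [map_sub, Function.surjInv_eq hg, sub_self])) t]
  let iM : Module A T := Function.Surjective.moduleLeft (algebraMap R A) hg hsmul
  have hT : IsScalarTower R A T := IsScalarTower.of_algebraMap_smul hsmul
  have hf₀' : InjHull.IsInjectiveHull (f₀ ∘ₗ ek.symm.toLinearMap) :=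
    ⟨⟨hf₀.injective.comp ek.symm.injective, by
      rw [LinearMap.range_comp_of_range_eq_top _ ek.symm.range]
      exact hf₀.essential⟩, hf₀.isInjective⟩
  obtain ⟨g, hgT⟩ := CanonExists.exists_hull_tors hg hf₀' (T := T) T.subtype T.injective_subtype
    fun x hx => ⟨⟨x, (Submodule.mem_torsionBySet_iff _ _).2 fun a => hx a.1 a.2⟩, rfl⟩
  obtain ⟨eE, -⟩ := InjHull18.hull_unique hf hgT
  -- the dual of local cohomology
  have key : ∀ i : ℕ, i ≤ d → ∃ (_ : Module A (EK (R := R) R M (d - i)))
      (_ : IsScalarTower R A (EK (R := R) R M (d - i))),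
      Nonempty ((LocCoh.H (maximalIdeal A) i M →ₗ[A] E) ≃ₗ[A] EK (R := R) R M (d - i)) := by
    intro i hi
    have hkillX : ∀ a ∈ b, ∀ x : EK (R := R) R M (d - i), a • x = 0 := fun a ha x =>
      ext_smul_eq_zero_of_annihilator (fun m => by
        rw [← algebraMap_smul A a m, RingHom.mem_ker.1 ha, zero_smul]) _ x
    let iSX : SMul A (EK (R := R) R M (d - i)) := ⟨fun r t => Function.surjInv hg r • t⟩
    have hsmulX : ∀ (a : R) (t : EK (R := R) R M (d - i)), algebraMap R A a • t = a • t := fun a t => by
      refine sub_eq_zero.1 ?_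
      change Function.surjInv hg (algebraMap R A a) • t - a • t = 0
      rw [← sub_smul, hkillX _ (RingHom.mem_ker.2 (by
        rw [map_sub, Function.surjInv_eq hg, sub_self])) t]
    let iMX : Module A (EK (R := R) R M (d - i)) :=
      Function.Surjective.moduleLeft (algebraMap R A) hg hsmulX
    have hTX : IsScalarTower R A (EK (R := R) R M (d - i)) := IsScalarTower.of_algebraMap_smul hsmulX
    refine ⟨iMX, hTX, ?_⟩
    haveI := finite_EK (R := R) (d - i) M
    haveI : Module.Finite A (EK (R := R) R M (d - i)) := Module.Finite.of_restrictScalars_finite R A _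
    obtain ⟨dd⟩ := hdual (d - i) i (Nat.sub_add_cancel hi) M
    let u : (EK (R := R) R M (d - i) →ₗ[A] T) ≃+ (EK (R := R) R M (d - i) →ₗ[R] E₀) :=
      { toFun := fun φ => T.subtype ∘ₗ φ.restrictScalars R
        invFun := fun ψ => LinearMap.extendScalarsOfSurjective hg (LinearMap.codRestrict T ψ fun k =>
          (Submodule.mem_torsionBySet_iff _ _).2 fun a => by
            rw [← map_smul, hkillX _ a.2, map_zero])
        left_inv := fun φ => LinearMap.ext fun k => rfl
        right_inv := fun ψ => LinearMap.ext fun k => rfl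
        map_add' := fun _ _ => rfl }
    have hu : ∀ (a : R) (φ : EK (R := R) R M (d - i) →ₗ[A] T),
        u (algebraMap R A a • φ) = a • u φ := fun a φ =>
      LinearMap.ext fun k => congrArg Subtype.val (hsmul a (φ k))
    have hI : (maximalIdeal R).map (algebraMap R A) = maximalIdeal A :=
      IsLocalRing.map_maximalIdeal_of_surjective (algebraMap R A) hg
    obtain ⟨φ, hφ⟩ : ∃ φ : LocCoh.H (maximalIdeal A) i M ≃+ LocCoh.H (maximalIdeal R) i M,
        ∀ (a : R) x, φ (algebraMap R A a • x) = a • φ x := by
      rw [← hI]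
      exact LC16.ChangeRings.exists_equiv (maximalIdeal R) i M
    let F : (EK (R := R) R M (d - i) →ₗ[A] E) ≃+ LocCoh.H (maximalIdeal A) i M :=
      (((eE.congrRight : (EK (R := R) R M (d - i) →ₗ[A] E) ≃ₗ[A]
        (EK (R := R) R M (d - i) →ₗ[A] T)).toAddEquiv.trans u).trans dd.symm.toAddEquiv).trans φ.symm
    let F' : (EK (R := R) R M (d - i) →ₗ[A] E) ≃ₗ[A] LocCoh.H (maximalIdeal A) i M :=
      F.toLinearEquiv fun r x => by
        obtain ⟨a, rfl⟩ := hg r
        apply φ.injective
        rw [hφ]
        change φ (φ.symm (dd.symm (u (eE.congrRight (algebraMap R A a • x))))) =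
          a • φ (φ.symm (dd.symm (u (eE.congrRight x))))
        simp only [AddEquiv.apply_symm_apply, map_smul, hu]
    refine ⟨LinearEquiv.congrLeft E A F'.symm ≪≫ₗ (LinearEquiv.ofBijective
      (LinearMap.applyₗ : EK (R := R) R M (d - i) →ₗ[A]
        (EK (R := R) R M (d - i) →ₗ[A] E) →ₗ[A] E) ⟨?_, ?_⟩).symm⟩
    · refine (injective_iff_map_eq_zero _).2 fun x hx => ?_
      by_contra hx0
      obtain ⟨ψ, hψ⟩ := InjHull18.exists_map_ne_zero_local hf hx0
      exact hψ (LinearMap.congr_fun hx ψ)
    · exact InjHull18.applyₗ_surjective_of_finite (m := maximalIdeal A) (f := f) hf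
  have hnR : Module.supportDim R M = n := (supportDim_restrict hg).trans hn
  have hnd : n ≤ d := by
    have h := (hnR ▸ Module.supportDim_le_ringKrullDim R M : (n : WithBot ℕ∞) ≤ ringKrullDim R)
    rw [hd] at h
    exact_mod_cast h
  refine ⟨fun i => ?_, ?_⟩
  · by_cases hi : i ≤ d
    · obtain ⟨_, _, ⟨e⟩⟩ := key i hi
      haveI := finite_EK (R := R) (d - i) M
      haveI : Module.Finite A (EK (R := R) R M (d - i)) := Module.Finite.of_restrictScalars_finite R A _
      refine ⟨Module.Finite.equiv e.symm, ?_⟩
      rw [Module.supportDim_eq_of_equiv e, ← supportDim_restrict hg]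
      exact DualDim.supportDim_le M hd i
    · haveI : Subsingleton (LocCoh.H (maximalIdeal A) i M) :=
        cdLE_of_ringKrullDim_le _ (d := d)
          ((ringKrullDim_le_of_surjective _ hg).trans hd.le) M i (not_le.mp hi)
      refine ⟨inferInstance, ?_⟩
      rw [Module.supportDim_eq_bot_of_subsingleton]
      exact bot_le
  · obtain ⟨_, _, ⟨e⟩⟩ := key n hnd
    haveI := finite_EK (R := R) (d - n) M
    haveI : Module.Finite A (EK (R := R) R M (d - n)) := Module.Finite.of_restrictScalars_finite R A _
    obtain ⟨h1, h2⟩ := DualDim.top_ext M n hnR hd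
    refine ⟨?_, ?_⟩
    · rw [Module.supportDim_eq_of_equiv e, ← supportDim_restrict hg, h1]
    · ext p
      rw [LinearEquiv.AssociatedPrimes.eq e, mem_associatedPrimes_restrict hg, h2,
        ← mem_associatedPrimes_restrict hg, ringKrullDim_quotient_comap hg]
      rfl

end Groth.Agent.LC15.DualComplete
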