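import Groth.Agent.LC15.DualFaltings
import Groth.Agent.FDesc60.Alg

/-!
The dimension function of a dualizing complex computes lengths of chains; behaviour of the
annihilators of `Hom(M[0], ω[j])` and of depths under flat base change of dualizing complexes.
-/

set_option autoImplicit false
set_option linter.style.haveILetI false
set_option linter.unusedSectionVars false

universe u

open CategoryTheory CategoryTheory.Limits TensorProduct
open Groth.Agent Groth.Agent.LC15.DualKill Groth.Agent.LC15.DualFaltings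

attribute [local instance] HasDerivedCategory.standard

namespace Groth.Agent.LC15.DualDegree

variable {A : Type u} [CommRing A] {ω : Dual.D A} (hω : Dual.IsDualizing A ω)

include hω

theorem deg_unique {q : Ideal A} [q.IsPrime] {k k' : ℤ} (hk : Deg ω q k) (hk' : Deg ω q k') :
    k' = k := eq_of_mu hω hk hk'.1

theorem htq_eq {p q : PrimeSpectrum A} (h : p ≤ q) {kp kq : ℤ} (hp : Deg ω p.asIdeal kp)
    (hq : Deg ω q.asIdeal kq) : ∃ n : ℕ, LC17.htq p.asIdeal q.asIdeal = n ∧ kp + n = kq := by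
  haveI := hω.isNoetherianRing
  have key : ∀ (n : ℕ) (p q : PrimeSpectrum A), p ≤ q → ∀ kp kq : ℤ, Deg ω p.asIdeal kp →
      Deg ω q.asIdeal kq → kp + n = kq → (n : ℕ∞) ≤ LC17.htq p.asIdeal q.asIdeal := by
    intro n
    induction n with
    | zero => intro p q _ _ _ _ _ _; exact bot_le
    | succ n ih =>
      intro p q hpq kp kq hp hq hn
      have hlt : p < q := lt_of_le_of_ne hpq fun e => by
        subst e
        have := deg_unique hω hp hq
        omega
      obtain ⟨t, ⟨ht, hpt, htq⟩, hmax⟩ := set_has_maximal_iff_noetherian.mpr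
        (inferInstanceAs (IsNoetherian A A))
        {t : Ideal A | t.IsPrime ∧ p.asIdeal ≤ t ∧ t < q.asIdeal} ⟨p.asIdeal, p.2, le_rfl, hlt⟩
      let r : PrimeSpectrum A := ⟨t, ht⟩
      have hcov : r ⋖ q := ⟨htq, fun c h1 h2 => hmax c.asIdeal
        ⟨c.2, hpt.trans (le_of_lt (show t < c.asIdeal from h1)), h2⟩
        (show t < c.asIdeal from h1)⟩
      obtain ⟨kr, hr⟩ := exists_deg hω t
      have hj : kr + 1 = kq := eq_of_mu hω hq (DR39.Mu.exists_succ hω hr.1 hcov)
      have h1 := ih p r hpt kp kr hp hr (by omega)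
      have h2 := LC17.htq_add_one_le (a := t) (b := q.asIdeal) hpt htq
      push_cast
      exact le_trans (add_le_add h1 le_rfl) h2
  obtain ⟨n, hn, hn'⟩ := deg_chain hω h hp hq
  refine ⟨n, hn, ?_⟩
  have h1 := key (kq - kp).toNat p q h kp kq hp hq (by omega)
  rw [hn, Nat.cast_le] at h1
  omega

variable (M : Type u) [AddCommGroup M] [Module A M] [Module.Finite A M]

theorem gAnn_le_of_depth {p : PrimeSpectrum A} {kp : ℤ} (hp : Deg ω p.asIdeal kp) {n : ℕ}
    (hn : LocCoh.depth (Localization.AtPrime p.asIdeal)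
      (LocalizedModule p.asIdeal.primeCompl M) = n) :
    LC17.gAnn ω (ModuleCat.of A M) (kp - n) ≤ p.asIdeal := by
  haveI := hω.isNoetherianRing
  haveI : IsNoetherianRing (Localization.AtPrime p.asIdeal) :=
    IsLocalization.isNoetherianRing p.asIdeal.primeCompl _ inferInstance
  have hd := EGA4Alg4.depth_eq_of_equiv
    (LocalizedModule.equivTensorProduct p.asIdeal.primeCompl M)
  rw [gAnn_le_iff hω p.asIdeal M kp, show kp - (n : ℤ) - kp = -(n : ℤ) by omega]
  rcases subsingleton_or_nontrivial (Localization.AtPrime p.asIdeal ⊗[A] M) with hM | hM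
  · rw [hn, EGA4Alg4.depth_of_subsingleton] at hd
    exact absurd hd (ENat.natCast_ne_top n)
  exact (DR39.depth_spec (isDualizing_wq hω p.asIdeal kp) hp.2 n _ (hd.symm.trans hn)).2

section BaseChange

variable (B : Type u) [CommRing B] [Algebra A B] [Module.Flat A B]

theorem gAnn_baseChange (j : ℤ) :
    LC17.gAnn ((DR39.DF (DR39.extA A B)).obj ω) (ModuleCat.of B (B ⊗[A] M)) j =
      (LC17.gAnn ω (ModuleCat.of A M) j).map (algebraMap A B) := by
  haveI := hω.isNoetherianRing
  obtain ⟨a, b, hb, -⟩ := DR39.exists_bounds hω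
  have hg : DR39.Good B (Dual.inD A M) (ω⟦j⟧) :=
    DR39.good_shift B (DR39.pc_inD M) (c := a) (fun i hi => hb i (Or.inl hi)) j
  obtain ⟨e⟩ := DR39.rep_inD_baseChange (B := B) (A := A) M
  let θ : B ⊗[A] (LC17.GM ω (ModuleCat.of A M) j) ≃ₗ[B]
      LC17.GM ((DR39.DF (DR39.extA A B)).obj ω) (ModuleCat.of B (B ⊗[A] M)) j :=
    (LinearEquiv.ofBijective (DR39.thetaBar B (Dual.inD A M) (ω⟦j⟧)) hg).trans
      (CategoryTheory.Linear.homCongr B e (((DR39.DF (DR39.extA A B)).commShiftIso j).app ω))
  haveI : Module.Finite A (LC17.GM ω (ModuleCat.of A M) j) := LC17.finite_GM hω j M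
  haveI : Module.FinitePresentation A (LC17.GM ω (ModuleCat.of A M) j) :=
    Module.finitePresentation_of_finite A _
  show Module.annihilator B _ = _
  rw [← θ.annihilator_eq]
  exact FDesc60.S4674 _

variable {B}

theorem depth_baseChange {hωB : Dual.IsDualizing B ((DR39.DF (DR39.extA A B)).obj ω)}
    (P : PrimeSpectrum B) {k k' : ℤ} (hk : Deg ω (P.asIdeal.comap (algebraMap A B)) k)
    (hk' : Deg ((DR39.DF (DR39.extA A B)).obj ω) P.asIdeal k') :
    k ≤ k' ∧
    LocCoh.depth (Localization.AtPrime P.asIdeal)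
        (LocalizedModule P.asIdeal.primeCompl (B ⊗[A] M)) =
      LocCoh.depth (Localization.AtPrime (P.asIdeal.comap (algebraMap A B)))
        (LocalizedModule (P.asIdeal.comap (algebraMap A B)).primeCompl M) + ((k' - k).toNat : ℕ∞) := by
  haveI := hω.isNoetherianRing
  haveI := hωB.isNoetherianRing
  let p : PrimeSpectrum A := ⟨P.asIdeal.comap (algebraMap A B), inferInstance⟩
  have hiff : ∀ (N : Type u) [AddCommGroup N] [Module A N] [Module.Finite A N] (j : ℤ),
      LC17.gAnn ((DR39.DF (DR39.extA A B)).obj ω) (ModuleCat.of B (B ⊗[A] N)) j ≤ P.asIdeal ↔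
        LC17.gAnn ω (ModuleCat.of A N) j ≤ p.asIdeal := fun N _ _ _ j => by
    rw [gAnn_baseChange hω N B j, Ideal.map_le_iff_le_comap]
  have hkk : k ≤ k' := (depth_le_of_gAnn_le hωB (B ⊗[A] (A ⧸ p.asIdeal)) hk'
    ((hiff (A ⧸ p.asIdeal) k).2 hk.1)).1
  refine ⟨hkk, ?_⟩
  cases h : LocCoh.depth (Localization.AtPrime (P.asIdeal.comap (algebraMap A B)))
      (LocalizedModule (P.asIdeal.comap (algebraMap A B)).primeCompl M) with
  | top =>
    rw [top_add]
    cases h' : LocCoh.depth (Localization.AtPrime P.asIdeal)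
        (LocalizedModule P.asIdeal.primeCompl (B ⊗[A] M)) with
    | top => rfl
    | coe n' =>
      have h1 := (depth_le_of_gAnn_le hω M (p := p) hk
        ((hiff M _).1 (gAnn_le_of_depth hωB (B ⊗[A] M) hk' h'))).2
      have h2 : LocCoh.depth (Localization.AtPrime p.asIdeal)
          (LocalizedModule p.asIdeal.primeCompl M) = ⊤ := h
      rw [h2, top_le_iff] at h1
      exact absurd h1 (ENat.natCast_ne_top _)
  | coe n =>
    obtain ⟨-, h1⟩ := depth_le_of_gAnn_le hωB (B ⊗[A] M) hk'
      ((hiff M _).2 (gAnn_le_of_depth hω M (p := p) hk h))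
    obtain ⟨n', hn'⟩ := ENat.ne_top_iff_exists.1 (ne_top_of_le_ne_top (ENat.natCast_ne_top _) h1)
    obtain ⟨-, h2⟩ := depth_le_of_gAnn_le hω M (p := p) hk
      ((hiff M _).1 (gAnn_le_of_depth hωB (B ⊗[A] M) hk' hn'.symm))
    have h2' : LocCoh.depth (Localization.AtPrime p.asIdeal)
          (LocalizedModule p.asIdeal.primeCompl M) = n := h
    rw [h2', Nat.cast_le] at h2
    rw [← hn', Nat.cast_le] at h1
    rw [← hn', ← Nat.cast_add, Nat.cast_inj]
    have hle : k' - k + n ≥ 0 := by omega
    by_cases hneg : k - (k' - n') < 0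
    · have := (depth_le_of_gAnn_le hω M (p := p) hk
        ((hiff M _).1 (gAnn_le_of_depth hωB (B ⊗[A] M) hk' hn'.symm))).1
      omega
    omega

end BaseChange

end Groth.Agent.LC15.DualDegree
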