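import Groth.Agent.LC15.RegDual
import Groth.Agent.LC15.CritDepth
import Groth.Agent.LC15.DepthSeq
import Groth.Agent.S14424

/-!
The Ext modules dual to local cohomology over a regular local ring: dimensions and associated primes.
-/

namespace Groth.Agent.LC15.DualDim

universe u

set_option autoImplicit false
set_option linter.overlappingInstances false

open CategoryTheory IsLocalRing LC17 RegDual LC16.CanonDual RingTheory.Sequence
open scoped Pointwise

section extq

variable {R : Type u} [CommRing R]

/-- Ext in the length of a regular sequence killing the module is a Hom -/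
theorem nonempty_ext_quotient (M : Type u) [AddCommGroup M] [Module R M] :
    ∀ (rs : List R) (N : Type u) [AddCommGroup N] [Module R N],
      IsWeaklyRegular N rs → (∀ r ∈ rs, ∀ m : M, r • m = 0) →
      Nonempty (EK (R := R) N M rs.length ≃ₗ[R]
        (M →ₗ[R] N ⧸ (Ideal.ofList rs • ⊤ : Submodule R N))) := by
  intro rs
  induction rs with
  | nil =>
    intro N _ _ _ _
    exact ⟨(hom0 N M).symm ≪≫ₗ (Submodule.quotEquivOfEqBot _
      (by rw [Ideal.ofList_nil, Submodule.bot_smul])).symm.congrRight⟩
  | cons a rs ih =>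
    intro N _ _ hreg hkill
    have hvan : Subsingleton (EK (R := R) N M rs.length) :=
      subsingleton_ext_of_weaklyRegular (I := Module.annihilator R M) (k := 1)
        (le_bot_iff.mp (Submodule.smul_le.mpr fun r hr m _ =>
          (Submodule.mem_bot R).mpr (Module.mem_annihilator.mp (by simpa using hr) m)))
        (a :: rs) N hreg (fun r hr => Module.mem_annihilator.mpr (hkill r hr)) rs.length (by simp)
    rw [isWeaklyRegular_cons_iff] at hreg
    obtain ⟨e⟩ := ih (QuotSMulTop a N) hreg.2 (fun r hr => hkill r (List.mem_cons_of_mem _ hr))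
    have hses := LC17.regular_ses hreg.1
    have hS := seqSC_shortExact hses.1 hses.2 (Submodule.mkQ_surjective _)
    let δ : EK (R := R) (QuotSMulTop a N) M rs.length →ₗ[R] EK (R := R) N M (rs.length + 1) :=
      { toFun := fun y => y.comp hS.extClass rfl
        map_add' := fun y z => Abelian.Ext.add_comp y z _ _
        map_smul' := fun r y => Abelian.Ext.smul_comp y _ _ r }
    have hinj : Function.Injective δ := by
      refine (injective_iff_map_eq_zero δ).2 fun y hy => ?_
      obtain ⟨z, hz⟩ := Abelian.Ext.covariant_sequence_exact₃ (ModuleCat.of R M) hS y rfl hy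
      rw [← hz]
      exact (congrArg (fun w => Abelian.Ext.comp w (Abelian.Ext.mk₀ _) (add_zero _))
        (hvan.elim z 0)).trans (Abelian.Ext.zero_comp _ _ _ _ _)
    have hsurj : Function.Surjective δ := fun z => by
      refine Abelian.Ext.covariant_sequence_exact₁ (ModuleCat.of R M) hS z ?_ rfl
      change z.comp (Abelian.Ext.mk₀ (ModuleCat.ofHom (LinearMap.lsmul R N a))) (add_zero _) = 0
      rw [show ModuleCat.ofHom (LinearMap.lsmul R N a) = a • 𝟙 (ModuleCat.of R N) from rfl,
        Abelian.Ext.mk₀_smul, Abelian.Ext.comp_smul, Abelian.Ext.comp_mk₀_id]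
      exact ext_smul_eq_zero_of_annihilator (hkill a (List.mem_cons_self ..)) _ z
    exact ⟨(LinearEquiv.ofBijective δ ⟨hinj, hsurj⟩).symm ≪≫ₗ e ≪≫ₗ
      (Submodule.quotOfListConsSMulTopEquivQuotSMulTopInner N a rs).symm.congrRight⟩

end extq

variable {R : Type u} [CommRing R] [IsRegularLocalRing R] [IsRegularRing R] {d : ℕ}
variable (M : Type u) [AddCommGroup M] [Module R M] [Module.Finite R M]

theorem height_add_dim (hd : ringKrullDim R = d) (P : PrimeSpectrum R) :
    ∃ h a : ℕ, P.asIdeal.height = h ∧ ringKrullDim (R ⧸ P.asIdeal) = a ∧ h + a = d := by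
  haveI := LC17.isCohenMacaulayRing_of_isRegularRing (R := R)
  haveI : IsLocalRing (R ⧸ P.asIdeal) := IsLocalRing.of_surjective' _ Ideal.Quotient.mk_surjective
  let Mx : PrimeSpectrum R := ⟨maximalIdeal R, inferInstance⟩
  have hle : P ≤ Mx := le_maximalIdeal P.isPrime.ne_top
  have h1 := CritDepth.height_eq_add_htq hle
  have h2 : htq P.asIdeal (maximalIdeal R) = (maximalIdeal (R ⧸ P.asIdeal)).height := by
    rw [htq]
    congr 1
    exact (IsLocalRing.map_maximalIdeal_of_surjective _ Ideal.Quotient.mk_surjective)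
  obtain ⟨h, hh⟩ := ENat.ne_top_iff_exists.mp (P.asIdeal.height_ne_top P.isPrime.ne_top)
  obtain ⟨a, ha⟩ := ENat.ne_top_iff_exists.mp
    ((maximalIdeal (R ⧸ P.asIdeal)).height_ne_top Ideal.IsPrime.ne_top')
  refine ⟨h, a, hh.symm, by rw [← maximalIdeal_height_eq_ringKrullDim, ← ha]; rfl, ?_⟩
  rw [← maximalIdeal_height_eq_ringKrullDim, show (maximalIdeal R).height = Mx.asIdeal.height from rfl,
    h1, ← hh, h2, ← ha] at hd
  have h3 : (h : ℕ∞) + a = d := WithBot.coe_inj.mp hd
  exact_mod_cast h3

theorem dim_le_of_mem_support (hd : ringKrullDim R = d) {i : ℕ} {P : PrimeSpectrum R}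
    (hP : P ∈ Module.support R (EK (R := R) R M (d - i))) :
    ringKrullDim (R ⧸ P.asIdeal) ≤ (i : WithBot ℕ∞) := by
  obtain ⟨h, a, hh, ha, hha⟩ := height_add_dim hd P
  rw [ha]
  by_contra hlt
  have hai : i < a := by
    by_contra hle
    exact hlt (by exact_mod_cast not_lt.mp hle)
  exact absurd (LocalizedModule.subsingleton_iff.2
    (nul_EK_of_height_lt P.asIdeal M (i := d - i) (by rw [hh]; exact_mod_cast (by omega : h < d - i))))
    (not_subsingleton_iff_nontrivial.2 (Module.mem_support_iff.mp hP))

theorem supportDim_le (hd : ringKrullDim R = d) (i : ℕ) :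
    Module.supportDim R (EK (R := R) R M (d - i)) ≤ (i : WithBot ℕ∞) := by
  by_contra hlt
  obtain ⟨P, hP, hle⟩ := LC16.CanonDim.exists_prime_of_le_supportDim (n := i + 1)
    (M := EK (R := R) R M (d - i)) (by
      cases hs : Module.supportDim R (EK (R := R) R M (d - i)) with
      | bot => exact absurd (hs ▸ bot_le) hlt
      | coe x =>
        rw [hs] at hlt
        have hx : (i : ℕ∞) < x := lt_of_not_ge fun hle => hlt (WithBot.coe_le_coe.mpr hle)
        exact WithBot.coe_le_coe.mpr (show ((i + 1 : ℕ) : ℕ∞) ≤ x by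
          rw [Nat.cast_add, Nat.cast_one]; exact Order.add_one_le_of_lt hx))
  have h := hle.trans (dim_le_of_mem_support M hd hP)
  exact absurd (show ((i + 1 : ℕ) : WithBot ℕ∞) ≤ (i : ℕ) from h) (by
    rw [Nat.cast_le]; omega)

variable (n : ℕ) (hn : Module.supportDim R M = n)

include hn in
theorem dim_le_n {P : PrimeSpectrum R} (hP : P ∈ Module.support R M) :
    ringKrullDim (R ⧸ P.asIdeal) ≤ (n : WithBot ℕ∞) := by
  rw [← hn, Module.supportDim, LC16.CanonDim.coheight_eq, Order.coheight_eq_krullDim_Ici]
  exact Order.krullDim_le_of_strictMono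
    (fun q : Set.Ici P => (⟨q.1, Module.mem_support_mono q.2 hP⟩ : Module.support R M))
    fun a b hab => hab

include hn in
theorem mem_minimalPrimes_of_dim {P : PrimeSpectrum R} (hP : P ∈ Module.support R M)
    (hdim : ringKrullDim (R ⧸ P.asIdeal) = n) :
    P.asIdeal ∈ (Module.annihilator R M).minimalPrimes := by
  obtain ⟨Q, hQ, hle⟩ := Ideal.exists_minimalPrimes_le (Module.mem_support_iff_of_finite.mp hP)
  haveI := hQ.1.1
  rcases eq_or_lt_of_le hle with rfl | hlt
  · exact hQ
  · have h1 := EGA4Alg4.ringKrullDim_quotient_lt hlt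
    rw [hdim] at h1
    exact absurd (h1.trans_le (dim_le_n M n hn (P := ⟨Q, hQ.1.1⟩)
      (Module.mem_support_iff_of_finite.mpr hQ.1.2))) (lt_irrefl _)

include hn in
theorem top_ext (hd : ringKrullDim R = d) :
    Module.supportDim R (EK (R := R) R M (d - n)) = n ∧
      ∀ P : Ideal R, P ∈ associatedPrimes R (EK (R := R) R M (d - n)) ↔
        P ∈ associatedPrimes R M ∧ ringKrullDim (R ⧸ P) = n := by
  haveI := finite_EK (R := R) (d - n) M
  have hmem : ∀ P : PrimeSpectrum R, P ∈ Module.support R M → ringKrullDim (R ⧸ P.asIdeal) = n →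
      P.asIdeal ∈ associatedPrimes R M ∧ P ∈ Module.support R (EK (R := R) R M (d - n)) := by
    intro P hP hdim
    have hass := Module.associatedPrimes.minimalPrimes_annihilator_subset_associatedPrimes R M
      (mem_minimalPrimes_of_dim M n hn hP hdim)
    refine ⟨hass, ?_⟩
    by_contra hnot
    obtain ⟨h, a, hh, ha, hha⟩ := height_add_dim hd P
    have han : a = n := by
      rw [ha] at hdim
      exact_mod_cast hdim
    haveI := Module.notMem_support_iff.mp hnot
    have hst : Stk P.asIdeal 0 M := (stk_iff_ext (i := d - n) P.asIdeal M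
      (by rw [hh]; congr 1; omega)).2 (LocalizedModule.subsingleton_iff.1 inferInstance)
    obtain ⟨m, hm⟩ := exists_annihilator_mem hass
    obtain ⟨u, hu, hum⟩ := hst ((H0equiv P.asIdeal M).symm
      ⟨m, 1, fun r hr => (hm r).mpr (by simpa using hr)⟩)
    rw [← map_smul, LinearEquiv.map_eq_zero_iff] at hum
    exact hu ((hm u).mp (congrArg Subtype.val hum))
  obtain ⟨P₀, hP₀, hP₀n⟩ := LC16.CanonDim.exists_prime_of_le_supportDim (R := R) (M := M) (n := n) hn.ge
  have hnd : n ≤ d := by
    obtain ⟨h, a, -, ha, hha⟩ := height_add_dim hd P₀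
    rw [ha] at hP₀n
    have : n ≤ a := by exact_mod_cast hP₀n
    omega
  have hne : Module.annihilator R M ≤ maximalIdeal R :=
    (Module.mem_support_iff_of_finite.mp hP₀).trans (le_maximalIdeal P₀.isPrime.ne_top)
  refine ⟨le_antisymm (supportDim_le M hd n) ?_, fun P => ⟨fun hP => ?_, fun hP => ?_⟩⟩
  · have hdim : ringKrullDim (R ⧸ P₀.asIdeal) = n := le_antisymm (dim_le_n M n hn hP₀) hP₀n
    have h1 := (hmem P₀ hP₀ hdim).2
    rw [← hdim, Module.supportDim, LC16.CanonDim.coheight_eq, Order.coheight_eq_krullDim_Ici]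
    exact Order.krullDim_le_of_strictMono
      (fun q : Set.Ici P₀ => (⟨q.1, Module.mem_support_mono q.2 h1⟩ :
        Module.support R (EK (R := R) R M (d - n))))
      fun a b hab => hab
  · have hPp := IsAssociatedPrime.isPrime hP
    have hann : Module.annihilator R M ≤ P := fun r hr => by
      obtain ⟨z, hz⟩ := exists_annihilator_mem hP
      exact (hz r).mp (ext_smul_eq_zero_of_annihilator (Module.mem_annihilator.mp hr) _ z)
    let P' : PrimeSpectrum R := ⟨P, hPp⟩
    have hsM : P' ∈ Module.support R M := Module.mem_support_iff_of_finite.mpr hann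
    suffices hdim : ringKrullDim (R ⧸ P) = n from ⟨(hmem P' hsM hdim).1, hdim⟩
    obtain ⟨h, a, hh, ha, hha⟩ := height_add_dim hd P'
    have han : a ≤ n := by
      have h2 := dim_le_n M n hn hsM
      rw [ha] at h2
      exact_mod_cast h2
    rcases eq_or_lt_of_le han with rfl | hlt
    · exact ha
    exfalso
    -- a regular sequence of length `d - n` in the annihilator
    haveI := LC17.isCohenMacaulayRing_of_isRegularRing (R := R)
    have hgrade : ((d - n : ℕ) : ℕ∞) ≤ LocCoh.idealDepth (Module.annihilator R M) R := by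
      rw [(S14424.result R).mp inferInstance _ fun e => (maximalIdeal.isMaximal R).ne_top
        (top_le_iff.mp (e ▸ hne))]
      rw [Ideal.height_eq_inf_minimalPrimes]
      refine le_iInf₂ fun Q hQ' => ?_
      have hQ := hQ'.1.1
      have hle := hQ'.1.2
      obtain ⟨hQh, aQ, hhQ, haQ, hsum⟩ := height_add_dim hd ⟨Q, hQ⟩
      have h2 := dim_le_n M n hn (P := ⟨Q, hQ⟩) (Module.mem_support_iff_of_finite.mpr hle)
      rw [haQ] at h2
      have h3 : aQ ≤ n := by exact_mod_cast h2
      rw [show Q.height = (hQh : ℕ∞) from hhQ]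
      exact_mod_cast (show d - n ≤ hQh by omega)
    have htop : Module.annihilator R M • (⊤ : Submodule R R) ≠ ⊤ := by
      rw [smul_eq_mul, Ideal.mul_top]
      exact fun e => (maximalIdeal.isMaximal R).ne_top (top_le_iff.mp (e ▸ hne))
    obtain ⟨rs, hlen, hreg, hrs⟩ := exists_seq_of_subsingleton_H (Module.annihilator R M) (d - n) R
      ((natCast_le_idealDepth_iff _ R _).mp hgrade) htop
    obtain ⟨e⟩ := nonempty_ext_quotient M rs R hreg fun r hr => Module.mem_annihilator.mp (hrs r hr)
    obtain ⟨e'⟩ := nonempty_ext_quotient (R ⧸ P) rs R hreg fun r hr x => by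
      obtain ⟨s, rfl⟩ := Submodule.Quotient.mk_surjective _ x
      rw [← Submodule.Quotient.mk_smul, Submodule.Quotient.mk_eq_zero, smul_eq_mul]
      exact P.mul_mem_right _ (hann (hrs r hr))
    have hP' : (h : ℕ∞) ≤ LocCoh.idealDepth P R := by
      rw [(S14424.result R).mp inferInstance P hPp.ne_top, show P.height = (h : ℕ∞) from hh]
    obtain ⟨ps, hplen, hpreg, hpmem⟩ := exists_seq_of_subsingleton_H P h R
      ((natCast_le_idealDepth_iff _ R _).mp hP') (by
        rw [smul_eq_mul, Ideal.mul_top]; exact hPp.ne_top)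
    have hzero : Subsingleton (EK (R := R) R (R ⧸ P) rs.length) :=
      subsingleton_ext_of_weaklyRegular (I := P) (k := 1)
        (le_bot_iff.mp (Submodule.smul_le.mpr fun r hr x _ => (Submodule.mem_bot R).mpr (by
          obtain ⟨s, rfl⟩ := Submodule.Quotient.mk_surjective _ x
          rw [← Submodule.Quotient.mk_smul, Submodule.Quotient.mk_eq_zero, smul_eq_mul]
          exact P.mul_mem_right _ (by simpa using hr))))
        ps R hpreg hpmem rs.length (by omega)
    have hsub : Subsingleton ((R ⧸ P) →ₗ[R] R ⧸ (Ideal.ofList rs • ⊤ : Submodule R R)) :=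
      e'.toEquiv.symm.subsingleton
    rw [← hlen] at hP
    obtain ⟨z, hz⟩ := exists_annihilator_mem hP
    have hz0 : e z ≠ 0 := fun h0 => hPp.ne_top ((Ideal.eq_top_iff_one _).mpr ((hz 1).mp (by
      rw [one_smul]; exact e.injective (h0.trans (map_zero e).symm))))
    obtain ⟨m, hm⟩ : ∃ m, e z m ≠ 0 := by
      by_contra! hall
      exact hz0 (LinearMap.ext hall)
    have hPk : (P : Submodule R R) ≤
        LinearMap.ker (LinearMap.toSpanSingleton R _ (e z m)) := fun r hr => by
      rw [LinearMap.mem_ker, LinearMap.toSpanSingleton_apply, ← LinearMap.smul_apply, ← map_smul,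
        (hz r).mpr hr, map_zero, LinearMap.zero_apply]
    refine hm ?_
    have := LinearMap.congr_fun (hsub.elim (Submodule.liftQ (P : Submodule R R) _ hPk) 0)
      (Submodule.Quotient.mk 1)
    rwa [Submodule.liftQ_apply, LinearMap.toSpanSingleton_apply, one_smul, LinearMap.zero_apply] at this
  · obtain ⟨hPass, hdim⟩ := hP
    have hPp := IsAssociatedPrime.isPrime hPass
    let P' : PrimeSpectrum R := ⟨P, hPp⟩
    have hann : Module.annihilator R M ≤ P := fun r hr => by
      obtain ⟨m, hm⟩ := exists_annihilator_mem hPass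
      exact (hm r).mp (Module.mem_annihilator.mp hr m)
    have hX := (hmem P' (Module.mem_support_iff_of_finite.mpr hann) hdim).2
    obtain ⟨Q, hQ, hle⟩ := Ideal.exists_minimalPrimes_le (Module.mem_support_iff_of_finite.mp hX)
    haveI := hQ.1.1
    rcases eq_or_lt_of_le hle with rfl | hlt
    · exact Module.associatedPrimes.minimalPrimes_annihilator_subset_associatedPrimes R _ hQ
    · have h1 := EGA4Alg4.ringKrullDim_quotient_lt (show Q < P'.asIdeal from hlt)
      rw [show ringKrullDim (R ⧸ P'.asIdeal) = n from hdim] at h1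
      exact absurd (h1.trans_le (dim_le_of_mem_support M hd (P := ⟨Q, hQ.1.1⟩)
        (Module.mem_support_iff_of_finite.mpr hQ.1.2))) (lt_irrefl _)

end Groth.Agent.LC15.DualDim
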