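import Groth.Agent.LC15.HTFinite
import Groth.Agent.S11653

/-!
If an element annihilates `H^i_T(M)` for `i ≤ n`, a power of it annihilates `H^i_Q(M)` for `i ≤ n`
and every ideal `Q` with zero locus in `T`; the depth inequality that follows.
-/

set_option autoImplicit false

universe u

namespace Groth.Agent.LC15.HT

open CategoryTheory
open scoped Pointwise

variable {R : Type u} [CommRing R] {T : Set (PrimeSpectrum R)}

/-- Every element is killed by an ideal with zero locus in `T`. -/
def TorT (T : Set (PrimeSpectrum R)) (M : Type u) [AddCommGroup M] [Module R M] : Prop :=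
  ∀ m : M, ∃ J : Dual2.IdealsIn T, ∀ a ∈ idl J, a • m = 0

/-- The `T`-torsion submodule. -/
noncomputable def gamT (T : Set (PrimeSpectrum R)) (M : Type u) [AddCommGroup M] [Module R M] :
    Submodule R M :=
  LinearMap.range (t0 T M)

section basic

variable {M N : Type u} [AddCommGroup M] [Module R M] [AddCommGroup N] [Module R N]

theorem mem_gamT {m : M} :
    m ∈ gamT T M ↔ ∃ J : Dual2.IdealsIn T, ∀ a ∈ idl J, a • m = 0 := by
  refine ⟨?_, fun ⟨J, hJ⟩ => mem_range_t0 T M J hJ⟩
  rintro ⟨y, rfl⟩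
  obtain ⟨J, hJ⟩ := exists_kills (T := T) (M := M) 0 y
  exact ⟨J, fun a ha => by rw [← map_smul, hJ a ha, map_zero]⟩

theorem torT_gamT : TorT T (gamT T M) := fun m => by
  obtain ⟨J, hJ⟩ := mem_gamT.1 m.2
  exact ⟨J, fun a ha => Subtype.ext (hJ a ha)⟩

theorem t0_Tmap (f : M →ₗ[R] N) (y : Dual2.HT T 0 M) :
    t0 T N (Tmap T 0 f y) = f (t0 T M y) := by
  obtain ⟨J, x, rfl⟩ := toT_surj 0 M y
  obtain ⟨g, rfl⟩ := (Abelian.Ext.mk₀_bijective _ _).2 x
  rw [Tmap_toT, Abelian.Ext.mk₀_comp_mk₀, t0_toT, t0_toT]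
  rfl

theorem subsingleton_HT_succ_of_injective (i : ℕ) [Module.Injective R M] :
    Subsingleton (Dual2.HT T (i + 1) M) := by
  haveI : CategoryTheory.Injective (ModuleCat.of R M) :=
    Module.injective_object_of_injective_module R M
  refine subsingleton_of_forall_eq 0 fun y => ?_
  obtain ⟨J, x, rfl⟩ := toT_surj (i + 1) M y
  rw [Abelian.Ext.eq_zero_of_injective x, map_zero]

theorem subsingleton_HT_zero (h : gamT T M = ⊥) : Subsingleton (Dual2.HT T 0 M) :=
  subsingleton_of_forall_eq 0 fun y => t0_injective T M (by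
    rw [map_zero]
    exact (Submodule.eq_bot_iff _).1 h _ ⟨y, rfl⟩)

theorem exists_kills_finset (s : Finset M) (h : ∀ m ∈ s, m ∈ gamT T M) :
    ∃ K : Dual2.IdealsIn T, ∀ a ∈ idl K, ∀ m ∈ s, a • m = 0 := by
  classical
  induction s using Finset.induction with
  | empty => exact ⟨topI, fun a _ y hy => absurd hy (Finset.notMem_empty y)⟩
  | insert w s _ ih =>
    obtain ⟨K, hK⟩ := ih fun m hm => h m (Finset.mem_insert_of_mem hm)
    obtain ⟨J, hJ⟩ := mem_gamT.1 (h w (Finset.mem_insert_self w s))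
    refine ⟨prodI J K, fun a ha y hy => ?_⟩
    rcases Finset.mem_insert.1 hy with rfl | hy
    · exact hJ a (Ideal.mul_le_left ha)
    · exact hK a (Ideal.mul_le_right ha) y hy

theorem exists_kills_fg {P : Submodule R M} (hP : P.FG) (h : P ≤ gamT T M) :
    ∃ K : Dual2.IdealsIn T, ∀ a ∈ idl K, ∀ m ∈ P, a • m = 0 := by
  obtain ⟨s, rfl⟩ := hP
  obtain ⟨K, hK⟩ := exists_kills_finset s fun m hm => h (Submodule.subset_span hm)
  refine ⟨K, fun a ha m hm => ?_⟩
  induction hm using Submodule.span_induction with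
  | mem w hw => exact hK a ha w hw
  | zero => simp
  | add a b _ _ ha hb => rw [smul_add, ha, hb, add_zero]
  | smul r a _ ha => rw [smul_comm, ha, smul_zero]

end basic

variable [IsNoetherianRing R]

theorem gamT_quot (M : Type u) [AddCommGroup M] [Module R M] :
    gamT T (M ⧸ gamT T M) = ⊥ := by
  refine (Submodule.eq_bot_iff _).2 fun x hx => ?_
  obtain ⟨m, rfl⟩ := Submodule.mkQ_surjective _ x
  obtain ⟨J, hJ⟩ := mem_gamT.1 hx
  have hP : Submodule.map (LinearMap.toSpanSingleton R M m) (idl J) ≤ gamT T M := by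
    rintro _ ⟨a, ha, rfl⟩
    rw [LinearMap.toSpanSingleton_apply, ← Submodule.Quotient.mk_eq_zero]
    exact hJ a ha
  obtain ⟨K, hK⟩ := exists_kills_fg
    (((isNoetherian_def.1 inferInstance) (idl J)).map (LinearMap.toSpanSingleton R M m)) hP
  refine (Submodule.Quotient.mk_eq_zero _).2 (mem_gamT.2 ⟨prodI K J, fun c hc => ?_⟩)
  change c ∈ idl K * idl J at hc
  induction hc using Submodule.mul_induction_on' with
  | mem_mul_mem b hb a ha => rw [mul_smul]; exact hK b hb _ ⟨a, ha, rfl⟩
  | add a _ b _ iha ihb => rw [add_smul, iha, ihb, add_zero]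

/-- The `T`-torsion part of an injective module is injective. -/
theorem injective_gamT (E : Type u) [AddCommGroup E] [Module R E] [Module.Injective R E] :
    Module.Injective R (gamT T E) := by
  refine Module.Baer.injective fun I φ => ?_
  have hP : (Submodule.map ((gamT T E).subtype ∘ₗ φ) ⊤).FG := by
    haveI : Module.Finite R I := Module.Finite.of_fg (isNoetherian_def.1 inferInstance I)
    exact (Module.Finite.fg_top (R := R) (M := I)).map _
  obtain ⟨K, hK⟩ := exists_kills_fg (T := T) hP (by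
    rintro _ ⟨x, -, rfl⟩
    exact (φ x).2)
  let φ' : I →ₗ[R] gamma (idl K) E := ((gamT T E).subtype ∘ₗ φ).codRestrict _ fun x =>
    ⟨1, fun a ha => hK a (by rwa [pow_one] at ha) _ ⟨x, trivial, rfl⟩⟩
  obtain ⟨g, hg⟩ := Module.Baer.of_injective (injective_gamma (idl K) E) I φ'
  have hle : gamma (idl K) E ≤ gamT T E := by
    intro e he
    obtain ⟨n, hn⟩ := he
    obtain ⟨L, hL⟩ := exists_powI K n
    exact mem_gamT.2 ⟨L, fun a ha => hn a (hL ▸ ha)⟩
  exact ⟨(Submodule.inclusion hle).comp g, fun x hx =>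
    Subtype.ext (show ((g x : gamma (idl K) E) : E) = _ from congrArg Subtype.val (hg x hx))⟩

theorem subsingleton_HT_succ_of_torT (i : ℕ) :
    ∀ {M : Type u} [AddCommGroup M] [Module R M], TorT T M →
      Subsingleton (Dual2.HT T (i + 1) M) := by
  induction i with
  | zero =>
    intro M _ _ hM
    obtain ⟨E, _, _, f, hf, _⟩ := exists_injective_embedding (R := R) M
    haveI := injective_gamT (T := T) E
    let f' : M →ₗ[R] gamT T E := f.codRestrict _ fun m => by
      obtain ⟨J, hJ⟩ := hM m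
      exact mem_gamT.2 ⟨J, fun a ha => by rw [← map_smul, hJ a ha, map_zero]⟩
    have hf' : Function.Injective f' := fun a b h => hf (congrArg Subtype.val h)
    refine subsingleton_of_forall_eq 0 fun y => ?_
    obtain ⟨z, rfl⟩ := (T_exact₁ 0 hf' (LinearMap.exact_map_mkQ_range f')
      (Submodule.mkQ_surjective _) y).1
      (haveI := subsingleton_HT_succ_of_injective (T := T) (M := gamT T E) 0; Subsingleton.elim _ _)
    refine (T_exact₃ 0 hf' (LinearMap.exact_map_mkQ_range f') (Submodule.mkQ_surjective _) z).2 ?_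
    obtain ⟨e, he⟩ := Submodule.mkQ_surjective _ (t0 T _ z)
    obtain ⟨J, hJ⟩ := torT_gamT e
    obtain ⟨w, hw⟩ := mem_range_t0 T _ J hJ
    exact ⟨w, t0_injective T _ (by rw [t0_Tmap, hw, he])⟩
  | succ i ih =>
    intro M _ _ hM
    obtain ⟨E, _, _, f, hf, _⟩ := exists_injective_embedding (R := R) M
    haveI := injective_gamT (T := T) E
    let f' : M →ₗ[R] gamT T E := f.codRestrict _ fun m => by
      obtain ⟨J, hJ⟩ := hM m
      exact mem_gamT.2 ⟨J, fun a ha => by rw [← map_smul, hJ a ha, map_zero]⟩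
    have hf' : Function.Injective f' := fun a b h => hf (congrArg Subtype.val h)
    refine subsingleton_of_forall_eq 0 fun y => ?_
    obtain ⟨z, rfl⟩ := (T_exact₁ (i + 1) hf' (LinearMap.exact_map_mkQ_range f')
      (Submodule.mkQ_surjective _) y).1
      (haveI := subsingleton_HT_succ_of_injective (T := T) (M := gamT T E) (i + 1)
       Subsingleton.elim _ _)
    haveI := ih (M := gamT T E ⧸ LinearMap.range f') fun q => by
      obtain ⟨e, rfl⟩ := Submodule.mkQ_surjective _ q
      obtain ⟨J, hJ⟩ := torT_gamT e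
      exact ⟨J, fun a ha => by rw [← map_smul, hJ a ha, map_zero]⟩
    rw [Subsingleton.elim z 0, map_zero]

/-- A torsion free module embeds into a torsion free injective module. -/
theorem exists_free_injective_embedding (M : Type u) [AddCommGroup M] [Module R M]
    (hM : gamT T M = ⊥) :
    ∃ (E : Type u) (_ : AddCommGroup E) (_ : Module R E) (f : M →ₗ[R] E),
      Function.Injective f ∧ Module.Injective R E ∧ gamT T E = ⊥ := by
  obtain ⟨E, _, _, f, hf, _⟩ := exists_injective_embedding (R := R) M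
  obtain ⟨r, hr⟩ := (injective_gamT (T := T) E).out (gamT T E).subtype Subtype.val_injective
    LinearMap.id
  let s : (E ⧸ gamT T E) →ₗ[R] E := (gamT T E).liftQ (LinearMap.id - (gamT T E).subtype ∘ₗ r)
    fun x hx => by
      have h1 : r x = ⟨x, hx⟩ := hr ⟨x, hx⟩
      simp [h1]
  have hs : ∀ e, (gamT T E).mkQ (s e) = e := by
    intro e
    obtain ⟨x, rfl⟩ := Submodule.mkQ_surjective _ e
    show (gamT T E).mkQ (x - (gamT T E).subtype (r x)) = _
    rw [map_sub, show (gamT T E).mkQ ((gamT T E).subtype (r x)) = 0 from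
      (Submodule.Quotient.mk_eq_zero _).2 (r x).2, sub_zero]
  refine ⟨E ⧸ gamT T E, inferInstance, inferInstance, (gamT T E).mkQ ∘ₗ f,
    (injective_iff_map_eq_zero _).2 fun m hm => ?_, Module.Baer.injective fun I φ => ?_, gamT_quot E⟩
  · obtain ⟨J, hJ⟩ := mem_gamT.1 ((Submodule.Quotient.mk_eq_zero _).1 hm)
    exact (Submodule.eq_bot_iff _).1 hM m (mem_gamT.2
      ⟨J, fun a ha => hf (by rw [map_smul, hJ a ha, map_zero])⟩)
  · obtain ⟨g, hg⟩ := Module.Baer.of_injective ‹Module.Injective R E› I (s.comp φ)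
    exact ⟨(gamT T E).mkQ.comp g, fun x hx => by
      rw [LinearMap.comp_apply, hg x hx, LinearMap.comp_apply, hs]⟩

theorem transfer (a : R) (n : ℕ) :
    ∀ (M : Type u) [AddCommGroup M] [Module R M],
      (∀ i, i ≤ n → ∀ y : Dual2.HT T i M, a • y = 0) →
      ∀ i, i ≤ n → ∀ (Q : Dual2.IdealsIn T) (y : LocCoh.H (idl Q) i M), a ^ (n + 1) • y = 0 := by
  induction n with
  | zero =>
    intro M _ _ h i hi Q y
    obtain rfl : i = 0 := by omega
    have h0 : h0 (idl Q) M y ∈ gamT T M := by
      obtain ⟨m, hm⟩ := (range_h0 (idl Q) M).le ⟨y, rfl⟩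
      obtain ⟨L, hL⟩ := exists_powI Q m
      exact mem_gamT.2 ⟨L, fun b hb => hm b (hL ▸ hb)⟩
    obtain ⟨z, hz⟩ := h0
    refine h0_injective (idl Q) M ?_
    rw [map_smul, map_zero, ← hz, zero_add, pow_one, ← map_smul, h 0 le_rfl z, map_zero]
  | succ n ih =>
    intro M _ _ h i hi Q y
    have hΓ : ∀ m : gamT T M, a • m = 0 := fun m => by
      obtain ⟨z, hz⟩ := m.2
      refine Subtype.ext ?_
      show a • (m : M) = 0
      rw [← hz, ← map_smul, h 0 (Nat.zero_le _) z, map_zero]
    have hHΓ : ∀ z : LocCoh.H (idl Q) i (gamT T M), a • z = 0 := fun z => by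
      have h0 : LinearMap.lsmul R (gamT T M) a = 0 := LinearMap.ext hΓ
      rw [← Hmap_lsmul, h0, Hmap_zero, LinearMap.zero_apply]
    have hex := LinearMap.exact_subtype_mkQ (gamT T M)
    have hinj : Function.Injective (gamT T M).subtype := Subtype.val_injective
    have hsurj := Submodule.mkQ_surjective (gamT T M)
    suffices key : ∀ w : LocCoh.H (idl Q) i (M ⧸ gamT T M), a ^ (n + 1) • w = 0 by
      have h1 : Hmap (idl Q) i (gamT T M).mkQ (a ^ (n + 1) • y) = 0 := by rw [map_smul, key]
      obtain ⟨z, hz⟩ := (H_exact₂ (idl Q) i hinj hex hsurj _).1 h1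
      rw [pow_succ', mul_smul, ← hz, ← map_smul, hHΓ, map_zero]
    intro w
    rcases i with _ | j
    · haveI : Subsingleton (LocCoh.H (idl Q) 0 (M ⧸ gamT T M)) := by
        rw [subsingleton_H0_iff]
        refine (Submodule.eq_bot_iff _).2 fun x hx => ?_
        obtain ⟨m, hm⟩ := hx
        obtain ⟨L, hL⟩ := exists_powI Q m
        exact (Submodule.eq_bot_iff _).1 (gamT_quot M) x
          (mem_gamT.2 ⟨L, fun b hb => hm b (hL ▸ hb)⟩)
      exact Subsingleton.elim _ _
    obtain ⟨E, _, _, f, hf, _, hE0⟩ :=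
      exists_free_injective_embedding (M ⧸ gamT T M) (gamT_quot M)
    have hexE := LinearMap.exact_map_mkQ_range f
    have hsurjE := Submodule.mkQ_surjective (LinearMap.range f)
    have hET : ∀ l, Subsingleton (Dual2.HT T l E) := fun l => match l with
      | 0 => subsingleton_HT_zero hE0
      | l + 1 => subsingleton_HT_succ_of_injective l
    have hQ' : ∀ l, l ≤ n → ∀ v : Dual2.HT T l (E ⧸ LinearMap.range f), a • v = 0 := by
      intro l hl v
      have hδ : Tδ T l hf hexE hsurjE (a • v) = 0 := by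
        obtain ⟨x, hx⟩ := (T_exact₃ (l + 1) hinj hex hsurj (Tδ T l hf hexE hsurjE v)).1
          (haveI := subsingleton_HT_succ_of_torT (T := T) (l + 1) (torT_gamT (M := M))
           Subsingleton.elim _ _)
        rw [map_smul, ← hx, ← map_smul, h (l + 1) (by omega) x, map_zero]
      obtain ⟨x, hx⟩ := (T_exact₃ l hf hexE hsurjE _).1 hδ
      haveI := hET l
      rw [← hx, Subsingleton.elim x 0, map_zero]
    obtain ⟨v, rfl⟩ := Hδ_surjective (idl Q) j hf hexE hsurjE
      (subsingleton_H_succ_of_injective (idl Q) j) w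
    rw [← map_smul, ih _ hQ' j (by omega) Q v, map_zero]

/-- The depth inequality forced by annihilation of `H^i_T(M)`. -/
theorem lt_depth_add_htq {a : R} {s : ℕ} {M : Type u} [AddCommGroup M] [Module R M]
    [Module.Finite R M] (ha : ∀ i, i ≤ s → ∀ y : Dual2.HT T i M, a • y = 0)
    {p q : PrimeSpectrum R} (hpq : p ≤ q) (hap : a ∉ p.asIdeal)
    (hq : PrimeSpectrum.zeroLocus (q.asIdeal : Set R) ⊆ T) :
    (s : ℕ∞) < LocCoh.depth (Localization.AtPrime p.asIdeal)
      (LocalizedModule p.asIdeal.primeCompl M) + LC17.htq p.asIdeal q.asIdeal := by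
  have hb : ¬ Ideal.span {a} ≤ p.asIdeal := by rwa [Ideal.span_singleton_le_iff_mem]
  have h1 := ((S11653.result R q.asIdeal (Ideal.span {a}) M).trans (iInf₂_le p hb))
  have h2 : (s : ℕ∞) + 1 ≤ LocCoh.finDimRel q.asIdeal (Ideal.span {a}) M := by
    refine le_iInf₂ fun i hi => ?_
    rw [ENat.add_one_le_iff (ENat.natCast_ne_top s), Nat.cast_lt]
    by_contra hsi
    refine hi ((Ideal.span_singleton_le_iff_mem _).2 ⟨s + 1, Module.mem_annihilator.2 fun y => ?_⟩)
    exact transfer a s M ha i (not_lt.1 hsi) (mkI q.asIdeal hq) y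
  have h3 : LocCoh.adjDepth q.asIdeal M p = LocCoh.depth (Localization.AtPrime p.asIdeal)
      (LocalizedModule p.asIdeal.primeCompl M) + LC17.htq p.asIdeal (q.asIdeal ⊔ p.asIdeal) := rfl
  rw [h3, sup_eq_left.2 (show p.asIdeal ≤ q.asIdeal from hpq)] at h1
  exact (ENat.add_one_le_iff (ENat.natCast_ne_top s)).1 (h2.trans h1)

end Groth.Agent.LC15.HT
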