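import Groth.Agent.LC15.DualKill
import Groth.Agent.LC15.HTTransfer
import Groth.Agent.LC15.CritDepth
import Groth.Agent.LC17.CompareLE

/-!
Faltings' annihilator theorem for local cohomology with supports in specialisation stable subsets
over rings with dualizing complexes.
-/

set_option autoImplicit false
set_option linter.style.haveILetI false
set_option linter.unusedSectionVars false

universe u

open CategoryTheory CategoryTheory.Limits TensorProduct
open Groth.Agent

attribute [local instance] HasDerivedCategory.standard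

namespace Groth.Agent.LC15.DualFaltings

open DualKill

section general

variable {A : Type u} [CommRing A]

theorem Hle_refl {I : Ideal A} (i : ℕ) (M : Type u) [AddCommGroup M] [Module A M]
    (y : LocCoh.H I i M) : LC17.Hle (le_refl I) i M y = y := by
  obtain ⟨n, x, rfl⟩ := toH_surj I i M y
  rw [LC17.Hle_toH, show LC17.qle (le_refl I) n = 𝟙 (quotPow I n) from
    ModuleCat.hom_ext (LinearMap.ext fun z => by
      obtain ⟨r, rfl⟩ := Submodule.Quotient.mk_surjective _ z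
      rfl), Abelian.Ext.mk₀_id_comp]

theorem Hle_trans {I J K : Ideal A} (h : I ≤ J) (h' : J ≤ K) (i : ℕ) (M : Type u) [AddCommGroup M]
    [Module A M] (y : LocCoh.H K i M) :
    LC17.Hle h i M (LC17.Hle h' i M y) = LC17.Hle (h.trans h') i M y := by
  obtain ⟨n, x, rfl⟩ := toH_surj K i M y
  rw [LC17.Hle_toH, LC17.Hle_toH, LC17.Hle_toH, ← Abelian.Ext.comp_assoc_of_second_deg_zero,
    Abelian.Ext.mk₀_comp_mk₀]
  congr 3
  exact ModuleCat.hom_ext (LinearMap.ext fun z => by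
    obtain ⟨r, rfl⟩ := Submodule.Quotient.mk_surjective _ z
    rfl)

/-- Up to elements outside `q`, classes of `H^i_I(M)` come from `H^i_q(M)` when `q` is minimal
over `I`. -/
theorem exists_stalk_lift [IsNoetherianRing A] (q : Ideal A) [q.IsPrime] (i : ℕ) (M : Type u)
    [AddCommGroup M] [Module A M] (I : Ideal A) :
    ∀ (hIq : I ≤ q), (∀ x ∈ q, ∃ (v : A) (N : ℕ), v ∉ q ∧ v * x ^ N ∈ I) →
      ∀ y : LocCoh.H I i M, ∃ (v : A) (w : LocCoh.H q i M),
        v ∉ q ∧ LC17.Hle hIq i M w = v • y := by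
  induction I using IsNoetherian.induction with
  | hgt I ih =>
    intro hIq hrad y
    by_cases he : I = q
    · subst he
      exact ⟨1, y, Ideal.IsPrime.one_notMem inferInstance, by rw [Hle_refl, one_smul]⟩
    obtain ⟨x, hxq, hxI⟩ := SetLike.exists_of_lt (lt_of_le_of_ne hIq he)
    obtain ⟨v, N, hv, hvx⟩ := hrad x hxq
    obtain ⟨m, hm⟩ := isPowerTorsion_H I i y
    have hmem : v ^ m • y ∈
        LinearMap.range (LC17.Hle (le_sup_left : I ≤ I ⊔ Ideal.span {x}) i M) := by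
      refine (LC17.mem_range_Hle_iff I x i M _).2 ⟨N * m, ?_⟩
      rw [← mul_smul, pow_mul, ← mul_pow, mul_comm]
      exact hm _ (Ideal.pow_mem_pow hvx m)
    obtain ⟨z, hz⟩ := hmem
    have hle' : I ⊔ Ideal.span {x} ≤ q := sup_le hIq ((Ideal.span_singleton_le_iff_mem _).2 hxq)
    obtain ⟨v', w, hv', hw⟩ := ih (I ⊔ Ideal.span {x})
      (lt_of_le_of_ne le_sup_left fun h => hxI (h ▸ Ideal.mem_sup_right
        (Ideal.mem_span_singleton_self x))) hle'
      (fun t ht => by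
        obtain ⟨v, N, hv, hvt⟩ := hrad t ht
        exact ⟨v, N, hv, Ideal.mem_sup_left hvt⟩) z
    refine ⟨v' * v ^ m, w, fun h => (‹q.IsPrime›.mem_or_mem h).elim hv'
      (fun h => hv (‹q.IsPrime›.mem_of_pow_mem m h)), ?_⟩
    rw [← Hle_trans le_sup_left hle', hw, map_smul, hz, mul_smul]

theorem exists_rad_minimal {I q : Ideal A} [q.IsPrime] (hq : q ∈ I.minimalPrimes) :
    ∀ x ∈ q, ∃ (v : A) (N : ℕ), v ∉ q ∧ v * x ^ N ∈ I := by
  intro x hx
  obtain ⟨v, hv, hvx⟩ := LC17.exists_mul_mem_of_forall_prime (Q := q) (c := x)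
    (Ideal.radical_isRadical I) fun p hp hIp hpq =>
      hq.2 ⟨hp, Ideal.le_radical.trans hIp⟩ hpq hx
  obtain ⟨N, hN⟩ := hvx
  exact ⟨v ^ N, N, fun h => hv (‹q.IsPrime›.mem_of_pow_mem N h), by rwa [← mul_pow]⟩

theorem exists_product_split [IsNoetherianRing A] {T' : Set (PrimeSpectrum A)}
    (hT' : StableUnderSpecialization T') (G : Ideal A) :
    ∃ J : Dual2.IdealsIn T', ∀ a ∈ HT.idl J, ∀ q : PrimeSpectrum A,
      (∀ p : PrimeSpectrum A, G ≤ p.asIdeal → p ≤ q → p ∈ T') →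
      ∃ u, u ∉ q.asIdeal ∧ u * a ∈ G := by
  classical
  let S := G.finite_minimalPrimes_of_isNoetherianRing.toFinset
  let inS : Finset (Ideal A) := S.filter fun P => ∃ h : P.IsPrime, (⟨P, h⟩ : PrimeSpectrum A) ∈ T'
  let outS : Finset (Ideal A) := S \ inS
  have hprod : (∏ P ∈ inS, P) * (∏ P ∈ outS, P) ≤ G.radical := by
    rw [show (∏ P ∈ inS, P) * (∏ P ∈ outS, P) = ∏ P ∈ S, P by
      rw [mul_comm, Finset.prod_sdiff (Finset.filter_subset _ _)], Ideal.radical_eq_sInf]
    refine le_sInf fun P ⟨hGP, hP⟩ => ?_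
    obtain ⟨P', hP', hle⟩ := Ideal.exists_minimalPrimes_le hGP
    exact (Ideal.prod_le_inf.trans (Finset.inf_le
      (G.finite_minimalPrimes_of_isNoetherianRing.mem_toFinset.2 hP'))).trans hle
  obtain ⟨N, hN⟩ := Ideal.exists_pow_le_of_le_radical_of_fg hprod (IsNoetherian.noetherian _)
  have hz : PrimeSpectrum.zeroLocus (((∏ P ∈ inS, P) ^ N : Ideal A) : Set A) ⊆ T' := by
    intro Q hQ
    rw [PrimeSpectrum.mem_zeroLocus, SetLike.coe_subset_coe] at hQ
    rcases Nat.eq_zero_or_pos N with rfl | hNpos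
    · exact absurd (top_le_iff.1 (by simpa [Ideal.one_eq_top] using hQ)) Q.2.ne_top
    obtain ⟨P, hP, hPQ⟩ := (Ideal.IsPrime.prod_le Q.2).1 (Q.2.le_of_pow_le hQ)
    obtain ⟨-, hPp, hPT⟩ := Finset.mem_filter.1 hP
    exact hT' ((PrimeSpectrum.le_iff_specializes ⟨P, hPp⟩ Q).1 hPQ) hPT
  refine ⟨HT.mkI _ hz, fun a ha q hq => ?_⟩
  have hout : ¬ (∏ P ∈ outS, P) ^ N ≤ q.asIdeal := by
    intro h
    rcases Nat.eq_zero_or_pos N with rfl | hNpos
    · exact q.2.ne_top (top_le_iff.1 (by simpa [Ideal.one_eq_top] using h))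
    obtain ⟨P, hP, hPq⟩ := (Ideal.IsPrime.prod_le q.2).1 (q.2.le_of_pow_le h)
    obtain ⟨hPS, hPin⟩ := Finset.mem_sdiff.1 hP
    have hPm : P ∈ G.minimalPrimes := G.finite_minimalPrimes_of_isNoetherianRing.mem_toFinset.1 hPS
    exact hPin (Finset.mem_filter.2 ⟨hPS, hPm.1.1,
      hq ⟨P, hPm.1.1⟩ hPm.1.2 hPq⟩)
  obtain ⟨u, hu, huq⟩ := SetLike.not_le_iff_exists.1 hout
  refine ⟨u, huq, hN ?_⟩
  rw [mul_pow, mul_comm u a]
  exact Ideal.mul_mem_mul ha hu

theorem krullDim_Icc {p q : PrimeSpectrum A} (h : p ≤ q) :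
    Order.krullDim (Set.Icc p q) = ((LC17.htq p.asIdeal q.asIdeal : ℕ∞) : WithBot ℕ∞) := by
  rw [← LC16.RelCodim.height_ici p q h, Order.height_eq_krullDim_Iic]
  exact Order.krullDim_eq_of_orderIso
    { toFun := fun r => ⟨⟨r.1, r.2.1⟩, r.2.2⟩
      invFun := fun r => ⟨r.1.1, r.1.2, r.2⟩
      left_inv := fun r => rfl
      right_inv := fun r => rfl
      map_rel_iff' := Iff.rfl }

end general

variable {A : Type u} [CommRing A] {ω : Dual.D A} (hω : Dual.IsDualizing A ω)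

include hω

theorem eq_of_mu {q : Ideal A} [q.IsPrime] {k j : ℤ} (hk : Deg ω q k) (hj : DR39.Mu ω q j) :
    j = k := by
  haveI := hω.isNoetherianRing
  haveI : IsNoetherianRing (Localization.AtPrime q) :=
    IsLocalization.isNoetherianRing q.primeCompl _ inferInstance
  by_contra hne
  have h1 : LC17.gAnn _ _ j ≤ IsLocalRing.maximalIdeal (Localization.AtPrime q) :=
    (DR39.mu_iff_atPrime hω q j).1 hj
  have h2 := DR39.subsingleton_gm_iff.1 (@Equiv.subsingleton _ _
    (shiftEquiv _ _ (show k + (j - k) = j by omega)).symm (hk.2 (j - k) (by omega)))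
  erw [h2] at h1
  exact (IsLocalRing.maximalIdeal.isMaximal (Localization.AtPrime q)).ne_top (top_le_iff.1 h1)

theorem deg_lt {p q : PrimeSpectrum A} (h : p < q) {kp kq : ℤ} (hp : Deg ω p.asIdeal kp)
    (hq : Deg ω q.asIdeal kq) : kp < kq := by
  obtain ⟨j, hj, hj'⟩ := DR39.Mu.exists_gt hω p.asIdeal p.2 kp hp.1 (show p.asIdeal < q.asIdeal from h)
  rwa [← eq_of_mu hω hq hj']

theorem deg_le {p q : PrimeSpectrum A} (h : p ≤ q) {kp kq : ℤ} (hp : Deg ω p.asIdeal kp)
    (hq : Deg ω q.asIdeal kq) : kp ≤ kq := by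
  rcases eq_or_lt_of_le h with rfl | hlt
  · exact (eq_of_mu hω hq hp.1).le
  · exact (deg_lt hω hlt hp hq).le

theorem deg_chain {p q : PrimeSpectrum A} (h : p ≤ q) {kp kq : ℤ} (hp : Deg ω p.asIdeal kp)
    (hq : Deg ω q.asIdeal kq) : ∃ n : ℕ, LC17.htq p.asIdeal q.asIdeal = n ∧ kp + n ≤ kq := by
  haveI := hω.isNoetherianRing
  obtain ⟨n, hn⟩ := LC17.exists_htq_eq (q := q.asIdeal) (show p.asIdeal ≤ q.asIdeal from h)
  refine ⟨n, hn, ?_⟩
  obtain ⟨l, hl, hlen⟩ := Order.exists_series_of_le_height (⟨q, h⟩ : Set.Ici p) (n := n)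
    (by rw [LC16.RelCodim.height_ici, hn])
  let m : LTSeries (PrimeSpectrum A) := l.map Subtype.val (fun _ _ hab => hab)
  obtain ⟨k0, hk0⟩ := exists_deg hω (RelSeries.head m).asIdeal
  have h0 : kp ≤ k0 := deg_le hω (RelSeries.head l).2 hp hk0
  obtain ⟨j, hj, hj'⟩ := DR39.Mu.chain hω m hk0.1
  have hlast : RelSeries.last m = q := by
    show (RelSeries.last l : Set.Ici p).1 = q
    rw [hl]
  have hjq : DR39.Mu ω q.asIdeal j := hlast ▸ hj'
  rw [eq_of_mu hω hq hjq, show m.length = n from hlen] at hj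
  omega

theorem exists_deg_bounds : ∃ lo hi : ℤ, ∀ (q : PrimeSpectrum A) (k : ℤ),
    Deg ω q.asIdeal k → lo ≤ k ∧ k ≤ hi := by
  obtain ⟨a, b, hab⟩ := hω.finite_injective_dimension
  refine ⟨a, b, fun q k hk => ?_⟩
  by_contra hout
  have h1 : LC17.gAnn ω (ModuleCat.of A (A ⧸ q.asIdeal)) k ≤ q.asIdeal := hk.1
  rw [DR39.subsingleton_gm_iff.1 (hab (A ⧸ q.asIdeal) k (by omega))] at h1
  exact q.2.ne_top (top_le_iff.1 h1)

variable (M : Type u) [AddCommGroup M] [Module A M] [Module.Finite A M]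

theorem depth_le_of_gAnn_le {p : PrimeSpectrum A} {kp : ℤ} (hp : Deg ω p.asIdeal kp) {j : ℤ}
    (hj : LC17.gAnn ω (ModuleCat.of A M) j ≤ p.asIdeal) :
    j ≤ kp ∧ LocCoh.depth (Localization.AtPrime p.asIdeal)
      (LocalizedModule p.asIdeal.primeCompl M) ≤ ((kp - j).toNat : ℕ∞) := by
  haveI := hω.isNoetherianRing
  haveI : IsNoetherianRing (Localization.AtPrime p.asIdeal) :=
    IsLocalization.isNoetherianRing p.asIdeal.primeCompl _ inferInstance
  have h1 := (gAnn_le_iff hω p.asIdeal M kp j).1 hj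
  have hjk : j ≤ kp := by
    by_contra hlt
    exact h1 (LC17.gAnn_pos (isDualizing_wq hω p.asIdeal kp) hp.2 _ (by omega))
  refine ⟨hjk, ?_⟩
  rw [EGA4Alg4.depth_eq_of_equiv (LocalizedModule.equivTensorProduct p.asIdeal.primeCompl M)]
  rcases subsingleton_or_nontrivial (Localization.AtPrime p.asIdeal ⊗[A] M) with hM | hM
  · exact absurd ((LC17.gAnn_eq_top_iff _).2 fun f =>
      ((DerivedCategory.singleFunctor _ 0).map_isZero (ModuleCat.isZero_of_subsingleton
        (ModuleCat.of (Localization.AtPrime p.asIdeal) _))).eq_of_src f 0) h1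
  obtain ⟨n, hn⟩ := EGA4Alg4.exists_depth_eq (A := Localization.AtPrime p.asIdeal)
    (M := Localization.AtPrime p.asIdeal ⊗[A] M)
  obtain ⟨h2, -⟩ := DR39.depth_spec (isDualizing_wq hω p.asIdeal kp) hp.2 n _ hn
  rw [hn, Nat.cast_le]
  by_contra hlt
  exact h1 (by
    have := h2 (kp - j).toNat (by omega)
    rwa [show -((kp - j).toNat : ℤ) = j - kp by omega] at this)

/-- The depth condition. -/
def Cond (T T' : Set (PrimeSpectrum A)) (s : ℕ) : Prop :=
  ∀ p q : PrimeSpectrum A, p ∉ T' → q ∈ T → p ≤ q → (s : ℕ∞) <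
    LocCoh.depth (Localization.AtPrime p.asIdeal) (LocalizedModule p.asIdeal.primeCompl M) +
      LC17.htq p.asIdeal q.asIdeal

variable {M}

theorem exists_stalk_annihilator {T T' : Set (PrimeSpectrum A)}
    (hT' : StableUnderSpecialization T') {s : ℕ} (hc : Cond M T T' s) :
    ∃ J : Dual2.IdealsIn T', ∀ a ∈ HT.idl J, ∀ q : PrimeSpectrum A, q ∈ T →
      ∀ i, i ≤ s → ∀ y : LocCoh.H q.asIdeal i M,
        ∃ u, u ∉ q.asIdeal ∧ u • a ^ (s + 1) • y = 0 := by
  classical
  haveI := hω.isNoetherianRing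
  obtain ⟨lo, hi, hb⟩ := exists_deg_bounds hω
  have hF : ∀ F : Finset ℤ, ∃ J : Dual2.IdealsIn T', ∀ a ∈ HT.idl J, ∀ j ∈ F,
      ∀ q : PrimeSpectrum A,
      (∀ p : PrimeSpectrum A, LC17.gAnn ω (ModuleCat.of A M) j ≤ p.asIdeal → p ≤ q → p ∈ T') →
        ∃ u, u ∉ q.asIdeal ∧ u * a ∈ LC17.gAnn ω (ModuleCat.of A M) j := by
    intro F
    induction F using Finset.induction with
    | empty => exact ⟨HT.topI, fun a _ j hj => absurd hj (Finset.notMem_empty j)⟩
    | insert j F _ ih =>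
      obtain ⟨J₁, h₁⟩ := exists_product_split hT' (LC17.gAnn ω (ModuleCat.of A M) j)
      obtain ⟨J₂, h₂⟩ := ih
      refine ⟨HT.prodI J₁ J₂, fun a ha j' hj' => ?_⟩
      rcases Finset.mem_insert.1 hj' with rfl | hj'
      · exact h₁ a (Ideal.mul_le_left ha)
      · exact h₂ a (Ideal.mul_le_right ha) j' hj'
  obtain ⟨J, hJ⟩ := hF (Finset.Icc (lo - s) hi)
  refine ⟨J, fun a ha q hqT i hi' y => ?_⟩
  obtain ⟨k, hk⟩ := exists_deg hω q.asIdeal
  have hstep : ∀ t : ℕ, t ≤ s →
      ∃ u, u ∉ q.asIdeal ∧ u * a ∈ LC17.gAnn ω (ModuleCat.of A M) (k - t) := by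
    intro t ht
    obtain ⟨hk1, hk2⟩ := hb q k hk
    refine hJ a ha (k - t) (Finset.mem_Icc.2 ⟨by omega, by omega⟩) q fun p hp hpq => ?_
    by_contra hpT
    obtain ⟨kp, hkp⟩ := exists_deg hω p.asIdeal
    obtain ⟨n, hn, hn'⟩ := deg_chain hω hpq hkp hk
    obtain ⟨h1, h2⟩ := depth_le_of_gAnn_le hω M hkp hp
    have h3 := (hc p q hpT hqT hpq).trans_le (add_le_add h2 hn.le)
    rw [← Nat.cast_add, Nat.cast_lt] at h3
    omega
  have hall : ∀ r, r ≤ s + 1 → ∃ u, u ∉ q.asIdeal ∧ ∀ t, t < r →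
      u * a ∈ LC17.gAnn ω (ModuleCat.of A M) (k - t) := by
    intro r
    induction r with
    | zero => exact fun _ => ⟨1, q.2.one_notMem, fun t ht => absurd ht (Nat.not_lt_zero t)⟩
    | succ r ih =>
      intro hr
      obtain ⟨u, hu, hu'⟩ := ih (by omega)
      obtain ⟨v, hv, hv'⟩ := hstep r (by omega)
      refine ⟨v * u, fun h => (q.2.mem_or_mem h).elim hv hu, fun t ht => ?_⟩
      rcases Nat.lt_succ_iff_lt_or_eq.1 ht with ht | rfl
      · rw [mul_assoc]; exact Ideal.mul_mem_left _ _ (hu' t ht)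
      · rw [mul_comm v u, mul_assoc]; exact Ideal.mul_mem_left _ _ hv'
  obtain ⟨u, hu, hu'⟩ := hall (s + 1) le_rfl
  obtain ⟨w, hw, hwy⟩ := stalk_kill hω q.asIdeal (M := M) (a := u * a) (s := s) hk
    (fun t ht => hu' t (by omega)) hi' y
  refine ⟨w * u ^ (i + 1), fun h => (q.2.mem_or_mem h).elim hw
    (fun h => hu (q.2.mem_of_pow_mem _ h)), ?_⟩
  rw [show s + 1 = (s - i) + (i + 1) by omega, pow_add a, ← mul_smul,
    show w * u ^ (i + 1) * (a ^ (s - i) * a ^ (i + 1)) = a ^ (s - i) * (w * (u * a) ^ (i + 1)) by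
      ring, mul_smul, mul_smul, hwy, smul_zero]

theorem exists_uniform_annihilator {T T' : Set (PrimeSpectrum A)}
    (hT' : StableUnderSpecialization T') {s : ℕ} (hc : Cond M T T' s) :
    ∃ J : Dual2.IdealsIn T', ∀ I : Dual2.IdealsIn T, ∀ i, i ≤ s → ∀ a ∈ HT.idl J,
      ∀ y : LocCoh.H (HT.idl I) i M, a • y = 0 := by
  classical
  haveI := hω.isNoetherianRing
  obtain ⟨J, hJ⟩ := exists_stalk_annihilator hω hT' hc
  obtain ⟨lo, hi, hb⟩ := exists_deg_bounds hω
  choose deg hdeg using fun q : PrimeSpectrum A => exists_deg hω q.asIdeal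
  have key : ∀ a ∈ HT.idl J, ∀ (d : ℕ) (I : Ideal A), PrimeSpectrum.zeroLocus (I : Set A) ⊆ T →
      (∀ q : PrimeSpectrum A, I ≤ q.asIdeal → hi - deg q < d) → ∀ i, i ≤ s →
      ∀ y : LocCoh.H I i M, (a ^ (s + 1)) ^ d • y = 0 := by
    intro a ha d
    induction d with
    | zero =>
      intro I _ hI i _ y
      have hIt : I = ⊤ := by
        by_contra hne
        obtain ⟨P, hP, hIP⟩ := Ideal.exists_le_maximal I hne
        have := hI ⟨P, hP.isPrime⟩ hIP
        have := (hb ⟨P, hP.isPrime⟩ _ (hdeg _)).2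
        omega
      haveI := subsingleton_H_of_smul_bijective I (a := (1 : A)) (hIt ▸ trivial)
        (M := M) (by simp only [one_smul]; exact Function.bijective_id) i
      exact Subsingleton.elim _ _
    | succ d ih =>
      intro I hIT hI i his y
      let b := a ^ (s + 1)
      let S : Finset (Ideal A) := I.finite_minimalPrimes_of_isNoetherianRing.toFinset.filter
        fun P => ∃ h : P.IsPrime, hi - deg ⟨P, h⟩ = d
      let K := Module.annihilator A (Submodule.span A {b • y})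
      have hK : ¬ (K : Set A) ⊆ ⋃ P ∈ (S : Set (Ideal A)), (P : Set A) := by
        rw [Ideal.subset_union_prime ⊥ ⊥ fun P hP _ _ =>
          (Finset.mem_filter.1 hP).2.choose]
        rintro ⟨P, hPS, hKP⟩
        obtain ⟨hPm, hP, -⟩ := Finset.mem_filter.1 hPS
        have hPI : P ∈ I.minimalPrimes := I.finite_minimalPrimes_of_isNoetherianRing.mem_toFinset.1 hPm
        obtain ⟨v, w, hv, hw⟩ := exists_stalk_lift P i M I hPI.1.2 (exists_rad_minimal hPI) y
        obtain ⟨u, hu, huw⟩ := hJ a ha ⟨P, hP⟩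
          (hIT (by rw [PrimeSpectrum.mem_zeroLocus, SetLike.coe_subset_coe]; exact hPI.1.2)) i his w
        have hz : (u * v) • b • y = 0 := by
          rw [mul_smul, smul_comm v, ← hw, ← map_smul, ← map_smul, huw, map_zero]
        refine (hP.mem_or_mem (hKP (Module.mem_annihilator.2 fun z => ?_))).elim hu hv
        obtain ⟨z, hz'⟩ := z
        obtain ⟨c, rfl⟩ := Submodule.mem_span_singleton.1 hz'
        exact Subtype.ext (show (u * v) • c • b • y = 0 by rw [smul_comm, hz, smul_zero])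
      obtain ⟨u, huK, huS⟩ := Set.not_subset.1 hK
      have huy : u • b • y = 0 :=
        congrArg Subtype.val (Module.mem_annihilator.1 huK ⟨b • y, Submodule.mem_span_singleton_self _⟩)
      obtain ⟨z, hz⟩ := (LC17.mem_range_Hle_iff I u i M (b • y)).2 ⟨1, by rw [pow_one]; exact huy⟩
      have h1 := ih (I ⊔ Ideal.span {u})
        ((PrimeSpectrum.zeroLocus_anti_mono (SetLike.coe_subset_coe.2 le_sup_left)).trans hIT)
        (fun q hq => by
          have hIq : I ≤ q.asIdeal := le_sup_left.trans hq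
          by_contra hlt
          have hlev := hI q hIq
          obtain ⟨P, hPm, hPq⟩ := Ideal.exists_minimalPrimes_le hIq
          have hle : deg ⟨P, hPm.1.1⟩ ≤ deg q := deg_le hω hPq (hdeg _) (hdeg _)
          have hlev' := hI ⟨P, hPm.1.1⟩ hPm.1.2
          have hP : P ∈ S := Finset.mem_filter.2
            ⟨I.finite_minimalPrimes_of_isNoetherianRing.mem_toFinset.2 hPm, hPm.1.1, by omega⟩
          have hPeq : (⟨P, hPm.1.1⟩ : PrimeSpectrum A) = q := by
            by_contra hne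
            have := deg_lt hω (lt_of_le_of_ne (show (⟨P, hPm.1.1⟩ : PrimeSpectrum A) ≤ q from hPq) hne)
              (hdeg _) (hdeg _)
            omega
          refine huS (Set.mem_biUnion (Finset.mem_coe.2 hP) ?_)
          rw [show P = q.asIdeal from congrArg PrimeSpectrum.asIdeal hPeq]
          exact hq (Ideal.mem_sup_right (Ideal.mem_span_singleton_self u))) i his z
      rw [pow_succ, mul_smul, ← hz, ← map_smul, h1, map_zero]
  let D := (hi - lo).toNat + 1
  let L : Ideal A := Ideal.span ((fun c => (c ^ (s + 1)) ^ D) '' (HT.idl J : Set A))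
  have hr : HT.idl J ≤ L.radical := fun c hc =>
    ⟨(s + 1) * D, by rw [pow_mul]; exact Ideal.subset_span ⟨c, hc, rfl⟩⟩
  obtain ⟨N, hN⟩ := Ideal.exists_pow_le_of_le_radical_of_fg hr (IsNoetherian.noetherian _)
  obtain ⟨J', hJ'⟩ := HT.exists_powI J N
  refine ⟨J', fun I i his a ha y => ?_⟩
  have haL : a ∈ L := hN (hJ' ▸ ha)
  clear ha
  induction haL using Submodule.span_induction with
  | mem w hw =>
    obtain ⟨c, hc, rfl⟩ := hw
    exact key c hc D _ (HT.zeroLocus_idl I) (fun q _ => by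
      obtain ⟨h1, -⟩ := hb q _ (hdeg q)
      omega) i his y
  | zero => rw [zero_smul]
  | add b c _ _ hb hc => rw [add_smul, hb, hc, add_zero]
  | smul r b _ hb => rw [smul_assoc, hb, smul_zero]

theorem annihilator_HT_iff {T T' : Set (PrimeSpectrum A)} (hT : StableUnderSpecialization T)
    (hT' : StableUnderSpecialization T') (s : ℕ) :
    (∃ J : Ideal A, PrimeSpectrum.zeroLocus (J : Set A) ⊆ T' ∧
      ∀ i : ℕ, i ≤ s → ∀ a ∈ J, ∀ x : Dual2.HT T i M, a • x = 0) ↔ Cond M T T' s := by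
  haveI := hω.isNoetherianRing
  constructor
  · rintro ⟨J, hJ, hk⟩ p q hp hq hpq
    obtain ⟨a, haJ, hap⟩ := SetLike.not_le_iff_exists.1 (show ¬ J ≤ p.asIdeal from fun h =>
      hp (hJ (by rw [PrimeSpectrum.mem_zeroLocus, SetLike.coe_subset_coe]; exact h)))
    refine HT.lt_depth_add_htq (fun i hi y => hk i hi a haJ y) hpq hap fun r hr => ?_
    rw [PrimeSpectrum.mem_zeroLocus, SetLike.coe_subset_coe] at hr
    exact hT ((PrimeSpectrum.le_iff_specializes q r).1 hr) hq
  · intro hc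
    obtain ⟨J, hJ⟩ := exists_uniform_annihilator hω hT' hc
    refine ⟨HT.idl J, HT.zeroLocus_idl J, fun i hi a ha x => ?_⟩
    obtain ⟨K, z, rfl⟩ := HT.toT_surj i M x
    let q₁ : quotPow (HT.idl K) 1 ⟶ HT.qI K := ModuleCat.ofHom (Submodule.mapQ _ _ LinearMap.id
      (fun c hc => by simpa using hc))
    have h1 := hJ K i hi a ha (toH (HT.idl K) i M 1 ((Abelian.Ext.mk₀ q₁).comp z (zero_add i)))
    rw [← map_smul] at h1
    obtain ⟨m, hm, he⟩ := (toH_eq_zero_iff (HT.idl K) i M _).1 h1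
    obtain ⟨K', hK'⟩ := HT.exists_powI K m
    have hKK : HT.idl K' ≤ HT.idl K := by
      rw [hK']
      exact (Ideal.pow_le_pow_right hm).trans (pow_one (HT.idl K)).le
    rw [← map_smul]
    refine (HT.toT_eq_zero_iff i M _).2 ⟨K', hKK, ?_⟩
    let q₂ : HT.qI K' ⟶ quotPow (HT.idl K) m := ModuleCat.ofHom (Submodule.mapQ _ _ LinearMap.id
      (fun c hc => (show c ∈ HT.idl K ^ m from hK' ▸ hc)))
    have hq : HT.qle hKK = q₂ ≫ qmap (HT.idl K) hm ≫ q₁ :=
      ModuleCat.hom_ext <| LinearMap.ext fun w => by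
        obtain ⟨r, rfl⟩ := Submodule.Quotient.mk_surjective _ w
        rfl
    rw [hq, ← Abelian.Ext.mk₀_comp_mk₀, ← Abelian.Ext.mk₀_comp_mk₀,
      Abelian.Ext.comp_assoc_of_second_deg_zero, Abelian.Ext.comp_assoc_of_second_deg_zero]
    rw [← Abelian.Ext.comp_smul] at he
    rw [he, Abelian.Ext.comp_zero]

theorem cond_iff_krullDim {T T' : Set (PrimeSpectrum A)} (s : ℕ) :
    Cond M T T' s ↔ ∀ p q : PrimeSpectrum A, p ∉ T' → q ∈ T → p ≤ q → (s : WithBot ℕ∞) <
      ((LocCoh.depth (Localization.AtPrime p.asIdeal)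
        (LocalizedModule p.asIdeal.primeCompl M) : ℕ∞) : WithBot ℕ∞) +
          Order.krullDim (Set.Icc p q) := by
  refine forall_congr' fun p => forall_congr' fun q => forall_congr' fun _ =>
    forall_congr' fun _ => forall_congr' fun h => ?_
  rw [krullDim_Icc h]
  exact (WithBot.coe_lt_coe (a := (s : ℕ∞))).symm

end Groth.Agent.LC15.DualFaltings
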