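import Groth.Agent.DR39.LocalDual3
import Groth.Agent.LC17.KGood
import Groth.Agent.S0364
import Groth.Agent.LC15.Gamma

/-!
For a ring with a dualizing complex: elements annihilating `Hom(M[0], ω[k - t])` for small `t`
annihilate, up to elements outside a prime `q`, the modules `Ext^i(A/q^N, M)`, hence `H^i_q(M)`.
Here `k` is the degree of the dualizing complex at `q`.
-/

set_option autoImplicit false
set_option linter.style.haveILetI false
set_option linter.unusedSectionVars false

universe u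

open CategoryTheory CategoryTheory.Limits TensorProduct
open Groth.Agent

attribute [local instance] HasDerivedCategory.standard

namespace Groth.Agent.LC15.DualKill

variable {A : Type u} [CommRing A] {ω : Dual.D A}

theorem pre_sum {ι : Type*} (s : Finset ι) {M N : ModuleCat.{u} A} (φ : ι → (M ⟶ N)) (n : ℤ)
    (f : LC17.GM ω N n) :
    LC17.pre ω (∑ i ∈ s, φ i) n f = ∑ i ∈ s, LC17.pre ω (φ i) n f := by
  show (DerivedCategory.singleFunctor (ModuleCat.{u} A) 0).map (∑ i ∈ s, φ i) ≫ f = _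
  rw [Functor.map_sum, Preadditive.sum_comp]
  rfl

theorem le_gAnn_pi (M : Type u) [AddCommGroup M] [Module A M] (r : ℕ) (n : ℤ) :
    LC17.gAnn ω (ModuleCat.of A M) n ≤ LC17.gAnn ω (ModuleCat.of A (Fin r → M)) n := by
  intro a ha
  rw [LC17.mem_gAnn] at ha ⊢
  intro f
  let π : Fin r → (ModuleCat.of A (Fin r → M) ⟶ ModuleCat.of A M) :=
    fun i => ModuleCat.ofHom (LinearMap.proj i)
  let ι : Fin r → (ModuleCat.of A M ⟶ ModuleCat.of A (Fin r → M)) :=
    fun i => ModuleCat.ofHom (LinearMap.single A (fun _ : Fin r => M) i)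
  have hid : a • 𝟙 (ModuleCat.of A (Fin r → M)) = ∑ i, (a • π i) ≫ ι i := by
    refine ModuleCat.hom_ext (LinearMap.ext fun v => ?_)
    rw [ModuleCat.hom_sum, LinearMap.sum_apply]
    show a • v = ∑ i, Pi.single i (a • v i)
    exact (Finset.univ_sum_single (a • v)).symm
  rw [← LC17.pre_smul_id ω a n f, hid, pre_sum]
  refine Finset.sum_eq_zero fun i _ => ?_
  rw [← LC17.pre_pre, show a • π i = (a • 𝟙 _) ≫ π i by rw [Linear.smul_comp, Category.id_comp],
    ← LC17.pre_pre, LC17.pre_smul_id, ← map_smul, ha, map_zero]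

variable (hω : Dual.IsDualizing A ω) (q : Ideal A) [q.IsPrime]

/-- The localised dualizing complex, shifted. -/
noncomputable abbrev wq (ω : Dual.D A) (q : Ideal A) [q.IsPrime] (k : ℤ) :
    Dual.D (Localization.AtPrime q) :=
  ((DR39.DF (DR39.extA A (Localization.AtPrime q))).obj ω)⟦k⟧

/-- `q` has degree `k` for `ω`. -/
def Deg (ω : Dual.D A) (q : Ideal A) [q.IsPrime] (k : ℤ) : Prop :=
  DR39.Mu ω q k ∧ Dual.IsNormalized (Localization.AtPrime q) (wq ω q k)

/-- Iterated shifts. -/
noncomputable def shiftEquiv {C : Type*} [Category C] [HasShift C ℤ] (N X : C) {k i j : ℤ}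
    (h : k + i = j) : (N ⟶ (X⟦k⟧)⟦i⟧) ≃ (N ⟶ X⟦j⟧) :=
  Iso.homToEquiv ((shiftFunctorAdd' C k i j h).app X).symm

include hω

theorem isDualizing_wq (k : ℤ) : Dual.IsDualizing (Localization.AtPrime q) (wq ω q k) :=
  DR39.isDualizing_shift (DR39.isDualizing_atPrime hω q) k

theorem exists_deg : ∃ k, Deg ω q k := by
  haveI := hω.isNoetherianRing
  haveI : IsNoetherianRing (Localization.AtPrime q) :=
    IsLocalization.isNoetherianRing q.primeCompl _ inferInstance
  obtain ⟨n, hn, -⟩ := Groth.Agent.S0364.result (Localization.AtPrime q) _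
    (DR39.isDualizing_atPrime hω q) (IsLocalRing.maximalIdeal (Localization.AtPrime q))
  obtain ⟨k, hk⟩ := DR39.exists_mu hω q
  have hkn : k = n := by
    by_contra hne
    have h2 := DR39.subsingleton_gm_iff.1 (hn k hne)
    have h1 : LC17.gAnn _ _ k ≤ IsLocalRing.maximalIdeal (Localization.AtPrime q) :=
      (DR39.mu_iff_atPrime hω q k).1 hk
    rw [h2] at h1
    exact (IsLocalRing.maximalIdeal.isMaximal (Localization.AtPrime q)).ne_top (top_le_iff.1 h1)
  subst hkn
  exact ⟨k, hk, fun i hi => @Equiv.subsingleton _ _ (shiftEquiv _ _ rfl) (hn (k + i) (by omega))⟩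

theorem gAnn_le_iff (M : Type u) [AddCommGroup M] [Module A M] [Module.Finite A M] (k j : ℤ) :
    LC17.gAnn ω (ModuleCat.of A M) j ≤ q ↔
      LC17.gAnn (wq ω q k)
        (ModuleCat.of (Localization.AtPrime q) (Localization.AtPrime q ⊗[A] M)) (j - k) ≠ ⊤ := by
  rw [DR39.gAnn_le_iff_atPrime hω M j q, Ne, Ne, ← DR39.subsingleton_gm_iff,
    ← DR39.subsingleton_gm_iff]
  exact not_congr (shiftEquiv _ _ (show k + (j - k) = j by omega)).subsingleton_congr.symm

theorem exists_notMem_gAnn_pos {k : ℤ} (hk : Deg ω q k) (M : Type u) [AddCommGroup M] [Module A M]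
    [Module.Finite A M] {j : ℤ} (hj : k < j) : ∃ u ∈ LC17.gAnn ω (ModuleCat.of A M) j, u ∉ q := by
  haveI := hω.isNoetherianRing
  haveI : IsNoetherianRing (Localization.AtPrime q) :=
    IsLocalization.isNoetherianRing q.primeCompl _ inferInstance
  refine SetLike.not_le_iff_exists.1 fun hle => (gAnn_le_iff hω q M k j).1 hle ?_
  exact LC17.gAnn_pos (isDualizing_wq hω q k) hk.2 _ (by omega)

omit hω in
theorem support_tensor_subset {N : ℕ} (H : Type u) [AddCommGroup H] [Module A H] [Module.Finite A H]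
    (hH : ∀ b ∈ q ^ N, ∀ h : H, b • h = 0)
    {Q : PrimeSpectrum (Localization.AtPrime q)}
    (hQ : Q ∈ Module.support (Localization.AtPrime q) (Localization.AtPrime q ⊗[A] H)) :
    Q.asIdeal = IsLocalRing.maximalIdeal (Localization.AtPrime q) := by
  refine le_antisymm (IsLocalRing.le_maximalIdeal Q.2.ne_top) ?_
  rw [← Localization.AtPrime.map_eq_maximalIdeal (I := q), Ideal.map_le_iff_le_comap]
  intro b hb
  refine Q.2.mem_of_pow_mem N ?_
  rw [← map_pow]
  refine Module.mem_support_iff_of_finite.1 hQ (Module.mem_annihilator.2 fun y => ?_)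
  rw [algebraMap_smul]
  induction y using TensorProduct.induction_on with
  | zero => rw [smul_zero]
  | tmul c h => rw [← TensorProduct.tmul_smul, hH _ (Ideal.pow_mem_pow hb N), TensorProduct.tmul_zero]
  | add x y hx hy => rw [smul_add, hx, hy, add_zero]

theorem exists_notMem_gAnn_killed {k : ℤ} (hk : Deg ω q k) {N : ℕ} (H : Type u) [AddCommGroup H]
    [Module A H] [Module.Finite A H] (hH : ∀ b ∈ q ^ N, ∀ h : H, b • h = 0) {j : ℤ} (hj : j ≠ k) :
    ∃ u ∈ LC17.gAnn ω (ModuleCat.of A H) j, u ∉ q := by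
  haveI := hω.isNoetherianRing
  haveI : IsNoetherianRing (Localization.AtPrime q) :=
    IsLocalization.isNoetherianRing q.primeCompl _ inferInstance
  refine SetLike.not_le_iff_exists.1 fun hle => (gAnn_le_iff hω q H k j).1 hle ?_
  refine LC17.gAnn_finLen (isDualizing_wq hω q k) hk.2 _ ?_ (by omega)
  rw [← Module.length_ne_top_iff]
  refine LC17.length_ne_top_of_support fun Q hQ => ?_
  rw [support_tensor_subset q H hH hQ]
  infer_instance

theorem killed_up_to {k : ℤ} (hk : Deg ω q k) {N : ℕ} (H : Type u) [AddCommGroup H]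
    [Module A H] [Module.Finite A H] (hH : ∀ b ∈ q ^ N, ∀ h : H, b • h = 0) {a : A}
    (ha : a ∈ LC17.gAnn ω (ModuleCat.of A H) k) : ∃ u, u ∉ q ∧ ∀ h : H, u • a • h = 0 := by
  haveI := hω.isNoetherianRing
  haveI : IsNoetherianRing (Localization.AtPrime q) :=
    IsLocalization.isNoetherianRing q.primeCompl _ inferInstance
  let μ : H →ₗ[A] H := a • LinearMap.id
  let I := LinearMap.range μ
  have hI : ∀ b ∈ q ^ N, ∀ h : I, b • h = 0 := fun b hb h => Subtype.ext (hH b hb h.1)
  have hS₁ := LC17.shortExact_of_exact I.subtype I.mkQ (Submodule.subtype_injective _)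
    (Submodule.mkQ_surjective _) (LinearMap.exact_subtype_mkQ I)
  have hS₂ := LC17.shortExact_of_exact (LinearMap.ker μ.rangeRestrict).subtype μ.rangeRestrict
    (Submodule.subtype_injective _) μ.surjective_rangeRestrict (LinearMap.exact_subtype_ker_map _)
  obtain ⟨u, hu, huq⟩ := exists_notMem_gAnn_pos hω q hk (H ⧸ I) (lt_add_one k)
  obtain ⟨u', hu', huq'⟩ := exists_notMem_gAnn_killed hω q hk (LinearMap.ker μ.rangeRestrict)
    (fun b hb h => Subtype.ext (hH b hb h.1)) (show k - 1 ≠ k by omega)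
  have hann : u' * u ∈ LC17.gAnn ω (ModuleCat.of A I) k := by
    rw [LC17.mem_gAnn]
    intro v
    obtain ⟨g', hg'⟩ := LC17.exact₁ ω hS₁ k (k + 1) rfl (u • v)
      (by rw [map_smul]; exact (LC17.mem_gAnn ω).1 hu _)
    have h3 : LC17.pre ω (ModuleCat.ofHom μ.rangeRestrict) k (u • v) = 0 := by
      rw [← hg', LC17.pre_pre, show ModuleCat.ofHom μ.rangeRestrict ≫ ModuleCat.ofHom I.subtype =
          a • 𝟙 (ModuleCat.of A H) from rfl, LC17.pre_smul_id]
      exact (LC17.mem_gAnn ω).1 ha g'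
    obtain ⟨h, hh⟩ := LC17.exact₃ ω hS₂ (k - 1) k (by omega) _ h3
    rw [mul_smul, ← hh, ← map_smul, (LC17.mem_gAnn ω).1 hu' h, map_zero]
  have hzero : Subsingleton (Localization.AtPrime q ⊗[A] I) := by
    by_contra hne
    rw [not_subsingleton_iff_nontrivial] at hne
    have hle : ¬ LC17.gAnn ω (ModuleCat.of A I) k ≤ q := fun h =>
      ((‹q.IsPrime›.mem_or_mem (h hann)).elim huq' huq)
    rw [gAnn_le_iff hω q I k k, not_not, sub_self] at hle
    refine DR39.gAnn_zero_ne_top (isDualizing_wq hω q k) hk.2 _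
      (DR39.le_supportDim_quotient fun Q hQ => ?_) hle
    rw [support_tensor_subset q I hI hQ]
    haveI : IsField (Localization.AtPrime q ⧸ IsLocalRing.maximalIdeal (Localization.AtPrime q)) :=
      (Ideal.Quotient.maximal_ideal_iff_isField_quotient _).1 inferInstance
    rw [ringKrullDim_eq_zero_of_isField ‹_›]
    rfl
  have hns : (⟨q, inferInstance⟩ : PrimeSpectrum A) ∉ Module.support A I := by
    rw [Module.notMem_support_iff]
    exact (LocalizedModule.equivTensorProduct q.primeCompl I).toEquiv.subsingleton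
  rw [Module.mem_support_iff_of_finite, SetLike.not_le_iff_exists] at hns
  obtain ⟨w, hw, hwq⟩ := hns
  exact ⟨w, hwq, fun h =>
    congrArg Subtype.val (Module.mem_annihilator.1 hw ⟨a • h, h, rfl⟩)⟩

omit hω

section Ext

variable (M : Type u) [AddCommGroup M] [Module A M]

/-- Evaluation of linear maps on the images of the standard basis. -/
noncomputable def ev {L : Type u} [AddCommGroup L] [Module A L] {r : ℕ}
    (π : (Fin r → A) →ₗ[A] L) : (L →ₗ[A] M) →ₗ[A] (Fin r → M) :=
  LinearMap.pi fun i => LinearMap.applyₗ (π (Pi.single i 1))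

/-- The linear map with prescribed values on the standard basis, restricted to a submodule. -/
noncomputable def lc {r : ℕ} (W : Submodule A (Fin r → A)) :
    (Fin r → M) →ₗ[A] (W →ₗ[A] M) where
  toFun v := (∑ i, (LinearMap.proj i).smulRight (v i)) ∘ₗ W.subtype
  map_add' v w := by ext x; simp [Finset.sum_add_distrib]
  map_smul' c v := by ext x; simp [Finset.smul_sum, smul_comm c]

theorem lc_apply {r : ℕ} (W : Submodule A (Fin r → A)) (v : Fin r → M) (x : W) :
    lc M W v x = ∑ i, (x : Fin r → A) i • v i := by simp [lc]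

theorem sum_basis {r : ℕ} (g : (Fin r → A) →ₗ[A] M) (x : Fin r → A) :
    ∑ i, x i • g (Pi.single i 1) = g x := by
  conv_rhs => rw [← Finset.univ_sum_single x, map_sum]
  refine Finset.sum_congr rfl fun i _ => ?_
  rw [← map_smul]
  congr 1
  ext j
  by_cases h : j = i <;> simp [h]

variable {L : Type u} [AddCommGroup L] [Module A L] {r : ℕ} {π : (Fin r → A) →ₗ[A] L}
  (hπ : Function.Surjective π)

include hπ in
theorem ev_injective : Function.Injective (ev M π) := by
  intro φ φ' h
  refine LinearMap.ext fun y => ?_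
  obtain ⟨x, rfl⟩ := hπ y
  rw [← sum_basis M (φ ∘ₗ π) x |>.trans (LinearMap.comp_apply φ π x),
    ← sum_basis M (φ' ∘ₗ π) x |>.trans (LinearMap.comp_apply φ' π x)]
  exact Finset.sum_congr rfl fun i _ => congrArg (x i • ·) (congrFun h i)

include hπ in
theorem exact_ev_lc : Function.Exact (ev M π) (lc M (LinearMap.ker π)) := by
  intro v
  constructor
  · intro hv
    let g : (Fin r → A) →ₗ[A] M := ∑ i, (LinearMap.proj i).smulRight (v i)
    have hg : LinearMap.ker π ≤ LinearMap.ker g := fun x hx =>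
      LinearMap.congr_fun hv ⟨x, hx⟩
    refine ⟨(LinearMap.ker π).liftQ g hg ∘ₗ (π.quotKerEquivOfSurjective hπ).symm.toLinearMap,
      funext fun i => ?_⟩
    show (LinearMap.ker π).liftQ g hg
      ((π.quotKerEquivOfSurjective hπ).symm (π (Pi.single i 1))) = v i
    rw [← LinearMap.quotKerEquivOfSurjective_apply_mk π hπ, LinearEquiv.symm_apply_apply,
      Submodule.liftQ_apply]
    simp [g, Pi.single_apply]
  · rintro ⟨φ, rfl⟩
    refine LinearMap.ext fun x => ?_
    rw [lc_apply, LinearMap.zero_apply]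
    refine (sum_basis M (φ ∘ₗ π) x).trans ?_
    rw [LinearMap.comp_apply, LinearMap.mem_ker.1 x.2, map_zero]

/-- The connecting map of a presentation. -/
noncomputable def conn (l : ℕ) :
    Abelian.Ext (ModuleCat.of A (LinearMap.ker π)) (ModuleCat.of A M) l →ₗ[A]
      Abelian.Ext (ModuleCat.of A L) (ModuleCat.of A M) (l + 1) where
  toFun x := (seqSC_shortExact (f := (LinearMap.ker π).subtype) (g := π) Subtype.val_injective
    (LinearMap.exact_subtype_ker_map π) hπ).extClass.comp x (by omega)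
  map_add' x y := Abelian.Ext.comp_add _ x y _
  map_smul' c x := Abelian.Ext.comp_smul _ x _ c

theorem conn_surjective (l : ℕ) : Function.Surjective (conn M hπ l) := by
  intro x
  haveI : Projective (ModuleCat.of A (Fin r → A)) := (IsProjective.iff_projective _).1 inferInstance
  exact Abelian.Ext.contravariant_sequence_exact₃ (seqSC_shortExact
    (f := (LinearMap.ker π).subtype) (g := π) Subtype.val_injective
    (LinearMap.exact_subtype_ker_map π) hπ) (ModuleCat.of A M) x
    (Abelian.Ext.eq_zero_of_projective _) (by omega)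

theorem conn_injective (l : ℕ) : Function.Injective (conn M hπ (l + 1)) := by
  refine (injective_iff_map_eq_zero _).2 fun x hx => ?_
  haveI : Projective (ModuleCat.of A (Fin r → A)) := (IsProjective.iff_projective _).1 inferInstance
  obtain ⟨y, rfl⟩ := Abelian.Ext.contravariant_sequence_exact₁ (seqSC_shortExact
    (f := (LinearMap.ker π).subtype) (g := π) Subtype.val_injective
    (LinearMap.exact_subtype_ker_map π) hπ) (ModuleCat.of A M) x (by omega) hx
  rw [Abelian.Ext.eq_zero_of_projective y, Abelian.Ext.comp_zero]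

/-- The connecting map on homomorphisms. -/
noncomputable def conn₀ : (LinearMap.ker π →ₗ[A] M) →ₗ[A]
    Abelian.Ext (ModuleCat.of A L) (ModuleCat.of A M) 1 :=
  (conn M hπ 0).comp ((Abelian.Ext.linearEquiv₀ (R := A)).symm.toLinearMap.comp
    (ModuleCat.homLinearEquiv (R := A) (S := A) (M := ModuleCat.of A (LinearMap.ker π))
      (N := ModuleCat.of A M)).symm.toLinearMap)

theorem conn₀_surjective : Function.Surjective (conn₀ M hπ) :=
  (conn_surjective M hπ 0).comp ((Abelian.Ext.linearEquiv₀ (R := A)).symm.surjective.comp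
    (LinearEquiv.surjective _))

theorem ker_conn₀_le : LinearMap.ker (conn₀ M hπ) ≤ LinearMap.range (lc M (LinearMap.ker π)) := by
  intro c hc
  obtain ⟨y, hy⟩ := Abelian.Ext.contravariant_sequence_exact₁ (seqSC_shortExact
    (f := (LinearMap.ker π).subtype) (g := π) Subtype.val_injective
    (LinearMap.exact_subtype_ker_map π) hπ) (ModuleCat.of A M) _ (n₁ := 1) (by omega)
    (LinearMap.mem_ker.1 hc)
  obtain ⟨g, rfl⟩ := (Abelian.Ext.mk₀_bijective _ _).2 y
  rw [Abelian.Ext.mk₀_comp_mk₀] at hy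
  have hy' := (Abelian.Ext.mk₀_bijective _ _).1 (hy.trans
    (Abelian.Ext.linearEquiv₀_symm_apply (R := A) _))
  refine ⟨fun i => g.hom (Pi.single i 1), LinearMap.ext fun x => ?_⟩
  rw [lc_apply]
  refine (sum_basis M g.hom x).trans ?_
  exact LinearMap.congr_fun (congrArg ModuleCat.Hom.hom hy') x

theorem conn₀_lc (v : Fin r → M) : conn₀ M hπ (lc M (LinearMap.ker π) v) = 0 := by
  let g : (Fin r → A) →ₗ[A] M := ∑ i, (LinearMap.proj i).smulRight (v i)
  show (conn M hπ 0) ((Abelian.Ext.linearEquiv₀ (R := A)).symm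
    (ModuleCat.ofHom (lc M (LinearMap.ker π) v))) = 0
  rw [Abelian.Ext.linearEquiv₀_symm_apply,
    show ModuleCat.ofHom (lc M (LinearMap.ker π) v) =
      ModuleCat.ofHom (LinearMap.ker π).subtype ≫ ModuleCat.ofHom g from rfl,
    ← Abelian.Ext.mk₀_comp_mk₀]
  exact ShortComplex.ShortExact.extClass_comp_assoc _ _ (h := by omega)

end Ext

section Bound

variable (M : Type u) [AddCommGroup M] [Module A M] (a : A) (k : ℤ) (s : ℕ)

/-- The bound on `Hom(L, M)` carried through the syzygies. -/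
def Bnd (ω : Dual.D A) (L : Type u) [AddCommGroup L] [Module A L] (e : ℕ) : Prop :=
  ∀ n : ℕ, 1 ≤ n → n + e ≤ s + 1 →
    ∃ u, u ∉ q ∧ u * a ^ e ∈ LC17.gAnn ω (ModuleCat.of A (L →ₗ[A] M)) (k - n)

theorem finite_hom [IsNoetherianRing A] [Module.Finite A M] (L : Type u) [AddCommGroup L]
    [Module A L] [Module.Finite A L] : Module.Finite A (L →ₗ[A] M) := by
  obtain ⟨r, π, hπ⟩ := Module.Finite.exists_fin' A L
  exact Module.Finite.of_injective (ev M π) (ev_injective M hπ)

include hω

variable {M a k s} [Module.Finite A M] (hk : Deg ω q k)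
  (ha : ∀ t : ℕ, t ≤ s → a ∈ LC17.gAnn ω (ModuleCat.of A M) (k - t))

include hk ha

theorem gAnn_hom_self (L : Type u) [AddCommGroup L] [Module A L] [Module.Finite A L] :
    ∃ u, u ∉ q ∧ u * a ∈ LC17.gAnn ω (ModuleCat.of A (L →ₗ[A] M)) k := by
  haveI := hω.isNoetherianRing
  obtain ⟨r, π, hπ⟩ := Module.Finite.exists_fin' A L
  have hS := LC17.shortExact_of_exact (ev M π) (LinearMap.range (ev M π)).mkQ (ev_injective M hπ)
    (Submodule.mkQ_surjective _) (LinearMap.exact_map_mkQ_range _)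
  haveI : Module.Finite A (Fin r → M) := inferInstance
  obtain ⟨u, hu, huq⟩ := exists_notMem_gAnn_pos hω q hk
    ((Fin r → M) ⧸ LinearMap.range (ev M π)) (lt_add_one k)
  refine ⟨u, huq, ?_⟩
  rw [mul_comm]
  refine LC17.gAnn_left ω hS k (k + 1) rfl (Ideal.mul_mem_mul (le_gAnn_pi M r k ?_) hu)
  simpa using ha 0 (Nat.zero_le _)

theorem image_bound {L : Type u} [AddCommGroup L] [Module A L] [Module.Finite A L] {e : ℕ}
    (hL : Bnd q M a k s ω L e) {r : ℕ} {π : (Fin r → A) →ₗ[A] L} (hπ : Function.Surjective π)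
    {n : ℕ} (hn : 1 ≤ n) (hns : n + e ≤ s) :
    ∃ u, u ∉ q ∧ u * a ^ (e + 1) ∈
      LC17.gAnn ω (ModuleCat.of A (LinearMap.range (lc M (LinearMap.ker π)))) (k - n) := by
  obtain ⟨u, huq, hu⟩ := hL (n + 1) (by omega) (by omega)
  have hS := LC17.shortExact_of_exact (ev M π) (lc M (LinearMap.ker π)).rangeRestrict
    (ev_injective M hπ) (LinearMap.surjective_rangeRestrict _) (by
      intro v
      rw [← exact_ev_lc M hπ v]
      exact Subtype.ext_iff)
  refine ⟨u, huq, ?_⟩
  rw [pow_succ, ← mul_assoc]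
  exact LC17.gAnn_right ω hS (k - n) (k - (n + 1 : ℕ)) (by push_cast; ring)
    (Ideal.mul_mem_mul hu (le_gAnn_pi M r _ (ha n (by omega))))

theorem bnd_syz {L : Type u} [AddCommGroup L] [Module A L] [Module.Finite A L] {e N : ℕ}
    (hL : Bnd q M a k s ω L e)
    (hext : ∀ x : Abelian.Ext (ModuleCat.of A L) (ModuleCat.of A M) 1, ∀ b ∈ q ^ N, b • x = 0)
    {r : ℕ} {π : (Fin r → A) →ₗ[A] L} (hπ : Function.Surjective π) :
    Bnd q M a k s ω (LinearMap.ker π) (e + 1) := by
  haveI := hω.isNoetherianRing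
  intro n hn hns
  obtain ⟨u, huq, hu⟩ := image_bound hω q hk ha hL hπ hn (by omega)
  let B := LinearMap.range (lc M (LinearMap.ker π))
  haveI := finite_hom (A := A) M (LinearMap.ker π)
  have hS := LC17.shortExact_of_exact B.subtype B.mkQ (Submodule.subtype_injective _)
    (Submodule.mkQ_surjective _) (LinearMap.exact_subtype_mkQ B)
  obtain ⟨u', hu', huq'⟩ := exists_notMem_gAnn_killed hω q hk
    ((LinearMap.ker π →ₗ[A] M) ⧸ B) (N := N) (j := k - n) (fun b hb y => by
      obtain ⟨c, rfl⟩ := Submodule.mkQ_surjective _ y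
      rw [← map_smul, Submodule.mkQ_apply, Submodule.Quotient.mk_eq_zero]
      refine ker_conn₀_le M hπ (LinearMap.mem_ker.2 ?_)
      rw [map_smul, hext _ b hb]) (by omega)
  refine ⟨u' * u, fun h => (‹q.IsPrime›.mem_or_mem h).elim huq' huq, ?_⟩
  rw [mul_assoc]
  exact LC17.gAnn_mid ω hS (k - n) (Ideal.mul_mem_mul hu' hu)

theorem ext_one_kill {L : Type u} [AddCommGroup L] [Module A L] [Module.Finite A L] {e N : ℕ}
    (hL : Bnd q M a k s ω L e)
    (hext : ∀ x : Abelian.Ext (ModuleCat.of A L) (ModuleCat.of A M) 1, ∀ b ∈ q ^ N, b • x = 0)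
    (hes : e + 1 ≤ s) :
    ∃ u, u ∉ q ∧ ∀ x : Abelian.Ext (ModuleCat.of A L) (ModuleCat.of A M) 1,
      u • a ^ (e + 2) • x = 0 := by
  haveI := hω.isNoetherianRing
  obtain ⟨r, π, hπ⟩ := Module.Finite.exists_fin' A L
  obtain ⟨u, huq, hu⟩ := image_bound hω q hk ha hL hπ (n := 1) le_rfl (by omega)
  obtain ⟨u', huq', hu'⟩ := gAnn_hom_self hω q hk ha (LinearMap.ker π)
  let B := LinearMap.range (lc M (LinearMap.ker π))
  haveI := finite_hom (A := A) M (LinearMap.ker π)
  have hS := LC17.shortExact_of_exact B.subtype B.mkQ (Submodule.subtype_injective _)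
    (Submodule.mkQ_surjective _) (LinearMap.exact_subtype_mkQ B)
  have h1 : (u * u') * a ^ (e + 2) ∈
      LC17.gAnn ω (ModuleCat.of A ((LinearMap.ker π →ₗ[A] M) ⧸ B)) k := by
    rw [show (u * u') * a ^ (e + 2) = (u * a ^ (e + 1)) * (u' * a) by ring]
    refine LC17.gAnn_right ω hS k (k - 1) (by omega) (Ideal.mul_mem_mul ?_ hu')
    simpa using hu
  obtain ⟨w, hwq, hw⟩ := killed_up_to hω q hk _ (N := N) (fun b hb y => by
      obtain ⟨c, rfl⟩ := Submodule.mkQ_surjective _ y
      rw [← map_smul, Submodule.mkQ_apply, Submodule.Quotient.mk_eq_zero]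
      refine ker_conn₀_le M hπ (LinearMap.mem_ker.2 ?_)
      rw [map_smul, hext _ b hb]) h1
  refine ⟨w * (u * u'), fun h => (‹q.IsPrime›.mem_or_mem h).elim hwq
    fun h => (‹q.IsPrime›.mem_or_mem h).elim huq huq', fun x => ?_⟩
  obtain ⟨c, rfl⟩ := conn₀_surjective M hπ x
  have h2 := hw (B.mkQ c)
  rw [← map_smul, ← map_smul, Submodule.mkQ_apply, Submodule.Quotient.mk_eq_zero] at h2
  obtain ⟨v, hv⟩ := h2
  rw [mul_smul, ← mul_smul (u * u'), ← map_smul, ← map_smul, ← hv, conn₀_lc]

theorem ext_kill (j : ℕ) : ∀ (L : Type u) [AddCommGroup L] [Module A L] [Module.Finite A L]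
    (e N : ℕ), Bnd q M a k s ω L e →
    (∀ l, ∀ x : Abelian.Ext (ModuleCat.of A L) (ModuleCat.of A M) (l + 1),
      ∀ b ∈ q ^ N, b • x = 0) → e + j + 1 ≤ s →
    ∃ u, u ∉ q ∧ ∀ x : Abelian.Ext (ModuleCat.of A L) (ModuleCat.of A M) (j + 1),
      u • a ^ (e + j + 2) • x = 0 := by
  haveI := hω.isNoetherianRing
  induction j with
  | zero =>
    intro L _ _ _ e N hL hext hes
    exact ext_one_kill hω q hk ha hL (hext 0) hes
  | succ j ih =>
    intro L _ _ _ e N hL hext hes
    obtain ⟨r, π, hπ⟩ := Module.Finite.exists_fin' A L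
    obtain ⟨u, huq, hu⟩ := ih (LinearMap.ker π) (e + 1) N
      (bnd_syz hω q hk ha hL (hext 0) hπ)
      (fun l x b hb => conn_injective M hπ l (by rw [map_smul, hext _ _ b hb, map_zero]))
      (by omega)
    refine ⟨u, huq, fun x => ?_⟩
    obtain ⟨z, rfl⟩ := conn_surjective M hπ (j + 1) x
    rw [show e + (j + 1) + 2 = e + 1 + j + 2 by ring, ← map_smul, ← map_smul, hu z, map_zero]

/-- The stalk at `q` of `H^i_q(M)` is annihilated by `a ^ (i + 1)`. -/
theorem stalk_kill {i : ℕ} (hi : i ≤ s) (y : LocCoh.H q i M) :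
    ∃ u, u ∉ q ∧ u • a ^ (i + 1) • y = 0 := by
  haveI := hω.isNoetherianRing
  obtain ⟨N, x, rfl⟩ := toH_surj q i M y
  have hkill : ∀ (l : ℕ) (z : Abelian.Ext (quotPow q N) (ModuleCat.of A M) l),
      ∀ b ∈ q ^ N, b • z = 0 := by
    intro l z b hb
    have hq0 : b • 𝟙 (quotPow q N) = 0 := ModuleCat.hom_ext <| LinearMap.ext fun y => by
      obtain ⟨c, rfl⟩ := Submodule.Quotient.mk_surjective _ y
      change b • (Submodule.Quotient.mk c : A ⧸ q ^ N) = 0
      rw [← Submodule.Quotient.mk_smul, Submodule.Quotient.mk_eq_zero]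
      exact Ideal.mul_mem_right _ _ hb
    have h : b • z = (Abelian.Ext.mk₀ (b • 𝟙 (quotPow q N))).comp z (zero_add l) := by
      rw [Abelian.Ext.mk₀_smul, Abelian.Ext.smul_comp, Abelian.Ext.mk₀_id_comp]
    rw [h, hq0, Abelian.Ext.mk₀_zero, Abelian.Ext.zero_comp]
  have hHom : ∀ b ∈ q ^ N, ∀ φ : (A ⧸ q ^ N) →ₗ[A] M, b • φ = 0 := fun b hb φ =>
    LinearMap.ext fun y => by
      obtain ⟨c, rfl⟩ := Submodule.Quotient.mk_surjective _ y
      rw [LinearMap.smul_apply, LinearMap.zero_apply, ← map_smul, ← Submodule.Quotient.mk_smul,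
        show (Submodule.Quotient.mk (b • c) : A ⧸ q ^ N) = 0 from
          (Submodule.Quotient.mk_eq_zero _).2 (Ideal.mul_mem_right _ _ hb), map_zero]
  haveI := finite_hom (A := A) M (A ⧸ q ^ N)
  rcases i with _ | j
  · obtain ⟨u, huq, hu⟩ := gAnn_hom_self hω q hk ha (A ⧸ q ^ N)
    obtain ⟨w, hwq, hw⟩ := killed_up_to hω q hk _ hHom hu
    refine ⟨w * u, fun h => (‹q.IsPrime›.mem_or_mem h).elim hwq huq, ?_⟩
    obtain ⟨g, rfl⟩ := (Abelian.Ext.mk₀_bijective _ _).2 x
    have hg : ((w * u) * a) • g = 0 := ModuleCat.hom_ext (by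
      rw [mul_assoc, mul_smul]
      exact hw g.hom)
    rw [zero_add, pow_one, ← mul_smul, ← map_smul, ← Abelian.Ext.mk₀_smul, hg,
      Abelian.Ext.mk₀_zero, map_zero]
  · have hb : Bnd q M a k s ω (A ⧸ q ^ N) 0 := fun n hn _ => by
      obtain ⟨u, hu, huq⟩ := exists_notMem_gAnn_killed hω q hk ((A ⧸ q ^ N) →ₗ[A] M) hHom
        (show k - (n : ℤ) ≠ k by omega)
      exact ⟨u, huq, by rwa [pow_zero, mul_one]⟩
    obtain ⟨u, huq, hu⟩ := ext_kill hω q hk ha j (A ⧸ q ^ N) 0 N hb
      (fun l z b hb => hkill _ z b hb) (by omega)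
    refine ⟨u, huq, ?_⟩
    rw [show j + 1 + 1 = 0 + j + 2 by ring, ← map_smul, ← map_smul, hu, map_zero]

end Bound

end Groth.Agent.LC15.DualKill
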