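import Groth.Agent.DR29.Homotopy
import Groth.Prelude.Def_KoszulSh
import Mathlib.RingTheory.Regular.RegularSequence

/-!
The Koszul complex in the exterior algebra of a weakly regular sequence is exact in positive degrees.
-/

set_option autoImplicit false
set_option linter.unusedSectionVars false
set_option linter.style.haveILetI false

noncomputable section

universe u

open exteriorPower

namespace Groth.Agent.LC15.ExtKoszul

variable {R M : Type u} [CommRing R] [AddCommGroup M] [Module R M]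

local notation "EA" => ExteriorAlgebra R M

/-- contraction of decomposable elements is the Koszul boundary -/
theorem coe_dGen (φ : M →ₗ[R] R) : ∀ (p : ℕ) (e : Fin (p + 1) → M),
    CliffordAlgebra.contractLeft φ (ExteriorAlgebra.ιMulti R (p + 1) e) = (KoszSh.dGen φ p e : EA) := by
  intro p
  induction p with
  | zero =>
    intro e
    rw [ExteriorAlgebra.ιMulti_succ_apply, ExteriorAlgebra.ιMulti_zero_apply, mul_one]
    show CliffordAlgebra.contractLeft φ (CliffordAlgebra.ι _ (e 0)) = _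
    rw [CliffordAlgebra.contractLeft_ι, Algebra.algebraMap_eq_smul_one]
    simp [KoszSh.dGen, exteriorPower.ιMulti_apply_coe, ExteriorAlgebra.ιMulti_zero_apply]
  | succ p ih =>
    intro e
    rw [ExteriorAlgebra.ιMulti_succ_apply]
    show CliffordAlgebra.contractLeft φ (CliffordAlgebra.ι _ (e 0) * _) = _
    rw [CliffordAlgebra.contractLeft_ι_mul, ih (Matrix.vecTail e)]
    simp only [KoszSh.dGen, Submodule.coe_sum, Submodule.coe_smul, exteriorPower.ιMulti_apply_coe]
    conv_rhs => rw [Fin.sum_univ_succ]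
    rw [sub_eq_add_neg]
    refine congrArg₂ (· + ·) (by simp [Matrix.vecTail, Function.comp_def]) ?_
    show -(CliffordAlgebra.ι (0 : QuadraticForm R M) (e 0) * _) = _
    rw [Finset.mul_sum, ← Finset.sum_neg_distrib]
    refine Finset.sum_congr rfl fun k _ => ?_
    rw [mul_smul_comm, ← neg_smul]
    refine congrArg₂ (· • ·) (by simp [pow_succ, Matrix.vecTail, Function.comp_def]) ?_
    refine Eq.trans ?_ (ExteriorAlgebra.ιMulti_succ_apply (fun j => e (k.succ.succAbove j))).symm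
    refine congrArg₂ (· * ·) (by simp) (congrArg _ (funext fun j => ?_))
    simp [Matrix.vecTail, Function.comp_def]

/-- the operator -/
theorem contr_ιMulti (φ : M →ₗ[R] R) (p : ℕ) (e : Fin (p + 1) → M) :
    DR29.contr φ p (ιMulti R (p + 1) e) = KoszSh.dGen φ p e :=
  Subtype.ext (coe_dGen φ p e)

variable (b : ℕ → M)

/-- forms in the first `k` vectors of degree `p` -/
def Sub : ℕ → ℕ → Submodule R EA
  | _, 0 => 1
  | 0, _ + 1 => ⊥
  | k + 1, p + 1 => Sub k (p + 1) ⊔ (Sub k p).map (LinearMap.mulLeft R (ExteriorAlgebra.ι R (b k)))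

theorem Sub_zero (k : ℕ) : Sub (R := R) b k 0 = 1 := by cases k <;> rfl

theorem mem_zero {k : ℕ} {x : EA} (hx : x ∈ Sub (R := R) b k 0) : ∃ t : R, algebraMap R EA t = x := by
  rw [Sub_zero] at hx
  exact Submodule.mem_one.1 hx

theorem mem_zero' {k : ℕ} {x : EA} (hx : x ∈ Sub (R := R) b k 0) : x ∈ (1 : Submodule R EA) := by
  rwa [Sub_zero] at hx

theorem one_mem_zero (k : ℕ) : (1 : EA) ∈ Sub (R := R) b k 0 := by
  rw [Sub_zero]; exact Submodule.one_le.1 le_rfl

theorem mem_succ {k p : ℕ} {x : EA} (hx : x ∈ Sub b (k + 1) (p + 1)) :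
    ∃ a ∈ Sub b k (p + 1), ∃ c ∈ Sub b k p, x = a + ExteriorAlgebra.ι R (b k) * c := by
  obtain ⟨a, ha, z, ⟨c, hc, rfl⟩, rfl⟩ := Submodule.mem_sup.1 hx
  exact ⟨a, ha, c, hc, rfl⟩

theorem add_mem_succ {k p : ℕ} {a c : EA} (ha : a ∈ Sub b k (p + 1)) (hc : c ∈ Sub b k p) :
    a + ExteriorAlgebra.ι R (b k) * c ∈ Sub b (k + 1) (p + 1) :=
  Submodule.add_mem_sup ha ⟨c, hc, rfl⟩

theorem le_succ (k p : ℕ) : Sub (R := R) b k p ≤ Sub b (k + 1) p := by
  cases p with
  | zero => rw [Sub_zero, Sub_zero]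
  | succ p => exact le_sup_left

theorem d_ι_mul (φ : M →ₗ[R] R) (m : M) (x : EA) :
    CliffordAlgebra.contractLeft φ (ExteriorAlgebra.ι R m * x) =
      φ m • x - ExteriorAlgebra.ι R m * CliffordAlgebra.contractLeft φ x :=
  CliffordAlgebra.contractLeft_ι_mul φ m x

theorem d_algebraMap (φ : M →ₗ[R] R) {x : EA} (hx : x ∈ (1 : Submodule R EA)) :
    CliffordAlgebra.contractLeft φ x = 0 := by
  obtain ⟨c, rfl⟩ := Submodule.mem_one.1 hx
  exact CliffordAlgebra.contractLeft_algebraMap (Q := (0 : QuadraticForm R M)) φ c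

theorem d_eq_zero (φ : M →ₗ[R] R) : ∀ (k p : ℕ), (∀ j < k, φ (b j) = 0) → ∀ x ∈ Sub b k p,
    CliffordAlgebra.contractLeft φ x = 0
  | k, 0, _, x, hx => d_algebraMap φ (mem_zero' b hx)
  | 0, p + 1, _, x, hx => by rw [(Submodule.mem_bot R).1 hx, map_zero]
  | k + 1, p + 1, h, x, hx => by
    obtain ⟨a, ha, c, hc, rfl⟩ := mem_succ b hx
    have hk : ∀ j < k, φ (b j) = 0 := fun j hj => h j (Nat.lt_succ_of_lt hj)
    rw [map_add, d_ι_mul, d_eq_zero φ k (p + 1) hk a ha, d_eq_zero φ k p hk c hc, h k (Nat.lt_succ_self k),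
      zero_smul, mul_zero, sub_zero, add_zero]

theorem d_mem (φ : M →ₗ[R] R) : ∀ (k p : ℕ), ∀ x ∈ Sub b k (p + 1),
    CliffordAlgebra.contractLeft φ x ∈ Sub b k p
  | 0, p, x, hx => by rw [(Submodule.mem_bot R).1 hx, map_zero]; exact Submodule.zero_mem _
  | k + 1, p, x, hx => by
    obtain ⟨a, ha, c, hc, rfl⟩ := mem_succ b hx
    rw [map_add, d_ι_mul]
    refine Submodule.add_mem _ (le_succ b k p (d_mem φ k p a ha)) (Submodule.sub_mem _
      (Submodule.smul_mem _ _ (le_succ b k p hc)) ?_)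
    cases p with
    | zero =>
      rw [d_algebraMap φ (mem_zero' b hc), mul_zero]
      exact Submodule.zero_mem _
    | succ p => exact Submodule.mem_sup_right ⟨_, d_mem φ k p c hc, rfl⟩

theorem ι_mul_ι (m m' : M) (x : EA) :
    ExteriorAlgebra.ι R m * (ExteriorAlgebra.ι R m' * x) = -(ExteriorAlgebra.ι R m' * (ExteriorAlgebra.ι R m * x)) := by
  rw [← mul_assoc, ← mul_assoc, eq_neg_iff_add_eq_zero, ← add_mul, ExteriorAlgebra.ι_add_mul_swap, zero_mul]

theorem mul_mem : ∀ (k p j : ℕ), j < k → ∀ x ∈ Sub b k p, ExteriorAlgebra.ι R (b j) * x ∈ Sub b k (p + 1)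
  | 0, _, _, hj, _, _ => absurd hj (Nat.not_lt_zero _)
  | k + 1, 0, j, hj, x, hx => by
    rw [Sub_zero] at hx
    have hx' : x ∈ Sub (R := R) b k 0 := by rw [Sub_zero]; exact hx
    rcases Nat.lt_succ_iff_lt_or_eq.1 hj with h | rfl
    · exact le_succ b k 1 (mul_mem k 0 j h x hx')
    · exact Submodule.mem_sup_right ⟨x, hx', rfl⟩
  | k + 1, p + 1, j, hj, x, hx => by
    obtain ⟨a, ha, c, hc, rfl⟩ := mem_succ b hx
    rw [mul_add]
    rcases Nat.lt_succ_iff_lt_or_eq.1 hj with h | rfl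
    · refine Submodule.add_mem _ (le_succ b k _ (mul_mem k _ j h a ha)) ?_
      rw [ι_mul_ι, ← mul_neg]
      exact Submodule.mem_sup_right ⟨_, Submodule.neg_mem _ (mul_mem k p j h c hc), rfl⟩
    · rw [← mul_assoc, ExteriorAlgebra.ι_sq_zero, zero_mul, add_zero]
      exact Submodule.mem_sup_right ⟨a, ha, rfl⟩

theorem Sub_le : ∀ (k p : ℕ), Sub b k p ≤ ⋀[R]^p M
  | k, 0 => by rw [Sub_zero]; exact le_of_eq (pow_zero _).symm
  | 0, _ + 1 => bot_le
  | k + 1, p + 1 => sup_le (Sub_le k (p + 1)) (by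
      rintro _ ⟨c, hc, rfl⟩
      show _ ∈ LinearMap.range (ExteriorAlgebra.ι R (M := M)) ^ (p + 1)
      rw [pow_succ']
      exact Submodule.mul_mem_mul (LinearMap.mem_range_self _ _) (Sub_le k p hc))

theorem mem_Sub_of_span (n : ℕ) (hb : ∀ m : M, ∃ c : ℕ → R, m = ∑ j ∈ Finset.range n, c j • b j) :
    ∀ (p : ℕ) (x : EA), x ∈ ⋀[R]^p M → x ∈ Sub b n p
  | 0, x, hx => by
    rw [Sub_zero]
    have h : x ∈ LinearMap.range (ExteriorAlgebra.ι R (M := M)) ^ 0 := hx
    rwa [pow_zero] at h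
  | p + 1, x, hx => by
    have h : x ∈ LinearMap.range (ExteriorAlgebra.ι R (M := M)) ^ (p + 1) := hx
    rw [pow_succ'] at h
    refine Submodule.mul_induction_on h ?_ fun u v hu hv => Submodule.add_mem _ hu hv
    rintro _ ⟨m, rfl⟩ y hy
    obtain ⟨c, rfl⟩ := hb m
    rw [map_sum, Finset.sum_mul]
    refine Submodule.sum_mem _ fun j hj => ?_
    rw [map_smul, smul_mul_assoc]
    exact Submodule.smul_mem _ _ (mul_mem b n p j (Finset.mem_range.1 hj) y (mem_Sub_of_span n hb p y hy))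

variable (φ : M →ₗ[R] R)

/-- the ideal of the first `k` values -/
abbrev Jk (k : ℕ) : Ideal R := Ideal.span (Set.range fun j : Fin k => φ (b j))

theorem Jk_le (k : ℕ) : Jk b φ k ≤ Jk b φ (k + 1) := Ideal.span_mono (by
  rintro _ ⟨j, rfl⟩
  exact ⟨j.castSucc, rfl⟩)

theorem d_one_mem : ∀ (k : ℕ), ∀ x ∈ Sub b k 1, ∃ r ∈ Jk b φ k,
    CliffordAlgebra.contractLeft φ x = algebraMap R EA r
  | 0, x, hx => ⟨0, Submodule.zero_mem _, by rw [(Submodule.mem_bot R).1 hx, map_zero, map_zero]⟩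
  | k + 1, x, hx => by
    obtain ⟨a, ha, c, hc, rfl⟩ := mem_succ b hx
    obtain ⟨r, hr, hra⟩ := d_one_mem k a ha
    obtain ⟨t, rfl⟩ := mem_zero b hc
    refine ⟨r + t * φ (b k), Submodule.add_mem _ (Jk_le b φ k hr)
      (Ideal.mul_mem_left _ _ (Ideal.subset_span ⟨⟨k, Nat.lt_succ_self k⟩, rfl⟩)), ?_⟩
    rw [map_add, d_ι_mul, hra]
    show _ + (_ - _ * CliffordAlgebra.contractLeft φ (algebraMap R (CliffordAlgebra (0 : QuadraticForm R M)) t)) = _
    rw [CliffordAlgebra.contractLeft_algebraMap, mul_zero, sub_zero, map_add, map_mul, Algebra.smul_def, Algebra.commutes]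

theorem exists_of_mem : ∀ (k : ℕ) (r : R), r ∈ Jk b φ k →
    ∃ x ∈ Sub b k 1, CliffordAlgebra.contractLeft φ x = algebraMap R EA r := by
  intro k r hr
  induction hr using Submodule.span_induction with
  | mem r hr =>
    obtain ⟨j, rfl⟩ := hr
    refine ⟨ExteriorAlgebra.ι R (b j) * 1, mul_mem b k 0 j j.2 1 (one_mem_zero b k), ?_⟩
    rw [mul_one]
    exact CliffordAlgebra.contractLeft_ι (Q := (0 : QuadraticForm R M)) φ (b j)
  | zero => exact ⟨0, Submodule.zero_mem _, by rw [map_zero, map_zero]⟩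
  | add r s _ _ hr hs =>
    obtain ⟨x, hx, hxr⟩ := hr
    obtain ⟨y, hy, hys⟩ := hs
    exact ⟨x + y, Submodule.add_mem _ hx hy, by rw [map_add, map_add, hxr, hys]⟩
  | smul a r _ hr =>
    obtain ⟨x, hx, hxr⟩ := hr
    exact ⟨a • x, Submodule.smul_mem _ _ hx, by rw [map_smul, hxr, smul_eq_mul, map_mul, Algebra.smul_def]⟩

/-- exactness in positive degrees -/
theorem exact_Sub (θ : ℕ → (M →ₗ[R] R)) (n : ℕ)
    (hθ : ∀ k < n, θ k (b k) = 1 ∧ ∀ j < k, θ k (b j) = 0)
    (hreg : ∀ k < n, ∀ c, φ (b k) * c ∈ Jk b φ k → c ∈ Jk b φ k) :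
    ∀ k ≤ n, ∀ (p : ℕ), ∀ x ∈ Sub b k (p + 1), CliffordAlgebra.contractLeft φ x = 0 →
      ∃ y ∈ Sub b k (p + 2), CliffordAlgebra.contractLeft φ y = x
  | 0, _, p, x, hx, _ => ⟨0, Submodule.zero_mem _, by rw [(Submodule.mem_bot R).1 hx, map_zero]⟩
  | k + 1, hk, p, x, hx, hdx => by
    have ih := exact_Sub θ n hθ hreg k (Nat.le_of_succ_le hk)
    obtain ⟨a, ha, c, hc, rfl⟩ := mem_succ b hx
    obtain ⟨h1, h0⟩ := hθ k hk
    rw [map_add, d_ι_mul] at hdx
    obtain ⟨γ, hγ, hγc⟩ : ∃ γ ∈ Sub b k (p + 1), CliffordAlgebra.contractLeft φ γ = c := by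
      cases p with
      | zero =>
        obtain ⟨t, rfl⟩ := mem_zero b hc
        obtain ⟨r, hr, hra⟩ := d_one_mem b φ k a ha
        rw [d_algebraMap φ (mem_zero' b hc), mul_zero, sub_zero, hra, Algebra.smul_def, ← map_mul,
          ← map_add] at hdx
        have hz := ExteriorAlgebra.algebraMap_eq_zero_iff M _ |>.1 hdx
        exact exists_of_mem b φ k t (hreg k hk t (by
          rw [show φ (b k) * t = -r from eq_neg_of_add_eq_zero_right hz]
          exact Submodule.neg_mem _ hr))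
      | succ p =>
        refine ih p c hc ?_
        have hmem : CliffordAlgebra.contractLeft φ c ∈ Sub b k p := d_mem b φ k p c hc
        have h := congrArg (CliffordAlgebra.contractLeft (θ k)) hdx
        rw [map_zero, map_add, map_sub, map_smul, d_ι_mul, h1, one_smul,
          d_eq_zero b (θ k) k p h0 _ hmem, mul_zero, sub_zero,
          d_eq_zero b (θ k) k _ h0 _ (d_mem b φ k (p + 1) a ha), d_eq_zero b (θ k) k _ h0 c hc,
          smul_zero, zero_add, zero_sub, neg_eq_zero] at h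
        exact h
    obtain ⟨α, hα, hαa⟩ := ih p (a + φ (b k) • γ) (Submodule.add_mem _ ha (Submodule.smul_mem _ _ hγ)) (by
      rw [map_add, map_smul, hγc]
      have hdc : CliffordAlgebra.contractLeft φ c = 0 := by
        rw [← hγc]; exact CliffordAlgebra.contractLeft_contractLeft _ _
      rw [hdc, mul_zero, sub_zero] at hdx
      exact hdx)
    refine ⟨α + ExteriorAlgebra.ι R (b k) * (-γ), add_mem_succ b hα (Submodule.neg_mem _ hγ), ?_⟩
    rw [map_add, d_ι_mul, hαa, map_neg, hγc, smul_neg, mul_neg]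
    abel

/-- the Koszul complex of a regular sequence is exact in positive degrees -/
theorem exists_contr_eq {n : ℕ} (bs : Module.Basis (Fin n) R M)
    (hreg : RingTheory.Sequence.IsWeaklyRegular R (List.ofFn fun k => φ (bs k))) (p : ℕ)
    (x : ↥(⋀[R]^(p + 1) M)) (hx : DR29.contr φ p x = 0) :
    ∃ y : ↥(⋀[R]^(p + 2) M), DR29.contr φ (p + 1) y = x := by
  classical
  let b : ℕ → M := fun j => if h : j < n then bs ⟨j, h⟩ else 0
  have hb : ∀ j (h : j < n), b j = bs ⟨j, h⟩ := fun j h => dif_pos h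
  let θ : ℕ → (M →ₗ[R] R) := fun k => if h : k < n then bs.coord ⟨k, h⟩ else 0
  have hθ : ∀ k < n, θ k (b k) = 1 ∧ ∀ j < k, θ k (b j) = 0 := fun k hk => by
    refine ⟨by simp [θ, hk, hb k hk], fun j hj => ?_⟩
    simp [θ, hk, hb j (hj.trans hk), Finsupp.single_apply, Fin.ext_iff, hj.ne, hj.ne']
  have hJ : ∀ k, k < n → ∀ c, φ (b k) * c ∈ Jk b φ k → c ∈ Jk b φ k := fun k hk c hc => by
    have h := (RingTheory.Sequence.isWeaklyRegular_iff R _).1 hreg k (by simpa using hk)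
    have htake : Ideal.ofList ((List.ofFn fun i => φ (bs i)).take k) = Jk b φ k := by
      rw [Ideal.ofList, Jk]
      congr 1
      ext a
      simp only [List.mem_take_iff_getElem, Set.mem_ofPred_eq, Set.mem_range, List.getElem_ofFn]
      constructor
      · rintro ⟨j, hj, rfl⟩
        simp only [List.length_ofFn, lt_min_iff] at hj
        exact ⟨⟨j, hj.1⟩, by rw [hb j hj.2]⟩
      · rintro ⟨⟨j, hj⟩, rfl⟩
        exact ⟨j, lt_min hj (by simpa using hj.trans hk), by rw [hb j (hj.trans hk)]⟩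
    rw [htake, List.getElem_ofFn, smul_eq_mul, Ideal.mul_top] at h
    rw [← Submodule.Quotient.mk_eq_zero] at hc ⊢
    refine h.right_eq_zero_of_smul ?_
    rw [← hc, hb k hk]
    rfl
  have hspan : ∀ m : M, ∃ c : ℕ → R, m = ∑ j ∈ Finset.range n, c j • b j := fun m => by
    refine ⟨fun j => if h : j < n then bs.repr m ⟨j, h⟩ else 0, ?_⟩
    conv_lhs => rw [← bs.sum_repr m]
    rw [← Fin.sum_univ_eq_sum_range]
    exact Finset.sum_congr rfl fun j _ => by simp [hb j.1 j.2]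
  obtain ⟨y, hy, hyx⟩ := exact_Sub b φ θ n hθ hJ n le_rfl p x.1 (mem_Sub_of_span b n hspan _ _ x.2)
    (congrArg Subtype.val hx)
  exact ⟨⟨y, Sub_le b n _ hy⟩, Subtype.ext hyx⟩

end Groth.Agent.LC15.ExtKoszul
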