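import Groth.Agent.LC15.CMDepth
import Groth.Agent.CAlg1.FlatDepth
import Groth.Agent.EGA4Alg4.DepthChange

/-!
Depth along an ideal from the closed fibre.
-/

namespace Groth.Agent.LC15.FibreDepth

universe u

set_option autoImplicit false

open IsLocalRing RingTheory.Sequence
open scoped Pointwise TensorProduct

variable {R S : Type u} [CommRing R] [CommRing S] [IsLocalRing R] [IsLocalRing S]
  [IsNoetherianRing R] [IsNoetherianRing S] [Algebra R S] [IsLocalHom (algebraMap R S)]

theorem lift_seq : ∀ (rs : List S) (N : Type u) [AddCommGroup N] [Module R N] [Module S N]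
    [IsScalarTower R S N] [Module.Finite S N] [Module.Flat R N],
    IsWeaklyRegular (N ⧸ (maximalIdeal R).map (algebraMap R S) • (⊤ : Submodule S N)) rs →
      IsWeaklyRegular N rs := by
  intro rs
  induction rs with
  | nil => intro N _ _ _ _ _ _ _; exact IsWeaklyRegular.nil S N
  | cons y rs ih =>
    intro N _ _ _ _ _ _ h
    rw [isWeaklyRegular_cons_iff] at h ⊢
    obtain ⟨hflat, hreg⟩ := CAlg1.fibre_regular_lift (R := R) (N := N) (M := R) h.1
    refine ⟨fun a b hab => ?_, ih (QuotSMulTop y N)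
      (((CAlg1.quotFibreEquiv ((maximalIdeal R).map (algebraMap R S)) y).isWeaklyRegular_congr rs).1 h.2)⟩
    refine (TensorProduct.rid R N).symm.injective (hreg ?_)
    show y • ((TensorProduct.rid R N).symm a) = y • ((TensorProduct.rid R N).symm b)
    rw [TensorProduct.rid_symm_apply, TensorProduct.rid_symm_apply, TensorProduct.smul_tmul',
      TensorProduct.smul_tmul']
    exact congrArg (· ⊗ₜ[R] (1 : R)) hab

theorem dim_le [Module.Flat R S]
    (hCM : LocCoh.IsCohenMacaulayLocalRing (S ⧸ (maximalIdeal R).map (algebraMap R S)))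
    (I : Ideal S) (hI : I ≠ ⊤) :
    ringKrullDim (S ⧸ (maximalIdeal R).map (algebraMap R S)) ≤
      ringKrullDim (S ⧸ ((maximalIdeal R).map (algebraMap R S) ⊔ I)) +
        ((LocCoh.idealDepth I S : ℕ∞) : WithBot ℕ∞) := by
  set J := (maximalIdeal R).map (algebraMap R S) with hJ
  have hIm := le_maximalIdeal hI
  haveI : IsLocalRing (S ⧸ J) := hCM.toIsLocalRing
  haveI : IsLocalHom (algebraMap S (S ⧸ J)) :=
    (Ideal.Quotient.mk_surjective (I := J)).isLocalHom
  have hCMM : LocCoh.IsCohenMacaulayModule S (S ⧸ J) := by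
    show Module.supportDim S (S ⧸ J) = _
    rw [Module.supportDim_quotient_eq_ringKrullDim, EGA4Alg4.depth_eq_of_finite (B := S ⧸ J),
      ← hCM.supportDim_eq_depth, Module.supportDim_self_eq_ringKrullDim]
  have h1 := supportDim_eq_add_idealDepth I hI hCMM
  rw [Module.supportDim_quotient_eq_ringKrullDim] at h1
  let e : ((S ⧸ J) ⧸ (I • (⊤ : Submodule S (S ⧸ J)))) ≃ₗ[S] S ⧸ (J ⊔ I) :=
    Submodule.quotEquivOfEq _ _ (by
      rw [← Submodule.range_mkQ J, ← Submodule.map_top, ← Submodule.map_smul'', smul_eq_mul,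
        Ideal.mul_top]) ≪≫ₗ Submodule.quotientQuotientEquivQuotientSup J I
  rw [Module.supportDim_eq_of_equiv e, Module.supportDim_quotient_eq_ringKrullDim] at h1
  rw [h1]
  refine add_le_add le_rfl (WithBot.coe_le_coe.mpr ?_)
  refine LC17.eNat_le_of_forall fun n hn => ?_
  have htop : I • (⊤ : Submodule S (S ⧸ J)) ≠ ⊤ := (EGA4Alg4.smul_top_lt_top I hIm).ne
  obtain ⟨rs, hlen, hreg, hmem⟩ := LC17.exists_seq_of_subsingleton_H I n (S ⧸ J)
    ((LC17.natCast_le_idealDepth_iff I _ n).mp hn) htop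
  have hregS : IsWeaklyRegular S rs := lift_seq (R := R) rs S
    (((Submodule.quotEquivOfEq (J • (⊤ : Submodule S S)) J (by
      rw [smul_eq_mul, Ideal.mul_top])).isWeaklyRegular_congr rs).2 hreg)
  rw [LocCoh.idealDepth, if_neg (by rw [smul_eq_mul, Ideal.mul_top]; exact hI), ← hlen]
  exact le_iSup₂ (f := fun (rs : List S) _ => ((rs.length : ℕ) : ℕ∞)) rs ⟨hregS, hmem⟩

end Groth.Agent.LC15.FibreDepth
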