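import Groth.Agent.LC15.RegDual
import Groth.Agent.LC15.CritDepth
import Groth.Agent.LC15.Finiteness
import Groth.Agent.S5165

/-!
Finiteness of one local cohomology module over a regular ring.
-/

namespace Groth.Agent.LC15.FiniteSingle

universe u

set_option autoImplicit false
set_option linter.overlappingInstances false

open CategoryTheory IsLocalRing LC17 RegDual LC16.CanonDual
open scoped TensorProduct Pointwise

variable {R : Type u} [CommRing R]

/-- vanishing of the stalks one degree below at the primes just outside `V(I)` -/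
def Cond (I : Ideal R) (M : Type u) [AddCommGroup M] [Module R M] (i : ℕ) : Prop :=
  ∀ p q : PrimeSpectrum R, p ⋖ q → I ≤ q.asIdeal → ¬ I ≤ p.asIdeal →
    ∀ j : ℕ, j + 1 = i → Stk p.asIdeal j M

theorem kn_H_of_kills [IsNoetherianRing R] (a Q : Ideal R) [Q.IsPrime] (c : R) (i : ℕ) (M : Type u)
    [AddCommGroup M] [Module R M]
    (h : ∀ z : LocCoh.H (a.map (algebraMap R (Localization.AtPrime Q))) i
      (LocalizedModule Q.primeCompl M), algebraMap R (Localization.AtPrime Q) c • z = 0) :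
    KN Q.primeCompl c (LocCoh.H a i M) := by
  obtain ⟨φ, hφ⟩ := LC16.ChangeRings.exists_equiv a (R' := Localization.AtPrime Q) i
    (LocalizedModule Q.primeCompl M)
  obtain ⟨e⟩ := nonempty_tensor_H_equiv (Localization.AtPrime Q) a i M
  let l : (Localization.AtPrime Q) ⊗[R] M ≃ₗ[R] LocalizedModule Q.primeCompl M :=
    (LocalizedModule.equivTensorProduct Q.primeCompl M).symm.restrictScalars R
  have hk : ∀ w : (Localization.AtPrime Q) ⊗[R] LocCoh.H a i M, c • w = 0 := fun w => by
    apply (e.trans (Hequiv a i l)).injective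
    rw [map_smul, map_zero, ← φ.apply_symm_apply ((e.trans (Hequiv a i l)) w), ← hφ, h, map_zero]
  intro y
  obtain ⟨u, hu⟩ := (IsLocalizedModule.eq_zero_iff Q.primeCompl
    (TensorProduct.mk R (Localization.AtPrime Q) (LocCoh.H a i M) 1) (m := c • y)).1
    (by rw [map_smul]; exact hk _)
  exact ⟨u, u.2, hu⟩

variable [IsRegularRing R]

theorem kn_H_minimal (a Q : Ideal R) [Q.IsPrime] (hQ : Q ∈ a.minimalPrimes) (c : R) (i : ℕ)
    (M : Type u) [AddCommGroup M] [Module R M] [Module.Finite R M]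
    (h : ∀ q : ℕ, Q.height = (q + i : ℕ) → KN Q.primeCompl c (EK (R := R) R M q)) :
    KN Q.primeCompl c (LocCoh.H a i M) := by
  refine kn_H_of_kills a Q c i M fun z => ?_
  have hle : a.map (algebraMap R (Localization.AtPrime Q)) ≤ maximalIdeal (Localization.AtPrime Q) := by
    rw [← IsLocalization.AtPrime.map_eq_maximalIdeal Q (Localization.AtPrime Q)]
    exact Ideal.map_mono hQ.1.2
  have hrad : maximalIdeal (Localization.AtPrime Q) ≤
      (a.map (algebraMap R (Localization.AtPrime Q))).radical := by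
    rw [Ideal.radical_eq_sInf]
    refine le_sInf ?_
    rintro P ⟨hP, hPp⟩
    have h1 : P.comap (algebraMap R (Localization.AtPrime Q)) ≤ Q :=
      (Ideal.comap_mono (IsLocalRing.le_maximalIdeal hPp.ne_top)).trans
        (IsLocalization.AtPrime.comap_maximalIdeal (Localization.AtPrime Q) Q).le
    have h2 := hQ.2 ⟨inferInstance, Ideal.map_le_iff_le_comap.mp hP⟩ h1
    rw [← IsLocalization.AtPrime.map_eq_maximalIdeal Q (Localization.AtPrime Q)]
    exact (Ideal.map_mono h2).trans Ideal.map_comap_le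
  obtain ⟨w, rfl⟩ := (HofLE_bijective_radical hle i (M := LocalizedModule Q.primeCompl M) hrad).2 z
  obtain ⟨h₀, hh₀⟩ := ENat.ne_top_iff_exists.mp (Q.height_ne_top Ideal.IsPrime.ne_top')
  have hd : ringKrullDim (Localization.AtPrime Q) = (h₀ : ℕ) := by
    rw [IsLocalization.AtPrime.ringKrullDim_eq_height Q (Localization.AtPrime Q), ← hh₀]
    rfl
  rcases lt_or_ge h₀ i with hlt | hge
  · haveI : Subsingleton (LocCoh.H (maximalIdeal (Localization.AtPrime Q)) i
        (LocalizedModule Q.primeCompl M)) := cdLE_of_ringKrullDim_le _ hd.le _ i hlt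
    rw [Subsingleton.elim w 0, map_zero, smul_zero]
  · have hKN := h (h₀ - i) (by rw [← hh₀, Nat.sub_add_cancel hge])
    have : Module.Finite (Localization.AtPrime Q) (LocalizedModule Q.primeCompl M) :=
      Module.Finite.of_isLocalizedModule Q.primeCompl (LocalizedModule.mkLinearMap Q.primeCompl M)
    obtain ⟨E, _, _, f, hfE, hdual⟩ := exists_duality hd
    obtain ⟨eq⟩ := hdual (h₀ - i) i (Nat.sub_add_cancel hge) (LocalizedModule Q.primeCompl M)
    obtain ⟨e⟩ := LC16.ExtLocal.nonempty_equiv Q.primeCompl R (h₀ - i) M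
    let eA : LocalizedModule Q.primeCompl R ≃ₗ[Localization.AtPrime Q] Localization.AtPrime Q :=
      LinearEquiv.extendScalarsOfIsLocalization Q.primeCompl (Localization.AtPrime Q)
        (IsLocalizedModule.iso Q.primeCompl (Algebra.linearMap R (Localization.AtPrime Q)))
    let e' := e ≪≫ₗ LC16.CanonLocal.extCongr (LinearEquiv.refl _ _) eA (h₀ - i)
    have hkill : ∀ x, algebraMap R (Localization.AtPrime Q) c • x =
        (0 : EK (R := Localization.AtPrime Q) (Localization.AtPrime Q)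
          (LocalizedModule Q.primeCompl M) (h₀ - i)) := fun x => by
      obtain ⟨v, rfl⟩ := e'.surjective x
      rw [← map_smul, algebraMap_smul]
      induction v using LocalizedModule.induction_on with
      | h y s =>
        obtain ⟨u, hu, huy⟩ := hKN y
        rw [LocalizedModule.smul'_mk, ← map_zero e']
        refine congrArg e' (LocalizedModule.mk_eq.2 ⟨⟨u, hu⟩, ?_⟩ |>.trans
          (LocalizedModule.zero_mk s))
        simp only [Submonoid.smul_def, smul_zero]
        rw [smul_comm, huy, smul_zero]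
    rw [← map_smul]
    convert map_zero (HofLE hle i (LocalizedModule Q.primeCompl M))
    apply eq.injective
    rw [map_smul, map_zero]
    refine LinearMap.ext fun x => ?_
    rw [LinearMap.smul_apply, ← map_smul, hkill, map_zero, LinearMap.zero_apply]

theorem exists_bound_gamma [IsNoetherianRing R] (x : R) (N : Type u) [AddCommGroup N] [Module R N]
    [Module.Finite R N] :
    ∃ k : ℕ, ∀ (z : N) (m : ℕ), x ^ m • z = 0 → x ^ k • z = 0 := by
  obtain ⟨k, hk⟩ := monotone_stabilizes_iff_noetherian.2 (inferInstance : IsNoetherian R N)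
    ⟨fun k => Submodule.torsionBy R N (x ^ k), monotone_nat_of_le_succ fun k z hz => by
      rw [Submodule.mem_torsionBy_iff] at hz ⊢
      rw [pow_succ', mul_smul, hz, smul_zero]⟩
  refine ⟨k, fun z m hz => ?_⟩
  rcases le_total m k with h | h
  · rw [← Nat.add_sub_cancel' h, pow_add, mul_comm, mul_smul, hz, smul_zero]
  · have h1 : z ∈ Submodule.torsionBy R N (x ^ m) := (Submodule.mem_torsionBy_iff _ _).2 hz
    rw [show Submodule.torsionBy R N (x ^ m) = Submodule.torsionBy R N (x ^ k) from (hk m h).symm] at h1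
    exact (Submodule.mem_torsionBy_iff _ _).1 h1

/-- the uniform bound on the stalks -/
theorem exists_kn_ext (I : Ideal R) (x : R) (hx : x ∈ I) (i : ℕ) (M : Type u) [AddCommGroup M]
    [Module R M] [Module.Finite R M] (hc : Cond I M (i + 1)) :
    ∃ N : ℕ, ∀ (Q : Ideal R) [Q.IsPrime], I ≤ Q → ∀ q : ℕ, Q.height = (q + (i + 1) : ℕ) →
      KN Q.primeCompl (x ^ N) (EK (R := R) R M q) := by
  obtain ⟨t, ht⟩ := S5165.result R M
  haveI : ∀ q, Module.Finite R (EK (R := R) R M q) := fun q => finite_EK q M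
  choose k hk using fun q : ℕ => exists_bound_gamma x (EK (R := R) R M q)
  refine ⟨(Finset.range (t + 1)).sup k, fun Q _ hIQ q hq z => ?_⟩
  by_cases hqt : q ≤ t
  swap
  · haveI : Subsingleton (EK (R := R) R M q) :=
      haveI := ht
      HasProjectiveDimensionLT.subsingleton _ (t + 1) q (by omega) _
    exact ⟨1, Q.primeCompl.one_mem, Subsingleton.elim _ _⟩
  obtain ⟨u, hu, m, hm⟩ : ∃ u ∈ Q.primeCompl, ∃ m : ℕ, u • x ^ m • z = 0 := by
    by_contra hcon
    push Not at hcon
    have hS : ∀ w ∈ Q.primeCompl ⊔ Submonoid.powers x, w • z ≠ 0 := by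
      intro w hw
      obtain ⟨u, hu, _, ⟨m, rfl⟩, rfl⟩ := Submonoid.mem_sup.mp hw
      rw [mul_smul]
      exact hcon u hu m
    obtain ⟨P, hP, -, hdisj⟩ := exists_associated_disjoint hS
    have hPp : P.IsPrime := IsAssociatedPrime.isPrime hP
    rw [Set.disjoint_left] at hdisj
    have hPQ : P ≤ Q := fun w hw => by
      by_contra hwQ
      exact hdisj hw (SetLike.le_def.mp le_sup_left (show w ∈ Q.primeCompl from hwQ))
    have hxP : x ∉ P := fun h =>
      hdisj h (SetLike.le_def.mp le_sup_right (Submonoid.mem_powers x))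
    -- a prime of height one below `Q`
    obtain ⟨T, ⟨hT, hPT, hTQ, hIT⟩, hmax⟩ := set_has_maximal_iff_noetherian.mpr
      (inferInstanceAs (IsNoetherian R R))
      {T : Ideal R | T.IsPrime ∧ P ≤ T ∧ T ≤ Q ∧ ¬ I ≤ T}
      ⟨P, hPp, le_rfl, hPQ, fun h => hxP (h hx)⟩
    have hlt : T < Q := lt_of_le_of_ne hTQ fun e => hIT (e ▸ hIQ)
    have h1 : htq T Q ≤ 1 := le_of_not_gt fun hgt => by
      obtain ⟨b, hbI, hbT⟩ := SetLike.not_le_iff_exists.mp hIT
      obtain ⟨s, hs, hts, hsq, hbs⟩ := exists_prime_between hbT (hIQ hbI) hlt hgt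
      exact hmax s ⟨hs, hPT.trans hts.le, hsq.le, fun h => hbs (h hbI)⟩ hts
    let T₀ : PrimeSpectrum R := ⟨T, hT⟩
    let Q₀ : PrimeSpectrum R := ⟨Q, inferInstance⟩
    haveI := LC17.isCohenMacaulayRing_of_isRegularRing (R := R)
    have hcov : T₀ ⋖ Q₀ := CritDepth.covBy_of_htq hlt h1
    have hh := CAlg1.height_succ_of_covBy_cm hcov
    have hTh : T₀.asIdeal.height = (q + i : ℕ) := by
      have hh' : ((q + (i + 1) : ℕ) : ℕ∞) = T₀.asIdeal.height + 1 := hq.symm.trans hh
      obtain ⟨a, ha⟩ := ENat.ne_top_iff_exists.mp (T₀.asIdeal.height_ne_top hT.ne_top)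
      rw [← ha] at hh' ⊢
      have : q + (i + 1) = a + 1 := by exact_mod_cast hh'
      rw [show a = q + i by omega]
    have hnul := (stk_iff_ext T₀.asIdeal M hTh).1 (hc T₀ Q₀ hcov hIQ hIT i rfl)
    obtain ⟨m, hm⟩ := exists_annihilator_mem hP
    obtain ⟨v, hv, hvm⟩ := hnul m
    exact hv (hPT ((hm v).mp hvm))
  refine ⟨u, hu, ?_⟩
  rw [smul_comm] at hm ⊢
  have h2 := hk q (u • z) m hm
  obtain ⟨d, hd⟩ := Nat.exists_eq_add_of_le
    (Finset.le_sup (f := k) (Finset.mem_range.mpr (Nat.lt_succ_of_le hqt)))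
  rw [hd, pow_add, mul_comm, mul_smul, h2, smul_zero]

theorem kill_at (I : Ideal R) (x : R) (i N : ℕ) (M : Type u) [AddCommGroup M] [Module R M]
    (hN : ∀ (a Q : Ideal R) [Q.IsPrime], I ≤ a → Q ∈ a.minimalPrimes →
      KN Q.primeCompl (x ^ N) (LocCoh.H a i M))
    (P : Ideal R) [P.IsPrime] (hP : ℕ) (hhP : P.height = hP) :
    ∀ (e : ℕ) (a : Ideal R), I ≤ a →
      (∀ Q : Ideal R, Q.IsPrime → a ≤ Q → Q ≤ P → (hP : ℕ∞) ≤ Q.height + e) →
      ∀ y : LocCoh.H a i M, ∃ u ∈ P.primeCompl, u • x ^ ((e + 1) * N) • y = 0 := by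
  intro e
  induction e with
  | zero =>
    intro a hIa hall y
    by_cases haP : a ≤ P
    · obtain ⟨Q, hQ, hQP⟩ := Ideal.exists_minimalPrimes_le haP
      haveI := hQ.1.1
      have heq : Q = P := by
        by_contra hne
        have h1 := Ideal.height_add_one_le_of_lt_of_isPrime (lt_of_le_of_ne hQP hne)
        rw [hhP] at h1
        have h2 := (hall Q hQ.1.1 hQ.1.2 hQP)
        rw [Nat.cast_zero, add_zero] at h2
        exact absurd ((ENat.add_one_le_iff (Q.height_ne_top hQ.1.1.ne_top)).mp h1) h2.not_gt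
      subst heq
      rw [Nat.zero_add, one_mul]
      exact hN a Q hIa hQ y
    · obtain ⟨w, hwa, hwP⟩ := SetLike.not_le_iff_exists.mp haP
      obtain ⟨k, hk⟩ := isPowerTorsion_H a i y
      exact ⟨w ^ k, fun h => hwP (Ideal.IsPrime.mem_of_pow_mem inferInstance k h),
        by rw [smul_comm, hk _ (Ideal.pow_mem_pow hwa k), smul_zero]⟩
  | succ e ih =>
    intro a hIa hall y
    classical
    let T : Set (Ideal R) := {Q | Q ∈ a.minimalPrimes ∧ Q ≤ P ∧ Q.height + (e + 1 : ℕ) = hP}
    have hT : T.Finite :=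
      (Ideal.finite_minimalPrimes_of_isNoetherianRing R a).subset fun Q hQ => hQ.1
    let z := x ^ N • y
    obtain ⟨v, hvz, hv⟩ : ∃ v : R, v • z = 0 ∧ ∀ Q ∈ T, v ∉ Q := by
      by_contra! hcon
      have hsub : (LinearMap.ker (LinearMap.toSpanSingleton R _ z) : Set R) ⊆
          ⋃ Q ∈ (hT.toFinset : Set (Ideal R)), (Q : Set R) := fun v hv => by
        obtain ⟨Q, hQ, hvQ⟩ := hcon v (by
          rw [SetLike.mem_coe, LinearMap.mem_ker, LinearMap.toSpanSingleton_apply] at hv
          exact hv)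
        exact Set.mem_iUnion₂.mpr ⟨Q, hT.mem_toFinset.mpr hQ, hvQ⟩
      obtain ⟨Q, hQ, hle⟩ := (Ideal.subset_union_prime ⊥ ⊥ (fun Q hQ _ _ =>
        (hT.mem_toFinset.mp hQ).1.1.1)).mp hsub
      have hQ' := (hT.mem_toFinset.mp hQ).1
      haveI := hQ'.1.1
      obtain ⟨u, hu, huy⟩ := hN a Q hIa hQ' y
      exact hu (hle (show u ∈ LinearMap.ker (LinearMap.toSpanSingleton R _ z) by
        rw [LinearMap.mem_ker, LinearMap.toSpanSingleton_apply]
        exact huy))
    have h0 : Hmap a i (locMap v M) z = 0 := by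
      obtain ⟨g, hg⟩ : ∃ g : LocalizedModule (Submonoid.powers v) M →ₗ[R]
          LocalizedModule (Submonoid.powers v) M,
          g ∘ₗ LinearMap.lsmul R _ v = LinearMap.id :=
        ⟨(LinearEquiv.ofBijective (LinearMap.lsmul R _ v) (smul_bijective_loc v M)).symm,
          LinearMap.ext fun w =>
            (LinearEquiv.ofBijective (LinearMap.lsmul R _ v) (smul_bijective_loc v M)).symm_apply_apply w⟩
      have := congrArg (fun φ => Hmap a i φ (Hmap a i (locMap v M) z)) hg
      rw [Hmap_comp, LinearMap.comp_apply, Hmap_lsmul, ← map_smul, hvz, map_zero, map_zero,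
        Hmap_id, LinearMap.id_apply] at this
      exact this.symm
    obtain ⟨y', hy'⟩ := mem_range_HofLE (le_sup_left : a ≤ a ⊔ Ideal.span {v}) v
      Ideal.le_radical M z h0
    obtain ⟨u, hu, huy⟩ := ih (a ⊔ Ideal.span {v}) (hIa.trans le_sup_left) (fun Q hQ hle hQP => by
      have h1 := hall Q hQ (le_sup_left.trans hle) hQP
      by_contra hcon
      obtain ⟨n, hn⟩ := ENat.ne_top_iff_exists.mp (Q.height_ne_top hQ.ne_top)
      rw [← hn] at h1 hcon
      have h1' : hP ≤ n + (e + 1) := by exact_mod_cast h1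
      have hcon' : ¬ hP ≤ n + e := fun h => hcon (by exact_mod_cast h)
      refine hv Q ⟨?_, hQP, ?_⟩ (hle (Ideal.mem_sup_right (Ideal.mem_span_singleton_self v)))
      · obtain ⟨Q', hQ', hQ'Q⟩ := Ideal.exists_minimalPrimes_le (J := Q) (le_sup_left.trans hle)
        rcases eq_or_lt_of_le hQ'Q with rfl | hlt
        · exact hQ'
        haveI := hQ'.1.1
        have h2 := Ideal.height_add_one_le_of_lt_of_isPrime hlt
        have h3 := hall Q' hQ'.1.1 hQ'.1.2 (hQ'Q.trans hQP)
        obtain ⟨n', hn'⟩ := ENat.ne_top_iff_exists.mp (Q'.height_ne_top hQ'.1.1.ne_top)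
        rw [← hn', ← hn] at h2
        rw [← hn'] at h3
        have h2' : n' + 1 ≤ n := by exact_mod_cast h2
        have h3' : hP ≤ n' + (e + 1) := by exact_mod_cast h3
        omega
      · rw [← hn, ← Nat.cast_add, show n + (e + 1) = hP by omega]) y'
    refine ⟨u, hu, ?_⟩
    rw [show (e + 1 + 1) * N = (e + 1) * N + N by ring, pow_add, mul_smul]
    change u • x ^ ((e + 1) * N) • z = 0
    rw [← hy', ← map_smul, ← map_smul, huy, map_zero]

/-- a good element of `I` -/
theorem exists_good (I : Ideal R) (M : Type u) [AddCommGroup M] [Module R M] [Module.Finite R M]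
    (hΓ : gamma I M = ⊥) :
    ∃ x ∈ I, IsSMulRegular M x ∧ ∀ (p : Ideal R) [p.IsPrime], ¬ I ≤ p → x ∈ p → ∀ q : ℕ,
      ∀ z : EK (R := R) R M q, x • z = 0 → ∃ u ∈ p.primeCompl, u • z = 0 := by
  classical
  obtain ⟨t, ht⟩ := S5165.result R M
  haveI : ∀ q, Module.Finite R (EK (R := R) R M q) := fun q => finite_EK q M
  let T : Set (Ideal R) := {P | (P ∈ associatedPrimes R M ∨
    ∃ q ∈ Finset.range (t + 1), P ∈ associatedPrimes R (EK (R := R) R M q)) ∧ ¬ I ≤ P}
  have hT : T.Finite :=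
    ((associatedPrimes.finite R M).union ((Finset.range (t + 1)).finite_toSet.biUnion
      fun q _ => associatedPrimes.finite R (EK (R := R) R M q))).subset fun P hP => by
      rcases hP.1 with h | ⟨q, hq, h⟩
      · exact Or.inl h
      · exact Or.inr (Set.mem_iUnion₂.mpr ⟨q, hq, h⟩)
  obtain ⟨x, hxI, hx⟩ : ∃ x ∈ I, ∀ P ∈ T, x ∉ P := by
    by_contra! hcon
    have hsub : (I : Set R) ⊆ ⋃ P ∈ (hT.toFinset : Set (Ideal R)), (P : Set R) := fun x hx => by
      obtain ⟨P, hP, hxP⟩ := hcon x hx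
      exact Set.mem_iUnion₂.mpr ⟨P, hT.mem_toFinset.mpr hP, hxP⟩
    obtain ⟨P, hP, hle⟩ := (Ideal.subset_union_prime ⊥ ⊥ (fun P hP _ _ => by
      rcases (hT.mem_toFinset.mp hP).1 with h | ⟨q, -, h⟩
      · exact IsAssociatedPrime.isPrime h
      · exact IsAssociatedPrime.isPrime h)).mp hsub
    exact (hT.mem_toFinset.mp hP).2 hle
  have hassM : ∀ P ∈ associatedPrimes R M, ¬ I ≤ P := fun P hP hIP => by
    obtain ⟨m, hm⟩ := exists_annihilator_mem hP
    have h1 : m ∈ gamma I M := ⟨1, fun a ha => (hm a).mpr (hIP (by simpa using ha))⟩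
    rw [hΓ, Submodule.mem_bot] at h1
    exact (IsAssociatedPrime.isPrime hP).ne_top
      ((Ideal.eq_top_iff_one _).mpr ((hm 1).mp (by rw [h1, smul_zero])))
  refine ⟨x, hxI, IsSMulRegular.of_right_eq_zero_of_smul fun m hm => ?_, ?_⟩
  · by_contra hm0
    obtain ⟨P, hP, hmP, -⟩ := exists_associated_disjoint (S := (⊥ : Submonoid R)) (y := m)
      (fun u hu => by rw [Submonoid.mem_bot.mp hu, one_smul]; exact hm0)
    exact hx P ⟨Or.inl hP, hassM P hP⟩ (hmP x hm)
  · intro p _ hIp hxp q z hz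
    by_cases hqt : q ≤ t
    swap
    · haveI : Subsingleton (EK (R := R) R M q) :=
        haveI := ht
        HasProjectiveDimensionLT.subsingleton _ (t + 1) q (by omega) _
      exact ⟨1, p.primeCompl.one_mem, Subsingleton.elim _ _⟩
    by_contra hcon
    push Not at hcon
    obtain ⟨P, hP, hzP, hdisj⟩ := exists_associated_disjoint (S := p.primeCompl) (y := z) hcon
    have hPp : P ≤ p := fun w hw => by
      by_contra hwp
      exact Set.disjoint_left.mp hdisj hw hwp
    exact hx P ⟨Or.inr ⟨q, Finset.mem_range.mpr (Nat.lt_succ_of_le hqt), hP⟩,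
      fun h => hIp (h.trans hPp)⟩ (hzP x hz)

theorem finite_H_step (I : Ideal R) (i : ℕ)
    (ih : ∀ (M : Type u) [AddCommGroup M] [Module R M] [Module.Finite R M],
      Cond I M i → Module.Finite R (LocCoh.H I i M))
    (M : Type u) [AddCommGroup M] [Module R M] [Module.Finite R M]
    (hc : Cond I M (i + 1)) (hΓ : gamma I M = ⊥) : Module.Finite R (LocCoh.H I (i + 1) M) := by
  obtain ⟨x, hxI, hreg, hgood⟩ := exists_good I M hΓ
  have hses := LC17.regular_ses hreg
  have hπ := Submodule.mkQ_surjective (x • (⊤ : Submodule R M))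
  have hcq : Cond I (M ⧸ x • (⊤ : Submodule R M)) i := by
    intro p q hpq hIq hIp j hj
    by_cases hxp : x ∈ p.asIdeal
    swap
    · refine nul_H_of_nul p.asIdeal j fun y => ?_
      obtain ⟨m, rfl⟩ := Submodule.Quotient.mk_surjective _ y
      exact ⟨x, hxp, by
        rw [← Submodule.Quotient.mk_smul, Submodule.Quotient.mk_eq_zero]
        exact Submodule.smul_mem_pointwise_smul m x ⊤ Submodule.mem_top⟩
    obtain ⟨h₀, hh₀⟩ := ENat.ne_top_iff_exists.mp (p.asIdeal.height_ne_top p.isPrime.ne_top)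
    by_cases hlt : h₀ < j
    · exact stk_of_height_lt _ _ (by rw [← hh₀]; exact_mod_cast hlt)
    rw [stk_iff_ext (i := h₀ - j) p.asIdeal _ (by rw [← hh₀, Nat.sub_add_cancel (not_lt.mp hlt)])]
    intro z
    set π := (x • (⊤ : Submodule R M)).mkQ
    -- the image in `Ext(M)`
    have hxz : x • z = 0 := by
      have h0 : (x • 𝟙 (ModuleCat.of R (M ⧸ x • (⊤ : Submodule R M))) :
          ModuleCat.of R (M ⧸ x • (⊤ : Submodule R M)) ⟶ _) = 0 :=
        ModuleCat.hom_ext (LinearMap.ext fun y => by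
          obtain ⟨m, rfl⟩ := Submodule.Quotient.mk_surjective _ y
          show x • (Submodule.Quotient.mk m : M ⧸ x • (⊤ : Submodule R M)) = 0
          rw [← Submodule.Quotient.mk_smul, Submodule.Quotient.mk_eq_zero]
          exact Submodule.smul_mem_pointwise_smul m x ⊤ Submodule.mem_top)
      calc x • z = x • (Abelian.Ext.mk₀ (𝟙 _)).comp z (zero_add _) := by
            rw [Abelian.Ext.mk₀_id_comp]
        _ = 0 := by
            rw [← Abelian.Ext.smul_comp, ← Abelian.Ext.mk₀_smul, h0, Abelian.Ext.mk₀_zero,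
              Abelian.Ext.zero_comp]
    obtain ⟨u, hu, huz⟩ := hgood p.asIdeal hIp hxp (h₀ - j)
      ((Abelian.Ext.mk₀ (ModuleCat.ofHom π)).comp z (zero_add _))
      (by rw [← Abelian.Ext.comp_smul, hxz, Abelian.Ext.comp_zero])
    rw [← Abelian.Ext.comp_smul] at huz
    generalize hq : h₀ - j = n at z huz
    rcases n with _ | n
    · refine ⟨u, hu, ?_⟩
      obtain ⟨g, hg⟩ := (hom0 R (M ⧸ x • (⊤ : Submodule R M))).surjective (u • z)
      rw [← hg, hom0_apply, Abelian.Ext.mk₀_comp_mk₀] at huz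
      have hπg : g ∘ₗ π = 0 := congrArg ModuleCat.Hom.hom
        ((Abelian.Ext.mk₀_bijective _ _).1 (huz.trans (Abelian.Ext.mk₀_zero _ _).symm))
      rw [← hg, show g = 0 from LinearMap.ext fun y => by obtain ⟨m, rfl⟩ := hπ y; exact LinearMap.congr_fun hπg m,
        map_zero]
    · obtain ⟨w, hw⟩ := Abelian.Ext.contravariant_sequence_exact₃
        (seqSC_shortExact hses.1 hses.2 hπ) _ (u • z) huz (add_comm 1 n)
      have hnul : Nul p.asIdeal.primeCompl (EK (R := R) R M n) :=
        (stk_iff_ext (j := j + 1) p.asIdeal M (by rw [← hh₀]; congr 1; omega)).1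
          (hc p q hpq hIq hIp (j + 1) (by omega))
      obtain ⟨v, hv, hvw⟩ := hnul w
      refine ⟨v * u, mul_mem hv hu, ?_⟩
      rw [mul_smul, ← hw, ← Abelian.Ext.comp_smul]
      exact (congrArg (fun w => Abelian.Ext.comp _ w _) hvw).trans (Abelian.Ext.comp_zero _ _ _ _ _)
  haveI := ih _ hcq
  haveI : Module.Finite R (Submodule.torsionBy R (LocCoh.H I (i + 1) M) x) := by
    rw [show Submodule.torsionBy R (LocCoh.H I (i + 1) M) x =
      LinearMap.range (Hδ I i hses.1 hses.2 hπ) from ?_]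
    · infer_instance
    ext y
    rw [Submodule.mem_torsionBy_iff, LinearMap.mem_range]
    refine Iff.trans ?_ ((H_exact₁ I i hses.1 hses.2 hπ) y)
    rw [Hmap_lsmul]
  obtain ⟨N₀, hN₀⟩ := exists_kn_ext I x hxI i M hc
  refine finite_of_torsion_of_locFG x (fun y => ?_) inferInstance fun P => ?_
  · obtain ⟨k, hk⟩ := isPowerTorsion_H I (i + 1) y
    exact ⟨k, hk _ (Ideal.pow_mem_pow hxI k)⟩
  obtain ⟨hP, hhP⟩ := ENat.ne_top_iff_exists.mp (P.asIdeal.height_ne_top P.isPrime.ne_top)
  haveI := finite_torsionBy_pow (H := LocCoh.H I (i + 1) M) x ((hP + 1) * N₀)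
  refine ⟨_, Module.Finite.iff_fg.mp this, fun y => ?_⟩
  obtain ⟨u, hu, huy⟩ := kill_at I x (i + 1) N₀ M (fun a Q _ hIa hQ =>
      kn_H_minimal a Q hQ (x ^ N₀) (i + 1) M fun q hq =>
        hN₀ Q (hIa.trans hQ.1.2) q hq)
    P.asIdeal hP hhP.symm hP I le_rfl (fun Q _ _ _ => le_add_self) y
  exact ⟨u, hu, (Submodule.mem_torsionBy_iff _ _).mpr (by rw [smul_comm]; exact huy)⟩

/-- the criterion -/
theorem finite_H (I : Ideal R) : ∀ (i : ℕ) (M : Type u) [AddCommGroup M] [Module R M]
    [Module.Finite R M], Cond I M i → Module.Finite R (LocCoh.H I i M) := by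
  intro i
  induction i with
  | zero => intro M _ _ _ _; exact finite_H_zero I M
  | succ i ih =>
    intro M₀ _ _ _ hc₀
    suffices hmain : Module.Finite R (LocCoh.H I (i + 1) (M₀ ⧸ gamma I M₀)) from
      finite_H_of_quot_gamma I i.succ_pos
    have hc : Cond I (M₀ ⧸ gamma I M₀) (i + 1) := by
      intro p q hpq hIq hIp j hj
      have hΓ : Nul p.asIdeal.primeCompl (gamma I M₀) := by
        rintro ⟨m, k, hk⟩
        obtain ⟨a, haI, hap⟩ := SetLike.not_le_iff_exists.mp hIp
        exact ⟨a ^ k, fun h => hap (Ideal.IsPrime.mem_of_pow_mem inferInstance k h),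
          Subtype.ext (hk _ (Ideal.pow_mem_pow haI k))⟩
      exact LC17.Nul.middle (H_exact₃ p.asIdeal j (gamma I M₀).injective_subtype
        (LinearMap.exact_subtype_mkQ _) (Submodule.mkQ_surjective _))
        (hc₀ p q hpq hIq hIp j hj) (nul_H_of_nul p.asIdeal (j + 1) hΓ)
    exact finite_H_step I i ih _ hc (gamma_quot_gamma I)

end Groth.Agent.LC15.FiniteSingle
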