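import Groth.Agent.LC15.Gamma
import Groth.Agent.SiteCoh.ExtCompare
import Mathlib.Algebra.Category.ModuleCat.ChangeOfRings
import Mathlib.RingTheory.Flat.Basic
import Mathlib.LinearAlgebra.TensorProduct.RightExactness
import Mathlib.RingTheory.TensorProduct.Basic

set_option autoImplicit false

universe u

open TensorProduct CategoryTheory CategoryTheory.Limits

namespace Groth.Agent.LC15.FTE

section gen

variable {A : Type u} [CommRing A] (B : Type u) [CommRing B] [Algebra A B]

theorem ext_sub_comp {X Y Z : ModuleCat.{u} A} {a b c : ℕ} (x y : Abelian.Ext X Y a)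
    (z : Abelian.Ext Y Z b) (h : a + b = c) :
    (x - y).comp z h = x.comp z h - y.comp z h :=
  map_sub (z.postcomp X h) x y

/-- `B ⊗ N` as an `A`-module. -/
abbrev tw (N : ModuleCat.{u} A) : ModuleCat.{u} A := ModuleCat.of A (B ⊗[A] N)

/-- `N → B ⊗ N`. -/
noncomputable def unit (N : ModuleCat.{u} A) : N ⟶ tw B N :=
  ModuleCat.ofHom (TensorProduct.mk A B N 1)

/-- functoriality. -/
noncomputable def twMap {N N' : ModuleCat.{u} A} (g : N ⟶ N') : tw B N ⟶ tw B N' :=
  ModuleCat.ofHom (g.hom.lTensor B)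

theorem unit_nat {N N' : ModuleCat.{u} A} (g : N ⟶ N') :
    unit B N ≫ twMap B g = g ≫ unit B N' :=
  ModuleCat.hom_ext (LinearMap.ext fun _ => rfl)

theorem twMap_comp {N N' N'' : ModuleCat.{u} A} (g : N ⟶ N') (g' : N' ⟶ N'') :
    twMap B (g ≫ g') = twMap B g ≫ twMap B g' :=
  ModuleCat.hom_ext (LinearMap.lTensor_comp B g'.hom g.hom)

theorem twMap_smul_id (a : A) (N : ModuleCat.{u} A) :
    twMap B (a • 𝟙 N) = a • 𝟙 (tw B N) :=
  ModuleCat.hom_ext ((LinearMap.lTensor_smul B a LinearMap.id).trans (by rw [LinearMap.lTensor_id]; rfl))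

variable [Module.Flat A B]

/-- `B ⊗ S`. -/
noncomputable abbrev twSC (S : ShortComplex (ModuleCat.{u} A)) : ShortComplex (ModuleCat.{u} A) :=
  ShortComplex.mk (twMap B S.f) (twMap B S.g) (by
    rw [← twMap_comp, S.zero]
    exact ModuleCat.hom_ext (LinearMap.lTensor_zero _))

theorem twSC_shortExact {S : ShortComplex (ModuleCat.{u} A)} (hS : S.ShortExact) :
    (twSC B S).ShortExact := by
  have hf := (ModuleCat.mono_iff_injective _).1 hS.mono_f
  have hg := (ModuleCat.epi_iff_surjective _).1 hS.epi_g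
  have he := (ShortComplex.ShortExact.moduleCat_exact_iff_function_exact S).1 hS.exact
  exact
    { exact := (ShortComplex.ShortExact.moduleCat_exact_iff_function_exact _).2
        (Module.Flat.lTensor_exact B he)
      mono_f := (ModuleCat.mono_iff_injective _).2
        (Module.Flat.lTensor_preserves_injective_linearMap (M := B) _ hf)
      epi_g := (ModuleCat.epi_iff_surjective _).2 (LinearMap.lTensor_surjective B hg) }

/-- the morphism `S → B ⊗ S`. -/
noncomputable def unitSC (S : ShortComplex (ModuleCat.{u} A)) : S ⟶ twSC B S where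
  τ₁ := unit B S.X₁
  τ₂ := unit B S.X₂
  τ₃ := unit B S.X₃
  comm₁₂ := unit_nat B S.f
  comm₂₃ := unit_nat B S.g

/-- `Ext(T, N) → Ext(T, B ⊗ N)`. -/
noncomputable def θ (T N : ModuleCat.{u} A) (i : ℕ) :
    Abelian.Ext T N i →+ Abelian.Ext T (tw B N) i :=
  (Abelian.Ext.mk₀ (unit B N)).postcomp T (add_zero i)

theorem θ_apply {T N : ModuleCat.{u} A} {i : ℕ} (x : Abelian.Ext T N i) :
    θ B T N i x = x.comp (Abelian.Ext.mk₀ (unit B N)) (add_zero i) := rfl

theorem θ_nat {T N N' : ModuleCat.{u} A} (g : N ⟶ N') {i : ℕ} (x : Abelian.Ext T N i) :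
    θ B T N' i (x.comp (Abelian.Ext.mk₀ g) (add_zero i)) =
      (θ B T N i x).comp (Abelian.Ext.mk₀ (twMap B g)) (add_zero i) := by
  rw [θ_apply, θ_apply, Abelian.Ext.comp_assoc_of_second_deg_zero,
    Abelian.Ext.comp_assoc_of_second_deg_zero, Abelian.Ext.mk₀_comp_mk₀,
    Abelian.Ext.mk₀_comp_mk₀, unit_nat]

theorem θ_δ {T : ModuleCat.{u} A} {S : ShortComplex (ModuleCat.{u} A)} (hS : S.ShortExact)
    {i j : ℕ} (h : i + 1 = j) (x : Abelian.Ext T S.X₃ i) :
    θ B T S.X₁ j (x.comp hS.extClass h) =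
      (θ B T S.X₃ i x).comp (twSC_shortExact B hS).extClass h := by
  rw [θ_apply, θ_apply, Abelian.Ext.comp_assoc _ _ _ h (add_zero 1) (by omega),
    show hS.extClass.comp (Abelian.Ext.mk₀ (unit B S.X₁)) (add_zero 1) =
      (Abelian.Ext.mk₀ (unit B S.X₃)).comp (twSC_shortExact B hS).extClass (zero_add 1) from
      ShortComplex.ShortExact.extClass_naturality hS (twSC_shortExact B hS) (unitSC B S),
    Abelian.Ext.comp_assoc _ _ _ (add_zero i) (zero_add 1) (by omega)]

theorem θ_pre {T T' N : ModuleCat.{u} A} (g : T ⟶ T') {i : ℕ} (x : Abelian.Ext T' N i) :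
    θ B T N i ((Abelian.Ext.mk₀ g).comp x (zero_add i)) =
      (Abelian.Ext.mk₀ g).comp (θ B T' N i x) (zero_add i) := by
  rw [θ_apply, θ_apply, Abelian.Ext.comp_assoc_of_third_deg_zero]

theorem θ_preδ {S : ShortComplex (ModuleCat.{u} A)} (hS : S.ShortExact) {N : ModuleCat.{u} A}
    {i j : ℕ} (h : 1 + i = j) (x : Abelian.Ext S.X₁ N i) :
    θ B S.X₃ N j (hS.extClass.comp x h) = hS.extClass.comp (θ B S.X₁ N i x) h := by
  rw [θ_apply, θ_apply, Abelian.Ext.comp_assoc_of_third_deg_zero]

/-- `T` sees no difference between `N` and `B ⊗ N`. -/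
def Good (T N : ModuleCat.{u} A) : Prop := ∀ i : ℕ, Function.Bijective (θ B T N i)

omit [Module.Flat A B] in
theorem comp_smul_id_eq_zero {T : ModuleCat.{u} A} {a : A} (ha : ∀ t : T, a • t = 0)
    {X : ModuleCat.{u} A} {i : ℕ} (x : Abelian.Ext T X i) :
    x.comp (Abelian.Ext.mk₀ (a • 𝟙 X)) (add_zero i) = 0 := by
  have h0 : a • 𝟙 T = 0 := ModuleCat.hom_ext (LinearMap.ext fun t => ha t)
  have h1 : a • x = 0 := by
    rw [← Abelian.Ext.mk₀_id_comp x, ← Abelian.Ext.smul_comp, ← Abelian.Ext.mk₀_smul, h0,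
      Abelian.Ext.mk₀_zero, Abelian.Ext.zero_comp]
  rw [Abelian.Ext.mk₀_smul, Abelian.Ext.comp_smul, Abelian.Ext.comp_mk₀_id, h1]

/-- Dévissage along multiplication by an element killing `T`. -/
theorem good_of_factor {T : ModuleCat.{u} A} {a : A} (ha : ∀ t : T, a • t = 0)
    {K N' W' Q : ModuleCat.{u} A} {u₀ : K ⟶ N'} {u : N' ⟶ W'} {z₁ : u₀ ≫ u = 0}
    {v : W' ⟶ N'} {q : N' ⟶ Q} {z₂ : v ≫ q = 0}
    (hS₁ : (ShortComplex.mk u₀ u z₁).ShortExact) (hS₂ : (ShortComplex.mk v q z₂).ShortExact)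
    (hfac : u ≫ v = a • 𝟙 N') (hK : Good B T K) (hQ : Good B T Q) : Good B T N' := by
  have hS₁' := twSC_shortExact B hS₁
  have hS₂' := twSC_shortExact B hS₂
  have hzero : ∀ {i : ℕ} (x : Abelian.Ext T N' i),
      (x.comp (Abelian.Ext.mk₀ u) (add_zero i)).comp (Abelian.Ext.mk₀ v) (add_zero i) = 0 := by
    intro i x
    rw [Abelian.Ext.comp_assoc_of_second_deg_zero, Abelian.Ext.mk₀_comp_mk₀, hfac,
      comp_smul_id_eq_zero ha]
  have hzero' : ∀ {i : ℕ} (x : Abelian.Ext T (tw B N') i),
      (x.comp (Abelian.Ext.mk₀ (twMap B u)) (add_zero i)).comp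
        (Abelian.Ext.mk₀ (twMap B v)) (add_zero i) = 0 := by
    intro i x
    rw [Abelian.Ext.comp_assoc_of_second_deg_zero, Abelian.Ext.mk₀_comp_mk₀, ← twMap_comp, hfac,
      twMap_smul_id, comp_smul_id_eq_zero ha]
  -- kernels
  have kN : ∀ (i : ℕ) (x : Abelian.Ext T N' i), θ B T N' i x = 0 →
      ∃ ξ : Abelian.Ext T W' i, θ B T W' i ξ = 0 ∧ ξ.comp (Abelian.Ext.mk₀ v) (add_zero i) = x := by
    intro i x hx
    obtain ⟨ξ, hξ⟩ := Abelian.Ext.covariant_sequence_exact₂ T hS₂ x ((hQ i).1 (by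
      rw [θ_nat, hx, Abelian.Ext.zero_comp, map_zero]))
    rcases i with _ | j
    · refine ⟨ξ, ?_, hξ⟩
      obtain ⟨w, hw⟩ := (Abelian.Ext.mk₀_bijective T (tw B W')).2 (θ B T W' 0 ξ)
      have hcomp : (θ B T W' 0 ξ).comp (Abelian.Ext.mk₀ (twMap B v)) (add_zero 0) = 0 := by
        rw [← θ_nat]; exact (congrArg _ hξ).trans hx
      rw [← hw, Abelian.Ext.mk₀_comp_mk₀, ← Abelian.Ext.mk₀_zero] at hcomp
      haveI : Mono (twMap B v) := hS₂'.mono_f
      have := (Abelian.Ext.mk₀_bijective _ _).1 hcomp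
      rw [← hw, show w = 0 from (cancel_mono (twMap B v)).1 (this.trans zero_comp.symm),
        Abelian.Ext.mk₀_zero]
    · obtain ⟨z, hz⟩ := Abelian.Ext.covariant_sequence_exact₁ T hS₂' (θ B T W' (j + 1) ξ) (by
        change (θ B T W' (j + 1) ξ).comp (Abelian.Ext.mk₀ (twMap B v)) _ = 0
        rw [← θ_nat]; exact (congrArg _ hξ).trans hx) rfl
      obtain ⟨z, rfl⟩ := (hQ j).2 z
      refine ⟨ξ - z.comp hS₂.extClass rfl, ?_, ?_⟩
      · rw [map_sub, θ_δ B hS₂ rfl z, hz, sub_self]
      · rw [ext_sub_comp, Abelian.Ext.comp_assoc _ _ _ rfl (add_zero 1) (by omega),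
          hS₂.extClass_comp, Abelian.Ext.comp_zero, sub_zero]
        exact hξ
  have kW : ∀ (i : ℕ) (ξ : Abelian.Ext T W' i), θ B T W' i ξ = 0 →
      ∃ x : Abelian.Ext T N' i, θ B T N' i x = 0 ∧ x.comp (Abelian.Ext.mk₀ u) (add_zero i) = ξ := by
    intro i ξ hξ
    obtain ⟨x, hx⟩ := Abelian.Ext.covariant_sequence_exact₃ T hS₁ ξ rfl ((hK (i + 1)).1 (by
      rw [θ_δ B hS₁ rfl ξ, hξ, Abelian.Ext.zero_comp, map_zero]))
    obtain ⟨z, hz⟩ := Abelian.Ext.covariant_sequence_exact₂ T hS₁' (θ B T N' i x) (by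
      change (θ B T N' i x).comp (Abelian.Ext.mk₀ (twMap B u)) _ = 0
      rw [← θ_nat]; exact (congrArg _ hx).trans hξ)
    obtain ⟨z, rfl⟩ := (hK i).2 z
    refine ⟨x - z.comp (Abelian.Ext.mk₀ u₀) (add_zero i), ?_, ?_⟩
    · rw [map_sub, θ_nat, sub_eq_zero]; exact hz.symm
    · rw [ext_sub_comp, Abelian.Ext.comp_assoc_of_second_deg_zero,
        Abelian.Ext.mk₀_comp_mk₀, z₁, Abelian.Ext.mk₀_zero, Abelian.Ext.comp_zero, sub_zero]
      exact hx
  have injN : ∀ i, Function.Injective (θ B T N' i) := fun i =>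
    (injective_iff_map_eq_zero _).2 fun x hx => by
      obtain ⟨ξ, hξ, rfl⟩ := kN i x hx
      obtain ⟨x', -, rfl⟩ := kW i ξ hξ
      exact hzero x'
  have injW : ∀ i, Function.Injective (θ B T W' i) := fun i =>
    (injective_iff_map_eq_zero _).2 fun ξ hξ => by
      obtain ⟨x, hx, rfl⟩ := kW i ξ hξ
      rw [(injN i) (hx.trans (map_zero _).symm), Abelian.Ext.zero_comp]
  -- surjectivity
  refine fun i => ⟨injN i, fun y => ?_⟩
  obtain ⟨z, hz⟩ := (hQ i).2 (y.comp (Abelian.Ext.mk₀ (twMap B q)) (add_zero i))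
  have hzδ : z.comp hS₂.extClass rfl = 0 := injW (i + 1) (by
    rw [θ_δ B hS₂ rfl z, hz, map_zero,
      Abelian.Ext.comp_assoc _ _ _ (add_zero i) (zero_add 1) (by omega)]
    exact (congrArg (fun t => y.comp t rfl) hS₂'.comp_extClass).trans (Abelian.Ext.comp_zero _ _ _ _ _))
  obtain ⟨x, hx⟩ := Abelian.Ext.covariant_sequence_exact₃ T hS₂ z rfl hzδ
  obtain ⟨η, hη⟩ := Abelian.Ext.covariant_sequence_exact₂ T hS₂' (y - θ B T N' i x) (by
    change (y - θ B T N' i x).comp (Abelian.Ext.mk₀ (twMap B q)) _ = 0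
    rw [ext_sub_comp, ← θ_nat, show x.comp (Abelian.Ext.mk₀ q) (add_zero i) = z from hx,
      hz, sub_self])
  obtain ⟨z₁', hz₁'⟩ := (hK (i + 1)).2 (η.comp hS₁'.extClass rfl)
  have hz₁0 : z₁'.comp (Abelian.Ext.mk₀ u₀) (add_zero (i + 1)) = 0 := injN (i + 1) (by
    rw [θ_nat, map_zero]
    erw [hz₁']
    rw [Abelian.Ext.comp_assoc _ _ _ rfl (add_zero 1) (by omega)]
    exact (congrArg (fun t => η.comp t rfl) hS₁'.extClass_comp).trans (Abelian.Ext.comp_zero _ _ _ _ _))
  obtain ⟨ξ, hξ⟩ := Abelian.Ext.covariant_sequence_exact₁ T hS₁ z₁' hz₁0 rfl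
  obtain ⟨y₂, hy₂⟩ := Abelian.Ext.covariant_sequence_exact₃ T hS₁' (η - θ B T W' i ξ) rfl (by
    rw [ext_sub_comp, ← θ_δ B hS₁ rfl ξ, hξ, hz₁']; exact sub_self _)
  refine ⟨x + ξ.comp (Abelian.Ext.mk₀ v) (add_zero i), ?_⟩
  have h2 : η.comp (Abelian.Ext.mk₀ (twMap B v)) (add_zero i) =
      (θ B T W' i ξ).comp (Abelian.Ext.mk₀ (twMap B v)) (add_zero i) := by
    rw [← sub_eq_zero, ← ext_sub_comp, ← hy₂]
    exact hzero' y₂
  rw [map_add, θ_nat, ← h2]
  erw [hη]
  exact add_sub_cancel _ _

end gen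

section torsion

variable {A : Type u} [CommRing A] {B : Type u} [CommRing B] [Algebra A B] [Module.Flat A B]
  {I : Ideal A}
  (hs : Function.Surjective ((Ideal.Quotient.mk (I.map (algebraMap A B))).comp (algebraMap A B)))
  (hk : RingHom.ker ((Ideal.Quotient.mk (I.map (algebraMap A B))).comp (algebraMap A B)) = I)

include hs hk in
theorem mk_bijective (T : Type u) [AddCommGroup T] [Module A T]
    (hT : ∀ a ∈ I, ∀ t : T, a • t = 0) :
    Function.Bijective (TensorProduct.mk A B T 1) := by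
  set π := (Ideal.Quotient.mk (I.map (algebraMap A B))).comp (algebraMap A B)
  have hz : ∀ b ∈ I.map (algebraMap A B), ∀ t : T, (b ⊗ₜ[A] t : B ⊗[A] T) = 0 := by
    intro b hb t
    induction hb using Submodule.span_induction generalizing t with
    | mem b hb =>
      obtain ⟨a, ha, rfl⟩ := hb
      rw [Algebra.algebraMap_eq_smul_one, TensorProduct.smul_tmul, hT a ha, TensorProduct.tmul_zero]
    | zero => rw [TensorProduct.zero_tmul]
    | add b c _ _ hb hc => rw [TensorProduct.add_tmul, hb, hc, add_zero]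
    | smul r c _ hc =>
      have : r • (c ⊗ₜ[A] t : B ⊗[A] T) = (r • c) ⊗ₜ[A] t := TensorProduct.smul_tmul' r c t
      rw [← this, hc, smul_zero]
  -- a retraction
  choose s hs' using fun b : B => hs (Ideal.Quotient.mk _ b)
  have hsub : ∀ a a' : A, π a = π a' → ∀ t : T, a • t = a' • t := fun a a' h t => by
    rw [← sub_eq_zero, ← sub_smul]
    exact hT _ (hk ▸ (RingHom.mem_ker.2 (by rw [map_sub, h, sub_self]))) t
  let r : B ⊗[A] T →ₗ[A] T := TensorProduct.lift (LinearMap.mk₂ A (fun b t => s b • t)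
    (fun b c t => (hsub _ (s b + s c) (by rw [hs', map_add, map_add, hs', hs']) t).trans (add_smul _ _ _))
    (fun a b t => (hsub _ (a * s b) (by
      rw [hs', map_mul, hs', Algebra.smul_def, map_mul]; rfl) t).trans (mul_smul _ _ _))
    (fun b t t' => smul_add _ _ _) (fun a b t => smul_comm _ _ _))
  refine ⟨fun t t' h => ?_, fun z => ?_⟩
  · have h1 : ∀ t : T, r (1 ⊗ₜ t) = t := fun t =>
      (hsub (s 1) 1 (by rw [hs', map_one, map_one]) t).trans (one_smul A t)
    have := congrArg r h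
    rwa [TensorProduct.mk_apply, TensorProduct.mk_apply, h1, h1] at this
  · induction z using TensorProduct.induction_on with
    | zero => exact ⟨0, map_zero _⟩
    | tmul b t =>
      refine ⟨s b • t, ?_⟩
      have hb := hz _ (Ideal.Quotient.eq.1 (hs' b)) t
      rw [TensorProduct.sub_tmul, sub_eq_zero] at hb
      rw [TensorProduct.mk_apply, ← hb, Algebra.algebraMap_eq_smul_one, TensorProduct.smul_tmul]
    | add z z' hz hz' =>
      obtain ⟨a, rfl⟩ := hz
      obtain ⟨b, rfl⟩ := hz'
      exact ⟨a + b, map_add _ _ _⟩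

include hs hk in
theorem good_of_killed (hI : I.FG) (T : ModuleCat.{u} A) (hT : ∀ a ∈ I, ∀ t : T, a • t = 0) :
    ∀ N : ModuleCat.{u} A, Good B T N := by
  classical
  obtain ⟨s, hsI⟩ := hI
  suffices key : ∀ (t : Finset A), t ⊆ s → ∀ N : ModuleCat.{u} A,
      (∀ a ∈ s, a ∉ t → ∀ n : N, a • n = 0) → Good B T N from
    fun N => key s (Finset.Subset.refl s) N fun a ha ha' => absurd ha ha'
  intro t
  induction t using Finset.induction with
  | empty =>
    intro _ N hN
    have hN' : ∀ a ∈ I, ∀ n : N, a • n = 0 := by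
      intro a ha n
      rw [← hsI] at ha
      induction ha using Submodule.span_induction with
      | mem a ha => exact hN a ha (Finset.notMem_empty a) n
      | zero => exact zero_smul _ _
      | add b c _ _ hb hc => rw [add_smul, hb, hc, add_zero]
      | smul r b _ hb => rw [smul_assoc, hb, smul_zero]
    let e : N ≅ tw B N := (LinearEquiv.ofBijective _ (mk_bijective hs hk N hN')).toModuleIso
    intro i
    constructor
    · intro x y h
      have := congrArg (fun z => z.comp (Abelian.Ext.mk₀ e.inv) (add_zero i)) h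
      simp only [θ_apply, Abelian.Ext.comp_assoc_of_second_deg_zero, Abelian.Ext.mk₀_comp_mk₀] at this
      rwa [show unit B N ≫ e.inv = 𝟙 N from e.hom_inv_id, Abelian.Ext.comp_mk₀_id,
        Abelian.Ext.comp_mk₀_id] at this
    · intro y
      refine ⟨y.comp (Abelian.Ext.mk₀ e.inv) (add_zero i), ?_⟩
      rw [θ_apply, Abelian.Ext.comp_assoc_of_second_deg_zero, Abelian.Ext.mk₀_comp_mk₀,
        show e.inv ≫ unit B N = 𝟙 _ from e.inv_hom_id, Abelian.Ext.comp_mk₀_id]
  | insert f t hft ih =>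
    intro hts N hN
    have hfI : f ∈ I := hsI ▸ Submodule.subset_span (hts (Finset.mem_insert_self f t))
    let φ : N →ₗ[A] N := LinearMap.lsmul A N f
    let S₁ : ShortComplex (ModuleCat.{u} A) := ShortComplex.mk
      (ModuleCat.ofHom (LinearMap.ker φ).subtype) (ModuleCat.ofHom φ.rangeRestrict)
      (ModuleCat.hom_ext (LinearMap.ext fun x => Subtype.ext (LinearMap.mem_ker.1 x.2)))
    let S₂ : ShortComplex (ModuleCat.{u} A) := ShortComplex.mk
      (ModuleCat.ofHom (LinearMap.range φ).subtype) (ModuleCat.ofHom (LinearMap.range φ).mkQ)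
      (ModuleCat.hom_ext (LinearMap.ext fun x => (Submodule.Quotient.mk_eq_zero _).2 x.2))
    have hS₁ : S₁.ShortExact :=
      { exact := (ShortComplex.ShortExact.moduleCat_exact_iff_function_exact _).2
          (LinearMap.exact_iff.2 (by
            change LinearMap.ker φ.rangeRestrict = LinearMap.range (LinearMap.ker φ).subtype
            rw [LinearMap.ker_rangeRestrict, Submodule.range_subtype]))
        mono_f := (ModuleCat.mono_iff_injective _).2 (LinearMap.ker φ).injective_subtype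
        epi_g := (ModuleCat.epi_iff_surjective _).2 φ.surjective_rangeRestrict }
    have hS₂ : S₂.ShortExact :=
      { exact := (ShortComplex.ShortExact.moduleCat_exact_iff_function_exact _).2
          (LinearMap.exact_subtype_mkQ (LinearMap.range φ))
        mono_f := (ModuleCat.mono_iff_injective _).2 (LinearMap.range φ).injective_subtype
        epi_g := (ModuleCat.epi_iff_surjective _).2 (Submodule.mkQ_surjective _) }
    have hkill : ∀ a ∈ s, a ∉ t → a = f ∨ ∀ n : N, a • n = 0 := fun a ha hat =>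
      (em (a = f)).imp id fun hne => hN a ha fun h => (Finset.mem_insert.1 h).elim hne hat
    refine good_of_factor B (fun x => hT f hfI x) hS₁ hS₂ ?_ (ih ((Finset.subset_insert f t).trans hts) _ ?_)
      (ih ((Finset.subset_insert f t).trans hts) _ ?_)
    · exact ModuleCat.hom_ext (LinearMap.ext fun x => rfl)
    · intro a ha hat x
      rcases hkill a ha hat with rfl | h
      · exact Subtype.ext (LinearMap.mem_ker.1 x.2)
      · exact Subtype.ext (h _)
    · intro a ha hat x
      obtain ⟨x, rfl⟩ := Submodule.mkQ_surjective _ x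
      change a • (LinearMap.range φ).mkQ x = 0
      rw [← map_smul]
      rcases hkill a ha hat with rfl | h
      · exact (Submodule.Quotient.mk_eq_zero _).2 ⟨x, rfl⟩
      · rw [h, map_zero]

omit hs hk

/-- Five lemma in the first variable. -/
theorem good_middle {S : ShortComplex (ModuleCat.{u} A)} (hS : S.ShortExact) {N : ModuleCat.{u} A}
    (h₁ : Good B S.X₁ N) (h₃ : Good B S.X₃ N) : Good B S.X₂ N := by
  intro i
  constructor
  · refine (injective_iff_map_eq_zero _).2 fun x hx => ?_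
    obtain ⟨x₃, rfl⟩ := Abelian.Ext.contravariant_sequence_exact₂ hS N x ((h₁ i).1 (by
      rw [θ_pre, hx, Abelian.Ext.comp_zero, map_zero]))
    rcases i with _ | j
    · obtain ⟨w, rfl⟩ := (Abelian.Ext.mk₀_bijective _ _).2 x₃
      rw [θ_pre, θ_apply, Abelian.Ext.mk₀_comp_mk₀, Abelian.Ext.mk₀_comp_mk₀,
        ← Abelian.Ext.mk₀_zero] at hx
      haveI := hS.epi_g
      have h0 : w ≫ unit B N = 0 :=
        (cancel_epi S.g).1 (((Abelian.Ext.mk₀_bijective _ _).1 hx).trans comp_zero.symm)
      have : Abelian.Ext.mk₀ w = 0 := (h₃ 0).1 (by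
        rw [θ_apply, Abelian.Ext.mk₀_comp_mk₀, h0, Abelian.Ext.mk₀_zero, map_zero])
      rw [this, Abelian.Ext.comp_zero]
    · rw [θ_pre] at hx
      obtain ⟨x₁, hx₁⟩ := Abelian.Ext.contravariant_sequence_exact₃ hS _ (θ B S.X₃ N (j + 1) x₃) hx
        (add_comm 1 j)
      obtain ⟨x₁, rfl⟩ := (h₁ j).2 x₁
      rw [← θ_preδ] at hx₁
      rw [← (h₃ (j + 1)).1 hx₁, hS.comp_extClass_assoc]
  · intro y
    obtain ⟨x₁, hx₁⟩ := (h₁ i).2 ((Abelian.Ext.mk₀ S.f).comp y (zero_add i))
    obtain ⟨x, hx⟩ := Abelian.Ext.contravariant_sequence_exact₁ hS N x₁ (add_comm 1 i)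
      ((h₃ (i + 1)).1 (by rw [θ_preδ, hx₁, map_zero, hS.extClass_comp_assoc]))
    obtain ⟨y₃, hy₃⟩ := Abelian.Ext.contravariant_sequence_exact₂ hS _ (y - θ B S.X₂ N i x) (by
      rw [sub_eq_add_neg, Abelian.Ext.comp_add, Abelian.Ext.comp_neg, ← θ_pre, hx, hx₁, add_neg_cancel])
    obtain ⟨x₃, rfl⟩ := (h₃ i).2 y₃
    refine ⟨x + (Abelian.Ext.mk₀ S.g).comp x₃ (zero_add i), ?_⟩
    rw [map_add, θ_pre, hy₃, add_sub_cancel]

include hs hk in
theorem good_of_pow_killed (hI : I.FG) : ∀ (k : ℕ) (T : ModuleCat.{u} A),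
    (∀ a ∈ I ^ k, ∀ t : T, a • t = 0) → ∀ N : ModuleCat.{u} A, Good B T N := by
  intro k
  induction k with
  | zero =>
    intro T hT N
    refine good_of_killed hs hk hI T (fun a _ t => hT a (by rw [pow_zero, Ideal.one_eq_top]; trivial) t) N
  | succ k ih =>
    intro T hT N
    let V : Submodule A T := I • ⊤
    let S : ShortComplex (ModuleCat.{u} A) := ShortComplex.mk
      (ModuleCat.ofHom V.subtype) (ModuleCat.ofHom V.mkQ) (ModuleCat.hom_ext (LinearMap.ext fun x => (Submodule.Quotient.mk_eq_zero V).2 x.2))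
    have hS : S.ShortExact :=
      { exact := (ShortComplex.ShortExact.moduleCat_exact_iff_function_exact _).2
          (LinearMap.exact_subtype_mkQ V)
        mono_f := (ModuleCat.mono_iff_injective _).2 V.injective_subtype
        epi_g := (ModuleCat.epi_iff_surjective _).2 V.mkQ_surjective }
    refine good_middle hS (ih _ ?_ N) (good_of_killed hs hk hI _ ?_ N)
    · rintro a ha ⟨v, hv⟩
      refine Subtype.ext ?_
      change a • v = 0
      induction hv using Submodule.smul_induction_on' with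
      | smul c hc w _ => rw [smul_smul]; exact hT _ (by rw [pow_succ]; exact Ideal.mul_mem_mul ha hc) w
      | add v _ w _ hv hw => rw [smul_add, hv, hw, add_zero]
    · intro a ha q
      obtain ⟨w, rfl⟩ := V.mkQ_surjective q
      change a • V.mkQ w = 0
      rw [← map_smul]
      exact (Submodule.Quotient.mk_eq_zero V).2 (Submodule.smul_mem_smul ha trivial)

end torsion

section sum

variable {A : Type u} [CommRing A] {κ : Type u} [DecidableEq κ] (V : κ → Type u)
  [∀ k, AddCommGroup (V k)] [∀ k, Module A (V k)]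

/-- the inclusion of a summand -/
noncomputable def inc (k : κ) : ModuleCat.of A (V k) ⟶ ModuleCat.of A (DirectSum κ V) :=
  ModuleCat.ofHom (DirectSum.lof A κ V k)

/-- `Ext` out of a direct sum is the product. -/
theorem ext_directSum : ∀ (i : ℕ) (N : ModuleCat.{u} A),
    Function.Bijective fun (x : Abelian.Ext (ModuleCat.of A (DirectSum κ V)) N i) (k : κ) =>
      (Abelian.Ext.mk₀ (inc V k)).comp x (zero_add i) := by
  intro i
  induction i with
  | zero =>
    intro N
    refine ⟨fun x y h => ?_, fun f => ?_⟩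
    · obtain ⟨x, rfl⟩ := (Abelian.Ext.mk₀_bijective _ _).2 x
      obtain ⟨y, rfl⟩ := (Abelian.Ext.mk₀_bijective _ _).2 y
      refine congrArg _ (ModuleCat.hom_ext (DirectSum.linearMap_ext A fun k => ?_))
      have := congrFun h k
      simp only [Abelian.Ext.mk₀_comp_mk₀] at this
      exact congrArg ModuleCat.Hom.hom ((Abelian.Ext.mk₀_bijective _ _).1 this)
    · choose g hg using fun k => (Abelian.Ext.mk₀_bijective _ _).2 (f k)
      refine ⟨Abelian.Ext.mk₀ (ModuleCat.ofHom (DirectSum.toModule A κ N fun k => (g k).hom)), funext fun k => ?_⟩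
      simp only [Abelian.Ext.mk₀_comp_mk₀]
      rw [← hg k]
      refine congrArg _ (ModuleCat.hom_ext (LinearMap.ext fun v => ?_))
      exact DirectSum.toModule_lof A (φ := fun k => (g k).hom) k v
  | succ i ih =>
    intro N
    let S := ShortComplex.mk (Injective.ι N) (cokernel.π (Injective.ι N)) (cokernel.condition _)
    have hS : S.ShortExact :=
      { exact := ShortComplex.exact_of_g_is_cokernel _ (cokernelIsCokernel _) }
    haveI : Injective S.X₂ := inferInstanceAs (Injective (Injective.under N))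
    refine ⟨fun x y hxy => ?_, fun f => ?_⟩
    · rw [← sub_eq_zero]
      obtain ⟨w, hw⟩ := Abelian.Ext.covariant_sequence_exact₁ _ hS
        (x - y : Abelian.Ext _ S.X₁ (i + 1)) (Abelian.Ext.eq_zero_of_injective _) rfl
      have ht : ∀ k, ∃ t : Abelian.Ext (ModuleCat.of A (V k)) S.X₂ i, t.comp (Abelian.Ext.mk₀ S.g) (add_zero i) =
          (Abelian.Ext.mk₀ (inc V k)).comp w (zero_add i) := fun k =>
        Abelian.Ext.covariant_sequence_exact₃ _ hS _ rfl (by
          rw [Abelian.Ext.comp_assoc _ _ _ (zero_add i) rfl (by omega), hw, sub_eq_add_neg,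
            Abelian.Ext.comp_add, Abelian.Ext.comp_neg]
          exact add_neg_eq_zero.2 (congrFun hxy k))
      choose t ht using ht
      obtain ⟨t', ht'⟩ := (ih S.X₂).2 t
      have hwt : w = t'.comp (Abelian.Ext.mk₀ S.g) (add_zero i) := (ih S.X₃).1 (funext fun k => by
        change _ = (Abelian.Ext.mk₀ (inc V k)).comp _ _
        rw [← Abelian.Ext.comp_assoc_of_third_deg_zero, show
          (Abelian.Ext.mk₀ (inc V k)).comp t' (zero_add i) = t k from congrFun ht' k, ht k])
      rw [← hw, hwt, Abelian.Ext.comp_assoc _ _ _ (add_zero i) (zero_add 1) (by omega),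
        hS.comp_extClass, Abelian.Ext.comp_zero]
    · choose w hw using fun k => Abelian.Ext.covariant_sequence_exact₁ _ hS
        (f k : Abelian.Ext _ S.X₁ (i + 1)) (Abelian.Ext.eq_zero_of_injective _) rfl
      obtain ⟨w', hw'⟩ := (ih S.X₃).2 w
      refine ⟨w'.comp hS.extClass rfl, funext fun k => ?_⟩
      change (Abelian.Ext.mk₀ (inc V k)).comp _ _ = _
      rw [← Abelian.Ext.comp_assoc _ _ _ (zero_add i) rfl (by omega), show
        (Abelian.Ext.mk₀ (inc V k)).comp w' (zero_add i) = w k from congrFun hw' k]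
      exact hw k

variable (B : Type u) [CommRing B] [Algebra A B] [Module.Flat A B]

theorem good_directSum (N : ModuleCat.{u} A) (h : ∀ k, Good B (ModuleCat.of A (V k)) N) :
    Good B (ModuleCat.of A (DirectSum κ V)) N := by
  intro i
  refine ⟨fun x y hxy => (ext_directSum V i N).1 (funext fun k => (h k i).1 ?_), fun y => ?_⟩
  · rw [θ_pre, θ_pre, hxy]
  · choose x hx using fun k => (h k i).2 ((Abelian.Ext.mk₀ (inc V k)).comp y (zero_add i))
    obtain ⟨x', hx'⟩ := (ext_directSum V i N).2 x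
    refine ⟨x', (ext_directSum V i _).1 (funext fun k => ?_)⟩
    change (Abelian.Ext.mk₀ (inc V k)).comp _ _ = _
    rw [← θ_pre, show (Abelian.Ext.mk₀ (inc V k)).comp x' (zero_add i) = x k from congrFun hx' k, hx]

end sum

section final

variable {A : Type u} [CommRing A] {B : Type u} [CommRing B] [Algebra A B] [Module.Flat A B]
  {I : Ideal A}
  (hs : Function.Surjective ((Ideal.Quotient.mk (I.map (algebraMap A B))).comp (algebraMap A B)))
  (hk : RingHom.ker ((Ideal.Quotient.mk (I.map (algebraMap A B))).comp (algebraMap A B)) = I)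

/-- the `I^k`-torsion of `M` -/
abbrev piece (I : Ideal A) (M : Type u) [AddCommGroup M] [Module A M] (k : ULift.{u} ℕ) :
    Submodule A M :=
  Submodule.torsionBySet A M ↑(I ^ k.down)

include hs hk in
set_option maxHeartbeats 1000000 in
theorem exists_presentation_good (hI : I.FG) (M : ModuleCat.{u} A) (hM : LocCoh.IsPowerTorsion I M) :
    ∃ (S : ShortComplex (ModuleCat.{u} A)), S.ShortExact ∧ S.X₃ = M ∧
      LocCoh.IsPowerTorsion I S.X₁ ∧ ∀ N, Good B S.X₂ N := by
  classical
  let V : ULift.{u} ℕ → Type u := fun k => ↥(piece I M k)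
  let p : DirectSum (ULift.{u} ℕ) V →ₗ[A] M := DirectSum.toModule A _ M fun k => (piece I M k).subtype
  have hF : LocCoh.IsPowerTorsion I (DirectSum (ULift.{u} ℕ) V) := by
    intro x
    induction x using DirectSum.induction_on with
    | zero => exact ⟨0, fun a _ => smul_zero a⟩
    | of k v =>
      refine ⟨k.down, fun a ha => ?_⟩
      obtain ⟨v, hv⟩ : ↥(piece I M k) := v
      change a • (DirectSum.lof A _ V k ⟨v, hv⟩) = 0
      rw [← map_smul, show a • (⟨v, hv⟩ : ↥(piece I M k)) = 0 from Subtype.ext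
        ((Submodule.mem_torsionBySet_iff _ _).1 hv ⟨a, ha⟩)]
      exact map_zero _
    | add x y hx hy => exact (gamma I _).add_mem hx hy
  refine ⟨ShortComplex.mk (X₃ := M) (ModuleCat.ofHom (LinearMap.ker p).subtype) (ModuleCat.ofHom p)
    (ModuleCat.hom_ext (LinearMap.ext fun x => LinearMap.mem_ker.1 x.2)),
    { exact := (ShortComplex.ShortExact.moduleCat_exact_iff_function_exact _).2
        (LinearMap.exact_subtype_ker_map p)
      mono_f := (ModuleCat.mono_iff_injective _).2 (LinearMap.ker p).injective_subtype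
      epi_g := (ModuleCat.epi_iff_surjective _).2 fun m => ?_ }, rfl,
    isPowerTorsion_of_injective (M := LinearMap.ker p) (N := DirectSum (ULift.{u} ℕ) V) (f := (LinearMap.ker p).subtype) (fun _ _ h => Subtype.ext h) hF, fun N => ?_⟩
  · obtain ⟨k, hk'⟩ := hM m
    refine ⟨DirectSum.lof A _ V ⟨k⟩ ⟨m, (Submodule.mem_torsionBySet_iff _ _).2 fun a => hk' a.1 a.2⟩, ?_⟩
    exact DirectSum.toModule_lof A _ _
  · exact good_directSum V B N fun k => good_of_pow_killed hs hk hI k.down _
      (fun a ha (v : ↥(piece I M k)) => Subtype.ext ((Submodule.mem_torsionBySet_iff _ _).1 v.2 ⟨a, ha⟩)) N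

include hs hk in
theorem good_of_torsion (hI : I.FG) (N : ModuleCat.{u} A) :
    ∀ (i : ℕ) (M : ModuleCat.{u} A), LocCoh.IsPowerTorsion I M → Function.Bijective (θ B M N i) := by
  intro i
  induction i with
  | zero =>
    have hinj : ∀ M : ModuleCat.{u} A, LocCoh.IsPowerTorsion I M → Function.Injective (θ B M N 0) := by
      intro M hM
      obtain ⟨S, hS, rfl, -, hgood⟩ := exists_presentation_good hs hk hI M hM
      refine (injective_iff_map_eq_zero _).2 fun x hx => ?_
      have h0 : (Abelian.Ext.mk₀ S.g).comp x (zero_add 0) = 0 := (hgood N 0).1 (by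
        rw [θ_pre, hx, Abelian.Ext.comp_zero, map_zero])
      obtain ⟨w, rfl⟩ := (Abelian.Ext.mk₀_bijective _ _).2 x
      rw [Abelian.Ext.mk₀_comp_mk₀, ← Abelian.Ext.mk₀_zero] at h0
      haveI := hS.epi_g
      rw [(cancel_epi S.g).1 (((Abelian.Ext.mk₀_bijective _ _).1 h0).trans comp_zero.symm),
        Abelian.Ext.mk₀_zero]
    intro M hM
    refine ⟨hinj M hM, fun y => ?_⟩
    obtain ⟨S, hS, rfl, hK, hgood⟩ := exists_presentation_good hs hk hI M hM
    obtain ⟨x, hx⟩ := (hgood N 0).2 ((Abelian.Ext.mk₀ S.g).comp y (zero_add 0))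
    obtain ⟨x', rfl⟩ := Abelian.Ext.contravariant_sequence_exact₂ hS N x (hinj S.X₁ hK (by
      rw [θ_pre, hx, map_zero, Abelian.Ext.mk₀_comp_mk₀_assoc, S.zero, Abelian.Ext.mk₀_zero,
        Abelian.Ext.zero_comp]))
    refine ⟨x', ?_⟩
    rw [θ_pre] at hx
    obtain ⟨w, hw⟩ := (Abelian.Ext.mk₀_bijective _ _).2 (θ B S.X₃ N 0 x')
    obtain ⟨w', rfl⟩ := (Abelian.Ext.mk₀_bijective _ _).2 y
    rw [← hw] at hx ⊢
    rw [Abelian.Ext.mk₀_comp_mk₀, Abelian.Ext.mk₀_comp_mk₀] at hx
    haveI := hS.epi_g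
    rw [(cancel_epi S.g).1 ((Abelian.Ext.mk₀_bijective _ _).1 hx)]
  | succ i ih =>
    have hinj : ∀ M : ModuleCat.{u} A, LocCoh.IsPowerTorsion I M →
        Function.Injective (θ B M N (i + 1)) := by
      intro M hM
      obtain ⟨S, hS, rfl, hK, hgood⟩ := exists_presentation_good hs hk hI M hM
      refine (injective_iff_map_eq_zero _).2 fun x hx => ?_
      obtain ⟨w, rfl⟩ := Abelian.Ext.contravariant_sequence_exact₃ hS N x ((hgood N (i + 1)).1 (by
        rw [θ_pre, hx, Abelian.Ext.comp_zero, map_zero])) (add_comm 1 i)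
      rw [θ_preδ] at hx
      obtain ⟨v, hv⟩ := Abelian.Ext.contravariant_sequence_exact₁ hS _ (θ B S.X₁ N i w) (add_comm 1 i) hx
      obtain ⟨v, rfl⟩ := (hgood N i).2 v
      rw [← θ_pre] at hv
      rw [← (ih S.X₁ hK).1 hv, hS.extClass_comp_assoc]
    intro M hM
    refine ⟨hinj M hM, fun y => ?_⟩
    obtain ⟨S, hS, rfl, hK, hgood⟩ := exists_presentation_good hs hk hI M hM
    obtain ⟨x, hx⟩ := (hgood N (i + 1)).2 ((Abelian.Ext.mk₀ S.g).comp y (zero_add (i + 1)))
    obtain ⟨x', rfl⟩ := Abelian.Ext.contravariant_sequence_exact₂ hS N x (hinj S.X₁ hK (by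
      rw [θ_pre, hx, map_zero, Abelian.Ext.mk₀_comp_mk₀_assoc, S.zero, Abelian.Ext.mk₀_zero,
        Abelian.Ext.zero_comp]))
    obtain ⟨w, hw⟩ := Abelian.Ext.contravariant_sequence_exact₃ hS _ (y - θ B S.X₃ N (i + 1) x') (by
      rw [sub_eq_add_neg, Abelian.Ext.comp_add, Abelian.Ext.comp_neg, ← θ_pre, hx, add_neg_cancel])
      (add_comm 1 i)
    obtain ⟨w, rfl⟩ := (ih S.X₁ hK).2 w
    exact ⟨x' + hS.extClass.comp w (add_comm 1 i), by rw [map_add, θ_preδ, hw, add_sub_cancel]⟩

/-- The unit, as a map into the restriction of scalars. -/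
noncomputable def unitRes (M : Type u) [AddCommGroup M] [Module A M] :
    ModuleCat.of A M ⟶ (ModuleCat.restrictScalars (algebraMap A B)).obj (ModuleCat.of B (B ⊗[A] M)) :=
  ModuleCat.ofHom
    (Y := (ModuleCat.restrictScalars (algebraMap A B)).obj (ModuleCat.of B (B ⊗[A] M)))
    { toFun := fun m => ((1 : B) ⊗ₜ[A] m : B ⊗[A] M)
      map_add' := fun m m' => TensorProduct.tmul_add 1 m m'
      map_smul' := fun a m => by
        change (1 : B) ⊗ₜ[A] (a • m) = algebraMap A B a • ((1 : B) ⊗ₜ[A] m : B ⊗[A] M)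
        rw [TensorProduct.tmul_smul, algebraMap_smul] }

omit [Module.Flat A B] in
theorem unitRes_bijective (M : Type u) [AddCommGroup M] [Module A M] (F : ModuleCat.{u} B) :
    Function.Bijective fun φ : ModuleCat.of B (B ⊗[A] M) ⟶ F =>
      unitRes (B := B) M ≫ (ModuleCat.restrictScalars (algebraMap A B)).map φ := by
  let : Module A F := Module.compHom F (algebraMap A B)
  have : IsScalarTower A B F := IsScalarTower.of_algebraMap_smul fun _ _ => rfl
  refine ⟨fun φ ψ h => ?_, fun f => ?_⟩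
  · refine ModuleCat.hom_ext (LinearMap.ext fun z => ?_)
    induction z using TensorProduct.induction_on with
    | zero => rw [map_zero, map_zero]
    | tmul b m =>
      have := congrArg (fun g => g.hom m) h
      have h1 : φ.hom ((1 : B) ⊗ₜ[A] m) = ψ.hom ((1 : B) ⊗ₜ[A] m) := this
      rw [show (b ⊗ₜ[A] m : B ⊗[A] M) = b • ((1 : B) ⊗ₜ[A] m) by rw [TensorProduct.smul_tmul', smul_eq_mul, mul_one],
        map_smul, map_smul, h1]
    | add x y hx hy => rw [map_add, map_add, hx, hy]
  · let f' : M →ₗ[A] F := { toFun := f.hom, map_add' := f.hom.map_add, map_smul' := fun a m => f.hom.map_smul a m }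
    refine ⟨ModuleCat.ofHom (LinearMap.liftBaseChange B f'), ModuleCat.hom_ext (LinearMap.ext fun m => ?_)⟩
    change LinearMap.liftBaseChange B f' ((1 : B) ⊗ₜ[A] m) = f.hom m
    rw [LinearMap.liftBaseChange_tmul, one_smul]
    rfl

theorem injective_restrict (J : ModuleCat.{u} B) (hJ : Injective J) :
    Injective ((ModuleCat.restrictScalars (algebraMap A B)).obj J) := by
  haveI := hJ
  haveI : Module.Injective B J := Module.injective_module_of_injective_object B J
  let : Module A J := Module.compHom J (algebraMap A B)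
  have : IsScalarTower A B J := IsScalarTower.of_algebraMap_smul fun _ _ => rfl
  have hinj : Module.Injective A J := by
    refine Module.Baer.injective fun L g => ?_
    let j : B ⊗[A] L →ₗ[B] B :=
      (TensorProduct.AlgebraTensorModule.rid A B B).toLinearMap ∘ₗ L.subtype.baseChange B
    have hj : Function.Injective j := (TensorProduct.AlgebraTensorModule.rid A B B).injective.comp
      (Module.Flat.lTensor_preserves_injective_linearMap (M := B) L.subtype L.injective_subtype)
    obtain ⟨h, hh⟩ := Module.Injective.out j hj (LinearMap.liftBaseChange B g)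
    refine ⟨{ toFun := fun a => h (algebraMap A B a)
              map_add' := fun a b => by rw [map_add, map_add]
              map_smul' := fun a b => by
                rw [smul_eq_mul, map_mul, RingHom.id_apply, ← smul_eq_mul, map_smul]
                rfl }, fun a ha => ?_⟩
    have := hh ((1 : B) ⊗ₜ[A] (⟨a, ha⟩ : L))
    rw [LinearMap.liftBaseChange_tmul, one_smul] at this
    rw [← this]
    refine congrArg h ?_
    change algebraMap A B a = a • (1 : B)
    rw [Algebra.smul_def, mul_one]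
  exact Module.injective_object_of_injective_module A ((ModuleCat.restrictScalars (algebraMap A B)).obj J : Type u) (inj := hinj)

include hs hk in
theorem nonempty_ext_equiv (hI : I.FG) (M N : Type u) [AddCommGroup M] [Module A M] [AddCommGroup N]
    [Module A N] (hM : LocCoh.IsPowerTorsion I M) (i : ℕ) :
    Nonempty (Abelian.Ext (ModuleCat.of A M) (ModuleCat.of A N) i ≃+
      Abelian.Ext (ModuleCat.of B (B ⊗[A] M)) (ModuleCat.of B (B ⊗[A] N)) i) := by
  let G := ModuleCat.restrictScalars.{u} (algebraMap A B)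
  have hbij := SiteCoh.extTransfer_bijective G (unitRes (B := B) M)
    (unitRes_bijective M) (fun J hJ n =>
      haveI := injective_restrict (A := A) J hJ
      Abelian.Ext.subsingleton_of_injective _ _ n) i (ModuleCat.of B (B ⊗[A] N))
  let e : tw B (ModuleCat.of A N) ≅ G.obj (ModuleCat.of B (B ⊗[A] N)) :=
    { hom := ModuleCat.ofHom (Y := G.obj (ModuleCat.of B (B ⊗[A] N)))
        { toFun := fun z => z
          map_add' := fun _ _ => rfl
          map_smul' := fun a z => by
            change a • z = algebraMap A B a • z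
            rw [algebraMap_smul] }
      inv := ModuleCat.ofHom (X := G.obj (ModuleCat.of B (B ⊗[A] N)))
        { toFun := fun z => z
          map_add' := fun _ _ => rfl
          map_smul' := fun a (z : B ⊗[A] N) => by
            change algebraMap A B a • z = a • z
            rw [algebraMap_smul] }
      hom_inv_id := rfl
      inv_hom_id := rfl }
  have hpost : Function.Bijective ((Abelian.Ext.mk₀ e.hom).postcomp (ModuleCat.of A M) (add_zero i)) := by
    refine Function.bijective_iff_has_inverse.2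
      ⟨(Abelian.Ext.mk₀ e.inv).postcomp (ModuleCat.of A M) (add_zero i), fun x => ?_, fun x => ?_⟩ <;>
    simp [Abelian.Ext.postcomp]
  exact ⟨((AddEquiv.ofBijective _ (good_of_torsion hs hk hI (ModuleCat.of A N) i
    (ModuleCat.of A M) hM)).trans (AddEquiv.ofBijective _ hpost)).trans
    (AddEquiv.ofBijective _ hbij).symm⟩

omit [Module.Flat A B] in
theorem subsingleton_hom_neg {R : Type u} [CommRing R] [HasDerivedCategory.{u + 1} (ModuleCat.{u} R)]
    (X Y : ModuleCat.{u} R) {i : ℤ} (hi : i < 0) :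
    Subsingleton ((DerivedCategory.singleFunctor _ 0).obj X ⟶
      ((DerivedCategory.singleFunctor _ 0).obj Y)⟦i⟧) := by
  refine subsingleton_of_forall_eq 0 fun f => ?_
  have := (DerivedCategory.TStructure.t (C := ModuleCat.{u} R)).isGE_shift
    ((DerivedCategory.singleFunctor _ 0).obj Y) 0 i (-i) (by omega)
  exact (DerivedCategory.TStructure.t (C := ModuleCat.{u} R)).zero f 0 (-i) (by omega)

include hs hk in
theorem nonempty_hom_equiv (hI : I.FG) (M N : Type u) [AddCommGroup M] [Module A M] [AddCommGroup N]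
    [Module A N] (hM : LocCoh.IsPowerTorsion I M) (i : ℤ)
    [HasDerivedCategory.{u + 1} (ModuleCat.{u} A)] [HasDerivedCategory.{u + 1} (ModuleCat.{u} B)] :
    Nonempty (((DerivedCategory.singleFunctor _ 0).obj (ModuleCat.of A M) ⟶
        ((DerivedCategory.singleFunctor _ 0).obj (ModuleCat.of A N))⟦i⟧) ≃+
      ((DerivedCategory.singleFunctor _ 0).obj (ModuleCat.of B (B ⊗[A] M)) ⟶
        ((DerivedCategory.singleFunctor _ 0).obj (ModuleCat.of B (B ⊗[A] N)))⟦i⟧)) := by
  rcases lt_or_ge i 0 with hi | hi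
  · haveI := subsingleton_hom_neg (ModuleCat.of A M) (ModuleCat.of A N) hi
    haveI := subsingleton_hom_neg (ModuleCat.of B (B ⊗[A] M)) (ModuleCat.of B (B ⊗[A] N)) hi
    exact ⟨{ toFun := fun _ => 0, invFun := fun _ => 0, left_inv := fun _ => Subsingleton.elim _ _,
             right_inv := fun _ => Subsingleton.elim _ _, map_add' := fun _ _ => Subsingleton.elim _ _ }⟩
  · obtain ⟨n, rfl⟩ := Int.eq_ofNat_of_zero_le hi
    obtain ⟨e⟩ := nonempty_ext_equiv hs hk hI M N hM n
    exact ⟨Abelian.Ext.homAddEquiv.symm.trans (e.trans Abelian.Ext.homAddEquiv)⟩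

end final

end Groth.Agent.LC15.FTE
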