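import Mathlib.Algebra.CharP.Frobenius
import Mathlib.Algebra.Category.ModuleCat.ChangeOfRings
import Mathlib.RingTheory.Filtration
import Mathlib.RingTheory.Nakayama
import Mathlib.RingTheory.LocalRing.Module
import Mathlib.RingTheory.Finiteness.Prod

/-!
A finite module isomorphic to its Frobenius pull-back is free.
-/

set_option autoImplicit false
set_option linter.style.haveILetI false

universe u

open IsLocalRing CategoryTheory
open scoped TensorProduct

namespace Groth.Agent.LC15.FrobFree

variable {p : ℕ} [Fact p.Prime] {R : Type u} [CommRing R] [IsLocalRing R] [IsNoetherianRing R] [CharP R p]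
  {M : Type u} [AddCommGroup M] [Module R M] [Module.Finite R M]

omit [IsLocalRing R] [IsNoetherianRing R] [Module.Finite R M] in
theorem exists_surjective_pow {b : ℕ} (a : Ideal R)
    (h : Nonempty ((ModuleCat.extendScalars (frobenius R p)).obj (ModuleCat.of R M) ≅ ModuleCat.of R M))
    (q : M →ₗ[R] (Fin b → R ⧸ a)) (hq : Function.Surjective q) :
    ∃ q' : M →ₗ[R] (Fin b → R ⧸ a ^ p), Function.Surjective q' := by
  classical
  obtain ⟨e⟩ := h
  let c : R ⧸ a →+* R ⧸ a ^ p := Ideal.quotientMap (a ^ p) (frobenius R p) fun x hx => by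
    rw [Ideal.mem_comap, frobenius_def]
    exact Ideal.pow_mem_pow hx p
  let N : ModuleCat.{u} R := ModuleCat.of R (Fin b → R ⧸ a ^ p)
  let σ : ModuleCat.of R M ⟶ (ModuleCat.restrictScalars (frobenius R p)).obj N :=
    ModuleCat.ofHom (Y := (ModuleCat.restrictScalars (frobenius R p)).obj N)
      { toFun := fun z => (fun j => c (q z j) : Fin b → R ⧸ a ^ p)
        map_add' := fun z z' => funext fun j => by simp; rfl
        map_smul' := fun r z => funext fun j => by
          show c (q (r • z) j) = frobenius R p r • c (q z j)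
          rw [map_smul, Pi.smul_apply, Algebra.smul_def, Algebra.smul_def, map_mul]
          rfl }
  let τ := ((ModuleCat.extendRestrictScalarsAdj (frobenius R p)).homEquiv _ _).symm σ
  refine ⟨(e.inv ≫ τ).hom, ?_⟩
  have hτ : Function.Surjective τ.hom := by
    intro v
    choose r hr using fun j => Ideal.Quotient.mk_surjective ((v : Fin b → R ⧸ a ^ p) j)
    choose z hz using fun j => hq (Pi.single j 1)
    have hσ : ∀ z : M, σ.hom z = ((ModuleCat.extendRestrictScalarsAdj (frobenius R p)).unit.app (ModuleCat.of R M) ≫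
        (ModuleCat.restrictScalars (frobenius R p)).map τ).hom z := fun z =>
      congrArg (fun φ => φ.hom z) (((ModuleCat.extendRestrictScalarsAdj (frobenius R p)).homEquiv _ _).apply_symm_apply σ).symm
    let y : Fin b → ((ModuleCat.extendScalars (frobenius R p)).obj (ModuleCat.of R M) : Type u) := fun j =>
      ((ModuleCat.extendRestrictScalarsAdj (frobenius R p)).unit.app (ModuleCat.of R M)).hom (z j)
    refine ⟨∑ j, r j • y j, ?_⟩
    have hj : ∀ j, τ.hom (y j) = (Pi.single j 1 : Fin b → R ⧸ a ^ p) := fun j => by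
      refine (hσ (z j)).symm.trans (funext fun l => ?_)
      show c (q (z j) l) = _
      rw [hz j]
      rcases eq_or_ne l j with rfl | hl
      · simp
      · simp [Pi.single_eq_of_ne hl]
    refine (map_sum τ.hom _ _).trans ?_
    refine (Finset.sum_congr rfl fun j _ => (map_smul τ.hom (r j) _).trans (congrArg (r j • ·) (hj j))).trans ?_
    refine funext fun l => ?_
    show (∑ j, r j • (Pi.single j 1 : Fin b → R ⧸ a ^ p)) l = _
    rw [Finset.sum_apply, Finset.sum_eq_single l (fun j _ hj => by simp [Pi.single_eq_of_ne hj.symm]) (by simp),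
      Pi.smul_apply, Pi.single_eq_same, Algebra.smul_def, mul_one]
    exact hr l
  exact hτ.comp ((ModuleCat.epi_iff_surjective _).1 inferInstance)

omit [IsLocalRing R] [IsNoetherianRing R] [Fact p.Prime] [CharP R p] [Module.Finite R M] in
theorem sub_mem_of_surjective [IsNoetherianRing R] {b : ℕ} (a : Ideal R) (π : (Fin b → R) →ₗ[R] M)
    (hπ : Function.Surjective π) (q : M →ₗ[R] (Fin b → R ⧸ a)) (hq : Function.Surjective q)
    (v : Fin b → R) (hv : π v = 0) (j : Fin b) : v j ∈ a := by
  classical
  let g : (Fin b → R) →ₗ[R] (Fin b → R ⧸ a) := q ∘ₗ π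
  let E : (Fin b → R ⧸ a) →ₗ[R] (Fin b → R ⧸ a) := LinearMap.lsum R (fun _ : Fin b => R ⧸ a) R fun j =>
    a.liftQ (LinearMap.toSpanSingleton R _ (g (Pi.single j 1))) fun r hr => by
      rw [LinearMap.mem_ker, LinearMap.toSpanSingleton_apply]
      refine funext fun l => ?_
      obtain ⟨w, hw⟩ := Ideal.Quotient.mk_surjective (g (Pi.single j 1) l)
      rw [Pi.smul_apply, ← hw, Pi.zero_apply]
      exact (Submodule.Quotient.mk_eq_zero _).2 (a.mul_mem_right _ hr)
  have hE : ∀ w : Fin b → R, E (fun l => a.mkQ (w l)) = g w := fun w => by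
    simp only [E, LinearMap.lsum_apply, LinearMap.sum_apply]
    conv_rhs => rw [pi_eq_sum_univ w, map_sum]
    refine Finset.sum_congr rfl fun l _ => ?_
    rw [map_smul, LinearMap.comp_apply, LinearMap.proj_apply, Submodule.mkQ_apply, Submodule.liftQ_apply,
      LinearMap.toSpanSingleton_apply]
    congr 2
    funext i
    simp [Pi.single_apply, eq_comm]
  have hEs : Function.Surjective E := fun y => by
    obtain ⟨m, rfl⟩ := hq y
    obtain ⟨w, rfl⟩ := hπ m
    exact ⟨_, hE w⟩
  have h0 : E (fun l => a.mkQ (v l)) = E 0 := by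
    rw [hE, map_zero]
    show q (π v) = 0
    rw [hv, map_zero]
  exact (Submodule.Quotient.mk_eq_zero _).1
    (congrFun (IsNoetherian.injective_of_surjective_endomorphism E hEs h0) j)

theorem free
    (h : Nonempty ((ModuleCat.extendScalars (frobenius R p)).obj (ModuleCat.of R M) ≅ ModuleCat.of R M)) :
    Module.Free R M := by
  classical
  obtain ⟨b, π, hπ, hker⟩ : ∃ (b : ℕ) (π : (Fin b → R) →ₗ[R] M), Function.Surjective π ∧
      ∃ q : M →ₗ[R] (Fin b → R ⧸ maximalIdeal R), Function.Surjective q := by
    let W := M ⧸ (maximalIdeal R • ⊤ : Submodule R M)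
    letI : Field (R ⧸ maximalIdeal R) := Ideal.Quotient.field _
    let bas := Module.finBasis (R ⧸ maximalIdeal R) W
    choose x hx using fun j => Submodule.mkQ_surjective (maximalIdeal R • ⊤ : Submodule R M) (bas j)
    let q : M →ₗ[R] (Fin (Module.finrank (R ⧸ maximalIdeal R) W) → R ⧸ maximalIdeal R) :=
      (bas.equivFun.restrictScalars R).toLinearMap ∘ₗ (maximalIdeal R • ⊤ : Submodule R M).mkQ
    refine ⟨_, Fintype.linearCombination R x, ?_, q,
      (bas.equivFun.restrictScalars R).surjective.comp (Submodule.mkQ_surjective _)⟩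
    rw [← LinearMap.range_eq_top, Fintype.range_linearCombination]
    refine top_le_iff.1 (Submodule.le_of_le_smul_of_le_jacobson_bot Module.Finite.fg_top
      (le_of_eq (jacobson_eq_maximalIdeal ⊥ bot_ne_top).symm) ?_)
    intro z _
    obtain ⟨w, hw⟩ : ∃ w ∈ Submodule.span R (Set.range x),
        (maximalIdeal R • ⊤ : Submodule R M).mkQ w = (maximalIdeal R • ⊤ : Submodule R M).mkQ z := by
      have hz := bas.sum_repr ((maximalIdeal R • ⊤ : Submodule R M).mkQ z)
      choose r hr using fun j => Ideal.Quotient.mk_surjective (bas.repr ((maximalIdeal R • ⊤ : Submodule R M).mkQ z) j)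
      refine ⟨∑ j, r j • x j, Submodule.sum_mem _ fun j _ => Submodule.smul_mem _ _ (Submodule.subset_span ⟨j, rfl⟩), ?_⟩
      rw [map_sum, ← hz]
      refine Finset.sum_congr rfl fun j _ => ?_
      rw [map_smul, hx, ← hr]
      rfl
    refine Submodule.mem_sup.2 ⟨w, hw.1, z - w, (Submodule.Quotient.eq _).1 hw.2.symm, by abel⟩
  have hall : ∀ n : ℕ, ∃ q : M →ₗ[R] (Fin b → R ⧸ maximalIdeal R ^ p ^ n), Function.Surjective q := by
    intro n
    induction n with
    | zero => rw [pow_zero, pow_one]; exact hker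
    | succ n ih =>
      obtain ⟨q, hq⟩ := ih
      rw [pow_succ, pow_mul]
      exact exists_surjective_pow _ h q hq
  refine Module.Free.of_equiv (LinearEquiv.ofBijective π ⟨?_, hπ⟩)
  rw [← LinearMap.ker_eq_bot, Submodule.eq_bot_iff]
  intro v hv
  funext j
  have hint : v j ∈ ⨅ n : ℕ, maximalIdeal R ^ n := by
    refine Submodule.mem_iInf _ |>.2 fun n => ?_
    obtain ⟨q, hq⟩ := hall n
    exact Ideal.pow_le_pow_right (Nat.lt_pow_self (Fact.out : p.Prime).one_lt).le
      (sub_mem_of_surjective _ π hπ q hq v hv j)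
  rwa [Ideal.iInf_pow_eq_bot_of_isLocalRing _ (maximalIdeal.isMaximal R).ne_top, Ideal.mem_bot] at hint

end Groth.Agent.LC15.FrobFree
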