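import Groth.Agent.LC15.FrobStable
import Groth.Agent.CAlg1.Miracle
import Groth.Agent.Gor18.LCI
import Groth.Agent.Smooth28.Params
import Groth.Agent.S11359
import Groth.Agent.S0342
import Groth.Prelude.Def_FrobAlg

/-!
Frobenius of a regular local ring: flat, with Gorenstein Artinian fibre.
-/

set_option autoImplicit false
set_option linter.style.haveILetI false
set_option linter.unusedSectionVars false

noncomputable section

universe u

open IsLocalRing TensorProduct

namespace Groth.Agent.LC15.FrobRegular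

open Groth.Agent

variable (p : ℕ) [Fact p.Prime] (R : Type u) [CommRing R] [IsRegularLocalRing R] [CharP R p]

instance : IsRegularLocalRing (FrobAlg.Twist p R) := IsRegularLocalRing.of_ringEquiv (FrobAlg.toTwist p R)

theorem toTwist_mem {x : R} (hx : x ∈ maximalIdeal R) :
    FrobAlg.toTwist p R x ∈ maximalIdeal (FrobAlg.Twist p R) := by
  rw [mem_maximalIdeal, mem_nonunits_iff] at hx ⊢
  exact fun h => hx (by simpa using h.map (FrobAlg.toTwist p R).symm)

instance : IsLocalHom (algebraMap R (FrobAlg.Twist p R)) := ⟨fun a ha => by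
  have h : IsUnit (a ^ p) := by simpa [FrobAlg.algebraMap_twist] using ha.map (FrobAlg.toTwist p R).symm
  exact (isUnit_pow_iff (Fact.out : p.Prime).ne_zero).1 h⟩

theorem le_radical : maximalIdeal (FrobAlg.Twist p R) ≤
    Ideal.radical ((maximalIdeal R).map (algebraMap R (FrobAlg.Twist p R))) := fun t ht => by
  refine ⟨p, ?_⟩
  obtain ⟨a, rfl⟩ := (FrobAlg.toTwist p R).surjective t
  rw [← map_pow, ← FrobAlg.algebraMap_twist]
  refine Ideal.mem_map_of_mem _ ?_
  rw [mem_maximalIdeal, mem_nonunits_iff] at ht ⊢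
  exact fun h => ht (h.map _)

theorem isArtinian_fibre :
    IsArtinianRing (FrobAlg.Twist p R ⧸ (maximalIdeal R).map (algebraMap R (FrobAlg.Twist p R))) := by
  rw [isArtinianRing_iff_isNoetherianRing_krullDimLE_zero]
  refine ⟨inferInstance, Ring.KrullDimLE.mk₀ fun P hP => ?_⟩
  have hQ : (P.comap (Ideal.Quotient.mk _)).IsPrime := Ideal.comap_isPrime _ _
  have hmax : P.comap (Ideal.Quotient.mk ((maximalIdeal R).map (algebraMap R (FrobAlg.Twist p R)))) =
      maximalIdeal _ :=
    le_antisymm (le_maximalIdeal hQ.ne_top) ((le_radical p R).trans (hQ.radical_le_iff.2 fun x hx => by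
      show Ideal.Quotient.mk _ x ∈ P
      rw [Ideal.Quotient.eq_zero_iff_mem.2 hx]
      exact P.zero_mem))
  have hsur : (Ideal.map (Ideal.Quotient.mk _) (P.comap (Ideal.Quotient.mk _))) = P :=
    Ideal.map_comap_of_surjective _ Ideal.Quotient.mk_surjective P
  rw [← hsur, hmax]
  refine Ideal.IsMaximal.map_of_surjective_of_ker_le Ideal.Quotient.mk_surjective ?_
  rw [Ideal.mk_ker, ← hmax]
  intro x hx
  show Ideal.Quotient.mk _ x ∈ P
  rw [Ideal.Quotient.eq_zero_iff_mem.2 hx]
  exact P.zero_mem

theorem flat : Module.Flat R (FrobAlg.Twist p R) := by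
  haveI := CAlg1.cm_of_isRegularLocalRing (FrobAlg.Twist p R)
  refine CAlg1.miracle_flatness _ R (FrobAlg.Twist p R) rfl ?_
  haveI := isArtinian_fibre p R
  haveI : Nontrivial (FrobAlg.Twist p R ⧸ (maximalIdeal R).map (algebraMap R (FrobAlg.Twist p R))) :=
    Ideal.Quotient.nontrivial_iff.2 fun h => (maximalIdeal.isMaximal (FrobAlg.Twist p R)).ne_top
      (top_le_iff.1 (h ▸ Ideal.map_le_iff_le_comap.2 fun a ha => map_nonunit _ a ha))
  have h0 : ringKrullDim (FrobAlg.Twist p R ⧸ (maximalIdeal R).map (algebraMap R (FrobAlg.Twist p R))) = 0 :=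
    ringKrullDimZero_iff_ringKrullDim_eq_zero.1 inferInstance
  rw [h0, add_zero]
  exact (ringKrullDim_eq_of_ringEquiv (FrobAlg.toTwist p R)).symm

theorem gor_fibre : LocCoh.IsGorensteinLocalRing
    (FrobAlg.Twist p R ⧸ (maximalIdeal R).map (algebraMap R (FrobAlg.Twist p R))) := by
  classical
  let B := FrobAlg.Twist p R
  obtain ⟨d, hd⟩ : ∃ d : ℕ, ringKrullDim R = d :=
    ⟨_, (IsRegularLocalRing.spanFinrank_maximalIdeal (R := R)).symm⟩
  obtain ⟨s, hcard, hspan⟩ := Submodule.FG.exists_span_finset_card_eq_spanFinrank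
    (maximalIdeal R).fg_of_isNoetherianRing
  have hsd : s.card = d := by
    have := (IsRegularLocalRing.spanFinrank_maximalIdeal (R := R)).trans hd
    rw [← hcard] at this
    exact_mod_cast this
  let x : Fin d → R := fun i => (s.equivFinOfCardEq hsd).symm i
  have hx : Ideal.span (Set.range x) = maximalIdeal R := by
    refine Eq.trans (congrArg Ideal.span ?_) hspan
    ext z
    simp only [Set.mem_range, Finset.mem_coe, x]
    exact ⟨fun ⟨i, hi⟩ => hi ▸ ((s.equivFinOfCardEq hsd).symm i).2,
      fun hz => ⟨s.equivFinOfCardEq hsd ⟨z, hz⟩, by simp⟩⟩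
  let y : Fin d → B := fun i => FrobAlg.toTwist p R (x i)
  have hy : Ideal.span (Set.range y) = maximalIdeal B := by
    rw [Set.range_comp' (FrobAlg.toTwist p R) x]
    refine (Ideal.map_span (FrobAlg.toTwist p R) _).symm.trans ?_
    rw [show Ideal.span (Set.range x) = maximalIdeal R from hx]
    refine IsLocalRing.eq_maximalIdeal ?_
    exact Ideal.map_isMaximal_of_equiv (FrobAlg.toTwist p R)
  have hdB : ringKrullDim B = d := (ringKrullDim_eq_of_ringEquiv (FrobAlg.toTwist p R)).symm.trans hd
  have hreg : RingTheory.Sequence.IsWeaklyRegular B (List.ofFn fun i => y i ^ p) := by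
    have := EGA4Alg4.isWeaklyRegular_pow (List.ofFn y) (List.replicate d p) (by simp)
      (fun m hm => by rw [List.eq_of_mem_replicate hm]; exact (Fact.out : p.Prime).pos)
      (CAlg1.isRegular_params hdB y hy).toIsWeaklyRegular
    convert this using 1
    refine List.ext_getElem (by simp) fun j h1 h2 => ?_
    simp
  have hI : Ideal.ofList (List.ofFn fun i => y i ^ p) = (maximalIdeal R).map (algebraMap R B) := by
    rw [← show Ideal.span (Set.range x) = maximalIdeal R from hx, Ideal.map_span, Ideal.ofList, ← Set.range_comp]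
    congr 1
    ext z
    simp only [Set.mem_ofPred_eq, List.mem_ofFn, Set.mem_range, Function.comp_apply, FrobAlg.algebraMap_twist,
      map_pow, y]
    exact exists_congr fun i => by rw [show algebraMap R B (x i) = FrobAlg.toTwist p R (x i ^ p) from rfl, map_pow]
  rw [← hI]
  refine (Gor18.gor_quotient_ofList_iff _ B _ rfl (fun z hz => ?_) hreg).1 ?_
  · obtain ⟨i, rfl⟩ := List.mem_ofFn.1 hz
    exact Ideal.pow_mem_of_mem _ (hy ▸ Ideal.subset_span ⟨i, rfl⟩) _ (Fact.out : p.Prime).pos
  · exact Groth.Agent.S0342.result B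

end Groth.Agent.LC15.FrobRegular
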