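import Groth.Agent.InjHull18.Tensor
import Groth.Agent.InjHull18.Criterion
import Groth.Agent.LC15.Cd
import Mathlib.Algebra.Module.Injective
import Mathlib.LinearAlgebra.DirectSum.Finsupp

/-!
A power torsion module fixed by a flat contracting base change fixing the hull is a sum of hulls.
-/

set_option autoImplicit false
set_option linter.style.haveILetI false
set_option linter.unusedSectionVars false

noncomputable section

universe u

open TensorProduct IsLocalRing

namespace Groth.Agent.LC15.FrobStable

open Groth.Agent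

variable {A B : Type u} [CommRing A] [CommRing B]

/-- a module seen through a map of rings -/
@[nolint unusedArguments]
def Via (_σ : A →+* B) (X : Type u) : Type u := X

instance (σ : A →+* B) (X : Type u) [AddCommGroup X] : AddCommGroup (Via σ X) := inferInstanceAs (AddCommGroup X)

instance (σ : A →+* B) (X : Type u) [AddCommGroup X] [Module B X] : Module A (Via σ X) := Module.compHom X σ

/-- the identity -/
def toVia (σ : A →+* B) {X : Type u} [AddCommGroup X] : X ≃+ Via σ X := AddEquiv.refl X

theorem smul_toVia (σ : A →+* B) {X : Type u} [AddCommGroup X] [Module B X] (a : A) (x : X) :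
    a • toVia σ x = toVia σ (σ a • x) := rfl

variable [Algebra A B]

/-- a module is fixed by base change, semilinearly along `e` -/
def IsFixed (e : B ≃+* A) (N : Type u) [AddCommGroup N] [Module A N] : Prop :=
  ∃ φ : B ⊗[A] N ≃+ N, ∀ (b : B) (z : B ⊗[A] N), φ (b • z) = e b • φ z

attribute [local instance] RingHomInvPair.of_ringEquiv in
/-- the hull is fixed when its base change is a hull -/
theorem isFixed_hull [IsLocalRing A] [IsLocalRing B] (e : B ≃+* A) {E : Type u} [AddCommGroup E] [Module A E]
    {f : ResidueField A →ₗ[A] E} (hf : InjHull.IsInjectiveHull f)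
    (g : ResidueField B →ₗ[B] B ⊗[A] E) (hg : InjHull.IsInjectiveHull g) : IsFixed e E := by
  let σ : A →+* B := e.symm.toRingHom
  let X := Via σ (B ⊗[A] E)
  let c := IsLocalRing.ResidueField.mapEquiv e.symm
  have hc : ∀ (a : A) (z : ResidueField A), c (a • z) = σ a • c z := fun a z => by
    obtain ⟨w, rfl⟩ := Ideal.Quotient.mk_surjective z
    show IsLocalRing.residue B (e.symm (a * w)) = _
    rw [map_mul, map_mul]
    rfl
  let g' : ResidueField A →ₗ[A] X :=
    { toFun := fun z => toVia σ (g (c z))
      map_add' := fun z z' => by rw [map_add, map_add, map_add]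
      map_smul' := fun a z => by rw [hc, map_smul]; rfl }
  have hg' : InjHull.IsInjectiveHull g' := by
    refine ⟨InjHull18.isEssentialInj_iff.2 ⟨fun a b h => c.injective (hg.injective h), fun x hx => ?_⟩, ?_⟩
    · obtain ⟨r, ⟨m, hm⟩, hr0⟩ := InjHull18.exists_smul_mem_range hg.toIsEssentialInj
        (x := (toVia σ).symm x) hx
      refine ⟨e r, ⟨c.symm m, ?_⟩, ?_⟩
      · show toVia σ (g (c (c.symm m))) = toVia σ (σ (e r) • (toVia σ).symm x)
        rw [RingEquiv.apply_symm_apply, hm, show σ (e r) = r from e.symm_apply_apply r]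
      · show toVia σ (σ (e r) • (toVia σ).symm x) ≠ 0
        rw [show σ (e r) = r from e.symm_apply_apply r]
        exact hr0
    · haveI := hg.isInjective
      exact Module.Injective.of_ringEquiv e
        ({ toVia σ (X := B ⊗[A] E) with
            map_smul' := fun b z => by
              show toVia σ (b • z) = e b • toVia σ z
              rw [smul_toVia, show σ (e b) = b from e.symm_apply_apply b] } :
          (B ⊗[A] E) ≃ₛₗ[(e : B →+* A)] X)
  obtain ⟨v, -⟩ := InjHull18.hull_unique hg' hf
  refine ⟨(toVia σ).trans v.toAddEquiv, fun b z => ?_⟩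
  show v (toVia σ (b • z)) = e b • v (toVia σ z)
  rw [← map_smul, smul_toVia, show σ (e b) = b from e.symm_apply_apply b]

theorem IsFixed.finsupp {e : B ≃+* A} {E : Type u} [AddCommGroup E] [Module A E] (h : IsFixed e E) (J : Type u) :
    IsFixed e (J →₀ E) := by
  classical
  obtain ⟨φ, hφ⟩ := h
  refine ⟨(TensorProduct.finsuppRight A B B E J).toAddEquiv.trans (Finsupp.mapRange.addEquiv φ), fun b z => ?_⟩
  refine Finsupp.ext fun j => ?_
  show φ (TensorProduct.finsuppRight A B B E J (b • z) j) = e b • φ (TensorProduct.finsuppRight A B B E J z j)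
  rw [map_smul, Finsupp.smul_apply, hφ]

variable [IsNoetherianRing A] [IsLocalRing A]

theorem exists_equiv_finsupp [Module.Flat A B] (e : B ≃+* A)
    (hcontr : ∀ x ∈ maximalIdeal A, e (algebraMap A B x) ∈ maximalIdeal A ^ 2)
    {E : Type u} [AddCommGroup E] [Module A E] {f : (A ⧸ maximalIdeal A) →ₗ[A] E}
    (hf : InjHull.IsInjectiveHull f) (hE : IsFixed e E)
    (M : Type u) [AddCommGroup M] [Module A M] (hM : LocCoh.IsPowerTorsion (maximalIdeal A) M)
    (hMfix : IsFixed e M) :
    ∃ ι : Type u, Nonempty (M ≃ₗ[A] (ι →₀ E)) := by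
  classical
  let m := maximalIdeal A
  letI : Field (A ⧸ m) := Ideal.Quotient.field m
  let S := LocCoh.torsionBy m M
  have hSt : Module.IsTorsionBySet A S (m : Set A) := fun z a =>
    Subtype.ext ((Submodule.mem_torsionBySet_iff _ _).1 z.2 a)
  letI : Module (A ⧸ m) S := Module.IsTorsionBySet.module hSt
  haveI : IsScalarTower A (A ⧸ m) S := Module.IsTorsionBySet.isScalarTower hSt
  let J := Module.Basis.ofVectorSpaceIndex (A ⧸ m) S
  let b : S ≃ₗ[A] (J →₀ A ⧸ m) := (Module.Basis.ofVectorSpace (A ⧸ m) S).repr.restrictScalars A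
  let F : (J →₀ A ⧸ m) →ₗ[A] (J →₀ E) := Finsupp.mapRange.linearMap f
  have hFinj : Function.Injective F := Finsupp.mapRange_injective f (map_zero f) hf.injective
  haveI := hf.isInjective
  haveI : Module.Injective A (J →₀ E) := LC15.injective_finsupp J E
  obtain ⟨g, hg⟩ := Module.Injective.out S.subtype S.injective_subtype (F ∘ₗ b.toLinearMap)
  have hgS : ∀ z : S, g z.1 = F (b z) := hg
  have hginj : Function.Injective g := InjHull18.injective_of_socle g hM fun z hz h0 => by
    have := (hgS ⟨z, hz⟩).symm.trans h0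
    exact congrArg Subtype.val (b.map_eq_zero_iff.1 ((map_eq_zero_iff F hFinj).1 this))
  have hsoc : ∀ y ∈ LocCoh.torsionBy m (J →₀ E), y ∈ LinearMap.range g := fun y hy => by
    have hy' : ∀ j, y j ∈ LinearMap.range f := fun j => by
      rw [← InjHull18.torsionBy_eq_range hf.toIsEssentialInj, Submodule.mem_torsionBySet_iff]
      exact fun a => DFunLike.congr_fun ((Submodule.mem_torsionBySet_iff _ _).1 hy a) j
    choose c hc using hy'
    let w : J →₀ A ⧸ m := Finsupp.onFinset y.support c fun j hj => by
      rw [Finsupp.mem_support_iff]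
      exact fun h0 => hj (hf.injective ((hc j).trans (h0.trans (map_zero f).symm)))
    refine ⟨(b.symm w).1, (hgS _).trans ?_⟩
    rw [LinearEquiv.apply_symm_apply]
    exact Finsupp.ext fun j => hc j
  have htor : LocCoh.IsPowerTorsion m (J →₀ E) := fun y => by
    choose n hn using fun j => InjHull18.isPowerTorsion_hull hf (y j)
    refine ⟨y.support.sup n, fun a ha => Finsupp.ext fun j => ?_⟩
    by_cases hj : j ∈ y.support
    · exact hn j a (Ideal.pow_le_pow_right (Finset.le_sup hj) ha)
    · simp [Finsupp.notMem_support_iff.1 hj]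
  obtain ⟨φ, hφ⟩ := hMfix
  obtain ⟨ψ, hψ⟩ := hE.finsupp J
  let a : ℕ → Ideal A := fun n => Nat.rec m (fun _ I => (I.map (algebraMap A B)).map (e : B →+* A)) n
  have ha : ∀ n, a n ≤ m ^ (n + 1) := by
    intro n
    induction n with
    | zero => exact le_of_eq (pow_one m).symm
    | succ n ih =>
      show ((a n).map (algebraMap A B)).map (e : B →+* A) ≤ _
      rw [Ideal.map_map]
      refine (Ideal.map_mono ih).trans ?_
      rw [Ideal.map_pow]
      have hm : m.map ((e : B →+* A).comp (algebraMap A B)) ≤ m ^ 2 := Ideal.map_le_iff_le_comap.2 fun x hx => hcontr x hx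
      refine (Ideal.pow_right_mono hm (n + 1)).trans ?_
      rw [← pow_mul]
      exact Ideal.pow_le_pow_right (by omega)
  have key : ∀ n, ∃ h : M →ₗ[A] (J →₀ E), Function.Injective h ∧
      LocCoh.torsionBy (a n) (J →₀ E) ≤ LinearMap.range h := by
    intro n
    induction n with
    | zero => exact ⟨g, hginj, hsoc⟩
    | succ n ih =>
      obtain ⟨h, hinj, hran⟩ := ih
      let h' : M →ₗ[A] (J →₀ E) :=
        { toFun := fun x => ψ (h.baseChange B (φ.symm x))
          map_add' := fun x y => by rw [map_add, map_add, map_add]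
          map_smul' := fun r x => by
            have h1 : φ.symm (r • x) = e.symm r • φ.symm x := φ.injective (by
              rw [hφ, AddEquiv.apply_symm_apply, AddEquiv.apply_symm_apply, RingEquiv.apply_symm_apply])
            rw [h1, map_smul, hψ, RingEquiv.apply_symm_apply]
            rfl }
      refine ⟨h', fun x y hxy => φ.symm.injective
        (Module.Flat.lTensor_preserves_injective_linearMap (M := B) h hinj (ψ.injective hxy)), fun y hy => ?_⟩
      have hz : ψ.symm y ∈ LocCoh.torsionBy ((a n).map (algebraMap A B)) (B ⊗[A] (J →₀ E)) := by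
        refine (Submodule.mem_torsionBySet_iff _ _).2 fun ⟨c, hc⟩ => ψ.injective ?_
        rw [hψ, AddEquiv.apply_symm_apply, map_zero]
        exact (Submodule.mem_torsionBySet_iff _ _).1 hy ⟨e c, Ideal.mem_map_of_mem (e : B →+* A) hc⟩
      obtain ⟨w, hw⟩ := (InjHull18.baseChangeTorsionEquiv (B := B) (M := J →₀ E) (a n)).surjective ⟨_, hz⟩
      have hw' : ψ.symm y = (Submodule.subtype (LocCoh.torsionBy (a n) (J →₀ E))).baseChange B w :=
        (congrArg Subtype.val hw).symm
      obtain ⟨v, hv⟩ : ψ.symm y ∈ LinearMap.range (h.baseChange B) := by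
        rw [hw']
        clear hw hw'
        induction w with
        | zero => rw [map_zero]; exact Submodule.zero_mem _
        | add s t hs ht => rw [map_add]; exact Submodule.add_mem _ hs ht
        | tmul s t =>
          obtain ⟨x, hx⟩ := hran t.2
          exact ⟨s ⊗ₜ x, by simp [hx]⟩
      exact ⟨φ v, (congrArg (fun z => ψ (h.baseChange B z)) (φ.symm_apply_apply v)).trans
        ((congrArg ψ hv).trans (ψ.apply_symm_apply y))⟩
  refine ⟨J, ⟨LinearEquiv.ofBijective g ⟨hginj, fun y => ?_⟩⟩⟩
  obtain ⟨n, hn⟩ := htor y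
  obtain ⟨h, hinj, hran⟩ := key n
  obtain ⟨l, hl⟩ := Module.Injective.out g hginj h
  have hlinj : Function.Injective l := InjHull18.injective_of_socle l htor fun z hz h0 => by
    obtain ⟨x, rfl⟩ := hsoc z hz
    rw [hl, map_eq_zero_iff h hinj] at h0
    rw [h0, map_zero]
  obtain ⟨x, hx⟩ := hran (x := l y) ((Submodule.mem_torsionBySet_iff _ _).2 fun ⟨c, hc⟩ => by
    rw [← map_smul, hn c (Ideal.pow_le_pow_right (Nat.le_succ n) (ha n hc)), map_zero])
  exact ⟨x, hlinj ((hl x).trans hx)⟩

end Groth.Agent.LC15.FrobStable
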