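import Groth.Agent.LC15.RgammaModel
import Groth.Agent.DR40.DCExist
import Groth.Agent.LC16.LocBC

/-!
Greenlees–May duality: torsion sections and derived completion determine each other.
-/

set_option autoImplicit false
set_option linter.unusedSectionVars false
set_option linter.style.haveILetI false
set_option backward.isDefEq.respectTransparency false

universe u

open CategoryTheory CategoryTheory.Limits CategoryTheory.Pretriangulated
open Groth.Agent Groth.Agent.DR39

attribute [local instance] HasDerivedCategory.standard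

namespace Groth.Agent.LC15.GM

variable {A : Type u} [CommRing A]

theorem seq_shortExact [IsNoetherianRing A] (J : Ideal A) (f : A) (E : DRing.Cx A) (hE : Div.DivCx E) :
    (LC16.CechRgamma.seq J f E).ShortExact := by
  refine HomologicalComplex.shortExact_of_degreewise_shortExact _ fun i => ?_
  have hmono : Mono ((LC16.CechRgamma.seq J f E).map (HomologicalComplex.eval _ _ i)).f :=
    (ModuleCat.mono_iff_injective _).2 fun a b h => Subtype.ext (congrArg (fun z => z.1) h)
  have hepi : Epi ((LC16.CechRgamma.seq J f E).map (HomologicalComplex.eval _ _ i)).g := by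
    refine (ModuleCat.epi_iff_surjective _).2 fun y => ?_
    induction y using LocalizedModule.induction_on with | h x s => ?_
    obtain ⟨_, n, rfl⟩ := s
    obtain ⟨c, m, hc, hcm⟩ := hE i J f n (Subtype.val x) x.2
    refine ⟨⟨c, hc⟩, LocalizedModule.mk_eq.2 ⟨⟨f ^ m, m, rfl⟩, ?_⟩⟩
    simp only [Submonoid.smul_def, one_smul]
    exact Subtype.ext hcm
  refine { exact := ?_ }
  rw [ShortComplex.ShortExact.moduleCat_exact_iff_function_exact]
  intro y
  constructor
  · intro hy
    replace hy : LocalizedModule.mk y (1 : Submonoid.powers f) = LocalizedModule.mk 0 (1 : Submonoid.powers f) :=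
      hy.trans (LocalizedModule.zero_mk _).symm
    obtain ⟨⟨_, n, rfl⟩, hn⟩ := LocalizedModule.mk_eq.1 hy
    simp only [Submonoid.smul_def, one_smul, smul_zero] at hn
    exact ⟨⟨y.1, (LC16.CechRgamma.mem_torsionSub_sup f J _ y.1).2 ⟨y.2, n, congrArg Subtype.val hn⟩⟩, rfl⟩
  · rintro ⟨x, rfl⟩
    exact ConcreteCategory.congr_hom (congrArg (fun g => g.f i) (LC16.CechRgamma.seq J f E).zero) x

theorem orth_loc {I : Ideal A} {f : A} (hf : f ∈ I) (L : DRing.Cx A) :
    DR40.Orth I ((QA A).obj ((DerCA.locCx (Submonoid.powers f)).obj L)) := by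
  refine DR40.orth_of_bijective f hf fun n => ?_
  let M := (DerCA.locCx (Submonoid.powers f)).obj L
  haveI : ∀ i, IsIso ((f • 𝟙 M : M ⟶ M).f i) := fun i => by
    have : (f • 𝟙 M : M ⟶ M).f i = f • 𝟙 (M.X i) := by simp
    rw [this]
    exact LC16.LocBC.bij_loc f (L.X i)
  haveI : IsIso (f • 𝟙 M : M ⟶ M) := HomologicalComplex.Hom.isIso_of_components _
  have hb : Function.Bijective (HomologicalComplex.homologyMap (f • 𝟙 M) n).hom :=
    (DR39.isIso_iff_bijective _).1 inferInstance
  let e := (HQIso M n).toLinearEquiv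
  have : (fun x : Dual.HD A ((QA A).obj M) n => f • x) =
      e.symm ∘ (HomologicalComplex.homologyMap (f • 𝟙 M) n).hom ∘ e := funext fun x => by
    rw [Function.comp_apply, Function.comp_apply, DR40.homologyMap_smul_id_apply, map_smul,
      LinearEquiv.symm_apply_apply]
  rw [this]
  exact e.symm.bijective.comp (hb.comp e.bijective)

variable [IsNoetherianRing A]

/-- morphisms into complete objects do not see the passage to torsion sections -/
theorem bijective_gι (I : Ideal A) (Z : DRing.Cx A) (hZ : Div.DivCx Z) (E : Dual.D A)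
    (hE : DRing.IsDerivedComplete I E) :
    Function.Bijective fun g : (QA A).obj Z ⟶ E => (QA A).map (Div.gι I Z) ≫ g := by
  classical
  obtain ⟨t, ht⟩ := IsNoetherian.noetherian I
  suffices key : ∀ (s : Finset A), s ⊆ t → ∀ (L : Ideal A), L = Ideal.span (s : Set A) →
      Function.Bijective fun g : (QA A).obj Z ⟶ E => (QA A).map (Div.gι L Z) ≫ g by
    exact key t subset_rfl I ht.symm
  intro s
  induction s using Finset.induction with
  | empty =>
    intro _ L hL
    haveI : ∀ i, IsIso ((Div.gι L Z).f i) := fun i => (DR39.isIso_iff_bijective _).2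
      ⟨fun a b h => Subtype.ext h, fun x => ⟨⟨x, 1, fun a ha => by
        rw [hL, Finset.coe_empty, Ideal.span_empty, pow_one, Submodule.mem_bot] at ha
        rw [ha, zero_smul]⟩, rfl⟩⟩
    haveI : IsIso (Div.gι L Z) := HomologicalComplex.Hom.isIso_of_components _
    exact ⟨fun a b h => (cancel_epi ((QA A).map (Div.gι L Z))).1 h,
      fun g => ⟨inv ((QA A).map (Div.gι L Z)) ≫ g, IsIso.hom_inv_id_assoc _ _⟩⟩
  | insert v s _ ih =>
    intro hs L hL
    rw [Finset.coe_insert, Ideal.span_insert] at hL
    subst hL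
    have h1 := ih ((Finset.subset_insert v s).trans hs) _ rfl
    have hv : v ∈ I := ht ▸ Submodule.subset_span (hs (Finset.mem_insert_self v s))
    have hSE := seq_shortExact (Ideal.span (s : Set A)) v Z hZ
    have h2 := DR40.bijective_of_orth (DerivedCategory.triangleOfSES_distinguished hSE)
      (orth_loc hv _) E hE
    have hcomp : Div.gι (Ideal.span {v} ⊔ Ideal.span (s : Set A)) Z =
        (LC16.CechRgamma.seq (Ideal.span (s : Set A)) v Z).f ≫ Div.gι (Ideal.span (s : Set A)) Z := rfl
    rw [hcomp]
    simp only [Functor.map_comp, Category.assoc]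
    exact h2.comp h1

variable (I : Ideal A)

theorem isZero_kos_torsion : ∀ (fs : List A), (∀ f ∈ fs, f ∈ I) → ∀ Y : Dual.D A,
    (∀ i, LocCoh.IsPowerTorsion I (Dual.HD A Y i)) → IsZero (DR40.kosObj fs Y) → IsZero Y := by
  intro fs
  induction fs with
  | nil => exact fun _ Y _ h => h
  | cons f fs ih =>
    intro hfs Y hY h
    have hf : f ∈ I := hfs f (List.mem_cons_self ..)
    have hT := DR40.cn_distinguished f Y
    have e2 := fun n => (DerivedCategory.HomologySequence.exact₂ _ hT n)
    have e3 := fun n => (DerivedCategory.HomologySequence.exact₃ _ hT n (n + 1) rfl)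
    have htor : ∀ n, LocCoh.IsPowerTorsion I (Dual.HD A (DR40.cn f Y) n) := by
      intro n x
      let T := Triangle.mk (f • 𝟙 Y) (DR40.cnι f Y) (DR40.cnδ f Y)
      obtain ⟨k, hk⟩ := hY (n + 1) ((DerivedCategory.HomologySequence.δ T n (n + 1) rfl).hom x)
      have hsub : ∀ a ∈ I ^ k, ∃ y : Dual.HD A Y n,
          ((HF A n).map (DR40.cnι f Y)).hom y = a • x := fun a ha =>
        (ShortComplex.moduleCat_exact_iff _).1 (e3 n) (a • x) (by
          show (DerivedCategory.HomologySequence.δ T n (n + 1) rfl).hom (a • x) = 0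
          rw [map_smul]; exact hk a ha)
      obtain ⟨t, ht⟩ := IsNoetherian.noetherian (I ^ k)
      choose! y hy using hsub
      choose m hm using fun a : A => hY n (y a)
      refine ⟨k + t.sup m, fun a ha => ?_⟩
      rw [pow_add] at ha
      refine Submodule.mul_induction_on ha (fun b hb c hc => ?_) fun p q hp hq => by
        rw [add_smul, hp, hq, add_zero]
      have hb' : b ∈ Submodule.span A (t : Set A) := ht.symm ▸ hb
      clear hb
      induction hb' using Submodule.span_induction with
      | mem g hg =>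
        rw [mul_comm, mul_smul, ← hy g (ht ▸ Submodule.subset_span hg), ← map_smul,
          hm g c (Ideal.pow_le_pow_right (Finset.le_sup hg) hc), map_zero]
      | zero => rw [zero_mul, zero_smul]
      | add p q _ _ hp hq => rw [add_mul, add_smul, hp, hq, add_zero]
      | smul r p _ hp => rw [smul_eq_mul, mul_assoc, mul_smul, hp, smul_zero]
    have hcn := ih (fun g hg => hfs g (List.mem_cons_of_mem _ hg)) _ htor h
    refine DR39.isZero_of_forall fun n => ?_
    have hiso : IsIso (f • 𝟙 Y) := (Triangle.isZero₃_iff_isIso₁ _ hT).1 hcn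
    have hbij : Function.Bijective ((HF A n).map (f • 𝟙 Y)).hom :=
      (DR39.isIso_iff_bijective _).1 inferInstance
    haveI : Subsingleton (Dual.HD A Y n) := subsingleton_of_forall_eq 0 fun x => by
      obtain ⟨k, hk⟩ := hY n x
      have hpow : ∀ j : ℕ, Function.Injective fun z : Dual.HD A Y n => f ^ j • z := by
        intro j
        induction j with
        | zero => intro a b hab; simpa using hab
        | succ j ihj =>
          intro a b hab
          simp only [pow_succ, mul_smul] at hab
          have := ihj hab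
          rw [← DR40.HF_smul f Y n a, ← DR40.HF_smul f Y n b] at this
          exact hbij.1 this
      exact hpow k (by simp [hk _ (Ideal.pow_mem_pow hf k)])
    exact ModuleCat.isZero_of_subsingleton _

variable [DRing.HasRgammaI I]

theorem orth_torsion (Z : DRing.Cx A) (hZ : Div.DivCx Z) (h : DR40.Orth I ((QA A).obj Z)) :
    IsZero ((QA A).obj (DR39.gCx I Z)) := by
  obtain ⟨fs, hfs⟩ := DR40.exists_list_of_fg (IsNoetherian.noetherian I)
  have ho : DR40.Orth I ((QA A).obj (DR39.gCx I Z)) := fun E hE g => by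
    obtain ⟨g', hg'⟩ := (bijective_gι I Z hZ E hE).2 g
    rw [← hg', h E hE g']
    exact comp_zero
  refine isZero_kos_torsion I fs (fun f hf => hfs ▸ Ideal.subset_span hf) _ (fun i y => ?_)
    ((DR40.orth_iff_kos fs hfs _).1 ho)
  obtain ⟨z, hz⟩ := hcls_surjective (DR39.gCx I Z) i ((HQIso _ i).toLinearEquiv y)
  obtain ⟨n, hn⟩ := (z.1 : DRing.torsionSub I (Z.X i)).2
  refine ⟨n, fun a ha => (HQIso _ i).toLinearEquiv.injective ?_⟩
  rw [map_smul, map_zero, ← hz, ← map_smul, show a • z = 0 from Subtype.ext (Subtype.ext (hn a ha)),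
    map_zero]

variable [DRing.HasDerivedCompletion I]

theorem isIso_map_η (K : Dual.D A) :
    IsIso ((DRing.RgammaI I).map (DRing.toDerivedCompletion I K)) := by
  obtain ⟨X, hX, ⟨e⟩⟩ := LC16.GammaModel.exists_isRep K
  obtain ⟨Y, hY, ⟨e'⟩⟩ := LC16.GammaModel.exists_isRep ((DRing.derivedCompletion I).obj K).obj
  haveI := hY.kinj
  haveI := hX.kinj
  obtain ⟨g, hg⟩ := Q_map_surjective_to X Y (e.hom ≫ DRing.toDerivedCompletion I K ≫ e'.inv)
  let Z := CochainComplex.mappingCone g
  have hT := DerivedCategory.mappingCone_triangle_distinguished g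
  have ho : DR40.Orth I ((QA A).obj Z) := by
    intro E hE z
    have hb : ∀ E' : Dual.D A, DRing.IsDerivedComplete I E' →
        Function.Bijective fun w : (QA A).obj Y ⟶ E' => (QA A).map g ≫ w := by
      intro E' hE'
      have h1 := (DR40.isCompl_unit I K).2 E' hE'
      have : (fun w : (QA A).obj Y ⟶ E' => (QA A).map g ≫ w) =
          (fun v : K ⟶ E' => e.hom ≫ v) ∘ (fun w => DRing.toDerivedCompletion I K ≫ w) ∘
            (fun w : (QA A).obj Y ⟶ E' => e'.inv ≫ w) := funext fun w => by
        erw [hg]
        simp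
      rw [this]
      exact (Iso.homFromEquiv e.symm).bijective.comp (h1.comp (Iso.homFromEquiv e').bijective)
    have hz : (QA A).map (CochainComplex.mappingCone.inr g) ≫ z = 0 := (hb E hE).1 (by
      show (QA A).map g ≫ _ ≫ z = (QA A).map g ≫ 0
      have h0 : (QA A).map g ≫ (QA A).map (CochainComplex.mappingCone.inr g) = 0 :=
        comp_distTriang_mor_zero₁₂ _ hT
      rw [reassoc_of% h0, zero_comp, comp_zero])
    obtain ⟨v, hv⟩ := Triangle.yoneda_exact₃ _ hT z hz
    obtain ⟨w, hw⟩ := (DR39.precomp_shift_bijective ((QA A).map g) E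
      (hb _ (DR40.dc_shift hE (-1)))).2 v
    simp only at hw
    rw [hv, ← hw]
    have h0 := comp_distTriang_mor_zero₃₁ _ hT
    exact (Category.assoc _ _ _).symm.trans (by erw [h0]; exact zero_comp)
  have hΓ : IsIso ((QA A).map ((RgammaModel.GI I).map g)) := by
    have h1 : IsZero ((QA A).obj (DR39.gCx I Z)) :=
      orth_torsion I Z (Div.divCx_cone (Div.divCx_of_injective hX.inj) (Div.divCx_of_injective hY.inj) g) ho
    exact (Triangle.isZero₃_iff_isIso₁ _
      (DerivedCategory.mappingCone_triangle_distinguished ((RgammaModel.GI I).map g))).1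
      (h1.of_iso ((QA A).mapIso
        (CochainComplex.mappingCone.mapHomologicalComplexIso g (DRing.gammaI I)).symm))
  haveI := RgammaModel.isIso_βn_of_isKInjective I X hX.kinj
  haveI := RgammaModel.isIso_βn_of_isKInjective I Y hY.kinj
  have h := RgammaModel.βn_natural I g
  have : IsIso ((RgammaModel.βn I).app X ≫ (DRing.RgammaI I).map ((QA A).map g)) := h ▸ inferInstance
  haveI := IsIso.of_isIso_comp_left ((RgammaModel.βn I).app X) ((DRing.RgammaI I).map ((QA A).map g))
  have hg' : DRing.toDerivedCompletion I K = e.inv ≫ (QA A).map g ≫ e'.hom := by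
    erw [hg]
    simp
  rw [hg', Functor.map_comp, Functor.map_comp]
  infer_instance

theorem nonempty_compl_gamma_iso (K : Dual.D A) :
    Nonempty ((DRing.derivedCompletion I).obj ((DRing.RgammaI I).obj K) ≅
      (DRing.derivedCompletion I).obj K) := by
  obtain ⟨X, hX, ⟨e⟩⟩ := LC16.GammaModel.exists_isRep K
  haveI := RgammaModel.isIso_βn_of_isKInjective I X hX.kinj
  let i : (DRing.RgammaI I).obj K ≅ (QA A).obj (DR39.gCx I X) :=
    (DRing.RgammaI I).mapIso e.symm ≪≫ (asIso ((RgammaModel.βn I).app X)).symm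
  let ψ : (DRing.RgammaI I).obj K ⟶ K := i.hom ≫ (QA A).map (Div.gι I X) ≫ e.hom
  have h : DR40.IsCompl I (ψ ≫ DRing.toDerivedCompletion I K) := by
    refine ⟨(DR40.isCompl_unit I K).1, fun E hE => ?_⟩
    have : (fun g : ((DRing.derivedCompletion I).obj K).obj ⟶ E =>
        (ψ ≫ DRing.toDerivedCompletion I K) ≫ g) =
      (fun v : (QA A).obj (DR39.gCx I X) ⟶ E => i.hom ≫ v) ∘
        (fun v : (QA A).obj X ⟶ E => (QA A).map (Div.gι I X) ≫ v) ∘
        (fun v : K ⟶ E => e.hom ≫ v) ∘ (fun g => DRing.toDerivedCompletion I K ≫ g) :=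
      funext fun g => by simp [ψ]
    rw [this]
    exact (Iso.homFromEquiv i.symm).bijective.comp
      ((bijective_gι I X (Div.divCx_of_injective hX.inj) E hE).comp
        ((Iso.homFromEquiv e.symm).bijective.comp ((DR40.isCompl_unit I K).2 E hE)))
  obtain ⟨u, -⟩ := (DR40.isCompl_unit I ((DRing.RgammaI I).obj K)).unique h
  exact ⟨(ObjectProperty.fullyFaithfulι _).preimageIso u⟩

theorem greenlees_may (K : Dual.D A) :
    Nonempty ((DRing.RgammaI I).obj ((DRing.derivedCompletion I).obj K).obj ≅ (DRing.RgammaI I).obj K) ∧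
      Nonempty ((DRing.derivedCompletion I).obj ((DRing.RgammaI I).obj K) ≅
        (DRing.derivedCompletion I).obj K) :=
  haveI := isIso_map_η I K
  ⟨⟨(asIso ((DRing.RgammaI I).map (DRing.toDerivedCompletion I K))).symm⟩, nonempty_compl_gamma_iso I K⟩

end Groth.Agent.LC15.GM
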