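import Groth.Agent.LC15.Finiteness
import Groth.Agent.LC15.Cd
import Groth.Agent.CAlg4.RDLifting

set_option autoImplicit false

universe u

namespace Groth.Agent.LC15

variable {A : Type u} [CommRing A] [IsNoetherianRing A] (I : Ideal A)

theorem finite_H1_of_injective {M N : Type u} [AddCommGroup M] [Module A M] [AddCommGroup N]
    [Module A N] [Module.Finite A N] {f : M →ₗ[A] N} (hf : Function.Injective f)
    [Module.Finite A (LocCoh.H I 1 N)] : Module.Finite A (LocCoh.H I 1 M) := by
  haveI := finite_H_zero I (N ⧸ LinearMap.range f)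
  exact finite_middle (H_exact₁ I 0 hf (LinearMap.exact_map_mkQ_range f) (Submodule.mkQ_surjective _))

theorem finite_H1_middle {M N L : Type u} [AddCommGroup M] [Module A M] [AddCommGroup N]
    [Module A N] [AddCommGroup L] [Module A L] {f : M →ₗ[A] N} {g : N →ₗ[A] L}
    (hf : Function.Injective f) (hfg : Function.Exact f g) (hg : Function.Surjective g)
    [Module.Finite A (LocCoh.H I 1 M)] [Module.Finite A (LocCoh.H I 1 L)] :
    Module.Finite A (LocCoh.H I 1 N) :=
  finite_middle (H_exact₂ I 1 hf hfg hg)

theorem finite_H1_pi (W : Type u) [AddCommGroup W] [Module A W] [Module.Finite A (LocCoh.H I 1 W)] :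
    ∀ n : ℕ, Module.Finite A (LocCoh.H I 1 (Fin n → W)) := by
  intro n
  induction n with
  | zero =>
    haveI := subsingleton_H_of_subsingleton I 1 (M := Fin 0 → W)
    infer_instance
  | succ n ih =>
    let f : (Fin n → W) →ₗ[A] (Fin (n + 1) → W) :=
      { toFun := fun v => Fin.cons 0 v
        map_add' := fun a b => by ext i; refine Fin.cases ?_ (fun j => ?_) i <;> simp
        map_smul' := fun a b => by ext i; refine Fin.cases ?_ (fun j => ?_) i <;> simp }
    let g : (Fin (n + 1) → W) →ₗ[A] W := LinearMap.proj 0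
    refine finite_H1_middle I (f := f) (g := g) (fun a b h => funext fun j => ?_) (fun v => ?_)
      fun w => ⟨Fin.cons w 0, by simp [g]⟩
    · have := congrFun h j.succ
      simpa [f] using this
    · constructor
      · intro hv
        refine ⟨fun j => v j.succ, funext fun i => ?_⟩
        refine Fin.cases ?_ (fun j => ?_) i
        · simpa [f, g] using hv.symm
        · simp [f]
      · rintro ⟨w, rfl⟩
        simp [f, g]

theorem associatedPrimes_quotient_torsionBy {M : Type u} [AddCommGroup M] [Module A M]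
    (J : Ideal A) :
    associatedPrimes A (M ⧸ LocCoh.torsionBy J M) ⊆ associatedPrimes A M := by
  classical
  intro q hq
  obtain ⟨hqp, y, hy⟩ := isAssociatedPrime_iff.mp hq
  obtain ⟨m, rfl⟩ := Submodule.mkQ_surjective _ y
  obtain ⟨s, hs⟩ := (IsNoetherian.noetherian J : Submodule.FG J)
  have hmem : ∀ a : A, a ∈ q ↔ ∀ j ∈ s, a • j • m = 0 := by
    intro a
    rw [hy, Submodule.mem_colon_singleton, Submodule.mem_bot, Submodule.mkQ_apply,
      ← Submodule.Quotient.mk_smul, Submodule.Quotient.mk_eq_zero, Submodule.mem_torsionBySet_iff]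
    constructor
    · intro h j hj
      rw [smul_comm]
      exact h ⟨j, hs ▸ Submodule.subset_span hj⟩
    · rintro h ⟨j, hj⟩
      change j • a • m = 0
      rw [← hs] at hj
      induction hj using Submodule.span_induction with
      | mem j hj => rw [smul_comm]; exact h j hj
      | zero => simp
      | add b c _ _ hb hc => rw [add_smul, hb, hc, add_zero]
      | smul r b _ hb => rw [smul_assoc, hb, smul_zero]
  have hex : ∃ j ∈ s, ∀ a : A, a • j • m = 0 → a ∈ q := by
    by_contra hcon
    push Not at hcon
    choose a ha haq using hcon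
    have hprod : ∏ j ∈ s.attach, a j.1 j.2 ∈ q := by
      rw [hmem]
      intro j hj
      rw [← Finset.prod_erase_mul _ _ (Finset.mem_attach s ⟨j, hj⟩), mul_smul, ha j hj, smul_zero]
    obtain ⟨j, -, hj⟩ := hqp.prod_mem_iff.1 hprod
    exact haq _ _ hj
  obtain ⟨j, hj, hja⟩ := hex
  refine isAssociatedPrime_iff.mpr ⟨hqp, j • m, Ideal.ext fun a => ?_⟩
  rw [Submodule.mem_colon_singleton, Submodule.mem_bot]
  exact ⟨fun h => (hmem a).1 h j hj, hja a⟩

theorem finite_H1_of_assoc (M₀ : Type u) [AddCommGroup M₀] [Module A M₀] [Module.Finite A M₀]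
    (h : ∀ p : Ideal A, p ∈ associatedPrimes A M₀ → ¬ I ≤ p →
      Module.Finite A (LocCoh.H I 1 (A ⧸ p))) :
    Module.Finite A (LocCoh.H I 1 M₀) := by
  suffices key : ∀ N : Submodule A M₀, associatedPrimes A (M₀ ⧸ N) ⊆ associatedPrimes A M₀ →
      Module.Finite A (LocCoh.H I 1 (M₀ ⧸ N)) by
    let e : M₀ ≃ₗ[A] (M₀ ⧸ (⊥ : Submodule A M₀)) := (Submodule.quotEquivOfEqBot ⊥ rfl).symm
    haveI := key ⊥ (LinearEquiv.AssociatedPrimes.eq e).ge
    exact Module.Finite.equiv (Hequiv I 1 e).symm
  intro N
  induction N using (wellFounded_gt (α := Submodule A M₀)).induction with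
  | _ N ih =>
    intro hN
    rcases subsingleton_or_nontrivial (M₀ ⧸ N) with hsub | hnt
    · haveI := subsingleton_H_of_subsingleton I 1 (M := M₀ ⧸ N)
      infer_instance
    obtain ⟨p, hp, hpmax⟩ := (associatedPrimes.finite A (M₀ ⧸ N)).exists_maximal
      (associatedPrimes.nonempty A (M₀ ⧸ N))
    obtain ⟨hpp, y, hy⟩ := isAssociatedPrime_iff.mp hp
    let W := LocCoh.torsionBy p (M₀ ⧸ N)
    have hyW : y ∈ W := (Submodule.mem_torsionBySet_iff _ _).2 fun a => by
      obtain ⟨a, ha⟩ := a
      change a • y = 0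
      have : a ∈ (⊥ : Submodule A (M₀ ⧸ N)).colon {y} := hy.le ha
      rw [Submodule.mem_colon_singleton, Submodule.mem_bot] at this
      exact this
    have hy0 : y ≠ 0 := fun h0 => hpp.ne_top (by
      rw [hy, h0, Ideal.eq_top_iff_one, Submodule.mem_colon_singleton]; simp)
    let N' := W.comap N.mkQ
    have hNN' : N < N' := by
      refine lt_of_le_of_ne (fun x hx => ?_) fun heq => hy0 ?_
      · change N.mkQ x ∈ W
        rw [Submodule.mkQ_apply, (Submodule.Quotient.mk_eq_zero N).2 hx]
        exact zero_mem _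
      · obtain ⟨x, rfl⟩ := N.mkQ_surjective y
        have : x ∈ N := heq ▸ (hyW : x ∈ N')
        exact (Submodule.Quotient.mk_eq_zero N).2 this
    let e : ((M₀ ⧸ N) ⧸ W) ≃ₗ[A] (M₀ ⧸ N') :=
      (Submodule.quotEquivOfEq W (N'.map N.mkQ)
        (Submodule.map_comap_eq_of_surjective N.mkQ_surjective W).symm).trans
        (Submodule.quotientQuotientEquivQuotient N N' hNN'.le)
    haveI := ih N' hNN' (fun q hq => hN (associatedPrimes_quotient_torsionBy p
      ((LinearEquiv.AssociatedPrimes.eq e).ge hq)))
    haveI : Module.Finite A (LocCoh.H I 1 ((M₀ ⧸ N) ⧸ W)) :=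
      Module.Finite.equiv (Hequiv I 1 e).symm
    haveI : Module.Finite A (LocCoh.H I 1 W) := by
      by_cases hIp : I ≤ p
      · haveI := subsingleton_H_of_powerTorsion I (M := W) (fun m => ⟨1, fun a ha => by
          rw [pow_one] at ha
          exact Subtype.ext ((Submodule.mem_torsionBySet_iff _ _).1 m.2 ⟨a, hIp ha⟩)⟩) Nat.one_pos
        infer_instance
      · haveI := hpp
        letI : Module (A ⧸ p) W :=
          Module.IsTorsionBySet.module (Submodule.torsionBySet_isTorsionBySet (R := A) (M := M₀ ⧸ N) (p : Set A))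
        haveI : IsScalarTower A (A ⧸ p) W := Module.IsTorsionBySet.isScalarTower _
        haveI : Module.Finite (A ⧸ p) W := Module.Finite.of_restrictScalars_finite A (A ⧸ p) W
        haveI : Module.IsTorsionFree (A ⧸ p) W := by
          refine Module.isTorsionFree_iff_smul_eq_zero.2 fun c w hcw => ?_
          obtain ⟨a, rfl⟩ := Ideal.Quotient.mk_surjective c
          by_contra hcon
          rw [not_or] at hcon
          have ha : a ∉ p := fun ha => hcon.1 (Ideal.Quotient.eq_zero_iff_mem.2 ha)
          have hann : a ∈ (⊥ : Submodule A (M₀ ⧸ N)).colon {(w : M₀ ⧸ N)} := by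
            rw [Submodule.mem_colon_singleton, Submodule.mem_bot]
            exact congrArg Subtype.val hcw
          obtain ⟨q, hq, hle⟩ := exists_le_isAssociatedPrime_of_isNoetherianRing A (w : M₀ ⧸ N)
            (fun h0 => hcon.2 (Subtype.ext h0))
          have hpq : p ≤ q := fun b hb => hle (by
            rw [Submodule.mem_colon_singleton, Submodule.mem_bot]
            exact (Submodule.mem_torsionBySet_iff _ _).1 w.2 ⟨b, hb⟩)
          exact ha (hpmax hq hpq (hle hann))
        obtain ⟨n, f, hf⟩ := CAlg4.RDLifting.exists_injective_free (R := A ⧸ p) W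
        haveI := h p (hN hp) hIp
        haveI := finite_H1_pi I (A ⧸ p) n
        exact finite_H1_of_injective I (f := f.restrictScalars A) hf
    exact finite_H1_middle I W.injective_subtype (LinearMap.exact_subtype_mkQ W) W.mkQ_surjective

theorem finite_H1_quotient_assoc {M : Type u} [AddCommGroup M] [Module A M] [Module.Finite A M]
    [Module.Finite A (LocCoh.H I 1 M)] {p : Ideal A} (hp : p ∈ associatedPrimes A M) :
    Module.Finite A (LocCoh.H I 1 (A ⧸ p)) := by
  obtain ⟨-, f, hf⟩ := (isAssociatedPrime_iff_exists_injective_linearMap p M).mp hp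
  exact finite_H1_of_injective I hf

end Groth.Agent.LC15
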