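import Groth.Agent.LC15.H1Kollar
import Groth.Agent.CAlg1.NagataAU
import Groth.Agent.CAlg1.NagataCore
import Groth.Agent.CAlg1.Catenary

/-!
Sufficient conditions for the hypothesis of Kollár's finiteness criterion.
-/

namespace Groth.Agent.LC15.H1Good

universe u

set_option autoImplicit false
set_option linter.style.haveILetI false
set_option linter.overlappingInstances false
set_option linter.unusedSectionVars false

open IsLocalRing TensorProduct Groth.Agent.EGA4H10 LC17

theorem ass_of_surjective {B C : Type u} [CommRing B] [CommRing C] (f : B →+* C)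
    (hf : Function.Surjective f) {J P : Ideal B} (hJ : RingHom.ker f = J)
    (hP : P ∈ associatedPrimes B (B ⧸ J)) :
    ∃ P' ∈ associatedPrimes C C, P'.comap f = P := by
  letI := f.toAlgebra
  let e : (B ⧸ J) ≃ₗ[B] C :=
    (Submodule.quotEquivOfEq J (LinearMap.ker (Algebra.linearMap B C)) (by rw [← hJ]; rfl)).trans
      ((Algebra.linearMap B C).quotKerEquivOfSurjective hf)
  rw [LinearEquiv.AssociatedPrimes.eq e] at hP
  obtain ⟨x, hx⟩ := hP.2
  have hker : RingHom.ker f ≤ P := fun r hr => by
    rw [hx]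
    refine Ideal.le_radical (Submodule.mem_colon_singleton.mpr ?_)
    rw [Submodule.mem_bot, Algebra.smul_def, show algebraMap B C r = 0 from hr, zero_mul]
  have hc : (P.map f).comap f = P := by
    rw [Ideal.comap_map_of_surjective f hf, ← RingHom.ker_eq_comap_bot, sup_eq_left.mpr hker]
  haveI := hP.isPrime
  refine ⟨P.map f, ⟨Ideal.map_isPrime_of_surjective hf hker, x, ?_⟩, hc⟩
  ext c
  obtain ⟨r, rfl⟩ := hf c
  rw [← Ideal.mem_comap, hc, hx, Ideal.mem_radical_iff, Ideal.mem_radical_iff]
  simp only [Submodule.mem_colon_singleton, Submodule.mem_bot, Algebra.smul_def,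
    Algebra.algebraMap_self, RingHom.id_apply, ← map_pow]
  rfl

theorem minimal_of_reduced {C : Type u} [CommRing C] [IsNoetherianRing C] [IsReduced C]
    {P : Ideal C} (hP : P ∈ associatedPrimes C C) : P ∈ minimalPrimes C := by
  have h := CAlg1.noEmbedded_iff_S1.mpr (CAlg1.reduced_iff_R0_S1.mp ‹_›).2 P hP
  rwa [CAlg1.annihilator_self] at h

theorem htq_closed {B : Type u} [CommRing B] [IsLocalRing B] (P : Ideal B)
    [P.IsPrime] :
    ((htq P (maximalIdeal B) : ℕ∞) : WithBot ℕ∞) = ringKrullDim (B ⧸ P) := by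
  haveI : IsLocalRing (B ⧸ P) :=
    IsLocalRing.of_surjective' (Ideal.Quotient.mk P) Ideal.Quotient.mk_surjective
  rw [← maximalIdeal_height_eq_ringKrullDim,
    ← IsLocalRing.map_maximalIdeal_of_surjective (Ideal.Quotient.mk P)
      Ideal.Quotient.mk_surjective]

theorem ass_facts {B : Type u} [CommRing B] {J P : Ideal B}
    (hP : P ∈ associatedPrimes B (B ⧸ J)) : J ≤ P := fun r hr => by
  obtain ⟨x, hx⟩ := hP.2
  rw [hx]
  refine Ideal.le_radical (Submodule.mem_colon_singleton.mpr ?_)
  obtain ⟨x, rfl⟩ := Ideal.Quotient.mk_surjective x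
  rw [Submodule.mem_bot, Algebra.smul_def, Ideal.Quotient.algebraMap_eq, ← map_mul,
    Ideal.Quotient.eq_zero_iff_mem]
  exact J.mul_mem_right x hr

variable {A : Type u} [CommRing A] [IsNoetherianRing A] (p q : Ideal A) [q.IsPrime]

theorem map_eq :
    (p.map (algebraMap A (Localization.AtPrime q))).map
      (algebraMap (Localization.AtPrime q) (EGA4.Cpl (Localization.AtPrime q))) =
    p.map (algebraMap A (EGA4.Cpl (Localization.AtPrime q))) := by
  rw [Ideal.map_map, ← IsScalarTower.algebraMap_eq]

theorem good_of_equiv (C : Type u) [CommRing C]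
    (f : EGA4.Cpl (Localization.AtPrime q) →+* C) (hf : Function.Surjective f)
    (hker : RingHom.ker f = p.map (algebraMap A (EGA4.Cpl (Localization.AtPrime q))))
    (h : ∀ P ∈ associatedPrimes C C, (2 : WithBot ℕ∞) ≤ ringKrullDim (C ⧸ P)) :
    H1Kollar.Good p q := fun P hP => by
  obtain ⟨P', hP', rfl⟩ := ass_of_surjective f hf hker hP
  rw [dim_quotient_comap f hf]
  exact h P' hP'

/-- the hypothesis of Kollár's criterion in terms of the completed local quotient -/
theorem good_of_completion (hpq : p ≤ q)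
    (h : ∀ P ∈ associatedPrimes
        (AdicCompletion ((maximalIdeal (Localization.AtPrime q)).map
          (Ideal.Quotient.mk (p.map (algebraMap A (Localization.AtPrime q)))))
          (Localization.AtPrime q ⧸ p.map (algebraMap A (Localization.AtPrime q))))
        (AdicCompletion ((maximalIdeal (Localization.AtPrime q)).map
          (Ideal.Quotient.mk (p.map (algebraMap A (Localization.AtPrime q)))))
          (Localization.AtPrime q ⧸ p.map (algebraMap A (Localization.AtPrime q)))),
      (2 : WithBot ℕ∞) ≤ ringKrullDim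
        (AdicCompletion ((maximalIdeal (Localization.AtPrime q)).map
          (Ideal.Quotient.mk (p.map (algebraMap A (Localization.AtPrime q)))))
          (Localization.AtPrime q ⧸ p.map (algebraMap A (Localization.AtPrime q))) ⧸ P)) :
    H1Kollar.Good p q := by
  let Aq := Localization.AtPrime q
  haveI : IsNoetherianRing Aq := IsLocalization.isNoetherianRing q.primeCompl _ inferInstance
  let p' := p.map (algebraMap A Aq)
  have hp' : p' ≤ maximalIdeal Aq := by
    rw [← Localization.AtPrime.map_eq_maximalIdeal]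
    exact Ideal.map_mono hpq
  haveI : Nontrivial (Aq ⧸ p') := Ideal.Quotient.nontrivial_iff.mpr fun he =>
    (maximalIdeal.isMaximal Aq).ne_top (top_le_iff.mp (he.ge.trans hp'))
  haveI : IsLocalRing (Aq ⧸ p') :=
    IsLocalRing.of_surjective' (Ideal.Quotient.mk p') Ideal.Quotient.mk_surjective
  rw [IsLocalRing.map_maximalIdeal_of_surjective (Ideal.Quotient.mk p')
    Ideal.Quotient.mk_surjective] at h
  let e := cplQuotEquiv Aq (Aq ⧸ p') Ideal.Quotient.mk_surjective
  let f : EGA4.Cpl Aq →+* EGA4.Cpl (Aq ⧸ p') := e.toRingHom.comp (Ideal.Quotient.mk _)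
  refine good_of_equiv p q _ f (e.surjective.comp Ideal.Quotient.mk_surjective) ?_ h
  rw [RingHom.ker_comp_of_injective _ e.injective, Ideal.mk_ker, ← map_eq p q]
  exact congrArg (Ideal.map (algebraMap Aq (EGA4.Cpl Aq))) (Ideal.mk_ker (I := p'))

variable [p.IsPrime]

/-- universally catenary rings: associated primes which are minimal give the hypothesis -/
theorem good_of_htq_zero (hA : CAlg.IsUniversallyCatenary A) (hpq : p ≤ q)
    (hdim : 2 ≤ htq p q)
    (h : ∀ P ∈ associatedPrimes (EGA4.Cpl (Localization.AtPrime q))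
      (EGA4.Cpl (Localization.AtPrime q) ⧸ p.map (algebraMap A (EGA4.Cpl (Localization.AtPrime q)))),
      htq (p.map (algebraMap A (EGA4.Cpl (Localization.AtPrime q)))) P = 0) :
    H1Kollar.Good p q := fun P hP => by
  let Aq := Localization.AtPrime q
  haveI : IsNoetherianRing Aq := IsLocalization.isNoetherianRing q.primeCompl _ inferInstance
  let B := EGA4.Cpl Aq
  haveI := Cohen12.isNoetherianRing_completion (A := Aq)
  haveI := CutoffCpl.faithfullyFlat_cpl Aq
  haveI : Module.Flat A B := Module.Flat.trans A Aq B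
  haveI : (p.map (algebraMap A Aq)).IsPrime :=
    IsLocalization.isPrime_of_isPrime_disjoint q.primeCompl Aq p ‹_›
      (Set.disjoint_left.mpr fun x hx hxp => hx (hpq hxp))
  haveI := hP.isPrime
  have hC := CutoffCpl.coverSucc_cpl_quotient Aq
    (CAlg1.isUniversallyCatenary_of_isLocalization q.primeCompl hA)
    ⟨p.map (algebraMap A Aq), inferInstance⟩
  rw [map_eq p q] at hC
  have hmax : (maximalIdeal B).comap (algebraMap A B) = q := by
    rw [IsScalarTower.algebraMap_eq A Aq B, ← Ideal.comap_comap,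
      show (maximalIdeal B).comap (algebraMap Aq B) = maximalIdeal Aq from ?_]
    · exact Localization.AtPrime.under_maximalIdeal
    · haveI : IsLocalHom (algebraMap Aq B) :=
        ((IsLocalRing.local_hom_TFAE _).out 2 0 rfl rfl).mp
          AdicCompletion.maximalIdeal_eq_map.symm.le
      exact ((IsLocalRing.local_hom_TFAE _).out 0 4 rfl rfl).mp inferInstance
  have h1 := hdim.trans (CutoffFlat.htq_le_map (maximalIdeal B) hpq hmax)
  rw [CutoffFlat.htq_eq_of_coverSucc (P := P) (ass_facts hP) (le_maximalIdeal hP.isPrime.ne_top) hC,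
    h P hP, zero_add] at h1
  rw [← htq_closed]
  exact WithBot.coe_le_coe.mpr h1

/-- `(S₁)` formal fibres -/
theorem htq_zero_of_S1 (hpq : p ≤ q)
    (hF : EGA4.HasSnFormalFibres 1 (Localization.AtPrime q))
    (P : Ideal (EGA4.Cpl (Localization.AtPrime q)))
    (hP : P ∈ associatedPrimes (EGA4.Cpl (Localization.AtPrime q))
      (EGA4.Cpl (Localization.AtPrime q) ⧸ p.map (algebraMap A (EGA4.Cpl (Localization.AtPrime q))))) :
    htq (p.map (algebraMap A (EGA4.Cpl (Localization.AtPrime q)))) P = 0 := by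
  let Aq := Localization.AtPrime q
  haveI : IsNoetherianRing Aq := IsLocalization.isNoetherianRing q.primeCompl _ inferInstance
  let B := EGA4.Cpl Aq
  haveI := Cohen12.isNoetherianRing_completion (A := Aq)
  haveI := CutoffCpl.faithfullyFlat_cpl Aq
  let p' := p.map (algebraMap A Aq)
  haveI : p'.IsPrime :=
    IsLocalization.isPrime_of_isPrime_disjoint q.primeCompl Aq p ‹_›
      (Set.disjoint_left.mpr fun x hx hxp => hx (hpq hxp))
  haveI := hP.isPrime
  rw [← map_eq p q] at hP ⊢
  let e : (B ⊗[Aq] (Aq ⧸ p')) ≃ₗ[B] B ⧸ p'.map (algebraMap Aq B) :=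
    (Algebra.TensorProduct.quotIdealMapEquivTensorQuot B p').toLinearEquiv.symm
  have hd := (CAlg1.depth_atPrime_eq_zero_iff P).mpr hP
  rw [CutoffFlat.depth_loc (A := Aq) (B := B) (Aq ⧸ p') _ e P, add_eq_zero] at hd
  have hass := (CAlg1.depth_atPrime_eq_zero_iff _).mp hd.1
  rw [associatedPrimes.eq_singleton_of_isPrimary (Ideal.IsPrime.isPrimary ‹p'.IsPrime›),
    Set.mem_singleton_iff, Ideal.IsPrime.radical ‹p'.IsPrime›] at hass
  have h' := fibre_condition_of_fiber (A := Aq) (B := B) 1 hF P
  rw [CutoffFlat.supportDim_fibLocMod_self, hd.2, hass] at h'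
  have h'' := WithBot.coe_le_coe.mp
    ((WithBot.coe_min (1 : ℕ∞) (htq (p'.map (algebraMap Aq B)) P)).trans_le h')
  rcases le_total (1 : ℕ∞) (htq (p'.map (algebraMap Aq B)) P) with h0 | h0
  · rw [min_eq_left h0] at h''
    norm_num at h''
  · rw [min_eq_right h0] at h''
    exact le_antisymm h'' bot_le

/-- Nagata rings -/
theorem htq_zero_of_nagata (hpq : p ≤ q) (hN : CAlg.IsNagata A)
    (P : Ideal (EGA4.Cpl (Localization.AtPrime q)))
    (hP : P ∈ associatedPrimes (EGA4.Cpl (Localization.AtPrime q))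
      (EGA4.Cpl (Localization.AtPrime q) ⧸ p.map (algebraMap A (EGA4.Cpl (Localization.AtPrime q))))) :
    htq (p.map (algebraMap A (EGA4.Cpl (Localization.AtPrime q)))) P = 0 := by
  let Aq := Localization.AtPrime q
  haveI : IsNoetherianRing Aq := IsLocalization.isNoetherianRing q.primeCompl _ inferInstance
  let B := EGA4.Cpl Aq
  haveI := Cohen12.isNoetherianRing_completion (A := Aq)
  let p' := p.map (algebraMap A Aq)
  have hdisj : Disjoint (q.primeCompl : Set A) (p : Set A) :=
    Set.disjoint_left.mpr fun x hx hxp => hx (hpq hxp)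
  haveI : p'.IsPrime :=
    IsLocalization.isPrime_of_isPrime_disjoint q.primeCompl Aq p ‹_› hdisj
  haveI : IsLocalRing (Aq ⧸ p') :=
    IsLocalRing.of_surjective' (Ideal.Quotient.mk p') Ideal.Quotient.mk_surjective
  have hNp : CAlg.IsNagata (A ⧸ p'.comap (algebraMap A Aq)) := CAlg1.Nag.isNagata_quotient _ hN
  haveI := CAlg1.Nag.isReduced_cpl_of_isNagata (Aq ⧸ p')
    (CAlg1.Nag.isNagata_quotient_localization q.primeCompl Aq p' hNp)
  haveI : IsReduced (B ⧸ p'.map (algebraMap Aq B)) := CAlg1.Nag.isReduced_cpl_quotient p'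
  rw [← map_eq p q] at hP ⊢
  obtain ⟨P', hP', rfl⟩ := ass_of_surjective (Ideal.Quotient.mk (p'.map (algebraMap Aq B)))
    Ideal.Quotient.mk_surjective Ideal.mk_ker hP
  haveI := hP'.isPrime
  rw [show htq _ (P'.comap (Ideal.Quotient.mk (p'.map (algebraMap Aq B)))) = P'.height from
    congrArg Ideal.height (Ideal.map_comap_of_surjective _ Ideal.Quotient.mk_surjective P')]
  exact Ideal.height_eq_zero_iff.mpr (minimal_of_reduced hP')

end Groth.Agent.LC15.H1Good
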