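import Groth.Agent.LC15.CutoffCpl
import Groth.Agent.LC15.CritDepth
import Groth.Agent.LC15.Flat
import Groth.Agent.LC16.ChangeRings
import Groth.Agent.EGA4H10.CompleteUC
import Groth.Agent.CAlg1.AssTensor
import Groth.Agent.CAlg1.Sk
import Groth.Agent.CAlg1.CohenHom

/-!
Finiteness of `H¹_I(M)` from the associated primes of completed local quotients.
-/

namespace Groth.Agent.LC15.H1Kollar

universe u

set_option autoImplicit false
set_option linter.style.haveILetI false
set_option linter.overlappingInstances false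
set_option linter.unusedSectionVars false

open IsLocalRing TensorProduct Groth.Agent.EGA4H10 LC17

variable {A : Type u} [CommRing A] [IsNoetherianRing A]

/-- vanishing after localization is preserved by flat base change -/
theorem kn_map {B : Type u} [CommRing B] [IsNoetherianRing B] [Algebra A B] [Module.Flat A B]
    (Q : Ideal B) [Q.IsPrime] (a : Ideal A) (i : ℕ) (E : Type u) [AddCommGroup E] [Module A E]
    {c : A} (h : KN (Q.comap (algebraMap A B)).primeCompl c (LocCoh.H a i E)) :
    KN Q.primeCompl (algebraMap A B c) (LocCoh.H (a.map (algebraMap A B)) i (B ⊗[A] E)) := by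
  intro x
  obtain ⟨e⟩ := nonempty_tensor_H_equiv B a i E
  obtain ⟨φ, hφ⟩ := LC16.ChangeRings.exists_equiv (R' := B) a i (B ⊗[A] E)
  obtain ⟨t, ht⟩ := e.surjective (φ x)
  suffices ∃ u ∈ (Q.comap (algebraMap A B)).primeCompl, u • c • t = 0 by
    obtain ⟨u, hu, hut⟩ := this
    refine ⟨algebraMap A B u, hu, φ.injective ?_⟩
    rw [hφ, hφ, ← ht, ← map_smul, ← map_smul, hut, map_zero, map_zero]
  clear ht
  induction t with
  | zero => exact ⟨1, one_mem _, by simp⟩
  | tmul b y =>
    obtain ⟨u, hu, huy⟩ := h y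
    exact ⟨u, hu, by rw [← TensorProduct.tmul_smul, ← TensorProduct.tmul_smul, huy,
      TensorProduct.tmul_zero]⟩
  | add s t hs ht =>
    obtain ⟨u, hu, hus⟩ := hs
    obtain ⟨v, hv, hvt⟩ := ht
    exact ⟨u * v, mul_mem hu hv, by
      rw [smul_add, smul_add, mul_comm u v, mul_smul, hus, smul_zero, mul_comm v u, mul_smul, hvt,
        smul_zero, add_zero]⟩

/-- what kills after completion at `q` kills after localization at `q` -/
theorem kn_descend (q : Ideal A) [q.IsPrime] (a : Ideal A) (i : ℕ) (E : Type u) [AddCommGroup E]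
    [Module A E] {c : A}
    (h : ∀ z : LocCoh.H (a.map (algebraMap A (EGA4.Cpl (Localization.AtPrime q)))) i
      (EGA4.Cpl (Localization.AtPrime q) ⊗[A] E),
      algebraMap A (EGA4.Cpl (Localization.AtPrime q)) c • z = 0) :
    KN q.primeCompl c (LocCoh.H a i E) := by
  let Aq := Localization.AtPrime q
  haveI : IsNoetherianRing Aq := IsLocalization.isNoetherianRing q.primeCompl _ inferInstance
  let B := EGA4.Cpl Aq
  haveI := Cohen12.isNoetherianRing_completion (A := Aq)
  haveI := CutoffCpl.faithfullyFlat_cpl Aq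
  haveI : Module.Flat A B := Module.Flat.trans A Aq B
  intro y
  obtain ⟨e⟩ := nonempty_tensor_H_equiv B a i E
  obtain ⟨φ, hφ⟩ := LC16.ChangeRings.exists_equiv (R' := B) a i (B ⊗[A] E)
  have h1 : (1 : B) ⊗ₜ[A] (c • y) = 0 := by
    refine e.injective ?_
    obtain ⟨x, hx⟩ := φ.surjective (e (1 ⊗ₜ[A] y))
    rw [TensorProduct.tmul_smul, map_smul, map_zero, ← hx, ← hφ, h, map_zero]
  have h2 : (1 : Aq) ⊗ₜ[A] (c • y) = 0 :=
    (Module.FaithfullyFlat.one_tmul_eq_zero_iff (R := Aq) (A := B) _ _).mp
      (((AlgebraTensorModule.cancelBaseChange A Aq B B (LocCoh.H a i E))).injective (by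
        rw [AlgebraTensorModule.cancelBaseChange_tmul, one_smul, h1, map_zero]))
  haveI : IsLocalizedModule q.primeCompl (TensorProduct.mk A Aq (LocCoh.H a i E) 1) :=
    (isLocalizedModule_iff_isBaseChange q.primeCompl Aq _).mpr (TensorProduct.isBaseChange A _ Aq)
  obtain ⟨u, hu⟩ := (IsLocalizedModule.eq_zero_iff q.primeCompl
    (TensorProduct.mk A Aq (LocCoh.H a i E) 1)).mp h2
  exact ⟨u, u.2, hu⟩

/-- finiteness from local annihilation -/
theorem finite_of_kn (I : Ideal A) (M : Type u) [AddCommGroup M] [Module A M] [Module.Finite A M]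
    (n : ℕ) (h : ∀ (q : Ideal A) [q.IsPrime], ∃ k : ℕ, ∀ i, i ≤ n → ∀ c ∈ I ^ k,
      KN q.primeCompl c (LocCoh.H I i M)) : Module.Finite A (LocCoh.H I n M) := by
  refine finite_H_of_locFG I n M fun i hi => locFG_of_localized _ fun q _ => ?_
  let Aq := Localization.AtPrime q
  haveI : IsNoetherianRing Aq := IsLocalization.isNoetherianRing q.primeCompl _ inferInstance
  let Mq := Aq ⊗[A] M
  let I' := I.map (algebraMap A Aq)
  obtain ⟨k, hk⟩ := h q
  haveI : Module.Finite Aq (LocCoh.H I' i Mq) := by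
    refine finite_H_of_annihilated I' i Mq k fun j hj b hb z => ?_
    have key : I' ^ k ≤ Module.annihilator Aq (LocCoh.H I' j Mq) := by
      rw [← Ideal.map_pow, Ideal.map_le_iff_le_comap]
      intro c hc
      rw [Ideal.mem_comap, Module.mem_annihilator]
      intro x
      have hc' : KN ((maximalIdeal Aq).comap (algebraMap A Aq)).primeCompl c (LocCoh.H I j M) := by
        intro y
        obtain ⟨u, hu, huy⟩ := hk j (hj.trans hi) c hc y
        exact ⟨u, fun hm => hu (by
          rwa [← Localization.AtPrime.under_maximalIdeal (I := q)]), huy⟩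
      obtain ⟨u, hu, hux⟩ := kn_map (B := Aq) (maximalIdeal Aq) I j M hc' x
      have hu' : IsUnit u := by
        by_contra hnu
        exact hu ((mem_maximalIdeal u).mpr hnu)
      exact hu'.smul_left_cancel.mp (hux.trans (smul_zero u).symm)
    exact Module.mem_annihilator.mp (key hb) z
  obtain ⟨e⟩ := nonempty_tensor_H_equiv Aq I i M
  obtain ⟨φ, hφ⟩ := LC16.ChangeRings.exists_equiv (R' := Aq) I i Mq
  letI : Module A (LocCoh.H I' i Mq) := Module.compHom _ (algebraMap A Aq)
  haveI : IsScalarTower A Aq (LocCoh.H I' i Mq) := IsScalarTower.of_compHom _ _ _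
  let ψ : LocCoh.H I' i Mq ≃ₗ[A] LocCoh.H I i Mq := { φ with map_smul' := hφ }
  let e' : Aq ⊗[A] LocCoh.H I i M ≃ₗ[Aq] LocCoh.H I' i Mq :=
    (e.trans ψ.symm).extendScalarsOfIsLocalization q.primeCompl Aq
  let e2 : Aq ⊗[A] LocCoh.H I i M ≃ₗ[Aq] LocalizedModule q.primeCompl (LocCoh.H I i M) :=
    ((isLocalizedModule_iff_isBaseChange q.primeCompl Aq
      (LocalizedModule.mkLinearMap q.primeCompl (LocCoh.H I i M))).mp inferInstance).equiv
  exact Module.Finite.equiv (e'.symm.trans e2)

theorem one_le_depth_of_not_mem {B : Type u} [CommRing B] [IsNoetherianRing B] {N : Type u}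
    [AddCommGroup N] [Module B N] [Module.Finite B N] {P : Ideal B} [P.IsPrime]
    (h : P ∉ associatedPrimes B N) :
    (1 : ℕ∞) ≤ LocCoh.depth (Localization.AtPrime P) (LocalizedModule P.primeCompl N) := by
  rw [Order.one_le_iff_pos, pos_iff_ne_zero, ne_eq, CAlg1.depth_atPrime_eq_zero_iff]
  exact h

theorem dim_eq_one_of_covBy {B : Type u} [CommRing B] [IsNoetherianRing B] [IsLocalRing B]
    {P : PrimeSpectrum B} (h : P ⋖ closedPoint B) :
    ringKrullDim (B ⧸ P.asIdeal) = ((1 : ℕ∞) : WithBot ℕ∞) := by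
  haveI : IsLocalRing (B ⧸ P.asIdeal) :=
    IsLocalRing.of_surjective' (Ideal.Quotient.mk P.asIdeal) Ideal.Quotient.mk_surjective
  rw [← maximalIdeal_height_eq_ringKrullDim,
    ← IsLocalRing.map_maximalIdeal_of_surjective (Ideal.Quotient.mk P.asIdeal)
      Ideal.Quotient.mk_surjective]
  have h3 : ((maximalIdeal B).map (Ideal.Quotient.mk P.asIdeal)).height = 1 :=
    CritDepth.htq_eq_one_of_covBy (q := closedPoint B) h
  exact congrArg ((↑) : ℕ∞ → WithBot ℕ∞) h3

/-- associated primes of the completed local quotient have dimension at least two -/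
def Good (p q : Ideal A) [q.IsPrime] : Prop :=
  ∀ P ∈ associatedPrimes (EGA4.Cpl (Localization.AtPrime q))
      (EGA4.Cpl (Localization.AtPrime q) ⧸ p.map (algebraMap A (EGA4.Cpl (Localization.AtPrime q)))),
    (2 : WithBot ℕ∞) ≤ ringKrullDim (EGA4.Cpl (Localization.AtPrime q) ⧸ P)

theorem exists_kn_of_good (p q : Ideal A) [p.IsPrime] [q.IsPrime] (hgood : Good p q) :
    ∃ k : ℕ, ∀ c ∈ q ^ k, KN q.primeCompl c (LocCoh.H q 1 (A ⧸ p)) := by
  let Aq := Localization.AtPrime q
  haveI : IsNoetherianRing Aq := IsLocalization.isNoetherianRing q.primeCompl _ inferInstance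
  let B := EGA4.Cpl Aq
  haveI := Cohen12.isNoetherianRing_completion (A := Aq)
  have hqB : q.map (algebraMap A B) = maximalIdeal B := by
    rw [IsScalarTower.algebraMap_eq A Aq B, ← Ideal.map_map, Localization.AtPrime.map_eq_maximalIdeal,
      AdicCompletion.maximalIdeal_eq_map]
  haveI : IsAdicComplete (maximalIdeal B) B := by
    rw [AdicCompletion.maximalIdeal_eq_map]
    exact AdicCompletion.isAdicComplete_self (maximalIdeal Aq) (IsNoetherian.noetherian _)
  let N := B ⊗[A] (A ⧸ p)
  obtain ⟨S, _, _, π, hπ⟩ := exists_regular_surjection B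
  haveI : IsRegularRing S := CAlg1.isRegularRing_of_isRegularLocalRing S
  have hfin : ∀ i : ℕ, i ≤ 1 → Module.Finite B (LocCoh.H (q.map (algebraMap A B)) i N) := by
    refine (CritDepth.finite_iff_codim_one π hπ _ N 1).mpr fun P hP hc => ?_
    refine one_le_depth_of_not_mem fun hass => ?_
    obtain ⟨Q, hQ, hPQ⟩ := (CritDepth.relCodim_eq_one_iff _ P hP).mp hc
    obtain rfl : Q = closedPoint B := PrimeSpectrum.ext
      (le_antisymm (le_maximalIdeal Q.2.ne_top) (show maximalIdeal B ≤ Q.asIdeal from hqB.ge.trans hQ))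
    have h2 := hgood P.asIdeal (by
      rwa [LinearEquiv.AssociatedPrimes.eq
        (Algebra.TensorProduct.quotIdealMapEquivTensorQuot B p).toLinearEquiv])
    rw [dim_eq_one_of_covBy hPQ] at h2
    norm_num at h2
  haveI := hfin 1 le_rfl
  obtain ⟨k, hk⟩ := exists_pow_smul_H_eq_zero (q.map (algebraMap A B)) (i := 1) (M := N)
  exact ⟨k, fun c hc => kn_descend q q 1 (A ⧸ p)
    (hk _ (Ideal.map_pow (algebraMap A B) q k ▸ Ideal.mem_map_of_mem _ hc))⟩

/-- Kollár's criterion, sufficiency -/
theorem finite_H_one (I : Ideal A) (M : Type u) [AddCommGroup M] [Module A M] [Module.Finite A M]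
    (h : ∀ p ∈ associatedPrimes A M, ¬ I ≤ p → ∀ (q : Ideal A) [q.IsPrime], p ≤ q → I ≤ q →
      Good p q) : Module.Finite A (LocCoh.H I 1 M) := by
  refine finite_of_kn I M 1 fun q _ => ?_
  let Aq := Localization.AtPrime q
  haveI : IsNoetherianRing Aq := IsLocalization.isNoetherianRing q.primeCompl _ inferInstance
  let B := EGA4.Cpl Aq
  haveI := Cohen12.isNoetherianRing_completion (A := Aq)
  haveI := CutoffCpl.faithfullyFlat_cpl Aq
  haveI : Module.Flat A B := Module.Flat.trans A Aq B
  haveI : IsAdicComplete (maximalIdeal B) B := by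
    rw [AdicCompletion.maximalIdeal_eq_map]
    exact AdicCompletion.isAdicComplete_self (maximalIdeal Aq) (IsNoetherian.noetherian _)
  let N := B ⊗[A] M
  obtain ⟨S, _, _, π, hπ⟩ := exists_regular_surjection B
  haveI : IsRegularRing S := CAlg1.isRegularRing_of_isRegularLocalRing S
  have hfin : ∀ i : ℕ, i ≤ 1 → Module.Finite B (LocCoh.H (I.map (algebraMap A B)) i N) := by
    refine (CritDepth.finite_iff_codim_one π hπ _ N 1).mpr fun P hP hc => ?_
    refine one_le_depth_of_not_mem fun hass => ?_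
    obtain ⟨Q, hQ, hPQ⟩ := (CritDepth.relCodim_eq_one_iff _ P hP).mp hc
    rw [show associatedPrimes B N = _ from CAlg1.associatedPrimes_tensor_of_flat (N := B) (M := M)]
      at hass
    simp only [Set.mem_iUnion] at hass
    obtain ⟨p, hpM, hPp⟩ := hass
    haveI := hpM.isPrime
    let e : (B ⧸ p.map (algebraMap A B) • (⊤ : Submodule B B)) ≃ₗ[B] B ⊗[A] (A ⧸ p) :=
      (Submodule.quotEquivOfEq _ _ (by rw [smul_eq_mul, Ideal.mul_top])).trans
        (Algebra.TensorProduct.quotIdealMapEquivTensorQuot B p).toLinearEquiv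
    rw [LinearEquiv.AssociatedPrimes.eq e] at hPp
    have hle : p ≤ P.asIdeal.comap (algebraMap A B) := fun a ha => by
      have hann : Module.annihilator B (B ⊗[A] (A ⧸ p)) ≤ P.asIdeal := by
        simpa [Submodule.annihilator_top] using hPp.annihilator_le
      refine hann ?_
      rw [Module.mem_annihilator]
      intro t
      induction t with
      | zero => simp
      | tmul x y =>
        rw [algebraMap_smul, ← TensorProduct.tmul_smul]
        obtain ⟨y, rfl⟩ := Ideal.Quotient.mk_surjective y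
        rw [Algebra.smul_def, Ideal.Quotient.algebraMap_eq, ← map_mul,
          Ideal.Quotient.eq_zero_iff_mem.mpr (p.mul_mem_right y ha), TensorProduct.tmul_zero]
      | add x y hx hy => rw [smul_add, hx, hy, add_zero]
    have hge : P.asIdeal.comap (algebraMap A B) ≤ p := fun a ha => by
      by_contra hap
      obtain ⟨t, ht⟩ := hPp.2
      have ha' : algebraMap A B a ∈ P.asIdeal := ha
      rw [ht] at ha'
      obtain ⟨j, hj⟩ := Ideal.mem_radical_iff.mp ha'
      rw [Submodule.mem_colon_singleton, Submodule.mem_bot, ← map_pow, algebraMap_smul] at hj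
      have hinj : Function.Injective
          ((LinearMap.lsmul A (A ⧸ p) (a ^ j)).lTensor B) := by
        refine Module.Flat.lTensor_preserves_injective_linearMap _ ?_
        refine (injective_iff_map_eq_zero _).mpr fun y hy => ?_
        obtain ⟨y, rfl⟩ := Ideal.Quotient.mk_surjective y
        rw [LinearMap.lsmul_apply, Algebra.smul_def, Ideal.Quotient.algebraMap_eq, ← map_mul,
          Ideal.Quotient.eq_zero_iff_mem] at hy
        exact Ideal.Quotient.eq_zero_iff_mem.mpr ((Ideal.IsPrime.mem_or_mem ‹_› hy).resolve_left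
          fun h' => hap (Ideal.IsPrime.mem_of_pow_mem ‹_› j h'))
      have hzero : ∀ s : B ⊗[A] (A ⧸ p),
          (LinearMap.lsmul A (A ⧸ p) (a ^ j)).lTensor B s = a ^ j • s := by
        intro s
        induction s with
        | zero => simp
        | tmul x y => rw [LinearMap.lTensor_tmul, LinearMap.lsmul_apply, TensorProduct.tmul_smul]
        | add x y hx hy => rw [map_add, hx, hy, smul_add]
      have ht0 : t = 0 := hinj (by rw [hzero, hj, map_zero])
      apply P.2.ne_top
      rw [ht, ht0, Ideal.eq_top_iff_one]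
      exact Ideal.le_radical (Submodule.mem_colon_singleton.mpr (smul_zero _))
    obtain rfl : P.asIdeal.comap (algebraMap A B) = p := le_antisymm hge hle
    let q0 := Q.asIdeal.comap (algebraMap A B)
    have hIq0 : I ≤ q0 := Ideal.map_le_iff_le_comap.mp hQ
    have hIp : ¬ I ≤ P.asIdeal.comap (algebraMap A B) := fun hh =>
      hP (Ideal.map_le_iff_le_comap.mpr hh)
    obtain ⟨k, hk⟩ := exists_kn_of_good _ q0
      (h _ hpM hIp q0 (Ideal.comap_mono hPQ.le) hIq0)
    obtain ⟨c₀, hc₀I, hc₀p⟩ := SetLike.not_le_iff_exists.mp hIp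
    have hkn := kn_map (B := B) Q.asIdeal q0 1 _ (hk (c₀ ^ k) (Ideal.pow_mem_pow (hIq0 hc₀I) k))
    refine not_kn_H1_of_associated (p := P.asIdeal) (s := Q.asIdeal) (a := q0.map (algebraMap A B))
      hPQ.lt ?_ Ideal.map_comap_le ?_ hPp ?_ hkn
    · intro t ht h1 h2
      by_contra hne
      exact hPQ.2 (show P < (⟨t, ht⟩ : PrimeSpectrum B) from h1) (lt_of_le_of_ne h2 fun e' => hne (congrArg PrimeSpectrum.asIdeal e'))
    · exact fun hh => hc₀p (hh (Ideal.mem_map_of_mem _ (hIq0 hc₀I)))
    · rw [map_pow]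
      exact fun hh => hc₀p (P.2.mem_of_pow_mem k hh)
  have hk' : ∀ i : ℕ, i ≤ 1 → ∃ k : ℕ, ∀ c ∈ I ^ k, KN q.primeCompl c (LocCoh.H I i M) := by
    intro i hi
    haveI := hfin i hi
    obtain ⟨k, hk⟩ := exists_pow_smul_H_eq_zero (I.map (algebraMap A B)) (i := i) (M := N)
    exact ⟨k, fun c hc => kn_descend q I i M
      (hk _ (Ideal.map_pow (algebraMap A B) I k ▸ Ideal.mem_map_of_mem _ hc))⟩
  choose! k hk using hk'
  exact ⟨(Finset.range 2).sup k, fun i hi c hc => hk i hi c
    (Ideal.pow_le_pow_right (Finset.le_sup (Finset.mem_range.mpr (by omega))) hc)⟩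

end Groth.Agent.LC15.H1Kollar
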