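import Groth.Agent.LC15.Gamma
import Groth.Prelude.Def_DualLC

/-!
Local cohomology with supports in a specialisation stable subset, as a functor with long exact
sequences, expressed through `Abelian.Ext` representatives.
-/

set_option autoImplicit false

universe u

namespace Groth.Agent.LC15.HT

open CategoryTheory Limits Opposite Dual2

variable {R : Type u} [CommRing R] {T : Set (PrimeSpectrum R)}

/-- `R/J`. -/
abbrev qI (J : IdealsIn T) : ModuleCat.{u} R := ModuleCat.of R (R ⧸ (idealsInDiagram T).obj J)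

/-- The underlying ideal. -/
abbrev idl (J : IdealsIn T) : Ideal R := (idealsInDiagram T).obj J

/-- An ideal with zero locus in `T`. -/
def mkI (J : Ideal R) (h : PrimeSpectrum.zeroLocus (J : Set R) ⊆ T) : IdealsIn T :=
  ⟨J, h⟩

@[simp] theorem idl_mkI (J : Ideal R) (h : PrimeSpectrum.zeroLocus (J : Set R) ⊆ T) :
    idl (mkI J h) = J := rfl

theorem zeroLocus_idl (J : IdealsIn T) : PrimeSpectrum.zeroLocus (idl J : Set R) ⊆ T :=
  J.property

/-- The morphism of an inclusion. -/
def homLE {J K : IdealsIn T} (h : idl J ≤ idl K) : J ⟶ K := ⟨homOfLE h⟩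

instance {J K : IdealsIn T} : Subsingleton (J ⟶ K) :=
  ⟨fun f g => ObjectProperty.hom_ext _ (Subsingleton.elim _ _)⟩

/-- A common refinement. -/
noncomputable def prodI (J K : IdealsIn T) : IdealsIn T :=
  mkI (idl J * idl K) (by
    rw [PrimeSpectrum.zeroLocus_mul]
    exact Set.union_subset (zeroLocus_idl J) (zeroLocus_idl K))

/-- The unit ideal. -/
def topI : IdealsIn T := mkI ⊤ (by simp)

instance : Nonempty (IdealsIn T) := ⟨topI⟩

instance : IsFiltered (IdealsIn T)ᵒᵖ where
  cocone_objs J K := ⟨op (prodI J.unop K.unop), (homLE Ideal.mul_le_left).op,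
    (homLE Ideal.mul_le_right).op, trivial⟩
  cocone_maps {_ K} f g := ⟨K, 𝟙 K, by
    obtain rfl : f = g := Quiver.Hom.unop_inj (Subsingleton.elim _ _)
    rfl⟩
  nonempty := ⟨op topI⟩

/-- The projection `R/J → R/K`. -/
noncomputable def qle {J K : IdealsIn T} (h : idl J ≤ idl K) : qI J ⟶ qI K :=
  (localCohomology.ringModIdeals (idealsInDiagram T)).map (homLE h)

theorem qle_mk {J K : IdealsIn T} (h : idl J ≤ idl K) (r : R) :
    qle h (Submodule.Quotient.mk r) = Submodule.Quotient.mk r := rfl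

theorem qle_trans {J K L : IdealsIn T} (h : idl J ≤ idl K) (h' : idl K ≤ idl L) :
    qle h ≫ qle h' = qle (h.trans h') :=
  ((localCohomology.ringModIdeals (idealsInDiagram T)).map_comp (homLE h) (homLE h')).symm.trans
    (congrArg _ (Subsingleton.elim _ _))

variable (T) (i : ℕ) (M : Type u) [AddCommGroup M] [Module R M]

/-- The diagram whose colimit is `HT T i M`. -/
noncomputable abbrev tDiag : (IdealsIn T)ᵒᵖ ⥤ ModuleCat.{u} R :=
  localCohomology.diagram (idealsInDiagram T) i ⋙ (evaluation _ _).obj (ModuleCat.of R M)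

/-- `HT T i M` as a cocone. -/
noncomputable def tCocone : Cocone (tDiag T i M) :=
  ((evaluation _ _).obj (ModuleCat.of R M)).mapCocone
    (colimit.cocone (localCohomology.diagram (idealsInDiagram T) i))

noncomputable def tIsColimit : IsColimit (tCocone T i M) :=
  isColimitOfPreserves _ (colimit.isColimit _)

/-- The canonical map `Ext^i(R/J, M) → H^i_T(M)`. -/
noncomputable def toT (J : IdealsIn T) :
    Abelian.Ext (qI J) (ModuleCat.of R M) i →ₗ[R] Dual2.HT T i M :=
  ((tCocone T i M).ι.app (op J)).hom.comp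
    (extEquiv (qI J) (ModuleCat.of R M) i).symm.toLinearMap

theorem tCocone_ι_apply (J : IdealsIn T) (x : (tDiag T i M).obj (op J)) :
    (tCocone T i M).ι.app (op J) x = toT T i M J (extEquiv (qI J) (ModuleCat.of R M) i x) :=
  (congrArg _ ((extEquiv (qI J) (ModuleCat.of R M) i).symm_apply_apply x)).symm

variable {T}

theorem extEquiv_map {J K : IdealsIn T} (h : idl K ≤ idl J) (x : (tDiag T i M).obj (op J)) :
    extEquiv (qI K) (ModuleCat.of R M) i ((tDiag T i M).map (homLE h).op x) =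
      (Abelian.Ext.mk₀ (qle h)).comp (extEquiv (qI J) (ModuleCat.of R M) i x) (zero_add i) :=
  extEquiv_naturality_left (qle h) (ModuleCat.of R M) i x

theorem toT_surj (y : Dual2.HT T i M) :
    ∃ (J : IdealsIn T) (x : Abelian.Ext (qI J) (ModuleCat.of R M) i), toT T i M J x = y := by
  obtain ⟨⟨J⟩, x, hx⟩ := Concrete.isColimit_exists_rep _ (tIsColimit T i M) y
  exact ⟨J, _, (tCocone_ι_apply T i M J x).symm.trans hx⟩

theorem toT_precomp {J K : IdealsIn T} (h : idl K ≤ idl J)
    (x : Abelian.Ext (qI J) (ModuleCat.of R M) i) :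
    toT T i M K ((Abelian.Ext.mk₀ (qle h)).comp x (zero_add i)) = toT T i M J x := by
  obtain ⟨z, rfl⟩ := (extEquiv (qI J) (ModuleCat.of R M) i).surjective x
  refine (congrArg _ (extEquiv_map i M h z).symm).trans ((tCocone_ι_apply T i M K _).symm.trans ?_)
  refine Eq.trans ?_ (tCocone_ι_apply T i M J z)
  exact ConcreteCategory.congr_hom ((tCocone T i M).w (homLE h).op) z

theorem toT_eq_zero_iff {J : IdealsIn T} (x : Abelian.Ext (qI J) (ModuleCat.of R M) i) :
    toT T i M J x = 0 ↔ ∃ (K : IdealsIn T) (h : idl K ≤ idl J),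
      (Abelian.Ext.mk₀ (qle h)).comp x (zero_add i) = 0 := by
  refine ⟨fun hx => ?_, fun ⟨K, h, hK⟩ => ?_⟩
  · obtain ⟨z, rfl⟩ := (extEquiv (qI J) (ModuleCat.of R M) i).surjective x
    replace hx := (tCocone_ι_apply T i M J z).trans hx
    obtain ⟨⟨K⟩, f, g, hfg⟩ :=
      (Concrete.isColimit_rep_eq_iff_exists (tDiag T i M) (tIsColimit T i M) (i := op J)
        (j := op J) z 0).1 (hx.trans (map_zero _).symm)
    have h : idl K ≤ idl J := leOfHom ((idealsInDiagram T).map f.unop)
    have hf : f = (homLE h).op := Quiver.Hom.unop_inj (Subsingleton.elim _ _)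
    refine ⟨K, h, ?_⟩
    refine (extEquiv_map i M h z).symm.trans ?_
    rw [← hf, hfg, map_zero]
    exact map_zero (extEquiv (qI K) (ModuleCat.of R M) i)
  · rw [← toT_precomp i M h, hK, map_zero]

theorem toT_surj_le (y : Dual2.HT T i M) (J₀ : IdealsIn T) :
    ∃ (J : IdealsIn T) (_ : idl J ≤ idl J₀) (x : Abelian.Ext (qI J) (ModuleCat.of R M) i),
      toT T i M J x = y := by
  obtain ⟨J, x, rfl⟩ := toT_surj i M y
  exact ⟨prodI J J₀, Ideal.mul_le_right, _,
    toT_precomp i M (K := prodI J J₀) Ideal.mul_le_left x⟩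

theorem T_ext {P : Type u} [AddCommGroup P] [Module R P] {f g : Dual2.HT T i M →ₗ[R] P}
    (h : ∀ J x, f (toT T i M J x) = g (toT T i M J x)) : f = g := by
  ext y
  obtain ⟨J, x, rfl⟩ := toT_surj i M y
  exact h J x

section Desc

variable {P : Type u} [AddCommGroup P] [Module R P]
  (φ : ∀ J : IdealsIn T, Abelian.Ext (qI J) (ModuleCat.of R M) i →ₗ[R] P)
  (hφ : ∀ (J K : IdealsIn T) (h : idl K ≤ idl J) (x : Abelian.Ext (qI J) (ModuleCat.of R M) i),
    φ K ((Abelian.Ext.mk₀ (qle h)).comp x (zero_add i)) = φ J x)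

/-- Descend a compatible family of maps. -/
noncomputable def descT : Dual2.HT T i M →ₗ[R] P :=
  ((tIsColimit T i M).desc
    { pt := ModuleCat.of R P
      ι :=
        { app := fun j => ModuleCat.ofHom ((φ j.unop).comp
            (extEquiv (qI j.unop) (ModuleCat.of R M) i).toLinearMap)
          naturality := by
            rintro ⟨J⟩ ⟨K⟩ f
            have h : idl K ≤ idl J := leOfHom ((idealsInDiagram T).map f.unop)
            obtain rfl : f = (homLE h).op := Quiver.Hom.unop_inj (Subsingleton.elim _ _)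
            ext x
            exact (congrArg (φ K) (extEquiv_map i M h x)).trans (hφ J K h _) } }).hom

theorem descT_toT (J : IdealsIn T) (x : Abelian.Ext (qI J) (ModuleCat.of R M) i) :
    descT i M φ hφ (toT T i M J x) = φ J x := by
  obtain ⟨z, rfl⟩ := (extEquiv (qI J) (ModuleCat.of R M) i).surjective x
  refine (congrArg _ (tCocone_ι_apply T i M J z).symm).trans ?_
  exact ConcreteCategory.congr_hom ((tIsColimit T i M).fac _ (op J)) z

end Desc

variable {M} {N : Type u} [AddCommGroup N] [Module R N] {L : Type u} [AddCommGroup L] [Module R L]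

variable (T) in
/-- Functoriality. -/
noncomputable def Tmap (f : M →ₗ[R] N) : Dual2.HT T i M →ₗ[R] Dual2.HT T i N :=
  ((localCohomology.ofDiagram.{u, u} (idealsInDiagram T) i).map (ModuleCat.ofHom f)).hom

theorem Tmap_toT (f : M →ₗ[R] N) (J : IdealsIn T)
    (x : Abelian.Ext (qI J) (ModuleCat.of R M) i) :
    Tmap T i f (toT T i M J x) =
      toT T i N J (x.comp (Abelian.Ext.mk₀ (ModuleCat.ofHom f)) (add_zero i)) := by
  obtain ⟨z, rfl⟩ := (extEquiv (qI J) (ModuleCat.of R M) i).surjective x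
  rw [← extEquiv_naturality_right]
  refine (congrArg _ (tCocone_ι_apply T i M J z).symm).trans ?_
  exact (ConcreteCategory.congr_hom
    ((colimit.ι (localCohomology.diagram (idealsInDiagram T) i)
      (op J)).naturality (ModuleCat.ofHom f)) z).symm.trans (tCocone_ι_apply T i N J _)

theorem Tmap_id : Tmap T i (LinearMap.id : M →ₗ[R] M) = LinearMap.id :=
  T_ext i M fun J x => by
    rw [Tmap_toT, LinearMap.id_apply]
    exact congrArg _ (Abelian.Ext.comp_mk₀_id x)

theorem Tmap_comp (g : N →ₗ[R] L) (f : M →ₗ[R] N) :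
    Tmap T i (g ∘ₗ f) = Tmap T i g ∘ₗ Tmap T i f :=
  T_ext i M fun J x => by
    rw [LinearMap.comp_apply, Tmap_toT, Tmap_toT, Tmap_toT,
      Abelian.Ext.comp_assoc_of_second_deg_zero, Abelian.Ext.mk₀_comp_mk₀]
    rfl

theorem Tmap_add (f g : M →ₗ[R] N) : Tmap T i (f + g) = Tmap T i f + Tmap T i g :=
  T_ext i M fun J x => by
    rw [LinearMap.add_apply, Tmap_toT, Tmap_toT, Tmap_toT, ← map_add, ← Abelian.Ext.comp_add,
      ← Abelian.Ext.mk₀_add]
    rfl

theorem Tmap_zero : Tmap T i (0 : M →ₗ[R] N) = 0 := by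
  have h := Tmap_add (T := T) i (0 : M →ₗ[R] N) 0
  rwa [add_zero, left_eq_add] at h

theorem Tmap_smul (r : R) (f : M →ₗ[R] N) : Tmap T i (r • f) = r • Tmap T i f :=
  T_ext i M fun J x => by
    rw [LinearMap.smul_apply, Tmap_toT, Tmap_toT, ← map_smul, ← Abelian.Ext.comp_smul,
      ← Abelian.Ext.mk₀_smul]
    rfl

theorem Tmap_lsmul (r : R) (y : Dual2.HT T i M) :
    Tmap T i (LinearMap.lsmul R M r) y = r • y := by
  have h : LinearMap.lsmul R M r = r • LinearMap.id := by ext; simp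
  rw [h, Tmap_smul, Tmap_id]
  rfl

/-- Isomorphic modules. -/
noncomputable def Tequiv (e : M ≃ₗ[R] N) : Dual2.HT T i M ≃ₗ[R] Dual2.HT T i N :=
  LinearEquiv.ofLinearMap (Tmap T i e.toLinearMap) (Tmap T i e.symm.toLinearMap)
    (by rw [← Tmap_comp, LinearEquiv.comp_symm, Tmap_id])
    (by rw [← Tmap_comp, LinearEquiv.symm_comp, Tmap_id])

theorem smul_toT_eq_zero {J : IdealsIn T} {a : R} (ha : a ∈ idl J)
    (x : Abelian.Ext (qI J) (ModuleCat.of R M) i) : a • toT T i M J x = 0 := by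
  have hq : a • 𝟙 (qI J) = 0 := ModuleCat.hom_ext <| LinearMap.ext fun q => by
    obtain ⟨r, rfl⟩ := Submodule.Quotient.mk_surjective _ q
    change a • (Submodule.Quotient.mk r : R ⧸ idl J) = 0
    rw [← Submodule.Quotient.mk_smul, Submodule.Quotient.mk_eq_zero]
    exact Ideal.mul_mem_right _ _ ha
  have h : a • x = (Abelian.Ext.mk₀ (a • 𝟙 (qI J))).comp x (zero_add i) := by
    rw [Abelian.Ext.mk₀_smul, Abelian.Ext.smul_comp, Abelian.Ext.mk₀_id_comp]
  rw [← map_smul, h, hq, Abelian.Ext.mk₀_zero, Abelian.Ext.zero_comp, map_zero]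

/-- Every element is killed by an ideal with zero locus in `T`. -/
theorem exists_kills (y : Dual2.HT T i M) : ∃ J : IdealsIn T, ∀ a ∈ idl J, a • y = 0 := by
  obtain ⟨J, x, rfl⟩ := toT_surj i M y
  exact ⟨J, fun a ha => smul_toT_eq_zero i ha x⟩

/-- A finite submodule is killed by a single ideal. -/
theorem exists_kills_finite [Module.Finite R (Dual2.HT T i M)] :
    ∃ J : IdealsIn T, ∀ a ∈ idl J, ∀ y : Dual2.HT T i M, a • y = 0 := by
  classical
  obtain ⟨t, ht⟩ := (Module.Finite.fg_top : (⊤ : Submodule R (Dual2.HT T i M)).FG)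
  choose J hJ using exists_kills (T := T) (M := M) i
  have hs : ∀ s : Finset (Dual2.HT T i M),
      ∃ K : IdealsIn T, ∀ a ∈ idl K, ∀ y ∈ s, a • y = 0 := by
    intro s
    induction s using Finset.induction with
    | empty => exact ⟨topI, fun a _ y hy => absurd hy (Finset.notMem_empty y)⟩
    | insert w s _ ih =>
      obtain ⟨K, hK⟩ := ih
      refine ⟨prodI (J w) K, fun a ha y hy => ?_⟩
      rcases Finset.mem_insert.1 hy with rfl | hy
      · exact hJ y a (Ideal.mul_le_left ha)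
      · exact hK a (Ideal.mul_le_right ha) y hy
  obtain ⟨K, hK⟩ := hs t
  refine ⟨K, fun a ha y => ?_⟩
  have hy : y ∈ Submodule.span R (t : Set (Dual2.HT T i M)) := ht.symm ▸ Submodule.mem_top
  induction hy using Submodule.span_induction with
  | mem w hw => exact hK a ha w hw
  | zero => simp
  | add a b _ _ ha hb => rw [smul_add, ha, hb, add_zero]
  | smul r a _ ha => rw [smul_comm, ha, smul_zero]

section H0

variable (M) (T)

/-- Evaluation at `1` on `Ext^0`. -/
noncomputable def ev1 (J : IdealsIn T) :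
    Abelian.Ext (qI J) (ModuleCat.of R M) 0 →ₗ[R] M where
  toFun x := (Abelian.Ext.linearEquiv₀ (R := R) x).hom (Submodule.Quotient.mk (1 : R))
  map_add' x y := by rw [map_add]; rfl
  map_smul' r x := by rw [map_smul]; rfl

theorem ev1_mk₀ (J : IdealsIn T) (f : qI J ⟶ ModuleCat.of R M) :
    ev1 T M J (Abelian.Ext.mk₀ f) = f (Submodule.Quotient.mk (1 : R)) := by
  have h : Abelian.Ext.linearEquiv₀ (R := R) (Abelian.Ext.mk₀ f) = f :=
    (Abelian.Ext.mk₀_bijective _ _).1 (Abelian.Ext.mk₀_linearEquiv₀_apply _)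
  change (Abelian.Ext.linearEquiv₀ (R := R) (Abelian.Ext.mk₀ f)).hom _ = _
  rw [h]

/-- The map `H^0_T(M) → M`. -/
noncomputable def t0 : Dual2.HT T 0 M →ₗ[R] M :=
  descT 0 M (ev1 T M) fun J K h x => by
    obtain ⟨f, rfl⟩ := (Abelian.Ext.mk₀_bijective _ _).2 x
    rw [Abelian.Ext.mk₀_comp_mk₀, ev1_mk₀, ev1_mk₀]
    exact congrArg _ (qle_mk h 1)

theorem t0_toT (J : IdealsIn T) (f : qI J ⟶ ModuleCat.of R M) :
    t0 T M (toT T 0 M J (Abelian.Ext.mk₀ f)) = f (Submodule.Quotient.mk (1 : R)) := by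
  rw [t0, descT_toT, ev1_mk₀]

theorem t0_injective : Function.Injective (t0 T M) := by
  refine (injective_iff_map_eq_zero _).2 fun y hy => ?_
  obtain ⟨J, x, rfl⟩ := toT_surj 0 M y
  obtain ⟨f, rfl⟩ := (Abelian.Ext.mk₀_bijective _ _).2 x
  rw [t0_toT] at hy
  have hf : f = 0 := ModuleCat.hom_ext <| LinearMap.ext fun q => by
    obtain ⟨r, rfl⟩ := Submodule.Quotient.mk_surjective _ q
    have : (Submodule.Quotient.mk r : R ⧸ idl J) = r • Submodule.Quotient.mk 1 := by
      rw [← Submodule.Quotient.mk_smul, smul_eq_mul, mul_one]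
    change f.hom (Submodule.Quotient.mk r) = _
    rw [this, map_smul]
    exact (congrArg (r • ·) hy).trans (smul_zero r)
  rw [hf, Abelian.Ext.mk₀_zero, map_zero]

theorem mem_range_t0 {m : M} (J : IdealsIn T) (h : ∀ a ∈ idl J, a • m = 0) :
    m ∈ LinearMap.range (t0 T M) := by
  let f : (R ⧸ idl J) →ₗ[R] M := Submodule.liftQ _ (LinearMap.toSpanSingleton R M m)
    fun a ha => by simp [h a ha]
  refine ⟨toT T 0 M J (Abelian.Ext.mk₀ (ModuleCat.ofHom f)), ?_⟩
  rw [t0_toT]
  exact (Submodule.liftQ_apply _ _ _).trans (one_smul R m)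

theorem finite_HT_zero [IsNoetherianRing R] [Module.Finite R M] :
    Module.Finite R (Dual2.HT T 0 M) :=
  Module.Finite.of_injective (t0 T M) (t0_injective T M)

end H0

section LES

variable {f : M →ₗ[R] N} {g : N →ₗ[R] L} (hf : Function.Injective f) (hfg : Function.Exact f g)
  (hg : Function.Surjective g)

variable (T) in
/-- The connecting map. -/
noncomputable def Tδ : Dual2.HT T i L →ₗ[R] Dual2.HT T (i + 1) M :=
  descT i L (fun J => (toT T (i + 1) M J).comp (extδ i hf hfg hg (qI J)))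
    fun J K h x => by
      rw [LinearMap.comp_apply, LinearMap.comp_apply, extδ_comp, toT_precomp]

theorem Tδ_toT (J : IdealsIn T) (x : Abelian.Ext (qI J) (ModuleCat.of R L) i) :
    Tδ T i hf hfg hg (toT T i L J x) =
      toT T (i + 1) M J (x.comp (seqSC_shortExact hf hfg hg).extClass rfl) :=
  descT_toT i L _ _ J x

include hf hfg hg in
theorem T_exact₂ : Function.Exact (Tmap T i f) (Tmap T i g) := by
  intro y
  refine ⟨fun hy => ?_, ?_⟩
  · obtain ⟨n, x, rfl⟩ := toT_surj i N y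
    rw [Tmap_toT, toT_eq_zero_iff] at hy
    obtain ⟨m, h, hm⟩ := hy
    rw [← Abelian.Ext.comp_assoc_of_third_deg_zero] at hm
    obtain ⟨x₁, hx₁⟩ :=
      Abelian.Ext.covariant_sequence_exact₂ (qI m) (seqSC_shortExact hf hfg hg) _ hm
    exact ⟨toT T i M m x₁, by rw [Tmap_toT, hx₁, toT_precomp]⟩
  · rintro ⟨z, rfl⟩
    rw [← LinearMap.comp_apply, ← Tmap_comp, hfg.linearMap_comp_eq_zero, Tmap_zero]
    rfl

theorem T_exact₃ : Function.Exact (Tmap T i g) (Tδ T i hf hfg hg) := by
  intro y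
  refine ⟨fun hy => ?_, ?_⟩
  · obtain ⟨n, x, rfl⟩ := toT_surj i L y
    rw [Tδ_toT, toT_eq_zero_iff] at hy
    obtain ⟨m, h, hm⟩ := hy
    rw [← Abelian.Ext.comp_assoc _ _ _ (zero_add i) rfl (by omega)] at hm
    obtain ⟨x₂, hx₂⟩ :=
      Abelian.Ext.covariant_sequence_exact₃ (qI m) (seqSC_shortExact hf hfg hg) _ rfl hm
    exact ⟨toT T i N m x₂, by rw [Tmap_toT, hx₂, toT_precomp]⟩
  · rintro ⟨z, rfl⟩
    obtain ⟨n, x, rfl⟩ := toT_surj i N z
    rw [Tmap_toT, Tδ_toT, Abelian.Ext.comp_assoc_of_second_deg_zero]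
    rw [show (Abelian.Ext.mk₀ (ModuleCat.ofHom g)).comp (seqSC_shortExact hf hfg hg).extClass
      (zero_add 1) = 0 from (seqSC_shortExact hf hfg hg).comp_extClass, Abelian.Ext.comp_zero,
      map_zero]

theorem T_exact₁ : Function.Exact (Tδ T i hf hfg hg) (Tmap T (i + 1) f) := by
  intro y
  refine ⟨fun hy => ?_, ?_⟩
  · obtain ⟨n, x, rfl⟩ := toT_surj (i + 1) M y
    rw [Tmap_toT, toT_eq_zero_iff] at hy
    obtain ⟨m, h, hm⟩ := hy
    rw [← Abelian.Ext.comp_assoc_of_third_deg_zero] at hm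
    obtain ⟨x₃, hx₃⟩ :=
      Abelian.Ext.covariant_sequence_exact₁ (qI m) (seqSC_shortExact hf hfg hg) _ hm rfl
    exact ⟨toT T i L m x₃, by rw [Tδ_toT, hx₃, toT_precomp]⟩
  · rintro ⟨z, rfl⟩
    obtain ⟨n, x, rfl⟩ := toT_surj i L z
    rw [Tδ_toT, Tmap_toT, Abelian.Ext.comp_assoc _ _ _ _ (add_zero 1) (by omega)]
    rw [show (seqSC_shortExact hf hfg hg).extClass.comp (Abelian.Ext.mk₀ (ModuleCat.ofHom f))
      (add_zero 1) = 0 from (seqSC_shortExact hf hfg hg).extClass_comp, Abelian.Ext.comp_zero,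
      map_zero]

end LES

end Groth.Agent.LC15.HT
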