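import Groth.Agent.Curves2.IdealFrame
import Groth.Agent.QC70.Sections

/-!
Inclusions of ideal modules (a light copy of `Var76.RegPts.idealLE`, whose file has a very large import closure).
-/

set_option autoImplicit false
set_option backward.isDefEq.respectTransparency.types false

noncomputable section

universe u

open CategoryTheory Limits AlgebraicGeometry TopologicalSpace Opposite

namespace Groth.Agent.LC15.IdealIncl

open Groth.Agent

variable {X : Scheme.{u}} {I J : X.IdealSheafData} (h : J ≤ I)

theorem idealModι_toSubscheme (h : J ≤ I) : ClSub.idealModι J ≫ ClSub.toSubscheme I = 0 := by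
  refine Scheme.Modules.hom_ext _ _ fun W => ?_
  ext z
  refine QC70.section_ext _ _ _ fun q hq => ?_
  obtain ⟨V, hqV, hVW⟩ := Div89.exists_affine_le hq
  refine ⟨V.1, hVW, hqV, ?_⟩
  refine (QC70.app_res (ClSub.idealModι J ≫ ClSub.toSubscheme I) hVW z).symm.trans ?_
  refine Eq.trans ?_ (map_zero _).symm
  obtain ⟨m, hm⟩ := Curves2.exists_idealSect_of_mem I V
    (h V (Curves2.idealSect_mem_ideal J V (QC70.res (ClSub.idealMod J) hVW z)))
  exact (congrArg ((ClSub.toSubscheme I).app V.1) hm.symm).trans
    (congr((Scheme.Modules.Hom.app $(kernel.condition (ClSub.toSubscheme I)) V.1) m))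

/-- The inclusion of ideal modules. -/
def idealLE : ClSub.idealMod J ⟶ ClSub.idealMod I :=
  kernel.lift _ (ClSub.idealModι J) (idealModι_toSubscheme h)

theorem idealLE_ι : idealLE h ≫ ClSub.idealModι I = ClSub.idealModι J := kernel.lift_ι _ _ _

theorem idealSect_idealLE (U : X.Opens) (m : Γ(ClSub.idealMod J, U)) :
    OmegaSh.idealSect I U ((idealLE h).app U m) = OmegaSh.idealSect J U m :=
  congr((Scheme.Modules.Hom.app $(idealLE_ι h) U) m)

end Groth.Agent.LC15.IdealIncl
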