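import Groth.Agent.LC15.KoszCopiesSheaf
import Groth.Agent.EGA73.Tensor

/-!
Twisted cycles restricted to a second divisor and the homology of that divisor's copies.
-/

set_option autoImplicit false
set_option backward.isDefEq.respectTransparency false
set_option linter.style.haveILetI false

noncomputable section

universe u

open CategoryTheory CategoryTheory.Limits AlgebraicGeometry TopologicalSpace Opposite

namespace Groth.Agent.LC15.KoszCopiesSheaf

open Groth.Agent QC70 KoszTwist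

variable {X : Scheme.{u}}

theorem isQuasicoherent_tensorPow (J : X.IdealSheafData) :
    ∀ q : ℕ, (CohB1.tensorPow (ClSub.idealMod J) q).IsQuasicoherent
  | 0 => inferInstanceAs (Coh.structureModule X).IsQuasicoherent
  | q + 1 => by
    haveI := isQuasicoherent_tensorPow J q
    haveI := Omega57.isQuasicoherent_idealMod J
    exact QCTens72.isQuasicoherent_tensorMod _ _

theorem nonempty_restrict_iso {m : ℕ} (I ID : X.IdealSheafData)
    (hI : BlowUp.IsEffCartierIdeal I) (hD : BlowUp.IsEffCartierIdeal ID)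
    (C : KoszSh.Cx (Esum fun _ : Fin (m + 1) => I) (ssum fun _ : Fin (m + 1) => I))
    (CD : KoszSh.Cx (Esum fun _ : Fin (m + 1) => ID) (ssum fun _ : Fin (m + 1) => ID))
    (q : ℕ) {L : X.Modules} (hL : ExtPow.IsExtPow q (FlatMod.freeMod X (m + 1 - 1)) L) :
    Nonempty (
      (Scheme.Modules.pullback ID.subschemeι ⋙ Scheme.Modules.pushforward ID.subschemeι).obj
          (CohB1.tensorMod (C.K.cycles q) (CohB1.tensorPow (ClSub.idealMod ID) q)) ≅
        CohB1.tensorMod (CD.K.homology q) (CohB1.tensorPow (ClSub.idealMod I) q)) := by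
  obtain ⟨eZ⟩ := nonempty_cycles_iso C q hI hL
  obtain ⟨eD⟩ := nonempty_cycles_iso CD q hD hL
  let P := CohB1.tensorPow (ClSub.idealMod I) q
  let PD := CohB1.tensorPow (ClSub.idealMod ID) q
  let M := CohB1.tensorMod (C.K.cycles q) PD
  haveI := isQuasicoherent_cycles q C
  haveI := isQuasicoherent_tensorPow ID q
  haveI : M.IsQuasicoherent := QCTens72.isQuasicoherent_tensorMod _ _
  let ρ : M ≅ CohB1.tensorMod (CD.K.cycles q) P :=
    EGA73.tensIso eZ (Iso.refl _) ≪≫ EGA73.tensAssoc' L P PD ≪≫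
      EGA73.tensIso (Iso.refl L) (EGA73.tensComm P PD) ≪≫ (EGA73.tensAssoc' L PD P).symm ≪≫
      EGA73.tensIso eD.symm (Iso.refl _)
  let a : M ⟶ CohB1.tensorMod (CD.K.homology q) P := ρ.hom ≫ SecTools.mapLeft (CD.K.homologyπ q) P
  let b := SecTools.unitTo ID M
  have hgood : ∀ (O : X.Opens) (p : X), p ∈ O → ∃ (W : X.affineOpens) (x : Γ(X, W.1)) (ξ : Γ(P, W.1)),
      p ∈ W.1 ∧ W.1 ≤ O ∧ ID.ideal W = Ideal.span {x} ∧ x ∈ nonZeroDivisors Γ(X, W.1) ∧
      Var76.LineBundle.IsFrame P W.1 ξ := fun O p hp => by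
    obtain ⟨W, x, hpW, hWO, hW⟩ := exists_good (fun _ : Fin 1 => I) ID (fun _ => hI) hD O p hp
    obtain ⟨y, hy, hyI⟩ := hW.2.2 0
    obtain ⟨ξ, hξ, -⟩ := SecTools.exists_frame_pow I W hy hyI q
    exact ⟨W, x, ξ, hpW, hWO, hW.2.1, hW.1, hξ⟩
  have key : ∀ (W : X.affineOpens) (x : Γ(X, W.1)) (ξ : Γ(P, W.1)), ID.ideal W = Ideal.span {x} →
      x ∈ nonZeroDivisors Γ(X, W.1) → Var76.LineBundle.IsFrame P W.1 ξ → ∀ v : Γ(M, W.1),
      a.app W.1 v = 0 ↔ ∃ w, x • w = v := by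
    intro W x ξ hID hx hξ v
    constructor
    · intro h
      obtain ⟨c, hc⟩ := Amp73.exists_eq_tm_frame hξ le_rfl (ρ.hom.app W.1 v)
      replace hc : Amp73.tm _ P c ξ = ρ.hom.app W.1 v := by simpa [Var76.LineBundle.res] using hc
      rw [app_comp, ← hc, SecTools.mapLeft_tm] at h
      have h2 : (CD.K.homologyπ q).app W.1 c = 0 := Amp73.tm_frame_injective hξ le_rfl _ 0
        (by simpa [Var76.LineBundle.res] using h.trans (Amp73.tm_zero_left ξ).symm)
      obtain ⟨w, rfl⟩ := (homologyπ_eq_zero_iff q CD hx hID c).1 h2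
      refine ⟨ρ.inv.app W.1 (Amp73.tm _ P w ξ), ?_⟩
      rw [← Scheme.Modules.Hom.app_smul, ← Amp73.tm_smul_left, hc, ← app_comp, app_congr ρ.hom_inv_id W.1 v]
      rfl
    · rintro ⟨w, rfl⟩
      obtain ⟨c, hc⟩ := Amp73.exists_eq_tm_frame hξ le_rfl (ρ.hom.app W.1 w)
      replace hc : Amp73.tm _ P c ξ = ρ.hom.app W.1 w := by simpa [Var76.LineBundle.res] using hc
      rw [app_comp, Scheme.Modules.Hom.app_smul, ← hc, ← Amp73.tm_smul_left, SecTools.mapLeft_tm,
        (homologyπ_eq_zero_iff q CD hx hID _).2 ⟨c, rfl⟩, Amp73.tm_zero_left]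
  haveI : Epi b := Om3.epi_of_basis _ fun O p hp => by
    obtain ⟨W, x, ξ, hpW, hWO, -⟩ := hgood O p hp
    exact ⟨W.1, hpW, hWO, SecTools.unitTo_surjective ID M W⟩
  haveI : Epi a := Om3.epi_of_basis _ fun O p hp => by
    obtain ⟨W, x, ξ, hpW, hWO, -, -, hξ⟩ := hgood O p hp
    refine ⟨W.1, hpW, hWO, fun t => ?_⟩
    obtain ⟨h, hh⟩ := Amp73.exists_eq_tm_frame (L := CD.K.homology q) hξ le_rfl t
    obtain ⟨c, rfl⟩ := homologyπ_surjective q CD W h
    refine ⟨ρ.inv.app W.1 (Amp73.tm _ P c ξ), ?_⟩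
    rw [app_comp, ← app_comp ρ.inv, app_congr ρ.inv_hom_id W.1]
    exact (SecTools.mapLeft_tm _ _ W.1 c ξ).trans (by simpa [Var76.LineBundle.res] using hh)
  have h1 : kernel.ι a ≫ b = 0 := Om3.comp_eq_zero_of_basis _ _ fun O p hp => by
    obtain ⟨W, x, ξ, hpW, hWO, hID, hx, hξ⟩ := hgood O p hp
    refine ⟨W.1, hpW, hWO, fun k => ?_⟩
    exact (SecTools.unitTo_eq_zero_iff ID M W hID _).2 ((key W x ξ hID hx hξ _).1
      (by rw [← app_comp, app_congr (kernel.condition a) W.1 k]; rfl))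
  have h2 : kernel.ι b ≫ a = 0 := Om3.comp_eq_zero_of_basis _ _ fun O p hp => by
    obtain ⟨W, x, ξ, hpW, hWO, hID, hx, hξ⟩ := hgood O p hp
    refine ⟨W.1, hpW, hWO, fun k => ?_⟩
    exact (key W x ξ hID hx hξ _).2 ((SecTools.unitTo_eq_zero_iff ID M W hID _).1
      (by rw [← app_comp, app_congr (kernel.condition b) W.1 k]; rfl))
  exact ⟨{
    hom := Abelian.epiDesc b a h2
    inv := Abelian.epiDesc a b h1
    hom_inv_id := by rw [← cancel_epi b, ← Category.assoc, Abelian.comp_epiDesc, Abelian.comp_epiDesc, Category.comp_id]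
    inv_hom_id := by rw [← cancel_epi a, ← Category.assoc, Abelian.comp_epiDesc, Abelian.comp_epiDesc, Category.comp_id] }⟩

end Groth.Agent.LC15.KoszCopiesSheaf
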