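import Groth.Agent.LC15.ExtKoszul

/-!
Koszul homology of a sequence generating the ideal of a weakly regular sequence: non-zero-divisors modulo the
ideal act injectively.
-/

set_option autoImplicit false
set_option linter.unusedSectionVars false
set_option linter.style.haveILetI false

noncomputable section

universe u

open exteriorPower

namespace Groth.Agent.LC15.ExtKoszul

variable {R M : Type u} [CommRing R] [AddCommGroup M] [Module R M]

local notation "EA" => ExteriorAlgebra R M

variable (b : ℕ → M) (φ : M →ₗ[R] R)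

theorem reg_Sub (θ : ℕ → (M →ₗ[R] R)) (n c : ℕ) (hcn : c ≤ n)
    (hθ : ∀ k < n, θ k (b k) = 1 ∧ ∀ j < k, θ k (b j) = 0)
    (hreg : ∀ k < c, ∀ r, φ (b k) * r ∈ Jk b φ k → r ∈ Jk b φ k)
    (hzero : ∀ k, c ≤ k → k < n → φ (b k) = 0)
    (t : R) (ht : ∀ r, t * r ∈ Jk b φ c → r ∈ Jk b φ c) :
    ∀ k, c ≤ k → k ≤ n → ∀ (p : ℕ), ∀ x ∈ Sub b k p, CliffordAlgebra.contractLeft φ x = 0 →
      (∃ y ∈ Sub b k (p + 1), CliffordAlgebra.contractLeft φ y = t • x) →
      ∃ y ∈ Sub b k (p + 1), CliffordAlgebra.contractLeft φ y = x := by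
  intro k hck
  induction k, hck using Nat.le_induction with
  | base =>
    intro _ p x hx hdx hy
    cases p with
    | succ p =>
      exact exact_Sub b φ θ c (fun j hj => hθ j (hj.trans_le hcn)) hreg c le_rfl p x hx hdx
    | zero =>
      obtain ⟨r, rfl⟩ := mem_zero b hx
      obtain ⟨y, hy, hyx⟩ := hy
      obtain ⟨s, hs, hsy⟩ := d_one_mem b φ c y hy
      rw [hsy, Algebra.smul_def, ← map_mul] at hyx
      exact exists_of_mem b φ c r (ht r ((ExteriorAlgebra.algebraMap_leftInverse M).injective hyx ▸ hs))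
  | succ k hck ih =>
    intro hk p x hx hdx hy
    obtain ⟨h1, h0⟩ := hθ k hk
    have hz := hzero k hck hk
    obtain ⟨y, hy, hyx⟩ := hy
    obtain ⟨α, hα, γ, hγ, rfl⟩ := mem_succ b hy
    rw [map_add, d_ι_mul, hz, zero_smul, zero_sub] at hyx
    cases p with
    | zero =>
      rw [d_algebraMap φ (mem_zero' b hγ), mul_zero, neg_zero, add_zero] at hyx
      have hx' : x ∈ Sub (R := R) b k 0 := by rw [Sub_zero] at hx ⊢; exact hx
      obtain ⟨z, hz', hzx⟩ := ih (Nat.le_of_succ_le hk) 0 x hx' hdx ⟨α, hα, hyx⟩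
      exact ⟨z, le_succ b k 1 hz', hzx⟩
    | succ p =>
      obtain ⟨a, ha, c', hc, rfl⟩ := mem_succ b hx
      rw [map_add, d_ι_mul, hz, zero_smul, zero_sub] at hdx
      have hdγ : CliffordAlgebra.contractLeft φ γ ∈ Sub b k p := d_mem b φ k p γ hγ
      have hdc : CliffordAlgebra.contractLeft φ c' = 0 := by
        cases p with
        | zero => exact d_algebraMap φ (mem_zero' b hc)
        | succ p =>
          have h := congrArg (CliffordAlgebra.contractLeft (θ k)) hdx
          rw [map_zero, map_add, map_neg, d_ι_mul, h1, one_smul,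
            d_eq_zero b (θ k) k _ h0 _ (d_mem b φ k p c' hc), mul_zero, sub_zero,
            d_eq_zero b (θ k) k _ h0 _ (d_mem b φ k (p + 1) a ha), zero_add, neg_eq_zero] at h
          exact h
      have hda : CliffordAlgebra.contractLeft φ a = 0 := by
        rw [hdc, mul_zero, neg_zero, add_zero] at hdx
        exact hdx
      have h := congrArg (CliffordAlgebra.contractLeft (θ k)) hyx
      rw [map_add, map_neg, d_ι_mul, h1, one_smul, d_eq_zero b (θ k) k _ h0 _ hdγ, mul_zero, sub_zero,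
        d_eq_zero b (θ k) k _ h0 _ (d_mem b φ k (p + 1) α hα), zero_add, map_smul, map_add, d_ι_mul, h1,
        one_smul, d_eq_zero b (θ k) k _ h0 _ ha, d_eq_zero b (θ k) k _ h0 _ hc, mul_zero, sub_zero, zero_add] at h
      have hγc : CliffordAlgebra.contractLeft φ (-γ) = t • c' := by rw [map_neg, h]
      have hαa : CliffordAlgebra.contractLeft φ α = t • a := by
        have h' : CliffordAlgebra.contractLeft φ γ = -(t • c') := neg_eq_iff_eq_neg.1 h
        rw [h', mul_neg, neg_neg, smul_add, mul_smul_comm] at hyx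
        exact add_right_cancel hyx
      obtain ⟨α', hα', hα'a⟩ := ih (Nat.le_of_succ_le hk) (p + 1) a ha hda ⟨α, hα, hαa⟩
      obtain ⟨γ', hγ', hγ'c⟩ := ih (Nat.le_of_succ_le hk) p c' hc hdc ⟨-γ, Submodule.neg_mem _ hγ, hγc⟩
      refine ⟨α' + ExteriorAlgebra.ι R (b k) * (-γ'), add_mem_succ b hα' (Submodule.neg_mem _ hγ'), ?_⟩
      rw [map_add, d_ι_mul, hz, zero_smul, zero_sub, hα'a, map_neg, hγ'c, mul_neg, neg_neg]

/-- A non-zero-divisor modulo the ideal acts injectively on Koszul homology, when a weakly regular subfamily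
of the values generates the ideal of all values. -/
theorem exists_of_smul {n : ℕ} (bs : Module.Basis (Fin n) R M) (l : List (Fin n)) (hl : l.Nodup)
    (hreg : RingTheory.Sequence.IsWeaklyRegular R (l.map fun i => φ (bs i)))
    (hgen : ∀ i, φ (bs i) ∈ Ideal.ofList (l.map fun i => φ (bs i)))
    (t : R) (ht : ∀ r, t * r ∈ Ideal.ofList (l.map fun i => φ (bs i)) → r ∈ Ideal.ofList (l.map fun i => φ (bs i)))
    (p : ℕ) (x : ↥(⋀[R]^p M)) (hdx : CliffordAlgebra.contractLeft φ (x : EA) = 0)
    (y : ↥(⋀[R]^(p + 1) M)) (hy : DR29.contr φ p y = t • x) :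
    ∃ y' : ↥(⋀[R]^(p + 1) M), DR29.contr φ p y' = x := by
  classical
  set m := l ++ (List.finRange n).filter (fun i => i ∉ l) with hm
  have hnd : m.Nodup := List.nodup_append.2 ⟨hl, (List.nodup_finRange n).filter _, fun a ha b hb => by
    simp only [List.mem_filter, decide_eq_true_eq] at hb
    exact fun h => hb.2 (h ▸ ha)⟩
  have hall : ∀ i, i ∈ m := fun i => by by_cases h : i ∈ l <;> simp [hm, h]
  have hlen : m.length = n := by
    rw [← List.toFinset_card_of_nodup hnd, show m.toFinset = Finset.univ from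
      Finset.eq_univ_of_forall fun i => List.mem_toFinset.2 (hall i), Finset.card_univ, Fintype.card_fin]
  set c := l.length with hc
  have hcn : c ≤ n := by
    have h : l.length ≤ m.length := by rw [hm, List.length_append]; exact Nat.le_add_right _ _
    omega
  have hmem : ∀ i, ∃ a : Fin c → R, φ (bs i) = ∑ j, a j * φ (bs l[j.1]) := fun i => by
    have h := hgen i
    rw [Ideal.ofList, show {r | r ∈ l.map fun i => φ (bs i)} = Set.range fun j : Fin c => φ (bs l[j.1]) from by
      ext r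
      simp only [Set.mem_ofPred_eq, Set.mem_range]
      constructor
      · intro hr
        obtain ⟨i, hi, rfl⟩ := List.mem_map.1 hr
        obtain ⟨j, hj, rfl⟩ := List.mem_iff_getElem.1 hi
        exact ⟨⟨j, hj⟩, rfl⟩
      · rintro ⟨⟨j, hj⟩, rfl⟩
        exact List.mem_map.2 ⟨_, List.getElem_mem hj, rfl⟩, Ideal.mem_span_range_iff_exists_fun] at h
    obtain ⟨a, ha⟩ := h
    exact ⟨a, ha.symm⟩
  choose a ha using hmem
  let b : ℕ → M := fun k => if h : k < n then
      (if k < c then bs (m[k]'(hlen.symm ▸ h)) else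
        bs (m[k]'(hlen.symm ▸ h)) - ∑ j : Fin c, a (m[k]'(hlen.symm ▸ h)) j • bs l[j.1]) else 0
  have hb1 : ∀ k (h : k < c), b k = bs l[k] := fun k h => by
    simp [b, h, h.trans_le hcn, hm, List.getElem_append_left h]
  have hb2 : ∀ k (h : k < n), c ≤ k →
      b k = bs (m[k]'(hlen.symm ▸ h)) - ∑ j : Fin c, a (m[k]'(hlen.symm ▸ h)) j • bs l[j.1] := fun k h hk => by
    simp [b, h, not_lt.2 hk]
  have hzero : ∀ k, c ≤ k → k < n → φ (b k) = 0 := fun k hk h => by
    rw [hb2 k h hk, map_sub, map_sum]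
    simp only [map_smul, smul_eq_mul]
    rw [← ha, sub_self]
  let θ : ℕ → (M →ₗ[R] R) := fun k => if h : k < n then bs.coord (m[k]'(hlen.symm ▸ h)) else 0
  have hθe : ∀ k (h : k < n) i, θ k (bs i) = if i = m[k]'(hlen.symm ▸ h) then 1 else 0 := fun k h i => by
    simp [θ, h, Finsupp.single_apply]
  have hne : ∀ j k (hj : j < n) (hk : k < n), j ≠ k → m[j]'(hlen.symm ▸ hj) ≠ m[k]'(hlen.symm ▸ hk) :=
    fun j k hj hk h e => h (hnd.getElem_inj_iff.1 e)
  have hml : ∀ j (hj : j < c), l[j] = m[j]'(hlen.symm ▸ hj.trans_le hcn) := fun j hj => by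
    simp [hm, List.getElem_append_left hj]
  have hlow : ∀ k (h : k < n), c ≤ k → ∀ (i : Fin n), θ k (∑ j : Fin c, a i j • bs l[j.1]) = 0 := fun k h hk i => by
    rw [map_sum]
    refine Finset.sum_eq_zero fun j _ => ?_
    rw [map_smul, hθe k h, if_neg, smul_zero]
    rw [hml j.1 j.2]
    exact hne _ _ (j.2.trans_le hcn) h (by have := j.2; omega)
  have hθ : ∀ k < n, θ k (b k) = 1 ∧ ∀ j < k, θ k (b j) = 0 := fun k hk => by
    constructor
    · rcases lt_or_ge k c with hkc | hkc
      · rw [hb1 k hkc, hθe k hk, if_pos (hml k hkc)]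
      · rw [hb2 k hk hkc, map_sub, hlow k hk hkc, hθe k hk, if_pos rfl, sub_zero]
    · intro j hj
      rcases lt_or_ge j c with hjc | hjc
      · rw [hb1 j hjc, hθe k hk, if_neg]
        rw [hml j hjc]
        exact hne _ _ (hj.trans hk) hk (by omega)
      · rw [hb2 j (hj.trans hk) hjc, map_sub, hlow k hk (hjc.trans hj.le), hθe k hk,
          if_neg (hne _ _ (hj.trans hk) hk (by omega)), sub_zero]
  have hspan : ∀ v : M, ∃ e : ℕ → R, v = ∑ j ∈ Finset.range n, e j • b j := fun v => by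
    have htop : v ∈ Submodule.span R (Set.range fun j : Fin n => b j.1) := by
      have hle : Submodule.span R (Set.range bs) ≤ Submodule.span R (Set.range fun j : Fin n => b j.1) := by
        refine Submodule.span_le.2 ?_
        rintro _ ⟨i, rfl⟩
        obtain ⟨k, hk, rfl⟩ := List.mem_iff_getElem.1 (hall i)
        have hkn : k < n := hlen ▸ hk
        have hlo : ∀ j (hj : j < c), bs l[j] ∈ Submodule.span R (Set.range fun j : Fin n => b j.1) := fun j hj =>
          Submodule.subset_span ⟨⟨j, hj.trans_le hcn⟩, hb1 j hj⟩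
        rcases lt_or_ge k c with hkc | hkc
        · rw [← hml k hkc]; exact hlo k hkc
        · rw [show bs m[k] = b k + ∑ j : Fin c, a m[k] j • bs l[j.1] from (eq_add_of_sub_eq' (hb2 k hkn hkc).symm).trans (add_comm _ _)]
          exact Submodule.add_mem _ (Submodule.subset_span ⟨⟨k, hkn⟩, rfl⟩)
            (Submodule.sum_mem _ fun j _ => Submodule.smul_mem _ _ (hlo j.1 j.2))
      exact hle (bs.span_eq ▸ Submodule.mem_top)
    obtain ⟨e, he⟩ := (Submodule.mem_span_range_iff_exists_fun R).1 htop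
    refine ⟨fun j => if h : j < n then e ⟨j, h⟩ else 0, ?_⟩
    rw [← he, ← Fin.sum_univ_eq_sum_range]
    exact Finset.sum_congr rfl fun j _ => by simp
  have hJk : ∀ k ≤ c, Ideal.ofList ((l.map fun i => φ (bs i)).take k) = Jk b φ k := fun k hk => by
    rw [Ideal.ofList, Jk]
    congr 1
    ext r
    simp only [List.mem_take_iff_getElem, Set.mem_ofPred_eq, Set.mem_range, List.getElem_map, List.length_map]
    constructor
    · rintro ⟨j, hj, rfl⟩
      exact ⟨⟨j, (lt_min_iff.1 hj).1⟩, by rw [hb1 j (lt_min_iff.1 hj).2]⟩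
    · rintro ⟨⟨j, hj⟩, rfl⟩
      exact ⟨j, lt_min hj (hj.trans_le hk), by rw [hb1 j (hj.trans_le hk)]⟩
  have hJ : ∀ k < c, ∀ r, φ (b k) * r ∈ Jk b φ k → r ∈ Jk b φ k := fun k hk r hr => by
    have h := (RingTheory.Sequence.isWeaklyRegular_iff R _).1 hreg k (by simpa using hk)
    rw [hJk k hk.le, List.getElem_map, smul_eq_mul, Ideal.mul_top] at h
    rw [← Submodule.Quotient.mk_eq_zero] at hr ⊢
    refine h.right_eq_zero_of_smul ?_
    rw [← hr, hb1 k hk]
    rfl
  have hJc : Ideal.ofList (l.map fun i => φ (bs i)) = Jk b φ c := by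
    rw [← hJk c le_rfl, List.take_of_length_le (by simp [hc])]
  obtain ⟨z, hz, hzx⟩ := reg_Sub b φ θ n c hcn hθ hJ hzero t (fun r hr => hJc ▸ ht r (hJc.symm ▸ hr)) n hcn le_rfl p
    x.1 (mem_Sub_of_span b n hspan _ _ x.2) hdx
    ⟨y.1, mem_Sub_of_span b n hspan _ _ y.2, congrArg Subtype.val hy⟩
  exact ⟨⟨z, Sub_le b n _ hz⟩, Subtype.ext hzx⟩

end Groth.Agent.LC15.ExtKoszul
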