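import Groth.Prelude.Def_CAlg
import Groth.Agent.EGA4Alg4.CMMod
import Groth.Agent.LC16.SopRegular
import Groth.Agent.An92.Nrm.QuasiRegular
import Mathlib.RingTheory.Regular.Flat
import Mathlib.RingTheory.Ideal.KrullsHeightTheorem

/-!
Cutting by an element avoiding the minimal primes of a complete intersection in a Cohen-Macaulay local ring.
-/

set_option autoImplicit false
set_option linter.style.haveILetI false

noncomputable section

universe u

open RingTheory.Sequence IsLocalRing

namespace Groth.Agent.LC15.RegCut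

/-- Among generators of an ideal generated by `c` elements in a local ring, `c` suffice. -/
theorem exists_subset_generating {R : Type u} [CommRing R] [IsLocalRing R] {n c : ℕ} (y : Fin n → R) (f : Fin c → R)
    (h : Ideal.span (Set.range y) = Ideal.span (Set.range f)) :
    ∃ S : Finset (Fin n), S.card ≤ c ∧ Ideal.span (y '' (S : Set (Fin n))) = Ideal.span (Set.range y) := by
  classical
  have hex : ∃ k, ∃ S : Finset (Fin n), S.card = k ∧
      Ideal.span (y '' (S : Set (Fin n))) = Ideal.span (Set.range y) :=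
    ⟨_, Finset.univ, rfl, by simp⟩
  obtain ⟨S, hS, hSy⟩ := Nat.find_spec hex
  refine ⟨S, ?_, hSy⟩
  by_contra hcS
  have hA : ∀ i : Fin n, ∃ a : Fin c → R, y i = ∑ k, a k * f k := fun i => by
    have h1 : y i ∈ Ideal.span (Set.range f) := h ▸ Ideal.subset_span (Set.mem_range_self i)
    obtain ⟨a, ha⟩ := Ideal.mem_span_range_iff_exists_fun.1 h1
    exact ⟨a, ha.symm⟩
  choose A hA using hA
  have hM : ∀ k : Fin c, ∃ m : S → R, f k = ∑ j : S, m j * y j.1 := fun k => by
    have h1 : f k ∈ Ideal.span (Set.range fun j : S => y j.1) := by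
      rw [show (Set.range fun j : S => y j.1) = y '' S from by ext; simp]
      rw [hSy, h]
      exact Ideal.subset_span (Set.mem_range_self k)
    obtain ⟨a, ha⟩ := Ideal.mem_span_range_iff_exists_fun.1 h1
    exact ⟨a, ha.symm⟩
  choose Mc hM using hM
  -- the product is congruent to the identity
  have key : ∀ i j : S, (∑ k, A i.1 k * Mc k j) - (if i = j then 1 else 0) ∈ maximalIdeal R := by
    intro i j
    by_contra hu
    rw [IsLocalRing.notMem_maximalIdeal] at hu
    let N : S → R := fun j => (∑ k, A i.1 k * Mc k j) - (if i = j then 1 else 0)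
    have hsum : ∑ j : S, N j * y j.1 = 0 := by
      simp only [N, sub_mul, Finset.sum_sub_distrib, ite_mul, one_mul, zero_mul, Finset.sum_ite_eq,
        Finset.mem_univ, if_true, Finset.sum_mul]
      rw [Finset.sum_comm, sub_eq_zero, hA i.1]
      exact Finset.sum_congr rfl fun k _ => by rw [hM k, Finset.mul_sum]; exact Finset.sum_congr rfl fun _ _ => mul_assoc _ _ _
    have hj : y j.1 ∈ Ideal.span (y '' ↑(S.erase j.1)) := by
      refine (Ideal.unit_mul_mem_iff_mem _ hu).1 ?_
      show N j * y j.1 ∈ _
      rw [eq_neg_of_add_eq_zero_left ((Finset.add_sum_erase _ (fun k => N k * y k.1) (Finset.mem_univ j)).trans hsum)]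
      refine Ideal.neg_mem_iff _ |>.2 (Ideal.sum_mem _ fun k hk => Ideal.mul_mem_left _ _ (Ideal.subset_span
        ⟨k.1, Finset.mem_coe.2 (Finset.mem_erase.2 ⟨fun e => (Finset.mem_erase.1 hk).1 (Subtype.ext e), k.2⟩), rfl⟩))
    refine Nat.find_min hex (m := (S.erase j.1).card) (by rw [← hS]; exact Finset.card_erase_lt_of_mem j.2)
      ⟨_, rfl, le_antisymm (Ideal.span_mono (Set.image_subset_range _ _)) (hSy ▸ Ideal.span_le.2 ?_)⟩
    rintro _ ⟨k, hk, rfl⟩
    rcases eq_or_ne k j.1 with rfl | hne
    · exact hj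
    · exact Ideal.subset_span ⟨k, Finset.mem_coe.2 (Finset.mem_erase.2 ⟨hne, hk⟩), rfl⟩
  let ρ := IsLocalRing.residue R
  let Am : Matrix S (Fin c) (ResidueField R) := fun i k => ρ (A i.1 k)
  let Mm : Matrix (Fin c) S (ResidueField R) := fun k j => ρ (Mc k j)
  have hAM : Am * Mm = 1 := by
    ext i j
    have h0 := (IsLocalRing.residue_eq_zero_iff _).2 (key i j)
    rw [map_sub, sub_eq_zero, map_sum] at h0
    rw [Matrix.mul_apply, Matrix.one_apply]
    refine Eq.trans (Finset.sum_congr rfl fun k _ => ?_) (h0.trans ?_)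
    · exact (map_mul _ _ _).symm
    · split <;> simp [ρ]
  have h1 := Matrix.rank_mul_le_left Am Mm
  rw [hAM, Matrix.rank_one] at h1
  exact hcS (by simpa using h1.trans (Matrix.rank_le_card_width Am))

theorem le_height {R : Type u} [CommRing R] [IsNoetherianRing R] (xs : List R) (hxs : IsWeaklyRegular R xs)
    (P : Ideal R) [P.IsPrime] (hP : Ideal.ofList xs ≤ P) : (xs.length : ℕ∞) ≤ P.height := by
  let L := Localization.AtPrime P
  have hw := hxs.of_isLocalization L P.primeCompl
  set zs := xs.map (algebraMap R L)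
  have hmem : ∀ x ∈ zs, x ∈ maximalIdeal L := fun x hx => by
    obtain ⟨a, ha, rfl⟩ := List.mem_map.1 hx
    exact (IsLocalization.AtPrime.to_map_mem_maximal_iff L P _).2 (hP (Ideal.subset_span ha))
  have hr := LC16.isRegular_of_weakly hw hmem
  have h1 := Module.supportDim_add_length_eq_supportDim_of_isRegular zs hr
  rw [Module.supportDim_self_eq_ringKrullDim, IsLocalization.AtPrime.ringKrullDim_eq_height P L,
    show zs.length = xs.length from List.length_map _] at h1
  have : Nontrivial (L ⧸ (Ideal.ofList zs • ⊤ : Submodule L L)) :=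
    Submodule.Quotient.nontrivial_iff.2 hr.top_ne_smul.symm
  have h2 : (0 : WithBot ℕ∞) ≤ Module.supportDim L (L ⧸ (Ideal.ofList zs • ⊤ : Submodule L L)) := by
    have := Module.supportDim_ne_bot_of_nontrivial L (L ⧸ (Ideal.ofList zs • ⊤ : Submodule L L))
    revert this
    generalize Module.supportDim L (L ⧸ (Ideal.ofList zs • ⊤ : Submodule L L)) = x
    intro hx
    induction x with
    | bot => exact absurd rfl hx
    | coe a => exact WithBot.coe_le_coe.2 zero_le
  have : ((xs.length : ℕ∞) : WithBot ℕ∞) ≤ (P.height : WithBot ℕ∞) := by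
    rw [← h1]
    calc ((xs.length : ℕ∞) : WithBot ℕ∞) = 0 + (xs.length : WithBot ℕ∞) := by simp
      _ ≤ _ := add_le_add h2 le_rfl
  exact WithBot.coe_le_coe.1 this

/-- A sequence of the expected codimension in a Cohen-Macaulay local ring is weakly regular. -/
theorem weaklyRegular_of_height {R : Type u} [CommRing R] [LocCoh.IsCohenMacaulayLocalRing R]
    (xs : List R) (hm : ∀ r ∈ xs, r ∈ maximalIdeal R)
    (H : ∀ q : PrimeSpectrum R, Ideal.ofList xs ≤ q.asIdeal → (xs.length : ℕ∞) ≤ q.asIdeal.height) :
    IsWeaklyRegular R xs := by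
  let J := Ideal.ofList xs
  refine EGA4Alg4.isWeaklyRegular_of_supportDim LocCoh.IsCohenMacaulayLocalRing.supportDim_eq_depth hm
    (le_antisymm ?_ (EGA4Alg4.supportDim_le_quotient_add_length hm))
  let eM : (R ⧸ (J • (⊤ : Submodule R R))) ≃ₗ[R] (R ⧸ J) :=
    Submodule.quotEquivOfEq _ _ (by rw [smul_eq_mul, Ideal.mul_top])
  rw [Module.supportDim_eq_of_equiv eM, Module.supportDim_quotient_eq_ringKrullDim,
    Module.supportDim_self_eq_ringKrullDim, ringKrullDim_quotient]
  rcases isEmpty_or_nonempty (PrimeSpectrum.zeroLocus (J : Set R)) with hE | hE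
  · rw [Order.krullDim_eq_bot, WithBot.bot_add]; exact bot_le
  rw [Order.krullDim_eq_iSup_coheight_of_nonempty, ← WithBot.coe_natCast, ← WithBot.coe_add, ringKrullDim,
    Order.krullDim_eq_iSup_height_add_coheight_of_nonempty, WithBot.coe_le_coe, ENat.iSup_add]
  refine iSup_le fun q => le_trans ?_ (le_iSup (fun a => Order.height a + Order.coheight a) q.1)
  rw [add_comm]
  refine add_le_add ?_ ?_
  · have h := H q.1 q.2
    rw [PrimeSpectrum.height_eq_orderHeight] at h
    exact h
  · exact Order.coheight_le_coheight_apply_of_strictMono Subtype.val (fun _ _ h => h) q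

/-- An element avoiding the minimal primes of a complete intersection is regular modulo it, and the ideal is
generated by a regular sequence chosen among any given generators. -/
theorem exists_regular_append {R : Type u} [CommRing R] [LocCoh.IsCohenMacaulayLocalRing R] {n : ℕ} (y : Fin n → R)
    (fs : List R) (hfs : IsWeaklyRegular R fs) (hgen : Ideal.ofList fs = Ideal.span (Set.range y))
    (hJ : Ideal.span (Set.range y) ≤ maximalIdeal R) (x : R) (hx : x ∈ maximalIdeal R)
    (hxP : ∀ P ∈ (Ideal.span (Set.range y)).minimalPrimes, x ∉ P) :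
    ∃ l : List (Fin n), l.Nodup ∧ Ideal.ofList (l.map y) = Ideal.span (Set.range y) ∧
      IsWeaklyRegular R (l.map y ++ [x]) := by
  classical
  set J := Ideal.span (Set.range y) with hJdef
  have hf : Ideal.span (Set.range fs.get) = J := by
    rw [← hgen, Ideal.ofList]; congr 1; ext r; simp [List.mem_iff_get, eq_comm]
  obtain ⟨S, hScard, hSy⟩ := exists_subset_generating y fs.get hf.symm
  have hlJ : Ideal.ofList (S.toList.map y) = J := by
    rw [hJdef, ← hSy, Ideal.ofList]; congr 1; ext r; simp
  refine ⟨S.toList, S.nodup_toList, hlJ, weaklyRegular_of_height _ (fun r hr => ?_) fun q hq => ?_⟩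
  · rcases List.mem_append.1 hr with h | h
    · exact hJ (hlJ ▸ Ideal.subset_span h)
    · rw [List.mem_singleton.1 h]; exact hx
  · rw [Ideal.ofList_append, hlJ, sup_le_iff, Ideal.ofList_singleton, Ideal.span_singleton_le_iff_mem] at hq
    obtain ⟨P, hP, hPq⟩ := Ideal.exists_minimalPrimes_le hq.1
    haveI := hP.1.1
    have h1 : (fs.length : ℕ∞) ≤ P.height := le_height fs hfs P (hgen.le.trans hP.1.2)
    have hlt : P < q.asIdeal := lt_of_le_of_ne hPq fun e => hxP P hP (e ▸ hq.2)
    have hS : ((S.card : ℕ) : ℕ∞) ≤ P.height := (Nat.cast_le.2 hScard).trans h1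
    rw [List.length_append, List.length_map, Finset.length_toList, List.length_singleton, Nat.cast_add, Nat.cast_one]
    exact le_trans (add_le_add hS le_rfl) (Ideal.height_add_one_le_of_lt_of_isPrime hlt)

/-- Weak regularity and generation spread to a basic open neighbourhood of a prime. -/
theorem exists_away {A : Type u} [CommRing A] [IsNoetherianRing A] (p : Ideal A) [p.IsPrime]
    (rs ts : List A) (I : Ideal A) (hts : Ideal.ofList ts ≤ I)
    (L : Type u) [CommRing L] [Algebra A L] [IsLocalization.AtPrime L p]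
    (hgen : I.map (algebraMap A L) ≤ (Ideal.ofList ts).map (algebraMap A L))
    (hw : IsWeaklyRegular L (rs.map (algebraMap A L))) :
    ∃ g, g ∉ p ∧ ∀ (B : Type u) [CommRing B] [Algebra A B], IsLocalization.Away g B →
      IsWeaklyRegular B (rs.map (algebraMap A B)) ∧
        I.map (algebraMap A B) = Ideal.ofList (ts.map (algebraMap A B)) := by
  classical
  obtain ⟨s, hs⟩ := (IsNoetherian.noetherian I : I.FG)
  have hk : ∀ c ∈ s, ∃ t ∈ p.primeCompl, t * c ∈ Ideal.ofList ts := fun c hc =>
    (IsLocalization.algebraMap_mem_map_algebraMap_iff p.primeCompl L _ _).1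
      (hgen (Ideal.mem_map_of_mem _ (hs.le (Submodule.subset_span hc))))
  choose! t ht htc using hk
  rw [isWeaklyRegular_map_algebraMap_iff] at hw
  have e : LocalizedModule p.primeCompl A ≃ₗ[A] L :=
    IsLocalizedModule.iso p.primeCompl (Algebra.linearMap A L)
  obtain ⟨g₁, hg₁, hW⟩ := An92.Nrm.exists_W p rs A ((e.isWeaklyRegular_congr rs).2 hw)
  refine ⟨(∏ c ∈ s, t c) * g₁, fun h => (Ideal.IsPrime.mem_or_mem ‹_› h).elim (prod_mem fun c hc => ht c hc) hg₁,
    fun B _ _ hB => ⟨?_, ?_⟩⟩
  · set g := (∏ c ∈ s, t c) * g₁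
    have h1 := Ega11.RegSeqSk.W.isWeaklyRegular rs A
      (Ega11.RegSeqSk.W.mono (dvd_mul_left g₁ (∏ c ∈ s, t c)) _ _ hW)
    rw [isWeaklyRegular_map_algebraMap_iff] at h1 ⊢
    haveI : IsLocalizedModule (Submonoid.powers g) (Algebra.linearMap A B) :=
      (isLocalizedModule_iff_isLocalization' _ _).2 hB
    have e' : LocalizedModule (Submonoid.powers g) A ≃ₗ[A] B :=
      IsLocalizedModule.iso (Submonoid.powers g) (Algebra.linearMap A B)
    exact (e'.isWeaklyRegular_congr rs).1 h1
  · set g := (∏ c ∈ s, t c) * g₁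
    rw [← Ideal.map_ofList]
    refine le_antisymm ?_ (Ideal.map_mono hts)
    rw [← hs, Ideal.submodule_span_eq, Ideal.map_span, Ideal.span_le]
    rintro _ ⟨c, hc, rfl⟩
    have hu : IsUnit (algebraMap A B g) := IsLocalization.map_units B (⟨g, 1, pow_one g⟩ : Submonoid.powers g)
    show algebraMap A B c ∈ (Ideal.ofList ts).map (algebraMap A B)
    rw [← Ideal.unit_mul_mem_iff_mem _ hu, ← map_mul]
    refine Ideal.mem_map_of_mem _ ?_
    obtain ⟨v, hv⟩ : t c ∣ g := (Finset.dvd_prod_of_mem t hc).trans (dvd_mul_right _ _)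
    rw [hv, mul_right_comm]
    exact Ideal.mul_mem_right _ _ (htc c hc)

/-- The last member of a weakly regular sequence is regular modulo the ideal of the others. -/
theorem regular_last {R : Type u} [CommRing R] {as : List R} {x : R} (h : IsWeaklyRegular R (as ++ [x]))
    (r : R) (hr : x * r ∈ Ideal.ofList as) : r ∈ Ideal.ofList as := by
  have h1 := (isWeaklyRegular_iff R _).1 h as.length (by simp)
  rw [List.take_left, List.getElem_append_right le_rfl, smul_eq_mul, Ideal.mul_top] at h1
  simp only [Nat.sub_self, List.getElem_singleton] at h1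
  rw [← Submodule.Quotient.mk_eq_zero] at hr ⊢
  exact h1.right_eq_zero_of_smul (hr ▸ rfl)

theorem of_append_left {R : Type u} [CommRing R] {as bs : List R} (h : IsWeaklyRegular R (as ++ bs)) :
    IsWeaklyRegular R as :=
  ((isWeaklyRegular_append_iff R as bs).1 h).1

end Groth.Agent.LC15.RegCut
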