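import Groth.Agent.LC15.KoszTwistHom
import Groth.Agent.LC15.KoszReg
import Groth.Agent.LC15.RegCut
import Groth.Agent.Div89.Basic
import Groth.Agent.Div89.Cartier
import Groth.Agent.FlatMor68.FlatInfNbhd
import Groth.Agent.Unr55.SmoothStalkCor
import Groth.Agent.CAlg1.CMPoly
import Groth.Prelude.Def_RegImm
import Mathlib.RingTheory.RegularLocalRing.Defs

/-!
Koszul homology of divisors with locally complete intersection intersection: regularity of transversal divisors.
-/

set_option autoImplicit false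
set_option backward.isDefEq.respectTransparency false
set_option linter.style.haveILetI false

noncomputable section

universe u

open CategoryTheory CategoryTheory.Limits AlgebraicGeometry TopologicalSpace Opposite exteriorPower
open RingTheory.Sequence

namespace Groth.Agent.LC15.KoszLci

open Groth.Agent QC70 KoszTwist

/-- Smooth schemes over a field have Cohen-Macaulay local rings. -/
theorem cm_stalk {k : Type u} [Field k] {X : Scheme.{u}} (f : X ⟶ Spec (CommRingCat.of k)) [Smooth f]
    [LocallyOfFiniteType f] (x : X) : LocCoh.IsCohenMacaulayLocalRing (X.presheaf.stalk x) := by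
  have hx : x ∈ f.smoothLocus := by rw [Scheme.Hom.smoothLocus_eq_top]; trivial
  haveI : IsRegularLocalRing ((Spec (CommRingCat.of k)).presheaf.stalk (f x)) := by
    let P : Ideal k := (show PrimeSpectrum k from f x).asIdeal
    have : IsRegularLocalRing k := inferInstance
    have hu : P.primeCompl ≤ IsUnit.submonoid k := fun a ha =>
      (isUnit_iff_ne_zero.2 fun h => ha (by rw [h]; exact P.zero_mem))
    exact IsRegularLocalRing.of_ringEquiv ((IsLocalization.atUnits k P.primeCompl (S := Localization.AtPrime P) hu).toRingEquiv.trans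
      (Spec.stalkIso (CommRingCat.of k) (f x)).symm.commRingCatIsoToRingEquiv)
  haveI : IsRegularLocalRing (X.presheaf.stalk x) :=
    (Unr55.isRegularLocalRing_stalk_iff_of_smooth f x (Scheme.Hom.mem_smoothLocus.1 hx)).2 this
  exact CAlg1.cm_of_isRegularLocalRing _

variable {X : Scheme.{u}} {n : ℕ} {IY : Fin n → X.IdealSheafData}
  (C : KoszSh.Cx (Esum IY) (ssum IY)) (q : ℕ)

/-- A basis of the sum of ideal modules with prescribed values. -/
theorem exists_basis_values (W : X.affineOpens) (y : Fin n → Γ(X, W.1))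
    (hy : ∀ i, y i ∈ nonZeroDivisors Γ(X, W.1)) (hyI : ∀ i, (IY i).ideal W = Ideal.span {y i}) :
    ∃ bs : Module.Basis (Fin n) Γ(X, W.1) Γ(Esum IY, W.1), ∀ i, KoszSh.secForm (ssum IY) W.1 (bs i) = y i := by
  choose e he using fun i => Curves2.exists_idealSect_of_mem (IY i) W
    ((hyI i) ▸ Ideal.mem_span_singleton_self (y i))
  obtain ⟨b, hb⟩ := SecTools.exists_basis_coprod (fun i => ClSub.idealMod (IY i)) W.1 e
    fun i => Curves2.isFrame_of_span (IY i) W (hy i) (hyI i) (e i) (he i)
  refine ⟨b, fun i => ?_⟩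
  rw [hb, KoszSh.secForm_apply]
  refine Eq.trans (congrArg (OmegaSh.fnSect X W.1) ?_) (he i)
  exact app_congr (Sigma.ι_desc (fun i => ClSub.idealModι (IY i)) i) W.1 (e i)

/-- Multiplication by a non-zero-divisor modulo the ideal is injective on homology sections. -/
theorem eq_zero_of_smul (W : X.affineOpens) (y : Fin n → Γ(X, W.1))
    (bs : Module.Basis (Fin n) Γ(X, W.1) Γ(Esum IY, W.1)) (hbs : ∀ i, KoszSh.secForm (ssum IY) W.1 (bs i) = y i)
    (l : List (Fin n)) (hl : l.Nodup) (hreg : IsWeaklyRegular Γ(X, W.1) (l.map y))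
    (hgen : ∀ i, y i ∈ Ideal.ofList (l.map y)) (t : Γ(X, W.1))
    (ht : ∀ r, t * r ∈ Ideal.ofList (l.map y) → r ∈ Ideal.ofList (l.map y))
    (h : Γ(C.K.homology q, W.1)) (hh : t • h = 0) : h = 0 := by
  obtain ⟨z, rfl⟩ := homologyπ_surjective q C W h
  rw [← Scheme.Modules.Hom.app_smul] at hh
  obtain ⟨k, hk⟩ := exists_toCycles_eq q C W _ hh
  set v := C.loc q W ((C.K.iCycles q).app W.1 z) with hv
  have hk' : DR29.contr (KoszSh.secForm (ssum IY) W.1) q (C.loc (q + 1) W k) = t • v := by
    refine (C.loc q W).symm.injective ?_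
    rw [← KoszExact.d_app_eq C q W k, map_smul, hv, LinearEquiv.symm_apply_apply, ← Scheme.Modules.Hom.app_smul, ← hk,
      ← app_comp, app_congr (C.K.toCycles_i (q + 1) q) W.1 k]
  have hdv : CliffordAlgebra.contractLeft (KoszSh.secForm (ssum IY) W.1)
      (v : ExteriorAlgebra Γ(X, W.1) Γ(Esum IY, W.1)) = 0 := by
    cases q with
    | zero =>
      refine ExtKoszul.d_algebraMap _ ?_
      have h1 : (v : ExteriorAlgebra Γ(X, W.1) Γ(Esum IY, W.1)) ∈
          LinearMap.range (ExteriorAlgebra.ι Γ(X, W.1) (M := Γ(Esum IY, W.1))) ^ 0 := v.2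
      rwa [pow_zero] at h1
    | succ p =>
      have h1 : DR29.contr (KoszSh.secForm (ssum IY) W.1) p v = 0 := by
        refine (C.loc p W).symm.injective ?_
        rw [hv, ← KoszExact.d_app_eq C p W, map_zero, ← app_comp, app_congr (C.K.iCycles_d (p + 1) p) W.1 z]
        rfl
      exact congrArg Subtype.val h1
  have e : l.map (fun i => KoszSh.secForm (ssum IY) W.1 (bs i)) = l.map y := List.map_congr_left fun i _ => hbs i
  obtain ⟨k', hk'v⟩ := ExtKoszul.exists_of_smul (KoszSh.secForm (ssum IY) W.1) bs l hl (e ▸ hreg)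
    (fun i => by rw [e, hbs]; exact hgen i) t (fun r hr => by rw [e] at hr ⊢; exact ht r hr) q v hdv
    (C.loc (q + 1) W k) hk'
  have hz : (C.K.toCycles (q + 1) q).app W.1 ((C.loc (q + 1) W).symm k') = z := by
    refine iCycles_app_injective q C W.1 ?_
    rw [← app_comp, app_congr (C.K.toCycles_i (q + 1) q) W.1, KoszExact.d_app_eq, LinearEquiv.apply_symm_apply,
      hk'v, hv, LinearEquiv.symm_apply_apply]
  rw [← hz, ← app_comp, app_congr (C.K.toCycles_comp_homologyπ (q + 1) q) W.1]
  rfl

variable [IsLocallyNoetherian X] {ID : X.IdealSheafData}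

theorem minimal_notMem (hZD : ∀ z : ↥(⨆ i, IY i).subscheme,
      ringKrullDim ((⨆ i, IY i).subscheme.presheaf.stalk z) = 0 →
      (⨆ i, IY i).subschemeι.base z ∉ Set.range ID.subschemeι.base)
    (W : X.affineOpens) (x : Γ(X, W.1)) (hx : ID.ideal W = Ideal.span {x}) (p : X) (hp : p ∈ W.1)
    (P : Ideal (X.presheaf.stalk p)) (hP : P ∈ (Div89.stalkIdeal (⨆ i, IY i) p).minimalPrimes) :
    (X.presheaf.germ W.1 p hp).hom x ∉ P := by
  set J := ⨆ i, IY i
  haveI := hP.1.1
  letI := Div89.stalkAlg W.1 p hp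
  haveI := Div89.isLocalization_stalk W p hp
  intro hxP
  set P' := P.comap (X.presheaf.germ W.1 p hp).hom
  obtain ⟨p', hp', hP'⟩ := Div89.exists_point W P'
  have hJP : J.ideal W ≤ P' := fun a ha =>
    hP.1.2 ((Div89.stalkIdeal_eq J W p hp).ge (Ideal.mem_map_of_mem _ ha))
  have hsupp : p' ∈ J.support := (Div89.mem_support_iff_le J W p' hp').2 (hP' ▸ hJP)
  obtain ⟨z, hz⟩ : p' ∈ Set.range J.subschemeι.base := by
    rw [Scheme.IdealSheafData.range_subschemeι]; exact hsupp
  refine hZD z ?_ ?_
  · have hker : RingHom.ker (J.subschemeι.stalkMap z).hom = Div89.stalkIdeal J (J.subschemeι z) := by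
      rw [FlatMor68.FlatInfNbhd.ker_stalkMap_closedImmersion, Scheme.IdealSheafData.ker_subschemeι]
    rw [← ringKrullDim_eq_of_ringEquiv ((Ideal.quotEquivOfEq hker.symm).trans
      (RingHom.quotientKerEquivOfSurjective (J.subschemeι.stalkMap_surjective z)))]
    rw [show J.subschemeι z = p' from hz, Div89.stalkIdeal_eq J W p' hp', ringKrullDim_quotient]
    letI := Div89.stalkAlg W.1 p' hp'
    haveI := Div89.isLocalization_stalk W p' hp'
    have hq : ∀ a ∈ PrimeSpectrum.zeroLocus
        (((J.ideal W).map (X.presheaf.germ W.1 p' hp').hom : Ideal (X.presheaf.stalk p')) : Set (X.presheaf.stalk p')),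
        a = IsLocalRing.closedPoint (X.presheaf.stalk p') := by
      intro a ha
      have h1 : a.asIdeal.comap (algebraMap Γ(X, W.1) (X.presheaf.stalk p')) ≤ P' := by
        rw [← hP', ← IsLocalization.AtPrime.under_maximalIdeal (X.presheaf.stalk p') (Div89.primeAt W p' hp')]
        exact Ideal.comap_mono (IsLocalRing.le_maximalIdeal a.2.ne_top)
      have h2 : J.ideal W ≤ a.asIdeal.comap (algebraMap Γ(X, W.1) (X.presheaf.stalk p')) :=
        Ideal.map_le_iff_le_comap.1 ha
      set Q := a.asIdeal.comap (algebraMap Γ(X, W.1) (X.presheaf.stalk p'))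
      have hd : Disjoint ((Div89.primeAt W p hp).primeCompl : Set Γ(X, W.1)) (Q : Set Γ(X, W.1)) := by
        rw [Set.disjoint_left]
        intro r hr hrQ
        refine hr ?_
        show r ∈ Div89.primeAt W p hp
        rw [← IsLocalization.AtPrime.to_map_mem_maximal_iff (X.presheaf.stalk p) (Div89.primeAt W p hp) r]
        exact IsLocalRing.le_maximalIdeal hP.1.1.ne_top (h1 hrQ)
      haveI hQp := IsLocalization.isPrime_of_isPrime_disjoint (Div89.primeAt W p hp).primeCompl
        (X.presheaf.stalk p) Q inferInstance hd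
      have h3 : P ≤ Q.map (algebraMap Γ(X, W.1) (X.presheaf.stalk p)) := by
        refine hP.2 ⟨hQp, ?_⟩ ?_
        · rw [Div89.stalkIdeal_eq J W p hp]; exact Ideal.map_mono h2
        · exact Ideal.map_le_iff_le_comap.2 h1
      have h4 : P' ≤ Q := (Ideal.comap_mono h3).trans
        (IsLocalization.comap_map_of_isPrime_disjoint (Div89.primeAt W p hp).primeCompl (X.presheaf.stalk p)
          inferInstance hd).le
      refine PrimeSpectrum.ext ?_
      rw [← IsLocalization.map_comap (Div89.primeAt W p' hp').primeCompl (X.presheaf.stalk p') a.asIdeal]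
      show Ideal.map (algebraMap Γ(X, W.1) (X.presheaf.stalk p'))
        (a.asIdeal.comap (algebraMap Γ(X, W.1) (X.presheaf.stalk p'))) = _
      rw [show a.asIdeal.comap (algebraMap Γ(X, W.1) (X.presheaf.stalk p')) = P' from le_antisymm h1 h4, ← hP',
        IsLocalization.AtPrime.map_eq_maximalIdeal]
      rfl
    have hne : Nonempty (PrimeSpectrum.zeroLocus
        (((J.ideal W).map (X.presheaf.germ W.1 p' hp').hom : Ideal (X.presheaf.stalk p')) : Set (X.presheaf.stalk p'))) :=
      ⟨⟨IsLocalRing.closedPoint _, by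
        rw [← Div89.stalkIdeal_eq J W p' hp']
        exact (Div89.mem_support_iff_stalkIdeal J p').1 hsupp⟩⟩
    have hsub : Subsingleton (PrimeSpectrum.zeroLocus
        (((J.ideal W).map (X.presheaf.germ W.1 p' hp').hom : Ideal (X.presheaf.stalk p')) : Set (X.presheaf.stalk p'))) :=
      ⟨fun a b => Subtype.ext ((hq a.1 a.2).trans (hq b.1 b.2).symm)⟩
    exact Order.krullDim_eq_zero
  · rw [show J.subschemeι.base z = p' from hz, Scheme.IdealSheafData.range_subschemeι]
    exact (Div89.mem_support_iff_le ID W p' hp').2 (by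
      rw [hx, Ideal.span_singleton_le_iff_mem, hP']
      exact hxP)

/-- Multiplication by an equation of a divisor transversal to the intersection is injective on homology. -/
theorem isSMulRegular_homology (hCM : ∀ p : X, LocCoh.IsCohenMacaulayLocalRing (X.presheaf.stalk p))
    (hY : ∀ i, BlowUp.IsEffCartierIdeal (IY i)) (hD : BlowUp.IsEffCartierIdeal ID)
    (hZ : RegImm.IsRegularImmersion RegImm.Kind.regular (⨆ i, IY i).subschemeι)
    (hZD : ∀ z : ↥(⨆ i, IY i).subscheme, ringKrullDim ((⨆ i, IY i).subscheme.presheaf.stalk z) = 0 →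
      (⨆ i, IY i).subschemeι.base z ∉ Set.range ID.subschemeι.base)
    (U : X.affineOpens) (x : Γ(X, U.1)) (hxI : ID.ideal U = Ideal.span {x}) :
    IsSMulRegular Γ(C.K.homology q, U.1) x := by
  refine isSMulRegular_iff_right_eq_zero_of_smul.2 fun h hh => section_ext _ _ _ fun p hpU => ?_
  obtain ⟨W, -, hpW, hWU, -, -, hyW⟩ := exists_good IY ID hY hD U.1 p hpU
  choose y hy hyI using hyW
  obtain ⟨bs, hbs⟩ := exists_basis_values W y hy hyI
  set xW := QC70.resO X hWU x with hxW
  have hh' : xW • QC70.res (C.K.homology q) hWU h = 0 := by rw [← QC70.res_smul, hh, QC70.res_zero]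
  have hxI' : ID.ideal W = Ideal.span {xW} := Div89.ideal_res_span hWU hxI
  set J := ⨆ i, IY i
  have hJW : J.ideal W = Ideal.span (Set.range y) := by
    simp only [J, Scheme.IdealSheafData.ideal_iSup, iSup_apply, hyI]
    rw [← Submodule.span_iUnion, Set.iUnion_singleton_eq_range]
  -- the finish, on a smaller affine open
  have finish : ∀ (V : X.affineOpens) (hVW : V.1 ≤ W.1), p ∈ V.1 → ∀ (l : List (Fin n)), l.Nodup →
      IsWeaklyRegular Γ(X, V.1) (l.map fun i => QC70.resO X hVW (y i)) →
      (∀ i, QC70.resO X hVW (y i) ∈ Ideal.ofList (l.map fun i => QC70.resO X hVW (y i))) →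
      (∀ r, QC70.resO X hVW xW * r ∈ Ideal.ofList (l.map fun i => QC70.resO X hVW (y i)) →
        r ∈ Ideal.ofList (l.map fun i => QC70.resO X hVW (y i))) →
      ∃ (V : X.Opens) (hV : V ≤ U.1), p ∈ V ∧ QC70.res (C.K.homology q) hV h = QC70.res (C.K.homology q) hV 0 := by
    intro V hVW hpV l hl hreg hgen ht
    obtain ⟨bV, hbV⟩ := exists_basis_values (IY := IY) V (fun i => QC70.resO X hVW (y i))
      (fun i => Div89.res_mem_nonZeroDivisors hVW (hy i)) (fun i => Div89.ideal_res_span hVW (hyI i))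
    have h0 := eq_zero_of_smul C q V _ bV hbV l hl hreg hgen (QC70.resO X hVW xW) ht
      (QC70.res (C.K.homology q) hVW (QC70.res (C.K.homology q) hWU h))
      (by rw [← QC70.res_smul, hh', QC70.res_zero])
    refine ⟨V.1, hVW.trans hWU, hpV, ?_⟩
    rw [QC70.res_res] at h0
    rw [h0, QC70.res_zero]
  by_cases hxp : xW ∈ Div89.primeAt W p hpW
  swap
  · refine ⟨X.basicOpen xW, (X.basicOpen_le xW).trans hWU, (Div89.mem_basicOpen_iff_notMem W p hpW xW).2 hxp, ?_⟩
    have hu : IsUnit (QC70.resO X (X.basicOpen_le xW) xW) := RingedSpace.isUnit_res_basicOpen _ xW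
    rw [QC70.res_zero, ← QC70.res_res (h₁ := hWU) (h₂ := X.basicOpen_le xW)]
    refine hu.smul_left_cancel.1 ?_
    rw [← QC70.res_smul, hh', QC70.res_zero, smul_zero]
  by_cases hyp : ∀ i, y i ∈ Div89.primeAt W p hpW
  swap
  · obtain ⟨i, hi⟩ := not_forall.1 hyp
    have hu : IsUnit (QC70.resO X (X.basicOpen_le (y i)) (y i)) := RingedSpace.isUnit_res_basicOpen _ (y i)
    have htop : Ideal.ofList ([i].map fun j => QC70.resO X (X.basicOpen_le (y i)) (y j)) = ⊤ :=
      Ideal.eq_top_of_isUnit_mem _ (Ideal.subset_span (by simp)) hu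
    refine finish (X.affineBasicOpen (y i)) (X.basicOpen_le (y i))
      ((Div89.mem_basicOpen_iff_notMem W p hpW (y i)).2 hi) [i] (List.nodup_singleton i) ?_ (fun j => ?_) fun r _ => ?_
    · rw [List.map_singleton, isWeaklyRegular_singleton_iff]
      exact fun (a b : Γ(X, X.basicOpen (y i))) hab => hu.mul_left_cancel hab
    · exact htop.ge trivial
    · exact htop.ge trivial
  -- the main case
  haveI := hCM p
  haveI : IsNoetherianRing Γ(X, W.1) := IsLocallyNoetherian.component_noetherian W
  letI := Div89.stalkAlg W.1 p hpW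
  haveI := Div89.isLocalization_stalk W p hpW
  have hJp : J.ideal W ≤ Div89.primeAt W p hpW := by
    rw [hJW, Ideal.span_le]; rintro _ ⟨i, rfl⟩; exact hyp i
  have hsupp : p ∈ J.support := (Div89.mem_support_iff_le J W p hpW).2 hJp
  obtain ⟨z, hz⟩ : p ∈ Set.range J.subschemeι.base := by
    rw [Scheme.IdealSheafData.range_subschemeι]; exact hsupp
  obtain ⟨U', hzU', -, rs, hrs, hker⟩ := hZ.2 z
  have hpU' : p ∈ U'.1 := hz ▸ hzU'
  rw [J.ker_subschemeι_app U'] at hker
  letI alg' := Div89.stalkAlg U'.1 p hpU'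
  have hfs : IsWeaklyRegular (X.presheaf.stalk p) (rs.map (X.presheaf.germ U'.1 p hpU').hom) := by
    haveI := Div89.isLocalization_stalk U' p hpU'
    exact hrs.toIsWeaklyRegular.of_isLocalization (X.presheaf.stalk p) (Div89.primeAt U' p hpU').primeCompl
  let yp : Fin n → X.presheaf.stalk p := fun i => (X.presheaf.germ W.1 p hpW).hom (y i)
  have hJst : Div89.stalkIdeal J p = Ideal.span (Set.range yp) := by
    rw [Div89.stalkIdeal_eq J W p hpW, hJW, Ideal.map_span, ← Set.range_comp]
    rfl
  have hgen : Ideal.ofList (rs.map (X.presheaf.germ U'.1 p hpU').hom) = Ideal.span (Set.range yp) := by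
    rw [← hJst, Div89.stalkIdeal_eq J U' p hpU', hker, Ideal.map_ofList]
  obtain ⟨l, hl, hlgen, hlreg⟩ := RegCut.exists_regular_append yp _ hfs hgen
    (hJst ▸ (Div89.mem_support_iff_stalkIdeal J p).1 hsupp) ((X.presheaf.germ W.1 p hpW).hom xW)
    ((IsLocalization.AtPrime.to_map_mem_maximal_iff (X.presheaf.stalk p) (Div89.primeAt W p hpW) xW).2 hxp)
    (fun P hP => minimal_notMem hZD W xW hxI' p hpW P (hJst ▸ hP))
  obtain ⟨g, hg, hspec⟩ := RegCut.exists_away (Div89.primeAt W p hpW) (l.map y ++ [xW]) (l.map y) (J.ideal W)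
    (by
      rw [hJW, Ideal.ofList]
      refine Ideal.span_mono ?_
      intro r hr
      obtain ⟨i, -, rfl⟩ := List.mem_map.1 hr
      exact ⟨i, rfl⟩)
    (X.presheaf.stalk p)
    (by
      rw [Ideal.map_ofList, List.map_map]
      refine le_of_eq ?_
      rw [show (algebraMap Γ(X, W.1) (X.presheaf.stalk p) ∘ y) = yp from rfl, hlgen, hJW, Ideal.map_span,
        ← Set.range_comp]
      rfl)
    (by rw [List.map_append, List.map_map, List.map_singleton]; exact hlreg)
  letI : Algebra Γ(X, W.1) Γ(X, X.basicOpen g) :=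
    (X.presheaf.map (homOfLE (X.basicOpen_le g)).op).hom.toAlgebra
  obtain ⟨hVreg, hVgen⟩ := hspec Γ(X, X.basicOpen g) (W.2.isLocalization_basicOpen g)
  rw [List.map_append, List.map_map, List.map_singleton] at hVreg
  rw [List.map_map] at hVgen
  refine finish (X.affineBasicOpen g) (X.basicOpen_le g) ((Div89.mem_basicOpen_iff_notMem W p hpW g).2 hg) l hl
    (RegCut.of_append_left hVreg) (fun i => ?_) (fun r hr => RegCut.regular_last hVreg r hr)
  exact hVgen.le (Ideal.mem_map_of_mem _ (hJW ▸ Ideal.subset_span ⟨i, rfl⟩))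

end Groth.Agent.LC15.KoszLci
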