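import Groth.Agent.Amp73.TensorFrame
import Groth.Agent.Mero90.TensorLift
import Groth.Agent.QC70.Closure
import Groth.Agent.QC70.Colim
import Groth.Agent.Curves2.IdealFrame
import Groth.Agent.QCPull72.Closed
import Mathlib.CategoryTheory.Limits.Shapes.ConcreteCategory

/-!
Sections over affine opens: exactness, fibre products, finite coproducts with frames, twisting by powers of
an ideal module, restriction to a closed subscheme.
-/

set_option autoImplicit false
set_option backward.isDefEq.respectTransparency false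
set_option linter.style.haveILetI false

noncomputable section

universe u

open CategoryTheory CategoryTheory.Limits AlgebraicGeometry TopologicalSpace Opposite

namespace Groth.Agent.LC15.SecTools

open Groth.Agent QC70 Var76.LineBundle

variable {X : Scheme.{u}} {L M N : X.Modules}

/-- Sections over an affine open are exact for quasi-coherent modules. -/
theorem exists_app_eq_affine (S : ShortComplex X.Modules) (hS : S.Exact)
    [S.X₁.IsQuasicoherent] [S.X₂.IsQuasicoherent] [S.X₃.IsQuasicoherent] {U : X.Opens} (hU : IsAffineOpen U)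
    (x : Γ(S.X₂, U)) (hx : S.g.app U x = 0) : ∃ y, S.f.app U y = x := by
  obtain ⟨z, rfl⟩ := QC70.exists_kernel_app_eq S.g U x hx
  haveI : Epi (kernel.lift S.g S.f S.zero) := (S.exact_iff_epi_kernel_lift).1 hS
  haveI : (kernel S.g).IsQuasicoherent := QC70.isQuasicoherent_kernel S.g
  let T := ShortComplex.mk (kernel.ι (kernel.lift S.g S.f S.zero)) (kernel.lift S.g S.f S.zero) (kernel.condition _)
  haveI : T.X₁.IsQuasicoherent := QC70.isQuasicoherent_kernel _
  have hT : T.ShortExact :=
    { exact := ShortComplex.exact_of_f_is_kernel _ (kernelIsKernel _)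
      mono_f := inferInstanceAs (Mono (kernel.ι _))
      epi_g := inferInstanceAs (Epi (kernel.lift S.g S.f S.zero)) }
  obtain ⟨y, hy⟩ := QC70.app_surjective_of_isAffineOpen T hT hU z
  refine ⟨y, ?_⟩
  rw [← hy]
  exact (congr($(congrArg (fun φ => Scheme.Modules.Hom.app φ U) (kernel.lift_ι S.g S.f S.zero)) y)).symm

/-- Sections of a fibre product. -/
theorem exists_pullback_app (f : L ⟶ N) (g : M ⟶ N) (U : X.Opens) (a : Γ(L, U)) (b : Γ(M, U))
    (h : f.app U a = g.app U b) :
    ∃ p : Γ(pullback f g, U), (pullback.fst f g).app U p = a ∧ (pullback.snd f g).app U p = b := by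
  let G := QC70.sectionsFunctor X U
  let z := Concrete.pullbackMk (G.map f) (G.map g) a b h
  refine ⟨(PreservesPullback.iso G f g).inv z, ?_, ?_⟩
  · have h1 := congr($(PreservesPullback.iso_inv_fst G f g) z)
    exact h1.trans (Concrete.pullbackMk_fst _ _ _ _ _)
  · have h1 := congr($(PreservesPullback.iso_inv_snd G f g) z)
    exact h1.trans (Concrete.pullbackMk_snd _ _ _ _ _)

theorem pullback_app_ext (f : L ⟶ N) (g : M ⟶ N) (U : X.Opens) (p p' : Γ(pullback f g, U))
    (h1 : (pullback.fst f g).app U p = (pullback.fst f g).app U p')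
    (h2 : (pullback.snd f g).app U p = (pullback.snd f g).app U p') : p = p' := by
  let G := QC70.sectionsFunctor X U
  have hinj : Function.Injective (PreservesPullback.iso G f g).hom :=
    (ConcreteCategory.bijective_of_isIso (PreservesPullback.iso G f g).hom).1
  refine hinj ?_
  obtain ⟨a, b, hab, e⟩ := Concrete.pullbackMk_surjective (G.map f) (G.map g) ((PreservesPullback.iso G f g).hom p)
  obtain ⟨a', b', hab', e'⟩ := Concrete.pullbackMk_surjective (G.map f) (G.map g) ((PreservesPullback.iso G f g).hom p')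
  have ha : a = a' := by
    have u1 := congr($(PreservesPullback.iso_hom_fst G f g) p)
    have u2 := congr($(PreservesPullback.iso_hom_fst G f g) p')
    have v1 : pullback.fst (G.map f) (G.map g) ((PreservesPullback.iso G f g).hom p) = (pullback.fst f g).app U p := u1
    have v2 : pullback.fst (G.map f) (G.map g) ((PreservesPullback.iso G f g).hom p') = (pullback.fst f g).app U p' := u2
    rw [e, Concrete.pullbackMk_fst] at v1
    rw [e', Concrete.pullbackMk_fst] at v2
    rw [v1, v2, h1]
  have hb : b = b' := by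
    have u1 := congr($(PreservesPullback.iso_hom_snd G f g) p)
    have u2 := congr($(PreservesPullback.iso_hom_snd G f g) p')
    have v1 : pullback.snd (G.map f) (G.map g) ((PreservesPullback.iso G f g).hom p) = (pullback.snd f g).app U p := u1
    have v2 : pullback.snd (G.map f) (G.map g) ((PreservesPullback.iso G f g).hom p') = (pullback.snd f g).app U p' := u2
    rw [e, Concrete.pullbackMk_snd] at v1
    rw [e', Concrete.pullbackMk_snd] at v2
    rw [v1, v2, h2]
  subst ha hb
  rw [e, e']

section Coprod

variable {n : ℕ} (F : Fin n → X.Modules)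

/-- Frames of the summands give a basis of the sections of a finite coproduct. -/
theorem exists_basis_coprod (U : X.Opens) (e : ∀ i, Γ(F i, U)) (he : ∀ i, IsFrame (F i) U (e i)) :
    ∃ b : Module.Basis (Fin n) Γ(X, U) Γ((∐ F), U), ∀ i, b i = (Sigma.ι F i).app U (e i) := by
  classical
  let pr : ∀ i, (∐ F) ⟶ F i := fun i => Sigma.desc fun j =>
    if h : j = i then eqToHom (by rw [h]) else 0
  have hpr : ∀ i, Sigma.ι F i ≫ pr i = 𝟙 _ := fun i => by simp [pr]
  have hpr' : ∀ i j, j ≠ i → Sigma.ι F j ≫ pr i = 0 := fun i j h => by simp [pr, h]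
  have htot : (∑ i, pr i ≫ Sigma.ι F i) = 𝟙 _ := by
    refine Sigma.hom_ext _ _ fun j => ?_
    rw [Preadditive.comp_sum, Category.comp_id]
    refine (Finset.sum_eq_single j (fun i _ hij => ?_) (by simp)).trans ?_
    · rw [← Category.assoc, hpr' i j (Ne.symm hij), zero_comp]
    · rw [← Category.assoc, hpr, Category.id_comp]
  have hbij : Function.Bijective (Fintype.linearCombination Γ(X, U) fun i => (Sigma.ι F i).app U (e i)) := by
    have hval : ∀ (a : Fin n → Γ(X, U)) (j : Fin n),
        (pr j).app U (Fintype.linearCombination Γ(X, U) (fun i => (Sigma.ι F i).app U (e i)) a) = a j • e j := by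
      intro a j
      rw [Fintype.linearCombination_apply, map_sum, Finset.sum_eq_single j]
      · rw [Scheme.Modules.Hom.app_smul]
        exact congrArg (a j • ·) (congr($(congrArg (fun φ => Scheme.Modules.Hom.app φ U) (hpr j)) (e j)))
      · intro i _ hij
        rw [Scheme.Modules.Hom.app_smul]
        exact (congrArg (a i • ·) (congr($(congrArg (fun φ => Scheme.Modules.Hom.app φ U) (hpr' j i hij)) (e i)))).trans
          (smul_zero _)
      · simp
    refine ⟨fun a a' h => funext fun j => ?_, fun z => ?_⟩
    · have h1 : a j • QC70.res (F j) le_rfl (e j) = a' j • QC70.res (F j) le_rfl (e j) := by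
        rw [QC70.res_self, ← hval, ← hval, h]
      exact (he j U le_rfl).1 h1
    · choose a ha using fun i => (he i U le_rfl).2 ((pr i).app U z)
      refine ⟨a, ?_⟩
      let ev : ((∐ F) ⟶ (∐ F)) →+ Γ((∐ F), U) := AddMonoidHom.mk' (fun ψ => ψ.app U z) (fun _ _ => rfl)
      calc _ = ∑ i, ev (pr i ≫ Sigma.ι F i) := by
            rw [Fintype.linearCombination_apply]
            refine Finset.sum_congr rfl fun i _ => ?_
            show _ = (Sigma.ι F i).app U ((pr i).app U z)
            rw [← ha i, ← Scheme.Modules.Hom.app_smul]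
            exact congrArg (fun t => (Sigma.ι F i).app U (a i • t)) (QC70.res_self _).symm
        _ = ev (∑ i, pr i ≫ Sigma.ι F i) := (map_sum _ _ _).symm
        _ = z := by rw [htot]; rfl
  refine ⟨Module.Basis.ofEquivFun (LinearEquiv.ofBijective _ hbij).symm, fun j => ?_⟩
  rw [Module.Basis.coe_ofEquivFun, LinearEquiv.symm_symm]
  show Fintype.linearCombination Γ(X, U) _ (Pi.single j 1) = _
  rw [Fintype.linearCombination_apply_single, one_smul]

theorem isQuasicoherent_coprod_fin (h : ∀ i, (F i).IsQuasicoherent) : (∐ F).IsQuasicoherent := by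
  have e : (∐ fun i : ULift.{u} (Fin n) => F i.down) ≅ ∐ F :=
    Sigma.whiskerEquiv (Equiv.ulift.{u, 0} (α := Fin n)) (fun _ => Iso.refl _)
  exact QC70.isQuasicoherent_of_iso e (QC70.isQuasicoherent_coproduct _ fun i => h i.down)

end Coprod

section Twist

/-- Evaluating the second factor. -/
def mulPair (τ : N ⟶ Coh.structureModule X) (M : X.Modules) : Mero90.Pairing M N M where
  b U m a := OmegaSh.fnSect X U (τ.app U a) • m
  add_left _ _ _ _ := smul_add _ _ _
  add_right U m a a' := by simp only [map_add, add_smul]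
  smul_left U r m a := smul_comm _ _ _
  smul_right U r m a := by
    rw [Scheme.Modules.Hom.app_smul, ← mul_smul]
    rfl
  nat U V h m a := by
    show OmegaSh.fnSect X V (τ.app V (QC70.res N h a)) • QC70.res M h m = QC70.res M h (OmegaSh.fnSect X U (τ.app U a) • m)
    rw [QC70.res_smul, QC70.app_res]
    rfl

def mulHom (τ : N ⟶ Coh.structureModule X) (M : X.Modules) : CohB1.tensorMod M N ⟶ M := (mulPair τ M).lift

theorem mulHom_tm (τ : N ⟶ Coh.structureModule X) (M : X.Modules) (U : X.Opens) (m : Γ(M, U)) (a : Γ(N, U)) :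
    (mulHom τ M).app U (Amp73.tm M N m a) = OmegaSh.fnSect X U (τ.app U a) • m :=
  (mulPair τ M).lift_tmul U m a

/-- `a ⊗ id`. -/
def mapPair (a : L ⟶ M) (N : X.Modules) : Mero90.Pairing L N (CohB1.tensorMod M N) where
  b U l c := Amp73.tm M N (a.app U l) c
  add_left U l l' c := by rw [map_add, Amp73.tm_add_left]
  add_right U l c c' := Amp73.tm_add_right _ _ _
  smul_left U r l c := by rw [Scheme.Modules.Hom.app_smul, Amp73.tm_smul_left]
  smul_right U r l c := Amp73.tm_smul_right _ _ _
  nat U V h l c := by
    refine Eq.trans ?_ (Amp73.res_tm h (a.app U l) c).symm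
    exact congrArg (fun t => Amp73.tm M N t _) (QC70.app_res a h l)

def mapLeft (a : L ⟶ M) (N : X.Modules) : CohB1.tensorMod L N ⟶ CohB1.tensorMod M N := (mapPair a N).lift

theorem mapLeft_tm (a : L ⟶ M) (N : X.Modules) (U : X.Opens) (l : Γ(L, U)) (c : Γ(N, U)) :
    (mapLeft a N).app U (Amp73.tm L N l c) = Amp73.tm M N (a.app U l) c :=
  (mapPair a N).lift_tmul U l c

variable (I : X.IdealSheafData)

/-- The map from the tensor power of an ideal module to functions. -/
def powι : ∀ q : ℕ, CohB1.tensorPow (ClSub.idealMod I) q ⟶ Coh.structureModule X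
  | 0 => 𝟙 _
  | q + 1 => mulHom (ClSub.idealModι I) (CohB1.tensorPow (ClSub.idealMod I) q) ≫ powι q

theorem exists_frame_pow (U : X.affineOpens) {x : Γ(X, U.1)} (hx : x ∈ nonZeroDivisors Γ(X, U.1))
    (hI : I.ideal U = Ideal.span {x}) : ∀ q : ℕ, ∃ ξ : Γ(CohB1.tensorPow (ClSub.idealMod I) q, U.1),
      IsFrame (CohB1.tensorPow (ClSub.idealMod I) q) U.1 ξ ∧ OmegaSh.fnSect X U.1 ((powι I q).app U.1 ξ) = x ^ q
  | 0 => ⟨OmegaSh.strSect X U.1 1, fun V h => by
      show Function.Bijective fun a : Γ(X, V) => a * X.presheaf.map (homOfLE h).op (1 : Γ(X, U.1))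
      simp only [map_one, mul_one]
      exact Function.bijective_id, (pow_zero x).symm⟩
  | q + 1 => by
    obtain ⟨ξ, hξ, hξx⟩ := exists_frame_pow U hx hI q
    obtain ⟨m, hm⟩ := Curves2.exists_idealSect_of_mem I U (hI ▸ Ideal.mem_span_singleton_self x)
    refine ⟨Amp73.tm _ _ ξ m, Amp73.isFrame_tm hξ (Curves2.isFrame_of_span I U hx hI m hm), ?_⟩
    show OmegaSh.fnSect X U.1 ((powι I q).app U.1
      ((mulHom (ClSub.idealModι I) (CohB1.tensorPow (ClSub.idealMod I) q)).app U.1 (Amp73.tm _ _ ξ m))) = _
    rw [mulHom_tm, Scheme.Modules.Hom.app_smul, pow_succ', ← hξx]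
    show OmegaSh.idealSect I U.1 m * _ = _
    rw [hm]
    rfl

end Twist

section Restrict

variable (I : X.IdealSheafData) (M : X.Modules) [M.IsQuasicoherent]

/-- restriction to the closed subscheme followed by direct image -/
abbrev unitTo : M ⟶ (Scheme.Modules.pullback I.subschemeι ⋙ Scheme.Modules.pushforward I.subschemeι).obj M :=
  (Scheme.Modules.pullbackPushforwardAdjunction I.subschemeι).unit.app M

theorem unitTo_surjective (U : X.affineOpens) : Function.Surjective ((unitTo I M).app U.1) :=
  QCPull72.pullUnit_app_surjective I.subschemeι M U.2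

theorem unitTo_eq_zero_iff (U : X.affineOpens) {x : Γ(X, U.1)} (hI : I.ideal U = Ideal.span {x})
    (m : Γ(M, U.1)) : (unitTo I M).app U.1 m = 0 ↔ ∃ w : Γ(M, U.1), x • w = m := by
  constructor
  · intro h
    have h1 := QCPull72.pullUnit_app_eq_zero I.subschemeι M (U := U) h
    rw [Scheme.IdealSheafData.ker_subschemeι, hI, Submodule.ideal_span_singleton_smul,
      Submodule.mem_smul_pointwise_iff_exists] at h1
    obtain ⟨w, -, hw⟩ := h1
    exact ⟨w, hw⟩
  · rintro ⟨w, rfl⟩
    show OmegaSh.pullSect I.subschemeι M U.1 (x • w) = 0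
    rw [OmegaSh.pullSect_smul, show I.subschemeι.app U.1 x = 0 from ?_, zero_smul]
    have : x ∈ RingHom.ker (I.subschemeι.app U.1).hom := by
      rw [I.ker_subschemeι_app U, hI]; exact Ideal.mem_span_singleton_self x
    exact this

end Restrict

end Groth.Agent.LC15.SecTools
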