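import Groth.Agent.LC15.KoszMap
import Groth.Agent.LC15.SecTools
import Groth.Agent.LC15.IdealIncl
import Groth.Agent.Om3.Chart
import Mathlib.LinearAlgebra.ExteriorPower.Basis
import Mathlib.RingTheory.Flat.TorsionFree

/-!
Koszul complexes of divisors twisted by a further effective Cartier divisor.
-/

set_option autoImplicit false
set_option backward.isDefEq.respectTransparency false
set_option linter.style.haveILetI false

noncomputable section

universe u

open CategoryTheory CategoryTheory.Limits AlgebraicGeometry TopologicalSpace Opposite exteriorPower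

namespace Groth.Agent.LC15.KoszTwist

open Groth.Agent QC70

/-- `Λ^p (x • f) = x ^ p • Λ^p f`. -/
theorem map_smul_apply {R M N : Type u} [CommRing R] [AddCommGroup M] [Module R M] [AddCommGroup N] [Module R N]
    (p : ℕ) (x : R) (f : M →ₗ[R] N) (z : ↥(⋀[R]^p M)) :
    exteriorPower.map p (x • f) z = x ^ p • exteriorPower.map p f z := by
  refine LinearMap.congr_fun (f := exteriorPower.map p (x • f)) (g := x ^ p • exteriorPower.map p f)
    (exteriorPower.linearMap_ext ?_) z
  ext e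
  show ((exteriorPower.map p (x • f) (ιMulti R p e) : ↥(⋀[R]^p N)) : ExteriorAlgebra R N) =
    ((x ^ p • exteriorPower.map p f (ιMulti R p e) : ↥(⋀[R]^p N)) : ExteriorAlgebra R N)
  refine congrArg Subtype.val ?_
  rw [exteriorPower.map_apply_ιMulti, exteriorPower.map_apply_ιMulti,
    show ((x • f) ∘ e) = fun j => x • f (e j) from rfl, AlternatingMap.map_smul_univ]
  simp [Function.comp_def]

theorem map_equiv_bijective {R M N : Type u} [CommRing R] [AddCommGroup M] [Module R M] [AddCommGroup N] [Module R N]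
    (p : ℕ) (e : M ≃ₗ[R] N) : Function.Bijective (exteriorPower.map p (e : M →ₗ[R] N)) := by
  refine Function.bijective_iff_has_inverse.2 ⟨exteriorPower.map p (e.symm : N →ₗ[R] M), fun z => ?_, fun z => ?_⟩
  · rw [← LinearMap.comp_apply, ← exteriorPower.map_comp, LinearEquiv.symm_comp, exteriorPower.map_id]; rfl
  · rw [← LinearMap.comp_apply, ← exteriorPower.map_comp, LinearEquiv.comp_symm, exteriorPower.map_id]; rfl

variable {X : Scheme.{u}} {n : ℕ} (IY : Fin n → X.IdealSheafData) (ID : X.IdealSheafData)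

abbrev Esum (J : Fin n → X.IdealSheafData) : X.Modules := ∐ fun i => ClSub.idealMod (J i)

abbrev ssum (J : Fin n → X.IdealSheafData) : Esum J ⟶ Coh.structureModule X :=
  Sigma.desc fun i => ClSub.idealModι (J i)

abbrev IYD : Fin n → X.IdealSheafData := fun i => IY i * ID

theorem isQuasicoherent_Esum (J : Fin n → X.IdealSheafData) : (Esum J).IsQuasicoherent :=
  SecTools.isQuasicoherent_coprod_fin _ fun _ => Omega57.isQuasicoherent_idealMod _

/-- An affine open on which all the ideals are generated by non-zero-divisors. -/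
def IsGood (W : X.affineOpens) (x : Γ(X, W.1)) : Prop :=
  x ∈ nonZeroDivisors Γ(X, W.1) ∧ ID.ideal W = Ideal.span {x} ∧
    ∀ i, ∃ y ∈ nonZeroDivisors Γ(X, W.1), (IY i).ideal W = Ideal.span {y}

theorem exists_good (hY : ∀ i, BlowUp.IsEffCartierIdeal (IY i)) (hD : BlowUp.IsEffCartierIdeal ID)
    (O : X.Opens) (p : X) (hp : p ∈ O) :
    ∃ (W : X.affineOpens) (x : Γ(X, W.1)), p ∈ W.1 ∧ W.1 ≤ O ∧ IsGood IY ID W x := by
  obtain ⟨U, hpU, f, hf, hfD⟩ := hD p
  choose V hpV g hg hgY using fun i => hY i p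
  obtain ⟨W, hpW, hW⟩ := Div89.exists_affine_le (x := p) (U := O ⊓ U.1 ⊓ ⨅ i, (V i).1)
    ⟨⟨hp, hpU⟩, by simpa [← SetLike.mem_coe, TopologicalSpace.Opens.coe_iInf] using hpV⟩
  have hU : W.1 ≤ U.1 := fun z hz => (hW hz).1.2
  have hV : ∀ i, W.1 ≤ (V i).1 := fun i => (hW.trans inf_le_right).trans (iInf_le _ i)
  exact ⟨W, _, hpW, fun z hz => (hW hz).1.1, Div89.res_mem_nonZeroDivisors hU hf, Div89.ideal_res_span hU hfD,
    fun i => ⟨_, Div89.res_mem_nonZeroDivisors (hV i) (hg i), Div89.ideal_res_span (hV i) (hgY i)⟩⟩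

def inclD (i : Fin n) : ClSub.idealMod (IY i * ID) ⟶ ClSub.idealMod (IY i) :=
  IdealIncl.idealLE (J := IY i * ID) (I := IY i)
    fun U => by rw [Scheme.IdealSheafData.ideal_mul, Pi.mul_apply]; exact Ideal.mul_le_left

theorem idealSect_inclD (i : Fin n) (U : X.Opens) (m : Γ(ClSub.idealMod (IY i * ID), U)) :
    OmegaSh.idealSect (IY i) U ((inclD IY ID i).app U m) = OmegaSh.idealSect (IY i * ID) U m :=
  IdealIncl.idealSect_idealLE _ U m

theorem inclD_ι (i : Fin n) : inclD IY ID i ≫ ClSub.idealModι (IY i) = ClSub.idealModι (IY i * ID) :=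
  IdealIncl.idealLE_ι _

/-- The map of cosections. -/
@[irreducible] def gMap : Esum (IYD IY ID) ⟶ Esum IY :=
  Limits.Sigma.map fun i => inclD IY ID i

theorem ι_gMap (i : Fin n) :
    Sigma.ι (fun i => ClSub.idealMod (IY i * ID)) i ≫ gMap IY ID =
      inclD IY ID i ≫ Sigma.ι (fun i => ClSub.idealMod (IY i)) i := by
  unfold gMap
  exact Sigma.ι_map _ i

theorem gMap_ι : gMap IY ID ≫ ssum IY = ssum (IYD IY ID) := by
  refine Sigma.hom_ext _ _ fun i => ?_
  rw [← Category.assoc, ι_gMap, Category.assoc, Sigma.ι_desc, Sigma.ι_desc, inclD_ι]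

theorem inclD_app_gen {W : X.affineOpens} {x : Γ(X, W.1)} (i : Fin n) {y : Γ(X, W.1)}
    (e : Γ(ClSub.idealMod (IY i), W.1)) (he : OmegaSh.idealSect (IY i) W.1 e = y)
    (e' : Γ(ClSub.idealMod (IY i * ID), W.1)) (he' : OmegaSh.idealSect (IY i * ID) W.1 e' = y * x) :
    (inclD IY ID i).app W.1 e' = x • e := by
  refine Omega57.idealSect_injective (IY i) W.1 ?_
  rw [idealSect_inclD, he', Omega57.idealSect_smul, he, mul_comm]

theorem gMap_app_gen {W : X.affineOpens} {x : Γ(X, W.1)} (i : Fin n) {y : Γ(X, W.1)}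
    (e : Γ(ClSub.idealMod (IY i), W.1)) (he : OmegaSh.idealSect (IY i) W.1 e = y)
    (e' : Γ(ClSub.idealMod (IY i * ID), W.1)) (he' : OmegaSh.idealSect (IY i * ID) W.1 e' = y * x) :
    KoszMap.secHom (gMap IY ID) W.1
        ((Sigma.ι (fun i => ClSub.idealMod (IY i * ID)) i).app W.1 e') =
      x • (Sigma.ι (fun i => ClSub.idealMod (IY i)) i).app W.1 e := by
  show (Sigma.ι (fun i => ClSub.idealMod (IY i * ID)) i ≫ gMap IY ID).app W.1 e' = _
  rw [ι_gMap, ← Scheme.Modules.Hom.app_smul, ← inclD_app_gen IY ID i e he e' he']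
  rfl

theorem exists_secHom_gMap {W : X.affineOpens} {x : Γ(X, W.1)} (hW : IsGood IY ID W x) :
    ∃ (_ : Module.Basis (Fin n) Γ(X, W.1) Γ(Esum IY, W.1))
      (θ : Γ(Esum (IYD IY ID), W.1) ≃ₗ[Γ(X, W.1)] Γ(Esum IY, W.1)),
      KoszMap.secHom (gMap IY ID) W.1 = x • (θ : Γ(Esum (IYD IY ID), W.1) →ₗ[Γ(X, W.1)] Γ(Esum IY, W.1)) := by
  obtain ⟨hx, hD, hY⟩ := hW
  choose y hy hyI using hY
  have hyx : ∀ i, (IY i * ID).ideal W = Ideal.span {y i * x} := fun i => by
    rw [Scheme.IdealSheafData.ideal_mul, Pi.mul_apply, hyI, hD, Ideal.span_singleton_mul_span_singleton]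
  choose e he using fun i => Curves2.exists_idealSect_of_mem (IY i) W
    ((hyI i) ▸ Ideal.mem_span_singleton_self (y i))
  choose e' he' using fun i => Curves2.exists_idealSect_of_mem (IY i * ID) W
    ((hyx i) ▸ Ideal.mem_span_singleton_self (y i * x))
  obtain ⟨b, hb⟩ := SecTools.exists_basis_coprod (fun i => ClSub.idealMod (IY i)) W.1 e
    fun i => Curves2.isFrame_of_span (IY i) W (hy i) (hyI i) (e i) (he i)
  obtain ⟨b', hb'⟩ := SecTools.exists_basis_coprod (fun i => ClSub.idealMod (IY i * ID)) W.1 e'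
    fun i => Curves2.isFrame_of_span (IY i * ID) W (mul_mem (hy i) hx) (hyx i) (e' i) (he' i)
  refine ⟨b, b'.equiv b (Equiv.refl _), b'.ext fun i => ?_⟩
  have key := gMap_app_gen IY ID i (e i) (he i) (e' i) (he' i)
  rw [← hb' i, ← hb i] at key
  refine key.trans ?_
  rw [LinearMap.smul_apply, LinearEquiv.coe_coe, Module.Basis.equiv_apply, Equiv.refl_apply]

variable {IY ID}
variable (C : KoszSh.Cx (Esum IY) (ssum IY)) (C' : KoszSh.Cx (Esum (IYD IY ID)) (ssum (IYD IY ID)))

/-- The comparison of the complexes. -/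
def phi : C'.K ⟶ C.K :=
  haveI := isQuasicoherent_Esum (IYD IY ID)
  (KoszMap.existsUnique_map C' C (gMap IY ID) (gMap_ι IY ID)).exists.choose

theorem phi_app (p : ℕ) (U : X.affineOpens) (m : Γ(C'.K.X p, U.1)) :
    ((phi C C').f p).app U.1 m = KoszMap.locMap C' C (gMap IY ID) p U m := by
  haveI := isQuasicoherent_Esum (IYD IY ID)
  have h := (KoszMap.existsUnique_map C' C (gMap IY ID) (gMap_ι IY ID)).exists.choose_spec p U
  obtain ⟨z, rfl⟩ := (C'.loc p U).symm.surjective m
  have hz : z ∈ Submodule.span Γ(X, U.1) (Set.range (ιMulti Γ(X, U.1) p)) :=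
    (ιMulti_span Γ(X, U.1) p Γ(Esum (IYD IY ID), U.1)).ge trivial
  induction hz using Submodule.span_induction with
  | mem z hz =>
    obtain ⟨e, rfl⟩ := hz
    rw [KoszMap.locMap_gen]
    exact h e
  | zero => simp only [map_zero]
  | add a b _ _ ha hb => simp only [map_add, ha, hb]
  | smul r a _ ha => simp only [map_smul, Scheme.Modules.Hom.app_smul, ha]

variable {W : X.affineOpens} {x : Γ(X, W.1)} (hW : IsGood IY ID W x)
include hW

theorem isSMulRegular_K (p k : ℕ) : IsSMulRegular Γ(C.K.X p, W.1) (x ^ k) := by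
  obtain ⟨b, -⟩ := exists_secHom_gMap IY ID hW
  haveI := Module.Free.of_basis b
  haveI : Module.Free Γ(X, W.1) Γ(C.K.X p, W.1) := Module.Free.of_equiv (C.loc p W).symm
  exact Module.Flat.isSMulRegular_of_nonZeroDivisors (pow_mem hW.1 k)

theorem exists_phi_eq (p : ℕ) (k : Γ(C.K.X p, W.1)) :
    ∃ m, ((phi C C').f p).app W.1 m = x ^ p • k := by
  obtain ⟨-, θ, hθ⟩ := exists_secHom_gMap IY ID hW
  obtain ⟨z, hz⟩ := (map_equiv_bijective p θ).2 (C.loc p W k)
  refine ⟨(C'.loc p W).symm z, ?_⟩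
  rw [phi_app]
  show (C.loc p W).symm (exteriorPower.map p (KoszMap.secHom (gMap IY ID) W.1) (C'.loc p W ((C'.loc p W).symm z))) = _
  rw [LinearEquiv.apply_symm_apply, hθ, map_smul_apply, hz, map_smul, LinearEquiv.symm_apply_apply]

theorem exists_eq_phi (p : ℕ) (m : Γ(C'.K.X p, W.1)) :
    ∃ k, ((phi C C').f p).app W.1 m = x ^ p • k := by
  obtain ⟨-, θ, hθ⟩ := exists_secHom_gMap IY ID hW
  refine ⟨(C.loc p W).symm (exteriorPower.map p (θ : Γ(Esum (IYD IY ID), W.1) →ₗ[Γ(X, W.1)] Γ(Esum IY, W.1))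
    (C'.loc p W m)), ?_⟩
  rw [phi_app]
  show (C.loc p W).symm (exteriorPower.map p (KoszMap.secHom (gMap IY ID) W.1) (C'.loc p W m)) = _
  rw [hθ, map_smul_apply, map_smul]

theorem phi_injective (p : ℕ) : Function.Injective (((phi C C').f p).app W.1) := by
  obtain ⟨-, θ, hθ⟩ := exists_secHom_gMap IY ID hW
  intro a b hab
  rw [phi_app, phi_app] at hab
  replace hab : (C.loc p W).symm (exteriorPower.map p (KoszMap.secHom (gMap IY ID) W.1) (C'.loc p W a)) =
      (C.loc p W).symm (exteriorPower.map p (KoszMap.secHom (gMap IY ID) W.1) (C'.loc p W b)) := hab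
  rw [hθ, map_smul_apply, map_smul_apply, map_smul, map_smul] at hab
  exact (C'.loc p W).injective ((map_equiv_bijective p θ).1 ((C.loc p W).symm.injective
    (isSMulRegular_K C hW p p hab)))

end Groth.Agent.LC15.KoszTwist
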