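import Groth.Agent.LC15.KoszTwist

/-!
Homology of twisted Koszul complexes as a fibre product.
-/

set_option autoImplicit false
set_option backward.isDefEq.respectTransparency false
set_option linter.style.haveILetI false

noncomputable section

universe u

open CategoryTheory CategoryTheory.Limits AlgebraicGeometry TopologicalSpace Opposite

namespace Groth.Agent.LC15.KoszTwist

open Groth.Agent QC70

variable {X : Scheme.{u}} {n : ℕ} {IY : Fin n → X.IdealSheafData} {ID : X.IdealSheafData}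
variable (C : KoszSh.Cx (Esum IY) (ssum IY)) (C' : KoszSh.Cx (Esum (IYD IY ID)) (ssum (IYD IY ID))) (q : ℕ)

/-- Composites on sections. -/
theorem app_comp {L M N : X.Modules} (f : L ⟶ M) (g : M ⟶ N) (U : X.Opens) (m : Γ(L, U)) :
    (f ≫ g).app U m = g.app U (f.app U m) := rfl

theorem app_congr {L M : X.Modules} {f g : L ⟶ M} (h : f = g) (U : X.Opens) (m : Γ(L, U)) :
    f.app U m = g.app U m := by rw [h]

theorem iCycles_app_injective {J : Fin n → X.IdealSheafData} (K : KoszSh.Cx (Esum J) (ssum J)) (U : X.Opens) :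
    Function.Injective ((K.K.iCycles q).app U) :=
  QC70.app_injective_of_mono _ U

theorem exists_iCycles_eq {J : Fin n → X.IdealSheafData} (K : KoszSh.Cx (Esum J) (ssum J)) (U : X.Opens)
    (k : Γ(K.K.X q, U)) (hk : (K.K.d q ((ComplexShape.down ℕ).next q)).app U k = 0) :
    ∃ z, (K.K.iCycles q).app U z = k := by
  let S := ShortComplex.mk (K.K.iCycles q) (K.K.d q ((ComplexShape.down ℕ).next q)) (K.K.iCycles_d q _)
  haveI : Mono S.f := inferInstanceAs (Mono (K.K.iCycles q))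
  exact QC70.exists_app_eq_of_exact S (ShortComplex.exact_of_f_is_kernel _ (K.K.cyclesIsKernel q _ rfl)) U k hk

theorem isQuasicoherent_term {J : Fin n → X.IdealSheafData} (K : KoszSh.Cx (Esum J) (ssum J)) (p : ℕ) :
    (K.K.X p).IsQuasicoherent :=
  haveI := isQuasicoherent_Esum J
  Om3.isQuasicoherent_of_isExtPow (K.isExtPow p)

theorem isQuasicoherent_cycles {J : Fin n → X.IdealSheafData} (K : KoszSh.Cx (Esum J) (ssum J)) :
    (K.K.cycles q).IsQuasicoherent := by
  haveI := isQuasicoherent_term K q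
  haveI := isQuasicoherent_term K ((ComplexShape.down ℕ).next q)
  exact QC70.isQuasicoherent_of_iso ((kernelIsKernel _).conePointUniqueUpToIso (K.K.cyclesIsKernel q _ rfl))
    (QC70.isQuasicoherent_kernel (K.K.d q ((ComplexShape.down ℕ).next q)))

theorem prev_q : (ComplexShape.down ℕ).prev q = q + 1 := by simp

theorem isQuasicoherent_homology {J : Fin n → X.IdealSheafData} (K : KoszSh.Cx (Esum J) (ssum J)) :
    (K.K.homology q).IsQuasicoherent := by
  haveI := isQuasicoherent_term K (q + 1)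
  haveI := isQuasicoherent_cycles q K
  exact QC70.isQuasicoherent_of_iso
    ((cokernelIsCokernel _).coconePointUniqueUpToIso (K.K.homologyIsCokernel (q + 1) q (prev_q q)))
    (QC70.isQuasicoherent_cokernel (K.K.toCycles (q + 1) q))

theorem exists_toCycles_eq {J : Fin n → X.IdealSheafData} (K : KoszSh.Cx (Esum J) (ssum J)) (U : X.affineOpens)
    (z : Γ(K.K.cycles q, U.1)) (hz : (K.K.homologyπ q).app U.1 z = 0) :
    ∃ k, (K.K.toCycles (q + 1) q).app U.1 k = z := by
  let S := ShortComplex.mk (K.K.toCycles (q + 1) q) (K.K.homologyπ q) (K.K.toCycles_comp_homologyπ _ q)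
  haveI : S.X₁.IsQuasicoherent := isQuasicoherent_term K (q + 1)
  haveI : S.X₂.IsQuasicoherent := isQuasicoherent_cycles q K
  haveI : S.X₃.IsQuasicoherent := isQuasicoherent_homology q K
  exact SecTools.exists_app_eq_affine S
    (ShortComplex.exact_of_g_is_cokernel _ (K.K.homologyIsCokernel (q + 1) q (prev_q q))) U.2 z hz

theorem homologyπ_surjective {J : Fin n → X.IdealSheafData} (K : KoszSh.Cx (Esum J) (ssum J)) (U : X.affineOpens) :
    Function.Surjective ((K.K.homologyπ q).app U.1) := by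
  haveI := isQuasicoherent_cycles q K
  haveI := isQuasicoherent_homology q K
  let T := ShortComplex.mk (kernel.ι (K.K.homologyπ q)) (K.K.homologyπ q) (kernel.condition _)
  haveI : T.X₁.IsQuasicoherent := QC70.isQuasicoherent_kernel _
  exact QC70.app_surjective_of_isAffineOpen T
    { exact := ShortComplex.exact_of_f_is_kernel _ (kernelIsKernel _)
      mono_f := inferInstanceAs (Mono (kernel.ι _))
      epi_g := inferInstanceAs (Epi (K.K.homologyπ q)) } U.2

/-- The map on cycles. -/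
def theta : C'.K.cycles q ⟶ C.K.cycles q := HomologicalComplex.cyclesMap (phi C C') q

theorem iCycles_theta (U : X.Opens) (z : Γ(C'.K.cycles q, U)) :
    (C.K.iCycles q).app U ((theta C C' q).app U z) = ((phi C C').f q).app U ((C'.K.iCycles q).app U z) := by
  show (theta C C' q ≫ C.K.iCycles q).app U z = (C'.K.iCycles q ≫ (phi C C').f q).app U z
  exact app_congr (HomologicalComplex.cyclesMap_i _ _) U z

variable {W : X.affineOpens} {x : Γ(X, W.1)} (hW : IsGood IY ID W x)

include hW in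
theorem theta_injective : Function.Injective ((theta C C' q).app W.1) := fun a b h =>
  iCycles_app_injective q C' W.1 (phi_injective C C' hW q (by rw [← iCycles_theta, ← iCycles_theta, h]))

include hW in
theorem exists_theta_eq (z : Γ(C.K.cycles q, W.1)) : ∃ m, (theta C C' q).app W.1 m = x ^ q • z := by
  obtain ⟨m₀, hm₀⟩ := exists_phi_eq C C' hW q ((C.K.iCycles q).app W.1 z)
  obtain ⟨m, hm⟩ := exists_iCycles_eq q C' W.1 m₀ (phi_injective C C' hW _ (by
    rw [map_zero]
    show (C'.K.d q _ ≫ (phi C C').f _).app W.1 m₀ = 0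
    rw [← (phi C C').comm, app_comp, hm₀, Scheme.Modules.Hom.app_smul, ← app_comp,
      app_congr (C.K.iCycles_d q _) W.1 z]
    exact smul_zero _))
  refine ⟨m, iCycles_app_injective q C W.1 ?_⟩
  rw [iCycles_theta, hm, hm₀, Scheme.Modules.Hom.app_smul]

include hW in
theorem exists_eq_theta (m : Γ(C'.K.cycles q, W.1)) : ∃ z, (theta C C' q).app W.1 m = x ^ q • z := by
  obtain ⟨k, hk⟩ := exists_eq_phi C C' hW q ((C'.K.iCycles q).app W.1 m)
  obtain ⟨z, hz⟩ := exists_iCycles_eq q C W.1 k (isSMulRegular_K C hW _ q (by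
    show x ^ q • _ = x ^ q • (0 : Γ(C.K.X _, W.1))
    rw [smul_zero, ← Scheme.Modules.Hom.app_smul, ← hk, ← app_comp, (phi C C').comm, app_comp]
    show ((phi C C').f _).app W.1 ((C'.K.iCycles q ≫ C'.K.d q _).app W.1 m) = 0
    rw [app_congr (C'.K.iCycles_d q _) W.1 m]
    exact map_zero _))
  refine ⟨z, iCycles_app_injective q C W.1 ?_⟩
  rw [iCycles_theta, hk, Scheme.Modules.Hom.app_smul, hz]

include hW in
theorem isSMulRegular_cycles (k : ℕ) : IsSMulRegular Γ(C.K.cycles q, W.1) (x ^ k) := fun a b h => by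
  refine iCycles_app_injective q C W.1 (isSMulRegular_K C hW q k ?_)
  show x ^ k • _ = x ^ k • _
  rw [← Scheme.Modules.Hom.app_smul, ← Scheme.Modules.Hom.app_smul]
  exact congrArg _ h

/-- Multiplication. -/
def mu : CohB1.tensorMod (C.K.cycles q) (CohB1.tensorPow (ClSub.idealMod ID) q) ⟶ C.K.cycles q :=
  SecTools.mulHom (SecTools.powι ID q) (C.K.cycles q)

variable (ID) in
/-- A frame of the twist with its image. -/
def IsTwistFrame (W : X.affineOpens) (x : Γ(X, W.1))
    (ξ : Γ(CohB1.tensorPow (ClSub.idealMod ID) q, W.1)) : Prop :=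
  Var76.LineBundle.IsFrame (CohB1.tensorPow (ClSub.idealMod ID) q) W.1 ξ ∧
    OmegaSh.fnSect X W.1 ((SecTools.powι ID q).app W.1 ξ) = x ^ q

include hW in
theorem exists_twistFrame : ∃ ξ, IsTwistFrame ID q W x ξ :=
  SecTools.exists_frame_pow ID W hW.1 hW.2.1 q

theorem exists_eq_tm {M : X.Modules} {ξ : Γ(CohB1.tensorPow (ClSub.idealMod ID) q, W.1)}
    (hξ : IsTwistFrame ID q W x ξ)
    (w : Γ(CohB1.tensorMod M (CohB1.tensorPow (ClSub.idealMod ID) q), W.1)) :
    ∃ m, Amp73.tm M _ m ξ = w := by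
  obtain ⟨m, hm⟩ := Amp73.exists_eq_tm_frame (L := M) hξ.1 le_rfl w
  refine ⟨m, ?_⟩
  simpa [Var76.LineBundle.res] using hm

theorem tm_injective {M : X.Modules} {ξ : Γ(CohB1.tensorPow (ClSub.idealMod ID) q, W.1)}
    (hξ : IsTwistFrame ID q W x ξ) (m m' : Γ(M, W.1)) (h : Amp73.tm M _ m ξ = Amp73.tm M _ m' ξ) : m = m' :=
  Amp73.tm_frame_injective hξ.1 le_rfl m m' (by simpa [Var76.LineBundle.res] using h)

theorem mu_tm {ξ : Γ(CohB1.tensorPow (ClSub.idealMod ID) q, W.1)} (hξ : IsTwistFrame ID q W x ξ)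
    (z : Γ(C.K.cycles q, W.1)) : (mu (ID := ID) C q).app W.1 (Amp73.tm _ _ z ξ) = x ^ q • z :=
  (SecTools.mulHom_tm _ _ W.1 z ξ).trans (by rw [hξ.2])

variable (hY : ∀ i, BlowUp.IsEffCartierIdeal (IY i)) (hD : BlowUp.IsEffCartierIdeal ID)
include hY hD

theorem mono_mu : Mono (mu (ID := ID) C q) :=
  Om3.mono_of_basis _ fun O p hp => by
    obtain ⟨W, x, hpW, hWO, hW⟩ := exists_good IY ID hY hD O p hp
    obtain ⟨ξ, hξ⟩ := exists_twistFrame q hW
    refine ⟨W.1, hpW, hWO, fun a b hab => ?_⟩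
    obtain ⟨z, rfl⟩ := exists_eq_tm q hξ a
    obtain ⟨z', rfl⟩ := exists_eq_tm q hξ b
    rw [mu_tm C q hξ, mu_tm C q hξ] at hab
    rw [isSMulRegular_cycles C q hW q hab]

theorem theta_coker : theta C C' q ≫ cokernel.π (mu (ID := ID) C q) = 0 :=
  Om3.comp_eq_zero_of_basis _ _ fun O p hp => by
    obtain ⟨W, x, hpW, hWO, hW⟩ := exists_good IY ID hY hD O p hp
    obtain ⟨ξ, hξ⟩ := exists_twistFrame q hW
    refine ⟨W.1, hpW, hWO, fun m => ?_⟩
    obtain ⟨z, hz⟩ := exists_eq_theta C C' q hW m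
    rw [hz, ← mu_tm C q hξ, ← app_comp, app_congr (cokernel.condition _) W.1]
    rfl

/-- `Z'_q → Z_q ⊗ I^q`. -/
def eHom : C'.K.cycles q ⟶ CohB1.tensorMod (C.K.cycles q) (CohB1.tensorPow (ClSub.idealMod ID) q) :=
  haveI := mono_mu C q hY hD
  Abelian.monoLift (mu (ID := ID) C q) (theta C C' q) (theta_coker C C' q hY hD)

theorem eHom_app {ξ : Γ(CohB1.tensorPow (ClSub.idealMod ID) q, W.1)} (hξ : IsTwistFrame ID q W x ξ)
    (m : Γ(C'.K.cycles q, W.1)) (z : Γ(C.K.cycles q, W.1)) (h : (theta C C' q).app W.1 m = x ^ q • z) :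
    (eHom C C' q hY hD).app W.1 m = Amp73.tm _ _ z ξ := by
  haveI := mono_mu C q hY hD
  refine QC70.app_injective_of_mono (mu (ID := ID) C q) W.1 ?_
  rw [eHom, ← app_comp, app_congr (Abelian.monoLift_comp _ _ _) W.1 m, h, mu_tm C q hξ]

/-- The fibre product. -/
abbrev PP : X.Modules :=
  Limits.pullback
    ((Scheme.Modules.pullback ID.subschemeι ⋙ Scheme.Modules.pushforward ID.subschemeι).map (C.K.homologyπ q))
    ((Scheme.Modules.pullbackPushforwardAdjunction ID.subschemeι).unit.app (C.K.homology q))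

omit hY hD in
/-- `Z_q → P`. -/
def psi : C.K.cycles q ⟶ PP (ID := ID) C q :=
  pullback.lift ((Scheme.Modules.pullbackPushforwardAdjunction ID.subschemeι).unit.app (C.K.cycles q))
    (C.K.homologyπ q)
    ((Scheme.Modules.pullbackPushforwardAdjunction ID.subschemeι).unit.naturality (C.K.homologyπ q)).symm

omit hY hD in
theorem psi_fst (U : X.Opens) (z : Γ(C.K.cycles q, U)) :
    (pullback.fst ((Scheme.Modules.pullback ID.subschemeι ⋙ Scheme.Modules.pushforward ID.subschemeι).map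
        (C.K.homologyπ q)) ((Scheme.Modules.pullbackPushforwardAdjunction ID.subschemeι).unit.app
        (C.K.homology q))).app U ((psi (ID := ID) C q).app U z) =
      (SecTools.unitTo ID (C.K.cycles q)).app U z :=
  app_congr (pullback.lift_fst _ _ _) U z

omit hY hD in
theorem psi_snd (U : X.Opens) (z : Γ(C.K.cycles q, U)) :
    (pullback.snd ((Scheme.Modules.pullback ID.subschemeι ⋙ Scheme.Modules.pushforward ID.subschemeι).map
        (C.K.homologyπ q)) ((Scheme.Modules.pullbackPushforwardAdjunction ID.subschemeι).unit.app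
        (C.K.homology q))).app U ((psi (ID := ID) C q).app U z) =
      (C.K.homologyπ q).app U z :=
  app_congr (pullback.lift_snd _ _ _) U z

omit hY hD in
include hW in
theorem psi_eq_zero_iff (hreg : IsSMulRegular Γ(C.K.homology q, W.1) x) (z : Γ(C.K.cycles q, W.1)) :
    (psi (ID := ID) C q).app W.1 z = 0 ↔ ∃ k, z = x • (C.K.toCycles (q + 1) q).app W.1 k := by
  haveI := isQuasicoherent_cycles q C
  constructor
  · intro h
    have h1 : (SecTools.unitTo ID (C.K.cycles q)).app W.1 z = 0 := by rw [← psi_fst, h, map_zero]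
    have h2 : (C.K.homologyπ q).app W.1 z = 0 := by rw [← psi_snd (ID := ID), h, map_zero]
    obtain ⟨w, rfl⟩ := (SecTools.unitTo_eq_zero_iff ID (C.K.cycles q) W hW.2.1 z).1 h1
    rw [Scheme.Modules.Hom.app_smul] at h2
    obtain ⟨k, hk⟩ := exists_toCycles_eq q C W w (hreg (h2.trans (smul_zero x).symm))
    exact ⟨k, by rw [hk]⟩
  · rintro ⟨k, rfl⟩
    refine SecTools.pullback_app_ext _ _ W.1 _ _ ?_ ?_
    · rw [psi_fst, map_zero]
      exact (SecTools.unitTo_eq_zero_iff ID _ W hW.2.1 _).2 ⟨_, rfl⟩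
    · rw [psi_snd, map_zero, Scheme.Modules.Hom.app_smul, ← app_comp,
        app_congr (C.K.toCycles_comp_homologyπ (q + 1) q) W.1 k]
      exact smul_zero _

omit hY hD in
include hW in
theorem psi_surjective : Function.Surjective ((psi (ID := ID) C q).app W.1) := by
  intro p
  haveI := isQuasicoherent_cycles q C
  haveI := isQuasicoherent_homology q C
  let F := Scheme.Modules.pullback ID.subschemeι ⋙ Scheme.Modules.pushforward ID.subschemeι
  let η := (Scheme.Modules.pullbackPushforwardAdjunction ID.subschemeι).unit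
  obtain ⟨z₀, hz₀⟩ := SecTools.unitTo_surjective ID (C.K.cycles q) W
    ((pullback.fst (F.map (C.K.homologyπ q)) (η.app (C.K.homology q))).app W.1 p)
  have hc := app_congr (pullback.condition (f := F.map (C.K.homologyπ q)) (g := η.app (C.K.homology q))) W.1 p
  rw [app_comp, app_comp, ← hz₀] at hc
  have hn : (F.map (C.K.homologyπ q)).app W.1 ((SecTools.unitTo ID (C.K.cycles q)).app W.1 z₀) =
      (SecTools.unitTo ID (C.K.homology q)).app W.1 ((C.K.homologyπ q).app W.1 z₀) :=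
    (app_congr (η.naturality (C.K.homologyπ q)) W.1 z₀).symm
  rw [hn] at hc
  obtain ⟨p₂, hp₂⟩ : ∃ p₂ : Γ(C.K.homology q, W.1),
      (pullback.snd (F.map (C.K.homologyπ q)) (η.app (C.K.homology q))).app W.1 p = p₂ := ⟨_, rfl⟩
  rw [hp₂] at hc
  obtain ⟨h₁, hh₁⟩ := (SecTools.unitTo_eq_zero_iff ID (C.K.homology q) W hW.2.1
    (p₂ - (C.K.homologyπ q).app W.1 z₀)).1
    (by rw [map_sub, hc]; exact sub_self _)
  obtain ⟨z₁, rfl⟩ := homologyπ_surjective q C W h₁
  refine ⟨z₀ + x • z₁, SecTools.pullback_app_ext _ _ W.1 _ _ ?_ ?_⟩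
  · rw [psi_fst, map_add, (SecTools.unitTo_eq_zero_iff ID _ W hW.2.1 _).2 ⟨z₁, rfl⟩, add_zero, hz₀]
  · rw [psi_snd, map_add, Scheme.Modules.Hom.app_smul, hh₁, add_sub_cancel, ← hp₂]

/-- `Z'_q → P ⊗ I^q`. -/
def Psi : C'.K.cycles q ⟶ CohB1.tensorMod (PP (ID := ID) C q) (CohB1.tensorPow (ClSub.idealMod ID) q) :=
  eHom C C' q hY hD ≫ SecTools.mapLeft (psi C q) _

theorem Psi_app {ξ : Γ(CohB1.tensorPow (ClSub.idealMod ID) q, W.1)} (hξ : IsTwistFrame ID q W x ξ)
    (m : Γ(C'.K.cycles q, W.1)) (z : Γ(C.K.cycles q, W.1)) (h : (theta C C' q).app W.1 m = x ^ q • z) :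
    (Psi C C' q hY hD).app W.1 m = Amp73.tm _ _ ((psi (ID := ID) C q).app W.1 z) ξ := by
  rw [Psi, app_comp, eHom_app C C' q hY hD hξ m z h]
  exact SecTools.mapLeft_tm _ _ W.1 z ξ

theorem nonempty_iso
    (hreg : ∀ (U : X.affineOpens) (x : Γ(X, U.1)), x ∈ nonZeroDivisors Γ(X, U.1) → ID.ideal U = Ideal.span {x} →
      IsSMulRegular Γ(C.K.homology q, U.1) x) :
    Nonempty (C'.K.homology q ≅
      CohB1.tensorMod (PP (ID := ID) C q) (CohB1.tensorPow (ClSub.idealMod ID) q)) := by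
  have key : ∀ {W : X.affineOpens} {x : Γ(X, W.1)}, IsGood IY ID W x →
      ∀ k' : Γ(C'.K.X (q + 1), W.1), ∃ k : Γ(C.K.X (q + 1), W.1),
        ((phi C C').f (q + 1)).app W.1 k' = x ^ (q + 1) • k ∧
        (theta C C' q).app W.1 ((C'.K.toCycles (q + 1) q).app W.1 k') =
          x ^ q • (x • (C.K.toCycles (q + 1) q).app W.1 k) := fun {W x} hW k' => by
    obtain ⟨k, hk⟩ := exists_eq_phi C C' hW (q + 1) k'
    refine ⟨k, hk, iCycles_app_injective q C W.1 ?_⟩
    rw [iCycles_theta, ← app_comp (C'.K.toCycles (q + 1) q), app_congr (C'.K.toCycles_i (q + 1) q) W.1,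
      ← app_comp, ← (phi C C').comm, app_comp, hk, Scheme.Modules.Hom.app_smul, Scheme.Modules.Hom.app_smul,
      Scheme.Modules.Hom.app_smul, ← app_comp (C.K.toCycles (q + 1) q), app_congr (C.K.toCycles_i (q + 1) q) W.1,
      smul_smul, pow_succ]
  have w : C'.K.toCycles (q + 1) q ≫ Psi C C' q hY hD = 0 :=
    Om3.comp_eq_zero_of_basis _ _ fun O p hp => by
      obtain ⟨W, x, hpW, hWO, hW⟩ := exists_good IY ID hY hD O p hp
      obtain ⟨ξ, hξ⟩ := exists_twistFrame q hW
      refine ⟨W.1, hpW, hWO, fun k' => ?_⟩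
      obtain ⟨k, -, hk⟩ := key hW k'
      rw [Psi_app C C' q hY hD hξ _ _ hk, (psi_eq_zero_iff C q hW (hreg W x hW.1 hW.2.1) _).2 ⟨k, rfl⟩,
        Amp73.tm_zero_left]
  let S := ShortComplex.mk (C'.K.toCycles (q + 1) q) (Psi C C' q hY hD) w
  haveI : Epi S.g := Om3.epi_of_basis _ fun O p hp => by
    obtain ⟨W, x, hpW, hWO, hW⟩ := exists_good IY ID hY hD O p hp
    obtain ⟨ξ, hξ⟩ := exists_twistFrame q hW
    refine ⟨W.1, hpW, hWO, fun t => ?_⟩
    obtain ⟨pt, rfl⟩ := exists_eq_tm q hξ t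
    obtain ⟨z, rfl⟩ := psi_surjective C q hW pt
    obtain ⟨m, hm⟩ := exists_theta_eq C C' q hW z
    exact ⟨m, Psi_app C C' q hY hD hξ m z hm⟩
  have hS : S.Exact := Om3.exact_of_basis S fun O p hp => by
    obtain ⟨W, x, hpW, hWO, hW⟩ := exists_good IY ID hY hD O p hp
    obtain ⟨ξ, hξ⟩ := exists_twistFrame q hW
    refine ⟨W.1, hpW, hWO, fun m hm => ?_⟩
    obtain ⟨z, hz⟩ := exists_eq_theta C C' q hW m
    change (Psi C C' q hY hD).app W.1 m = 0 at hm
    rw [Psi_app C C' q hY hD hξ m z hz, ← Amp73.tm_zero_left ξ] at hm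
    obtain ⟨k, rfl⟩ := (psi_eq_zero_iff C q hW (hreg W x hW.1 hW.2.1) z).1 (tm_injective q hξ _ _ hm)
    obtain ⟨k', hk'⟩ := exists_phi_eq C C' hW (q + 1) k
    refine ⟨k', theta_injective C C' q hW ?_⟩
    obtain ⟨k₁, hk₁, hk₁'⟩ := key hW k'
    rw [hk'] at hk₁
    obtain rfl := isSMulRegular_K C hW (q + 1) (q + 1) hk₁
    exact hk₁'.trans hz.symm
  exact ⟨(C'.K.homologyIsCokernel (q + 1) q (prev_q q)).coconePointUniqueUpToIso hS.gIsCokernel⟩

end Groth.Agent.LC15.KoszTwist
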