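import Groth.Agent.LC15.Finiteness
import Mathlib.RingTheory.Localization.Module
import Mathlib.Algebra.Module.FinitePresentation
import Mathlib.RingTheory.TensorProduct.IsBaseChangePi

set_option autoImplicit false

universe u

namespace Groth.Agent.LC15

variable {R : Type u} [CommRing R] [IsNoetherianRing R] (I : Ideal R)

theorem exists_factor_of_projective (M : Type u) [AddCommGroup M] [Module R M] [Module.Finite R M]
    (f : R) [Module.Projective (Localization.Away f) (LocalizedModule (Submonoid.powers f) M)] :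
    ∃ (n : ℕ) (p : (Fin n → R) →ₗ[R] M) (g : M →ₗ[R] (Fin n → R)) (k : ℕ),
      ∀ m : M, p (g m) = f ^ k • m := by
  classical
  haveI := Module.finitePresentation_of_finite R M
  obtain ⟨n, p, hp⟩ := Module.Finite.exists_fin' R M
  let S := Submonoid.powers f
  set L := Localization.Away f
  let F : (Fin n → R) →ₗ[R] (Fin n → L) :=
    LinearMap.pi fun i => (Algebra.linearMap R L).comp (LinearMap.proj i)
  haveI : IsLocalizedModule S F := IsLocalizedModule.pi S fun _ : Fin n => Algebra.linearMap R L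
  let ι := LocalizedModule.mkLinearMap S M
  let pL' : (Fin n → L) →ₗ[L] LocalizedModule S M := (IsLocalizedModule.map S F ι p).extendScalarsOfIsLocalization S L
  have hpL : ∀ v, pL' (F v) = ι (p v) := fun v => IsLocalizedModule.map_apply S F ι p v
  have hsurj : Function.Surjective pL' := IsLocalizedModule.map_surjective S F ι p hp
  obtain ⟨σ, hσ⟩ := Module.projective_lifting_property pL' LinearMap.id hsurj
  obtain ⟨g, s, hg⟩ := Module.FinitePresentation.exists_lift_of_isLocalizedModule S F
    ((σ.restrictScalars R).comp ι)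
  have hD : ∀ x : M, ∃ k : ℕ, f ^ k • (p (g x) - (s : R) • x) = 0 := by
    intro x
    have h1 : ι (p (g x) - (s : R) • x) = 0 := by
      have hgx : F (g x) = (s : R) • σ (ι x) := congr($hg x)
      rw [map_sub, map_smul, ← hpL, hgx, sub_eq_zero, LinearMap.map_smul_of_tower]
      exact congrArg _ (congr($hσ (ι x)))
    obtain ⟨v, hv, hv'⟩ := LocalizedModule.mem_ker_mkLinearMap_iff.mp (LinearMap.mem_ker.mpr h1)
    obtain ⟨k, rfl⟩ := hv
    exact ⟨k, hv'⟩
  choose kf hk using hD
  obtain ⟨t, ht⟩ := (Module.Finite.fg_top : (⊤ : Submodule R M).FG)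
  obtain ⟨l, hl⟩ : ∃ l : ℕ, f ^ l = (s : R) := s.2
  have hall : ∀ x : M, f ^ (t.sup kf) • (p (g x) - (s : R) • x) = 0 := by
    intro x
    let D : M →ₗ[R] M := f ^ (t.sup kf) • (p ∘ₗ g - (s : R) • LinearMap.id)
    have : D = 0 := by
      refine LinearMap.ext_on ht fun y hy => ?_
      obtain ⟨c, hc⟩ := Nat.exists_eq_add_of_le (Finset.le_sup (f := kf) hy)
      change f ^ (t.sup kf) • (p (g y) - (s : R) • y) = 0
      rw [hc, pow_add, mul_comm, mul_smul, hk, smul_zero]
    exact congr($this x)
  refine ⟨n, f ^ (t.sup kf) • p, g, t.sup kf + l, fun x => ?_⟩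
  have := hall x
  rw [smul_sub, sub_eq_zero, smul_smul, ← hl, ← pow_add] at this
  exact this

omit [IsNoetherianRing R] in
theorem smul_H_pi_eq_zero (i n : ℕ) {a : R} (h : ∀ y : LocCoh.H I i R, a • y = 0)
    (y : LocCoh.H I i (Fin n → R)) : a • y = 0 := by
  classical
  let P : Fin n → (Fin n → R) →ₗ[R] Fin n → R := fun j =>
    LinearMap.single R (fun _ => R) j ∘ₗ LinearMap.proj j
  have h1 : ∀ (s : Finset (Fin n)), a • Hmap I i (∑ j ∈ s, P j) y = 0 := by
    intro s
    induction s using Finset.induction with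
    | empty => rw [Finset.sum_empty, Hmap_zero, LinearMap.zero_apply, smul_zero]
    | insert j s hj ih =>
      rw [Finset.sum_insert hj, Hmap_add, LinearMap.add_apply, smul_add, ih, add_zero, Hmap_comp,
        LinearMap.comp_apply, ← map_smul, h, map_zero]
  have h2 : (∑ j, P j) = LinearMap.id := by
    refine LinearMap.ext fun v => ?_
    rw [LinearMap.sum_apply]
    exact Finset.univ_sum_single v
  have h3 := h1 Finset.univ
  rwa [h2, Hmap_id, LinearMap.id_apply] at h3

/-- If `a` kills `H^i_I(R)` and `M` is projective away from `f ∈ I`, a power of `I` times `a`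
kills `H^i_I(M)`. -/
theorem exists_pow_smul_H_of_locProjective (M : Type u) [AddCommGroup M] [Module R M]
    [Module.Finite R M]
    (hM : ∀ f ∈ I, Module.Projective (Localization.Away f) (LocalizedModule (Submonoid.powers f) M)) :
    ∃ N : ℕ, ∀ (i : ℕ) (a : R), (∀ y : LocCoh.H I i R, a • y = 0) →
      ∀ b ∈ I ^ N, ∀ y : LocCoh.H I i M, (a * b) • y = 0 := by
  classical
  obtain ⟨s, hs⟩ := (IsNoetherian.noetherian I : Submodule.FG I)
  have hk : ∀ f : R, ∃ k : ℕ, f ∈ I → ∀ (i : ℕ) (a : R), (∀ y : LocCoh.H I i R, a • y = 0) →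
      ∀ y : LocCoh.H I i M, (a * f ^ k) • y = 0 := by
    intro f
    by_cases hf : f ∈ I
    · haveI := hM f hf
      obtain ⟨n, p, g, k, hk⟩ := exists_factor_of_projective M f
      refine ⟨k, fun _ i a ha y => ?_⟩
      rw [mul_smul, ← Hmap_lsmul I i (f ^ k) y,
        show LinearMap.lsmul R M (f ^ k) = p ∘ₗ g from LinearMap.ext fun m => (hk m).symm,
        Hmap_comp, LinearMap.comp_apply, ← map_smul, smul_H_pi_eq_zero I i n ha, map_zero]
    · exact ⟨0, fun h => absurd h hf⟩
  choose k hk using hk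
  have hrad : I ≤ (Ideal.span ((fun f => f ^ k f) '' (s : Set R))).radical := by
    rw [← hs]
    exact Submodule.span_le.2 fun f hf => ⟨k f, Ideal.subset_span ⟨f, hf, rfl⟩⟩
  obtain ⟨N, hN⟩ := Ideal.exists_pow_le_of_le_radical_of_fg hrad (IsNoetherian.noetherian _)
  refine ⟨N, fun i a ha b hb y => ?_⟩
  have hb' := hN hb
  clear hb
  induction hb' using Submodule.span_induction with
  | mem x hx =>
    obtain ⟨f, hf, rfl⟩ := hx
    exact hk f (hs ▸ Submodule.subset_span hf) i a ha y
  | zero => rw [mul_zero, zero_smul]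
  | add c d _ _ hc hd => rw [mul_add, add_smul, hc, hd, add_zero]
  | smul r c _ hc => rw [smul_eq_mul, mul_left_comm, mul_smul, hc, smul_zero]

theorem exists_pow_smul_of_locProjective (J : Ideal R) (hJI : J ≤ I) (i n : ℕ)
    (hA : ∀ a ∈ J ^ n, ∀ x : LocCoh.H I i R, a • x = 0) (M : Type u) [AddCommGroup M] [Module R M]
    [Module.Finite R M]
    (hM : ∀ f ∈ I, Module.Projective (Localization.Away f) (LocalizedModule (Submonoid.powers f) M)) :
    ∃ m : ℕ, ∀ a ∈ J ^ m, ∀ x : LocCoh.H I i M, a • x = 0 := by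
  obtain ⟨N, hN⟩ := exists_pow_smul_H_of_locProjective I M hM
  refine ⟨n + N, fun c hc x => ?_⟩
  rw [pow_add] at hc
  induction hc using Submodule.mul_induction_on' with
  | mem_mul_mem a ha b hb => exact hN i a (hA a ha) b (Ideal.pow_right_mono hJI N hb) x
  | add a _ b _ ha hb => rw [add_smul, ha, hb, add_zero]

theorem finite_H_of_locProjective (n : ℕ) (hR : ∀ i : ℕ, i ≤ n → Module.Finite R (LocCoh.H I i R))
    (M : Type u) [AddCommGroup M] [Module R M] [Module.Finite R M]
    (hM : ∀ f ∈ I, Module.Projective (Localization.Away f) (LocalizedModule (Submonoid.powers f) M))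
    (i : ℕ) (hi : i ≤ n) : Module.Finite R (LocCoh.H I i M) := by
  classical
  have h : ∀ j : ℕ, ∃ k, j ≤ i → ∀ a ∈ I ^ k, ∀ y : LocCoh.H I j R, a • y = 0 := fun j => by
    by_cases hj : j ≤ i
    · haveI := hR j (hj.trans hi)
      obtain ⟨k, hk⟩ := exists_pow_smul_H_eq_zero I (i := j) (M := R)
      exact ⟨k, fun _ => hk⟩
    · exact ⟨0, fun h => absurd h hj⟩
  choose k hk using h
  obtain ⟨N, hN⟩ := exists_pow_smul_H_of_locProjective I M hM
  refine finite_H_of_annihilated I i M ((Finset.range (i + 1)).sup k + N) fun j hj c hc y => ?_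
  rw [pow_add] at hc
  induction hc using Submodule.mul_induction_on' with
  | mem_mul_mem a ha b hb =>
    exact hN j a (hk j hj a (Ideal.pow_le_pow_right (Finset.le_sup (by simp; omega)) ha)) b hb y
  | add a _ b _ ha hb => rw [add_smul, ha, hb, add_zero]

end Groth.Agent.LC15
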