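import Groth.Agent.LC15.OfLE
import Groth.Agent.LC15.Flat
import Groth.Agent.LC16.ChangeRings
import Groth.Agent.LC17.LocVanish
import Mathlib.RingTheory.Localization.BaseChange

set_option autoImplicit false

universe u

open TensorProduct

namespace Groth.Agent.LC15

variable {R : Type u} [CommRing R] [IsNoetherianRing R] {I J : Ideal R}

/-- Vanishing of `H^i_{pR_p}(M_p)` makes `H^i_p(M)` vanish after localizing at `p`. -/
theorem nul_H_of_subsingleton_loc (p : Ideal R) [p.IsPrime] (i : ℕ) (M : Type u) [AddCommGroup M]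
    [Module R M] (h : Subsingleton (LocCoh.H (IsLocalRing.maximalIdeal (Localization.AtPrime p)) i
      (LocalizedModule p.primeCompl M))) :
    LC17.Nul p.primeCompl (LocCoh.H p i M) := by
  rw [← IsLocalization.AtPrime.map_eq_maximalIdeal p (Localization.AtPrime p)] at h
  obtain ⟨φ, -⟩ := LC16.ChangeRings.exists_equiv p (R' := Localization.AtPrime p) i
    (LocalizedModule p.primeCompl M)
  have h1 : Subsingleton (LocCoh.H p i (LocalizedModule p.primeCompl M)) :=
    φ.toEquiv.subsingleton_congr.1 h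
  obtain ⟨e⟩ := nonempty_tensor_H_equiv (Localization.AtPrime p) p i M
  let j : (Localization.AtPrime p) ⊗[R] M ≃ₗ[R] LocalizedModule p.primeCompl M :=
    (LocalizedModule.equivTensorProduct p.primeCompl M).symm.restrictScalars R
  haveI : Subsingleton ((Localization.AtPrime p) ⊗[R] LocCoh.H p i M) :=
    (e.trans (Hequiv p i j)).toEquiv.subsingleton_congr.2 h1
  intro y
  obtain ⟨c, hc⟩ := (IsLocalizedModule.eq_zero_iff p.primeCompl
    (TensorProduct.mk R (Localization.AtPrime p) (LocCoh.H p i M) 1) (m := y)).1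
    (Subsingleton.elim _ _)
  exact ⟨c, c.2, hc⟩

section Step

variable (hIJ : I ≤ J) (x : R) (hJ : J ≤ (I ⊔ Ideal.span {x}).radical)
variable (M : Type u) [AddCommGroup M] [Module R M]

/-- `M → M_x`. -/
noncomputable abbrev locMap : M →ₗ[R] LocalizedModule (Submonoid.powers x) M :=
  LocalizedModule.mkLinearMap (Submonoid.powers x) M

omit [IsNoetherianRing R] in
theorem isPowerTorsion_ker_locMap :
    LocCoh.IsPowerTorsion (Ideal.span {x}) (LinearMap.ker (locMap x M)) := by
  intro m
  obtain ⟨_, ⟨k, rfl⟩, hk⟩ := LocalizedModule.mem_ker_mkLinearMap_iff.1 m.2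
  refine ⟨k, fun a ha => Subtype.ext ?_⟩
  rw [Ideal.span_singleton_pow, Ideal.mem_span_singleton'] at ha
  obtain ⟨c, rfl⟩ := ha
  change (c * x ^ k) • (m : M) = 0
  rw [mul_smul, show x ^ k • (m : M) = 0 from hk, smul_zero]

omit [IsNoetherianRing R] in
theorem isPowerTorsion_coker_locMap :
    LocCoh.IsPowerTorsion (Ideal.span {x})
      (LocalizedModule (Submonoid.powers x) M ⧸ LinearMap.range (locMap x M)) := by
  intro z
  obtain ⟨z, rfl⟩ := Submodule.mkQ_surjective _ z
  induction z using LocalizedModule.induction_on with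
  | h q s =>
    obtain ⟨k, hk⟩ : ∃ k, x ^ k = (s : R) := s.2
    refine ⟨k, fun a ha => ?_⟩
    rw [Ideal.span_singleton_pow, Ideal.mem_span_singleton'] at ha
    obtain ⟨c, rfl⟩ := ha
    rw [← map_smul, Submodule.mkQ_apply, Submodule.Quotient.mk_eq_zero, mul_smul, hk]
    refine Submodule.smul_mem _ c ⟨q, ?_⟩
    rw [LocalizedModule.smul'_mk, LocalizedModule.mkLinearMap_apply]
    exact (LocalizedModule.mk_cancel s q).symm

omit [IsNoetherianRing R] in
theorem exact_ker_rangeRestrict :
    Function.Exact (LinearMap.ker (locMap x M)).subtype (locMap x M).rangeRestrict :=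
  LinearMap.exact_iff.2 (by rw [LinearMap.ker_rangeRestrict, Submodule.range_subtype])

omit [IsNoetherianRing R] in
theorem smul_bijective_loc :
    Function.Bijective fun w : LocalizedModule (Submonoid.powers x) M => x • w :=
  (Module.End.isUnit_iff _).1
    (IsLocalizedModule.map_units (locMap x M) (⟨x, Submonoid.mem_powers x⟩ : Submonoid.powers x))

include hJ in
/-- What dies in `H_I(M_x)` comes from `H_J(M)`, `J = I + (x)`. -/
theorem mem_range_HofLE {i : ℕ} (y : LocCoh.H I i M) (hy : Hmap I i (locMap x M) y = 0) :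
    ∃ y', HofLE hIJ i M y' = y := by
  set f := locMap x M
  have hb : ∀ (j : ℕ) (W : Type u) [AddCommGroup W] [Module R W],
      LocCoh.IsPowerTorsion (Ideal.span {x}) W → Function.Bijective (HofLE hIJ j W) :=
    HofLE_bijective hIJ _ hJ
  have hG := isPowerTorsion_ker_locMap x M
  have hC := isPowerTorsion_coker_locMap x M
  have e₁ := exact_ker_rangeRestrict x M
  have hi₁ := (LinearMap.ker f).injective_subtype
  have hs₁ := f.surjective_rangeRestrict
  have e₂ := LinearMap.exact_subtype_mkQ (LinearMap.range f)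
  have hi₂ := (LinearMap.range f).injective_subtype
  have hs₂ := Submodule.mkQ_surjective (LinearMap.range f)
  have hcomp : Hmap I i (LinearMap.range f).subtype (Hmap I i f.rangeRestrict y) = 0 := by
    rw [← LinearMap.comp_apply, ← Hmap_comp]
    exact hy
  obtain ⟨q', hq'⟩ : ∃ q', HofLE hIJ i (LinearMap.range f) q' = Hmap I i f.rangeRestrict y := by
    rcases i with _ | j
    · exact ⟨0, by rw [map_zero, Hmap_zero_injective I hi₂ (hcomp.trans (map_zero _).symm)]⟩
    · obtain ⟨c, hc⟩ := (H_exact₁ I j hi₂ e₂ hs₂ _).1 hcomp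
      obtain ⟨c', rfl⟩ := (hb j _ hC).2 c
      exact ⟨_, (HofLE_Hδ hIJ j hi₂ e₂ hs₂ c').trans hc⟩
  have h0 : Hδ J i hi₁ e₁ hs₁ q' = 0 := (hb (i + 1) _ hG).1 (by
    rw [HofLE_Hδ, hq', map_zero]
    exact (H_exact₃ I i hi₁ e₁ hs₁).apply_apply_eq_zero y)
  obtain ⟨y', rfl⟩ := (H_exact₃ J i hi₁ e₁ hs₁ q').1 h0
  rw [HofLE_Hmap] at hq'
  obtain ⟨g, hg⟩ := (H_exact₂ I i hi₁ e₁ hs₁ (y - HofLE hIJ i M y')).1 (by
    rw [map_sub, hq', sub_self])
  obtain ⟨g', rfl⟩ := (hb i _ hG).2 g
  refine ⟨y' + Hmap J i (LinearMap.ker f).subtype g', ?_⟩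
  rw [map_add, HofLE_Hmap, hg]
  exact add_sub_cancel _ _

include hJ in
/-- `H_J → H_I` is injective when `H^{i-1}_I(M_x) = 0`. -/
theorem HofLE_injective_step (hxJ : x ∈ J) (i : ℕ)
    (h : ∀ j, j + 1 = i → Subsingleton (LocCoh.H I j (LocalizedModule (Submonoid.powers x) M))) :
    Function.Injective (HofLE hIJ i M) := by
  rcases i with _ | j
  · exact HofLE_zero_injective hIJ
  have hMx := h j rfl
  have hb : ∀ (k : ℕ) (W : Type u) [AddCommGroup W] [Module R W],
      LocCoh.IsPowerTorsion (Ideal.span {x}) W → Function.Bijective (HofLE hIJ k W) :=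
    HofLE_bijective hIJ _ hJ
  set f := locMap x M
  have hG := isPowerTorsion_ker_locMap x M
  have hC := isPowerTorsion_coker_locMap x M
  have e₁ := exact_ker_rangeRestrict x M
  have hi₁ := (LinearMap.ker f).injective_subtype
  have hs₁ := f.surjective_rangeRestrict
  have e₂ := LinearMap.exact_subtype_mkQ (LinearMap.range f)
  have hi₂ := (LinearMap.range f).injective_subtype
  have hs₂ := Submodule.mkQ_surjective (LinearMap.range f)
  refine (injective_iff_map_eq_zero _).2 fun y' hy' => ?_
  have hJx := subsingleton_H_of_smul_bijective J hxJ (smul_bijective_loc x M) (j + 1)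
  obtain ⟨c', hc'⟩ := Hδ_surjective J j hi₂ e₂ hs₂ hJx (Hmap J (j + 1) f.rangeRestrict y')
  have hq : Hmap J (j + 1) f.rangeRestrict y' = 0 := by
    have h1 : Hδ I j hi₂ e₂ hs₂ (HofLE hIJ j _ c') = 0 := by
      rw [← HofLE_Hδ, hc', HofLE_Hmap, hy', map_zero]
    obtain ⟨w, hw⟩ := (H_exact₃ I j hi₂ e₂ hs₂ _).1 h1
    have hc0 : c' = 0 := (hb j _ hC).1 (by rw [← hw, Subsingleton.elim w 0, map_zero, map_zero])
    rw [← hc', hc0, map_zero]
  obtain ⟨g', rfl⟩ := (H_exact₂ J (j + 1) hi₁ e₁ hs₁ y').1 hq
  rw [HofLE_Hmap] at hy'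
  obtain ⟨w, hw⟩ := (H_exact₁ I j hi₁ e₁ hs₁ _).1 hy'
  -- `w` comes from `H_J`
  have hwr : ∃ w', HofLE hIJ j (LinearMap.range f) w' = w := by
    have hw0 : Hmap I j (LinearMap.range f).subtype w = 0 := Subsingleton.elim _ _
    rcases j with _ | k
    · exact ⟨0, by rw [map_zero, Hmap_zero_injective I hi₂ (hw0.trans (map_zero _).symm)]⟩
    · obtain ⟨c, hc⟩ := (H_exact₁ I k hi₂ e₂ hs₂ w).1 hw0
      obtain ⟨c'', rfl⟩ := (hb k _ hC).2 c
      exact ⟨_, (HofLE_Hδ hIJ k hi₂ e₂ hs₂ c'').trans hc⟩
  obtain ⟨w', rfl⟩ := hwr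
  rw [← HofLE_Hδ] at hw
  rw [← (hb (j + 1) _ hG).1 hw]
  exact (H_exact₁ J j hi₁ e₁ hs₁).apply_apply_eq_zero w'

end Step

/-- `H^i_p(M)` killed off `p` passes to `M_a`. -/
theorem nul_H_loc (p : Ideal R) [p.IsPrime] (i : ℕ) (M : Type u) [AddCommGroup M] [Module R M]
    (a : R) (h : LC17.Nul p.primeCompl (LocCoh.H p i M)) :
    LC17.Nul p.primeCompl (LocCoh.H p i (LocalizedModule (Submonoid.powers a) M)) := by
  by_cases ha : a ∈ p
  · haveI := subsingleton_H_of_smul_bijective p ha (smul_bijective_loc a M) i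
    exact LC17.nul_of_subsingleton
  have key : ∀ (W : Type u) [AddCommGroup W] [Module R W] (j : ℕ),
      LocCoh.IsPowerTorsion (Ideal.span {a}) W → LC17.Nul p.primeCompl (LocCoh.H p j W) := by
    intro W _ _ j hW y
    obtain ⟨y', rfl⟩ := (HofLE_sup_bijective (I := p) j (Ideal.span {a}) hW).2 y
    obtain ⟨k, hk⟩ := isPowerTorsion_H (p ⊔ Ideal.span {a}) j y'
    exact ⟨a ^ k, fun hmem => ha (Ideal.IsPrime.mem_of_pow_mem ‹_› k hmem),
      by rw [← map_smul, hk _ (Ideal.pow_mem_pow
        (Submodule.mem_sup_right (Ideal.mem_span_singleton_self a)) k), map_zero]⟩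
  set f := locMap a M
  have hR : LC17.Nul p.primeCompl (LocCoh.H p i (LinearMap.range f)) :=
    LC17.Nul.middle (H_exact₃ p i (LinearMap.ker f).injective_subtype
      (exact_ker_rangeRestrict a M) f.surjective_rangeRestrict) h
      (key _ (i + 1) (isPowerTorsion_ker_locMap a M))
  exact LC17.Nul.middle (H_exact₂ p i (LinearMap.range f).injective_subtype
    (LinearMap.exact_subtype_mkQ _) (Submodule.mkQ_surjective _)) hR
    (key _ i (isPowerTorsion_coker_locMap a M))

/-- Local-to-global vanishing. -/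
theorem subsingleton_H_of_nul (i : ℕ) (I : Ideal R) :
    ∀ (M : Type u) [AddCommGroup M] [Module R M],
      (∀ (p : Ideal R) [p.IsPrime], I ≤ p → LC17.Nul p.primeCompl (LocCoh.H p i M)) →
      Subsingleton (LocCoh.H I i M) := by
  induction I using (wellFounded_gt (α := Ideal R)).induction with
  | _ I ih =>
    intro M _ _ hM
    by_cases htop : I = ⊤
    · subst htop
      exact subsingleton_H_of_smul_bijective ⊤ (a := 1) Submodule.mem_top
        (by simp only [one_smul]; exact Function.bijective_id) i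
    have hgt : ∀ a : R, a ∉ I → I < I ⊔ Ideal.span {a} := fun a ha =>
      lt_of_le_of_ne le_sup_left fun e => ha (e.symm ▸ Submodule.mem_sup_right
        (Ideal.mem_span_singleton_self a))
    have hzero : ∀ a : R, a ∉ I → ∀ y : LocCoh.H I i M, Hmap I i (locMap a M) y = 0 → y = 0 := by
      intro a ha y hy
      haveI := ih _ (hgt a ha) M fun p _ hle => hM p (le_sup_left.trans hle)
      obtain ⟨y', rfl⟩ := mem_range_HofLE (le_sup_left : I ≤ I ⊔ Ideal.span {a}) a
        Ideal.le_radical M y hy
      rw [Subsingleton.elim y' 0, map_zero]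
    by_cases hprime : I.IsPrime
    · refine subsingleton_of_forall_eq 0 fun y => ?_
      obtain ⟨a, ha, hay⟩ := @hM I hprime le_rfl y
      refine hzero a ha y ?_
      obtain ⟨g, hg⟩ : ∃ g : LocalizedModule (Submonoid.powers a) M →ₗ[R]
          LocalizedModule (Submonoid.powers a) M,
          g ∘ₗ LinearMap.lsmul R _ a = LinearMap.id :=
        ⟨(LinearEquiv.ofBijective (LinearMap.lsmul R _ a) (smul_bijective_loc a M)).symm,
          LinearMap.ext fun w =>
            (LinearEquiv.ofBijective (LinearMap.lsmul R _ a) (smul_bijective_loc a M)).symm_apply_apply w⟩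
      have := congrArg (fun φ => Hmap I i φ (Hmap I i (locMap a M) y)) hg
      rw [Hmap_comp, LinearMap.comp_apply, Hmap_lsmul, ← map_smul, hay, map_zero, map_zero,
        Hmap_id, LinearMap.id_apply] at this
      exact this.symm
    · obtain ⟨a, b, hab, ha, hb⟩ : ∃ a b, a * b ∈ I ∧ a ∉ I ∧ b ∉ I := by
        by_contra hcon
        push Not at hcon
        exact hprime ⟨htop, fun {a b} h => or_iff_not_imp_left.2 (hcon a b h)⟩
      refine subsingleton_of_forall_eq 0 fun y => hzero a ha y ?_
      set W := LocalizedModule (Submonoid.powers a) M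
      haveI := ih _ (hgt b hb) W fun p _ hle =>
        nul_H_loc p i M a (hM p (le_sup_left.trans hle))
      have hbij : Function.Bijective fun w : LocalizedModule (Submonoid.powers b) W => (a * b) • w := by
        have h1 : Function.Bijective fun w : LocalizedModule (Submonoid.powers b) W => a • w := by
          have hu := IsLocalizedModule.map_units (locMap a M) (⟨a, Submonoid.mem_powers a⟩ : Submonoid.powers a)
          obtain ⟨u, hu⟩ := hu
          have hr : LinearMap.lsmul R W a ∘ₗ (u⁻¹ : (Module.End R W)ˣ).1 = LinearMap.id := by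
            have : LinearMap.lsmul R W a = algebraMap R (Module.End R W) a := by ext; rfl
            rw [this, ← hu]; exact u.mul_inv
          let F := IsLocalizedModule.map (Submonoid.powers b) (locMap b W) (locMap b W)
            (u⁻¹ : (Module.End R W)ˣ).1
          have hF : ∀ w, a • F (locMap b W w) = locMap b W w := fun w => by
            rw [IsLocalizedModule.map_apply, ← map_smul]
            exact congrArg _ (congr($hr w))
          have hall : ∀ z, a • F z = z := by
            have := IsLocalizedModule.linearMap_ext (Submonoid.powers b) (locMap b W) (locMap b W)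
              (g := LinearMap.lsmul R _ a ∘ₗ F) (g' := LinearMap.id) (LinearMap.ext hF)
            exact fun z => congr($this z)
          refine ⟨fun w v hwv => ?_, fun w => ⟨F w, hall w⟩⟩
          have h' : F (a • w) = F (a • v) := congrArg F hwv
          rw [map_smul, map_smul, hall, hall] at h'
          exact h'
        have hcomp := h1.comp (smul_bijective_loc b W)
        simpa only [Function.comp_def, ← mul_smul] using hcomp
      haveI := subsingleton_H_of_smul_bijective I hab (M := LocalizedModule (Submonoid.powers b) W) (by convert hbij) i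
      obtain ⟨z, hz⟩ := mem_range_HofLE (le_sup_left : I ≤ I ⊔ Ideal.span {b}) b
        Ideal.le_radical W (Hmap I i (locMap a M) y) (Subsingleton.elim _ _)
      rw [← hz, Subsingleton.elim z 0, map_zero]

/-- `H^i_{I'} → H^i_I` surjective / injective. -/
theorem HofLE_surjective_and_injective (I I' : Ideal R) (h : I ≤ I') (i : ℕ)
    (M : Type u) [AddCommGroup M] [Module R M] :
    ((∀ (p : Ideal R) [p.IsPrime], I ≤ p → ¬ I' ≤ p → LC17.Nul p.primeCompl (LocCoh.H p i M)) →
      Function.Surjective (HofLE h i M)) ∧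
    ((∀ (p : Ideal R) [p.IsPrime], I ≤ p → ¬ I' ≤ p → ∀ j, j + 1 = i →
      LC17.Nul p.primeCompl (LocCoh.H p j M)) → Function.Injective (HofLE h i M)) := by
  induction I using (wellFounded_gt (α := Ideal R)).induction with
  | _ I ih =>
    by_cases heq : I' ≤ I
    · have hb := HofLE_bijective_radical h i (M := M) (heq.trans Ideal.le_radical)
      exact ⟨fun _ => hb.2, fun _ => hb.1⟩
    obtain ⟨x, hx, hxI⟩ := SetLike.not_le_iff_exists.1 heq
    let J := I ⊔ Ideal.span {x}
    have hIJ : I ≤ J := le_sup_left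
    have hJI' : J ≤ I' := sup_le h (by rwa [Ideal.span_le, Set.singleton_subset_iff])
    have hxJ : x ∈ J := Submodule.mem_sup_right (Ideal.mem_span_singleton_self x)
    have hlt : I < J := lt_of_le_of_ne hIJ fun e => hxI (e.symm ▸ hxJ)
    obtain ⟨hsurj, hinj⟩ := ih J hlt hJI'
    have hcomp : ∀ y, HofLE hIJ i M (HofLE hJI' i M y) = HofLE h i M y := fun y => by
      obtain ⟨n, z, rfl⟩ := toH_surj I' i M y
      rw [HofLE_toH, HofLE_toH, HofLE_toH, CategoryTheory.Abelian.Ext.mk₀_comp_mk₀_assoc]
      refine congrArg (fun t => toH I i M n ((CategoryTheory.Abelian.Ext.mk₀ t).comp z (zero_add i))) ?_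
      refine ModuleCat.hom_ext (LinearMap.ext fun w => ?_)
      obtain ⟨r, rfl⟩ := Submodule.Quotient.mk_surjective _ w
      rfl
    have hvan : ∀ j, (∀ (p : Ideal R) [p.IsPrime], I ≤ p → ¬ I' ≤ p →
          LC17.Nul p.primeCompl (LocCoh.H p j M)) →
        Subsingleton (LocCoh.H I j (LocalizedModule (Submonoid.powers x) M)) := by
      intro j hj
      refine subsingleton_H_of_nul j I _ fun p _ hle => ?_
      by_cases hxp : x ∈ p
      · haveI := subsingleton_H_of_smul_bijective p hxp (smul_bijective_loc x M) j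
        exact LC17.nul_of_subsingleton
      · exact nul_H_loc p j M x (hj p hle fun hle' => hxp (hle' hx))
    constructor
    · intro hyp y
      haveI := hvan i hyp
      obtain ⟨y', rfl⟩ := mem_range_HofLE hIJ x Ideal.le_radical M y (Subsingleton.elim _ _)
      obtain ⟨z, rfl⟩ := hsurj (fun p _ hle => hyp p (hIJ.trans hle)) y'
      exact ⟨z, (hcomp z).symm⟩
    · intro hyp a b hab
      rw [← hcomp, ← hcomp] at hab
      refine hinj (fun p _ hle => hyp p (hIJ.trans hle)) ?_
      exact HofLE_injective_step hIJ x Ideal.le_radical M hxJ i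
        (fun j hj => hvan j fun p _ hle hn => hyp p hle hn j hj) hab

end Groth.Agent.LC15
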