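import Groth.Agent.Curves2.Glue.Descend
import Groth.Agent.Curves2.Glue.Isolated
import Groth.Agent.Crv77.Basic

/-!
Lifting invertible modules from a closed subscheme of dimension at most one.
-/

set_option autoImplicit false
set_option linter.style.haveILetI false
set_option linter.unusedSectionVars false
set_option backward.isDefEq.respectTransparency false

universe u

open CategoryTheory AlgebraicGeometry TopologicalSpace Opposite
open Groth.Agent.Var76.LineBundle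

noncomputable section

namespace Groth.Agent.LC15.PicLift

open Groth.Agent Var76.ZeroScheme

variable {X : Scheme.{u}}

theorem exists_maximal (y : X) : ∃ x : X, (∀ x' : X, x' ⤳ x → x' = x) ∧ x ⤳ y := by
  obtain ⟨x, hx⟩ := QuasiSober.sober (isIrreducible_irreducibleComponent (x := y)) isClosed_irreducibleComponent
  refine ⟨x, fun x' hx' => ?_, hx.specializes mem_irreducibleComponent⟩
  have h1 : irreducibleComponent y ⊆ closure {x'} := by
    rw [← hx.def]; exact hx'.closure_subset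
  have h2 := ((irreducibleComponent_mem_irreducibleComponents y).2 isIrreducible_singleton.closure h1)
  have h3 : closure ({x'} : Set X) = closure {x} := by
    rw [hx.def]; exact Set.Subset.antisymm h2 h1
  exact (Inseparable.eq (inseparable_iff_closure_eq.2 h3))

theorem exists_frame_of_disjoint {ι : Type u} {L : X.Modules} (W : ι → X.Opens)
    (hdisj : ∀ i j, i ≠ j → W i ⊓ W j ≤ ⊥) (l : ∀ i, Γ(L, W i)) (hl : ∀ i, IsFrame L (W i) (l i)) :
    ∃ e : Γ(L, ⨆ i, W i), IsFrame L (⨆ i, W i) e := by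
  obtain ⟨e, he, -⟩ := TopCat.Sheaf.existsUnique_gluing' ⟨L.presheaf, L.isSheaf⟩ W (⨆ i, W i)
    (fun i => homOfLE (le_iSup W i)) le_rfl l (fun i j => by
      rcases eq_or_ne i j with rfl | hij
      · rfl
      · exact Var76.ZeroScheme.eq_of_locally L _ _ fun y hy => (hdisj i j hij hy).elim)
  refine ⟨e, Amp73.isFrame_of_locally e fun x hx => ?_⟩
  obtain ⟨i, hi⟩ := Opens.mem_iSup.1 hx
  refine ⟨W i, le_iSup W i, hi, ?_⟩
  rw [show res L (le_iSup W i) e = l i from he i]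
  exact hl i

/-- An invertible module is trivial off finitely many closed points. -/
theorem exists_dense_frame [IsNoetherian X] (hdim : topologicalKrullDim X ≤ 1) {L : X.Modules}
    (hL : PicF.IsInvertible L) :
    ∃ (V : X.Opens) (e : Γ(L, V)), IsFrame L V e ∧ ((V : Set X)ᶜ).Finite ∧
      DiscreteTopology ↥((V : Set X)ᶜ) := by
  classical
  let M : Set X := {x | ∀ x', x' ⤳ x → x' = x}
  have hM : M.Finite := by
    refine Set.Finite.of_finite_image (f := fun x : X => closure ({x} : Set X)) ?_ fun a _ b _ h =>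
      Inseparable.eq (inseparable_iff_closure_eq.2 h)
    refine (NoetherianSpace.finite_irreducibleComponents (α := X)).subset ?_
    rintro _ ⟨x, hx, rfl⟩
    obtain ⟨C, hC, hxC⟩ := exists_mem_irreducibleComponents_subset_of_isIrreducible _
      (isIrreducible_singleton (x := x)).closure
    obtain ⟨g, hg⟩ := QuasiSober.sober hC.1 (isClosed_of_mem_irreducibleComponents C hC)
    have h1 : g = x := hx g (hg.specializes (hxC (subset_closure rfl)))
    show closure ({x} : Set X) ∈ irreducibleComponents _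
    rw [← h1, hg.def]
    exact hC
  haveI : Finite M := hM.to_subtype
  let O : M → X.Opens := fun η =>
    ⟨(⋃ ζ ∈ {ζ : M | ζ ≠ η}, closure ({ζ.1} : Set X))ᶜ,
      ((Set.toFinite _).isClosed_biUnion fun _ _ => isClosed_closure).isOpen_compl⟩
  have hOmem : ∀ (η : M) (y : X), y ∈ O η → ∀ ζ : M, ζ.1 ⤳ y → ζ = η := fun η y hy ζ hζ => by
    by_contra hne
    exact hy (Set.mem_biUnion hne (specializes_iff_mem_closure.1 hζ))
  have hηO : ∀ η : M, η.1 ∈ O η := fun η h => by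
    obtain ⟨ζ, hζ, h1⟩ := Set.mem_iUnion₂.1 h
    exact hζ (Subtype.ext (η.2 _ (specializes_iff_mem_closure.2 h1)))
  choose U hU l hl using fun η : M => Mero90.exists_frame' hL η.1
  let W : M → X.Opens := fun η => U η ⊓ O η
  obtain ⟨e, he⟩ := exists_frame_of_disjoint W (fun η θ hne z hz => by
      obtain ⟨ζ, hζ, hζz⟩ := exists_maximal z
      exact (hne ((hOmem η _ hz.1.2 ⟨ζ, hζ⟩ hζz).symm.trans (hOmem θ _ hz.2.2 ⟨ζ, hζ⟩ hζz))).elim)
    (fun η => res L inf_le_left (l η)) fun η => (hl η).res inf_le_left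
  have hmax : ∀ x : X, (∀ x', x' ⤳ x → x' = x) → x ∈ ⨆ η, W η := fun x hx =>
    Opens.mem_iSup.2 ⟨⟨x, hx⟩, hU _, hηO _⟩
  have hgen : ∀ z ∈ ((⨆ η, W η : X.Opens) : Set X)ᶜ, ∃ ζ, ζ ⤳ z ∧ z ≠ ζ := fun z hz => by
    obtain ⟨ζ, hζ, hζz⟩ := exists_maximal z
    exact ⟨ζ, hζz, fun h => hz (h ▸ hmax ζ hζ)⟩
  have hfin := Crv77.finite_of_isClosed hdim (⨆ η, W η : X.Opens).2.isClosed_compl hgen
  refine ⟨_, e, he, hfin, ?_⟩
  haveI : Finite ↥(((⨆ η, W η : X.Opens) : Set X)ᶜ) := hfin.to_subtype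
  haveI : T1Space ↥(((⨆ η, W η : X.Opens) : Set X)ᶜ) := ⟨fun z => by
    obtain ⟨ζ, hζz, hne⟩ := hgen z.1 z.2
    have h1 := (Crv77.isClosed_singleton_of_generalization hdim hζz hne).preimage
      (continuous_subtype_val : Continuous (Subtype.val : ↥(((⨆ η, W η : X.Opens) : Set X)ᶜ) → X))
    have h2 : (Subtype.val ⁻¹' {z.1} : Set ↥(((⨆ η, W η : X.Opens) : Set X)ᶜ)) = {z} := by
      ext; simp [Subtype.ext_iff]
    exact h2 ▸ h1⟩
  infer_instance

theorem isFrame_structure_iff {U : X.Opens} (c : Γ(X, U)) :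
    IsFrame (Coh.structureModule X) U (c : Γ(Coh.structureModule X, U)) ↔ IsUnit c := by
  have h : (c : Γ(Coh.structureModule X, U)) = c • ((1 : Γ(X, U)) : Γ(Coh.structureModule X, U)) :=
    (mul_one c).symm
  exact (iff_of_eq (congrArg (IsFrame (Coh.structureModule X) U) h)).trans (Amp73.isFrame_smul_iff (Amp73.isFrame_one U) c)

variable {X₀ : Scheme.{u}} (i : X₀ ⟶ X) [IsClosedImmersion i]

/-- Near a missing point of `V` the change of frames extends to a unit off a closed set meeting `X₀` in the point. -/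
theorem exists_chart [IsNoetherian X] (hdim : topologicalKrullDim X₀ ≤ 1) {L : X₀.Modules}
    (hL : PicF.IsInvertible L) {V : X₀.Opens} {e : Γ(L, V)} (he : IsFrame L V e)
    (hdisc : DiscreteTopology ↥((V : Set X₀)ᶜ)) {x : X₀} (hx : x ∉ V) :
    ∃ (A G : X.Opens) (l : Γ(L, i ⁻¹ᵁ A)) (a : Γ(X, G)) (hle : i ⁻¹ᵁ G ≤ i ⁻¹ᵁ A) (hV : i ⁻¹ᵁ G ≤ V),
      G ≤ A ∧ i x ∈ A ∧ (∀ z, i z ∈ A → z ∉ V → z = x) ∧ i ⁻¹ᵁ A ⊓ V ≤ i ⁻¹ᵁ G ∧
      IsFrame L (i ⁻¹ᵁ A) l ∧ IsUnit a ∧ res L hle l = i.app G a • res L hV e := by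
  haveI : IsNoetherian X₀ :=
    { toIsLocallyNoetherian := LocallyOfFiniteType.isLocallyNoetherian i
      toCompactSpace := i.isClosedEmbedding.compactSpace }
  haveI : NoetherianSpace X₀ := inferInstance
  obtain ⟨W', hW', hxW', hWx, t, ht⟩ := Curves2.Glue.exists_nhd_basicOpen V hdisc hx inferInstance
    ((Crv77.stalk_dim_le x).trans hdim)
  obtain ⟨W, hW, -, hxW, l, hl⟩ := Curves2.Glue.exists_nhd_frame_finite i hL (i x) ⊤ trivial
  obtain ⟨O, hO, hOW⟩ := i.isClosedEmbedding.isInducing.isOpen_iff.1 W'.2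
  obtain ⟨A, hA, hxA, hAle⟩ := exists_isAffineOpen_mem_and_subset (X := X) (x := i x) (U := W ⊓ ⟨O, hO⟩)
    ⟨hxW, (Set.ext_iff.1 hOW x).2 hxW'⟩
  have hAW : A ≤ W := fun z hz => (hAle hz).1
  have hAW' : i ⁻¹ᵁ A ≤ W' := fun z hz => (Set.ext_iff.1 hOW z).1 (hAle hz).2
  obtain ⟨T, hT⟩ := i.app_surjective A hA (X₀.presheaf.map (homOfLE hAW').op t)
  let D : X.Opens := X.basicOpen T
  have hD : i ⁻¹ᵁ D = i ⁻¹ᵁ A ⊓ V := by
    show i ⁻¹ᵁ X.basicOpen T = _
    rw [Scheme.preimage_basicOpen, hT, Scheme.basicOpen_res, ht]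
    exact le_antisymm (fun z hz => ⟨hz.1, hz.2.2⟩) fun z hz => ⟨hz.1, hAW' hz.1, hz.2⟩
  have hDV : i ⁻¹ᵁ D ≤ V := hD.le.trans inf_le_right
  have hDA : D ≤ A := X.basicOpen_le T
  let lA : Γ(L, i ⁻¹ᵁ A) := res L (i.preimage_mono hAW) l
  have hlA : IsFrame L (i ⁻¹ᵁ A) lA := hl.res _
  obtain ⟨u, hu⟩ := (he (i ⁻¹ᵁ D) hDV).2 (res L (i.preimage_mono hDA) lA)
  dsimp only at hu
  obtain ⟨u', hu'⟩ := (hlA (i ⁻¹ᵁ D) (i.preimage_mono hDA)).2 (res L hDV e)
  dsimp only at hu'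
  have huu : u * u' = 1 := ((he (i ⁻¹ᵁ D) hDV)).1 (by
    dsimp only
    rw [one_smul, mul_comm, mul_smul, hu, hu'])
  obtain ⟨a, ha⟩ := i.app_surjective D (hA.basicOpen T) u
  let G : X.Opens := X.basicOpen a
  have hGD : G ≤ D := X.basicOpen_le a
  have hG : i ⁻¹ᵁ G = i ⁻¹ᵁ D := by
    show i ⁻¹ᵁ X.basicOpen a = _
    rw [Scheme.preimage_basicOpen, ha]
    exact X₀.basicOpen_of_isUnit (IsUnit.of_mul_eq_one _ huu)
  refine ⟨A, G, lA, X.presheaf.map (homOfLE hGD).op a, i.preimage_mono (hGD.trans hDA), hG.le.trans hDV,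
    hGD.trans hDA, hxA, fun z hz hzV => hWx z (hAW' hz) hzV, hD.ge.trans hG.ge, hlA,
    X.toRingedSpace.isUnit_res_basicOpen a, ?_⟩
  have h1 := congrArg (res L (i.preimage_mono hGD)) hu
  rw [res_smul, res_res, res_res] at h1
  rw [← h1]
  refine congrArg (· • _) ?_
  rw [← ha]
  exact (ConcreteCategory.congr_hom (i.naturality (homOfLE hGD).op) a).symm

theorem exists_lift [IsNoetherian X] (h1 : topologicalKrullDim ↥X₀ ≤ 1)
    (h2 : ∀ Y : Set ↥X, IsLocallyClosed Y → DiscreteTopology ↥(Y ∩ Set.range ⇑i) →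
      ∃ Y' : Set ↥X, Y' ⊆ Y ∧ IsClosed Y' ∧ (∃ O : Set ↥X, IsOpen O ∧ Y' = Y ∩ O) ∧ Y ∩ Set.range ⇑i ⊆ Y')
    {L₀ : X₀.Modules} (hL₀ : PicF.IsInvertible L₀) :
    ∃ L : X.Modules, PicF.IsInvertible L ∧ Nonempty ((Scheme.Modules.pullback i).obj L ≅ L₀) := by
  classical
  haveI : IsNoetherian X₀ :=
    { toIsLocallyNoetherian := LocallyOfFiniteType.isLocallyNoetherian i
      toCompactSpace := i.isClosedEmbedding.compactSpace }
  obtain ⟨V, e, he, hfin, hdisc⟩ := exists_dense_frame h1 hL₀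
  let κ := ↥((V : Set X₀)ᶜ)
  haveI : Finite κ := hfin.to_subtype
  choose A G l a hle hV hGA hxA honly hAV hl ha hla using fun x : κ => exists_chart i h1 hL₀ he hdisc x.2
  have hrange : ∀ (x : κ) (B : X.Opens), B ≤ A x → i x.1 ∈ B →
      ((B : Set X) ∩ (G x : Set X)ᶜ) ∩ Set.range i = {i x.1} := by
    intro x B hB hxB
    refine Set.Subset.antisymm ?_ (Set.singleton_subset_iff.2 ⟨⟨hxB, fun h => x.2 (hV x h)⟩, _, rfl⟩)
    rintro _ ⟨⟨hzB, hzG⟩, z, rfl⟩
    have hzV : z ∉ V := fun hzV => hzG (hAV x ⟨hB hzB, hzV⟩)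
    rw [honly x z (hB hzB) hzV]
    rfl
  have hdel : ∀ (x : κ) (B : X.Opens), B ≤ A x → i x.1 ∈ B → ∃ B' : X.Opens, B' ≤ B ∧ i x.1 ∈ B' ∧
      IsClosed ((B' : Set X) ∩ (G x : Set X)ᶜ) := by
    intro x B hB hxB
    have hr := hrange x B hB hxB
    obtain ⟨Y', -, hY'c, ⟨O, hO, rfl⟩, hY'⟩ := h2 ((B : Set X) ∩ (G x : Set X)ᶜ)
      (B.2.isLocallyClosed.inter (G x).2.isClosed_compl.isLocallyClosed)
      (by rw [hr]; infer_instance)
    refine ⟨B ⊓ ⟨O, hO⟩, inf_le_left, ⟨hxB, (hY' (hr.ge rfl)).2⟩, ?_⟩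
    convert hY'c using 1
    show (B : Set X) ∩ O ∩ _ = (B : Set X) ∩ _ ∩ O
    rw [Set.inter_right_comm]
  choose B₁ hB₁A hxB₁ hB₁c using fun x : κ => hdel x (A x) le_rfl (hxA x)
  let B₂ : κ → X.Opens := fun x => B₁ x ⊓
    ⟨(⋃ z ∈ {z : κ | z ≠ x}, ((B₁ z : Set X) ∩ (G z : Set X)ᶜ))ᶜ,
      ((Set.toFinite _).isClosed_biUnion fun z _ => hB₁c z).isOpen_compl⟩
  have hxB₂ : ∀ x : κ, i x.1 ∈ B₂ x := fun x => ⟨hxB₁ x, fun h => by
    obtain ⟨z, hz, h1⟩ := Set.mem_iUnion₂.1 h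
    have h3 := (hrange z (B₁ z) (hB₁A z) (hxB₁ z)).le ⟨h1, _, rfl⟩
    exact hz (Subtype.ext (i.isClosedEmbedding.injective h3).symm)⟩
  choose B hBle hxB hBc using fun x : κ => hdel x (B₂ x) (inf_le_left.trans (hB₁A x)) (hxB₂ x)
  have hBA : ∀ x, B x ≤ A x := fun x => (hBle x).trans (inf_le_left.trans (hB₁A x))
  let Z : κ → Set X := fun x => (B x : Set X) ∩ (G x : Set X)ᶜ
  have hsep : ∀ x z : κ, x ≠ z → ∀ p, p ∈ Z x → p ∉ B z := fun x z hne p hp hpz =>
    (hBle z hpz).2 (Set.mem_biUnion hne ⟨(hBle x hp.1).1, hp.2⟩)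
  let U : X.Opens := ⟨(⋃ x, Z x)ᶜ, (isClosed_iUnion_of_finite hBc).isOpen_compl⟩
  have hUV : i ⁻¹ᵁ U ≤ V := fun z hz => by
    by_contra hzV
    exact hz (Set.mem_iUnion.2 ⟨⟨z, hzV⟩, hxB _, fun h => hzV (hV ⟨z, hzV⟩ h)⟩)
  have hBU : ∀ x : κ, B x ⊓ U ≤ G x := fun x p hp => by
    by_contra h
    exact hp.2 (Set.mem_iUnion.2 ⟨x, hp.1, h⟩)
  refine Curves2.Glue.exists_descent i L₀ U (Coh.structureModule X)
    (fun y hy => ⟨U, le_rfl, hy, _, Amp73.isFrame_one U⟩)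
    (fun O hO c => i.app O c • res L₀ ((i.preimage_mono hO).trans hUV) e)
    (fun O O' hO hO' h c => ?_) (fun O hO c d => ?_) (fun O hO c hc => ?_)
    B (fun x z hne p hp => ?_) (fun p => ?_)
    (fun x => (fres (hBU x) (a x) : Γ(X, B x ⊓ U))) (fun x => ?_)
    (fun x => res L₀ (i.preimage_mono (hBA x)) (l x)) (fun x => (hl x).res _) (fun x => ?_)
  · rw [res_smul, res_res]
    exact congrArg (· • _) (ConcreteCategory.congr_hom (i.naturality (homOfLE h).op) c)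
  · show i.app O (HMul.hMul (α := Γ(X, O)) (β := Γ(X, O)) c d) • _ = i.app O c • i.app O (d : Γ(X, O)) • _
    rw [map_mul, mul_smul]
  · refine (Amp73.isFrame_smul_iff (he.res _) _).2 (IsUnit.map (i.app O).hom ?_)
    exact (isFrame_structure_iff (c : Γ(X, O))).1 hc
  · by_contra hpU
    obtain ⟨k, hk⟩ := Set.mem_iUnion.1 (not_not.1 hpU)
    by_cases hkx : k = x
    · exact hsep k z (hkx ▸ hne) p hk hp.2
    · exact hsep k x hkx p hk hp.1
  · by_cases hp : p ∈ U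
    · exact Or.inl hp
    · obtain ⟨k, hk⟩ := Set.mem_iUnion.1 (not_not.1 hp)
      exact Or.inr ⟨k, hk.1⟩
  · exact (isFrame_structure_iff _).2 ((ha x).map _)
  · have h := congrArg (res L₀ (i.preimage_mono (hBU x))) (hla x)
    rw [res_smul, res_res, res_res] at h
    rw [res_res, h]
    exact congrArg (· • _) (ConcreteCategory.congr_hom (i.naturality (homOfLE (hBU x)).op) (a x))

end Groth.Agent.LC15.PicLift

end
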