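import Mathlib

/-!
Projective dimension of `A[X]/(X)^a` over a polynomial ring in finitely many variables.
-/

set_option autoImplicit false

noncomputable section

universe u

open CategoryTheory CategoryTheory.Limits MvPolynomial

namespace Groth.Agent.LC15.PolyPD

variable {A : Type u} [CommRing A] {σ : Type u}

local notation "P" => MvPolynomial σ A

theorem mem_span_of_mul_X_mem (S : Finset σ) (j : σ) (hj : j ∉ S) (p : P)
    (h : p * X j ∈ Ideal.span (X '' (S : Set σ) : Set P)) :
    p ∈ Ideal.span (X '' (S : Set σ) : Set P) := by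
  classical
  rw [mem_ideal_span_X_image] at h ⊢
  intro m hm
  obtain ⟨i, hi, hmi⟩ := h (m + Finsupp.single j 1) (by
    rw [mem_support_iff, coeff_mul_X]
    exact mem_support_iff.1 hm)
  refine ⟨i, hi, ?_⟩
  have hij : i ≠ j := fun e => hj (e ▸ hi)
  simpa [hij] using hmi

theorem hasPD_quot_span_X (S : Finset σ) :
    HasProjectiveDimensionLT (ModuleCat.of P (P ⧸ Ideal.span (X '' (S : Set σ) : Set P)))
      (S.card + 1) := by
  classical
  induction S using Finset.induction with
  | empty =>
    haveI : Module.Projective P (P ⧸ Ideal.span (X '' ((∅ : Finset σ) : Set σ) : Set P)) :=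
      Module.Projective.of_equiv (Submodule.quotEquivOfEqBot _ (by simp)).symm
    exact projective_iff_hasProjectiveDimensionLT_one.1
      ((IsProjective.iff_projective (R := P) _).1 inferInstance)
  | insert j S hj ih =>
    let K : Ideal P := Ideal.span (X '' (S : Set σ))
    let K' : Ideal P := Ideal.span (X '' ((insert j S : Finset σ) : Set σ))
    have hK : K ≤ K' := Ideal.span_mono (Set.image_mono (by simp))
    have hK' : K' = K ⊔ Ideal.span {X j} := by
      rw [← Ideal.span_union]
      simp only [K', Finset.coe_insert, Set.image_insert_eq, Set.union_singleton]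
    let μ : (P ⧸ K) →ₗ[P] (P ⧸ K) := LinearMap.lsmul P (P ⧸ K) (X j)
    let g : (P ⧸ K) →ₗ[P] (P ⧸ K') := Submodule.mapQ K K' LinearMap.id hK
    have hinj : Function.Injective μ := (injective_iff_map_eq_zero μ).2 fun z hz => by
      obtain ⟨p, rfl⟩ := Submodule.Quotient.mk_surjective _ z
      refine (Submodule.Quotient.mk_eq_zero _).2 (mem_span_of_mul_X_mem S j hj p ?_)
      rw [mul_comm]
      exact (Submodule.Quotient.mk_eq_zero K).1 hz
    have hex : Function.Exact μ g := by
      intro z
      obtain ⟨p, rfl⟩ := Submodule.Quotient.mk_surjective _ z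
      show Submodule.Quotient.mk p = 0 ↔ _
      rw [Submodule.Quotient.mk_eq_zero, hK', Submodule.mem_sup]
      constructor
      · rintro ⟨k, hk, y, hy, rfl⟩
        obtain ⟨r, rfl⟩ := Ideal.mem_span_singleton'.1 hy
        refine ⟨Submodule.Quotient.mk r, (Submodule.Quotient.eq K).2 ?_⟩
        show X j * r - (k + r * X j) ∈ K
        rw [show X j * r - (k + r * X j) = -k by ring]
        exact K.neg_mem hk
      · rintro ⟨y, hy⟩
        obtain ⟨r, rfl⟩ := Submodule.Quotient.mk_surjective _ y
        have : X j * r - p ∈ K := (Submodule.Quotient.eq K).1 hy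
        exact ⟨-(X j * r - p), K.neg_mem this, X j * r, Ideal.mul_mem_right _ _
          (Ideal.subset_span rfl), by ring⟩
    have hg : Function.Surjective g := fun z => by
      obtain ⟨p, rfl⟩ := Submodule.Quotient.mk_surjective _ z
      exact ⟨Submodule.Quotient.mk p, rfl⟩
    let T : ShortComplex (ModuleCat.{u} P) :=
      ShortComplex.mk (ModuleCat.ofHom μ) (ModuleCat.ofHom g)
        (ModuleCat.hom_ext (LinearMap.ext hex.apply_apply_eq_zero))
    have hT : T.ShortExact :=
      ShortComplex.ShortExact.mk' ((ShortComplex.ShortExact.moduleCat_exact_iff_function_exact T).2 hex)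
        ((ModuleCat.mono_iff_injective _).2 hinj) ((ModuleCat.epi_iff_surjective _).2 hg)
    rw [Finset.card_insert_of_notMem hj]
    exact hT.hasProjectiveDimensionLT_X₃ (S.card + 1) ih
      (hasProjectiveDimensionLT_of_ge _ (S.card + 1) _ (Nat.le_succ _))

theorem hasPD_pi (N : Type u) [AddCommGroup N] [Module P N] (n : ℕ)
    (h : HasProjectiveDimensionLT (ModuleCat.of P N) (n + 1)) :
    ∀ k : ℕ, HasProjectiveDimensionLT (ModuleCat.of P (Fin k → N)) (n + 1)
  | 0 => by
    haveI := (ModuleCat.isZero_of_subsingleton
      (ModuleCat.of P (Fin 0 → N))).hasProjectiveDimensionLT_zero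
    exact hasProjectiveDimensionLT_of_ge _ 0 _ (Nat.zero_le _)
  | k + 1 => by
    let i : N →ₗ[P] (Fin (k + 1) → N) := LinearMap.single P (fun _ => N) 0
    let g : (Fin (k + 1) → N) →ₗ[P] (Fin k → N) := LinearMap.funLeft P N Fin.succ
    have hex : Function.Exact i g := by
      intro x
      constructor
      · intro hx
        refine ⟨x 0, funext fun j => ?_⟩
        induction j using Fin.cases with
        | zero => simp [i]
        | succ j => simpa [i, g, LinearMap.funLeft_apply, Fin.succ_ne_zero] using (congrFun hx j).symm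
      · rintro ⟨y, rfl⟩
        exact funext fun j => by simp [i, g, Fin.succ_ne_zero]
    let T : ShortComplex (ModuleCat.{u} P) :=
      ShortComplex.mk (ModuleCat.ofHom i) (ModuleCat.ofHom g)
        (ModuleCat.hom_ext (LinearMap.ext hex.apply_apply_eq_zero))
    have hT : T.ShortExact :=
      ShortComplex.ShortExact.mk' ((ShortComplex.ShortExact.moduleCat_exact_iff_function_exact T).2 hex)
        ((ModuleCat.mono_iff_injective _).2
          (show Function.Injective i from Pi.single_injective (M := fun _ : Fin (k + 1) => N) 0))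
        ((ModuleCat.epi_iff_surjective _).2 fun y => ⟨Fin.cases 0 y, rfl⟩)
    exact hT.hasProjectiveDimensionLT_X₂ (n + 1) h (hasPD_pi N n h k)

theorem hasPD_quot_pow [Fintype σ] (a : ℕ) :
    HasProjectiveDimensionLT (ModuleCat.of P (P ⧸ idealOfVars σ A ^ a)) (Fintype.card σ + 1) := by
  classical
  induction a with
  | zero =>
    haveI : Subsingleton (P ⧸ idealOfVars σ A ^ 0) :=
      Submodule.Quotient.subsingleton_iff.2 (by rw [pow_zero, Ideal.one_eq_top])
    haveI := (ModuleCat.isZero_of_subsingleton
      (ModuleCat.of P (P ⧸ idealOfVars σ A ^ 0))).hasProjectiveDimensionLT_zero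
    exact hasProjectiveDimensionLT_of_ge _ 0 _ (Nat.zero_le _)
  | succ a ih =>
    let J : Ideal P := idealOfVars σ A
    haveI : Finite {d : σ →₀ ℕ // Finsupp.degree d = a} :=
      (Finsupp.finite_of_degree_eq (σ := σ) a).to_subtype
    obtain ⟨k, ⟨e⟩⟩ := Finite.exists_equiv_fin {d : σ →₀ ℕ // Finsupp.degree d = a}
    let d : Fin k → (σ →₀ ℕ) := fun i => (e.symm i).1
    have hd : ∀ i, Finsupp.degree (d i) = a := fun i => (e.symm i).2
    let comp : Fin k → (P ⧸ J) →ₗ[P] (P ⧸ J ^ (a + 1)) := fun i =>
      Submodule.mapQ J (J ^ (a + 1)) (LinearMap.mulRight P (monomial (d i) (1 : A))) fun r hr => by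
        show r * monomial (d i) (1 : A) ∈ J ^ (a + 1)
        rw [pow_succ']
        refine Ideal.mul_mem_mul hr ((mem_pow_idealOfVars_iff a _).2 fun x hx => ?_)
        rw [Finset.mem_singleton.1 (support_monomial_subset hx), hd]
    let Φ : (Fin k → P ⧸ J) →ₗ[P] (P ⧸ J ^ (a + 1)) := ∑ i, comp i ∘ₗ LinearMap.proj i
    let g : (P ⧸ J ^ (a + 1)) →ₗ[P] (P ⧸ J ^ a) :=
      Submodule.mapQ _ _ LinearMap.id (Ideal.pow_le_pow_right (Nat.le_succ a))
    have hΦ : ∀ r : Fin k → P, Φ (fun i => Submodule.Quotient.mk (r i)) =
        Submodule.Quotient.mk (∑ i, r i * monomial (d i) (1 : A)) := fun r => by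
      simp only [Φ, LinearMap.sum_apply, LinearMap.comp_apply, LinearMap.proj_apply]
      rw [← Submodule.mkQ_apply, map_sum]
      rfl
    have hinj : Function.Injective Φ := (injective_iff_map_eq_zero Φ).2 fun z hz => by
      choose r hr using fun i => Submodule.Quotient.mk_surjective J (z i)
      rw [show z = fun i => Submodule.Quotient.mk (r i) from funext fun i => (hr i).symm, hΦ,
        Submodule.Quotient.mk_eq_zero, mem_pow_idealOfVars_iff'] at hz
      refine funext fun i₀ => ?_
      rw [← hr i₀, Pi.zero_apply, Submodule.Quotient.mk_eq_zero, ← pow_one J, mem_pow_idealOfVars_iff']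
      intro x hx
      obtain rfl : x = 0 := (Finsupp.degree_eq_zero_iff x).1 (by omega)
      have h1 := hz (d i₀) (by rw [hd]; omega)
      rw [coeff_sum, Finset.sum_eq_single i₀] at h1
      · simpa [coeff_mul_monomial'] using h1
      · intro i _ hi
        rw [coeff_mul_monomial', if_neg]
        intro hle
        obtain ⟨c, hc⟩ := exists_add_of_le hle
        have h2 : Finsupp.degree (d i₀) = Finsupp.degree (d i) + Finsupp.degree c := by
          rw [hc, map_add]
        rw [hd, hd] at h2
        have h3 : c = 0 := (Finsupp.degree_eq_zero_iff c).1 (by omega)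
        rw [h3, add_zero] at hc
        exact hi (e.symm.injective (Subtype.ext hc)).symm
      · exact fun h => absurd (Finset.mem_univ _) h
    have hex : Function.Exact Φ g := by
      intro z
      constructor
      · intro hz
        obtain ⟨p, rfl⟩ := Submodule.Quotient.mk_surjective _ z
        have hp : p ∈ J ^ a := (Submodule.Quotient.mk_eq_zero _).1 hz
        rw [pow_idealOfVars_eq_span] at hp
        induction hp using Submodule.span_induction with
        | mem x hx =>
          obtain ⟨m, hm, rfl⟩ := hx
          refine ⟨fun i => Submodule.Quotient.mk ((Pi.single (e ⟨m, hm⟩) (1 : P) : Fin k → P) i), ?_⟩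
          rw [hΦ, Finset.sum_eq_single (e ⟨m, hm⟩)]
          · simp [d]
          · intro i _ hi; simp [hi]
          · simp
        | zero => exact ⟨0, map_zero Φ⟩
        | add x y hx hy ihx ihy =>
          have hJ : ∀ w, w ∈ Submodule.span P ((monomial · (1 : A)) '' (Finsupp.degree ⁻¹' {a})) →
              g (Submodule.Quotient.mk w) = 0 := fun w hw => by
            refine (Submodule.Quotient.mk_eq_zero _).2 ?_
            rw [pow_idealOfVars_eq_span]
            exact hw
          obtain ⟨u, hu⟩ := ihx (hJ x hx)
          obtain ⟨v, hv⟩ := ihy (hJ y hy)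
          exact ⟨u + v, by rw [map_add, hu, hv]; rfl⟩
        | smul c x hx ih =>
          obtain ⟨u, hu⟩ := ih ((Submodule.Quotient.mk_eq_zero _).2 (by
            rw [pow_idealOfVars_eq_span]; exact hx))
          exact ⟨c • u, by rw [map_smul, hu]; rfl⟩
      · rintro ⟨y, rfl⟩
        choose r hr using fun i => Submodule.Quotient.mk_surjective J (y i)
        rw [show y = fun i => Submodule.Quotient.mk (r i) from funext fun i => (hr i).symm, hΦ]
        refine (Submodule.Quotient.mk_eq_zero _).2 ?_
        change (∑ i, r i * monomial (d i) (1 : A)) ∈ J ^ a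
        refine Ideal.sum_mem _ fun i _ => Ideal.mul_mem_left _ _ ?_
        exact (mem_pow_idealOfVars_iff a _).2 fun x hx => by
          rw [Finset.mem_singleton.1 (support_monomial_subset hx), hd]
    let T : ShortComplex (ModuleCat.{u} P) :=
      ShortComplex.mk (ModuleCat.ofHom Φ) (ModuleCat.ofHom g)
        (ModuleCat.hom_ext (LinearMap.ext hex.apply_apply_eq_zero))
    have hT : T.ShortExact :=
      ShortComplex.ShortExact.mk' ((ShortComplex.ShortExact.moduleCat_exact_iff_function_exact T).2 hex)
        ((ModuleCat.mono_iff_injective _).2 hinj)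
        ((ModuleCat.epi_iff_surjective _).2 fun z => by
          obtain ⟨p, rfl⟩ := Submodule.Quotient.mk_surjective _ z
          exact ⟨Submodule.Quotient.mk p, rfl⟩)
    refine hT.hasProjectiveDimensionLT_X₂ (Fintype.card σ + 1) (hasPD_pi _ _ ?_ k) ih
    have hu := hasPD_quot_span_X (A := A) (Finset.univ : Finset σ)
    rw [Finset.card_univ, Finset.coe_univ, Set.image_univ] at hu
    exact hu

end Groth.Agent.LC15.PolyPD
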