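import Groth.Agent.LC17.PunctAffine
import Groth.Agent.LC15.NonVanish
import Groth.Agent.LC15.Dim

/-!
An affine punctured spectrum bounds the cohomological dimension by one.
-/

namespace Groth.Agent.LC15

universe u

set_option autoImplicit false

open CategoryTheory AlgebraicGeometry Opposite TopologicalSpace IsLocalRing

variable {R : Type u} [CommRing R] [IsNoetherianRing R]

theorem cdLE_one_of_isAffineOpen (a : Ideal R) (hU : IsAffineOpen (LocCoh.puncturedOpen R a)) :
    LocCoh.CdLE R a 1 := by
  refine LC16.DT.rightExact_iff_cdLE.1 (LC16.DT.rightExact_of_smul_top ?_)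
  set U : (Spec (CommRingCat.of R)).Opens := LocCoh.puncturedOpen R a with hUdef
  let res : R → Γ(Spec (CommRingCat.of R), U) := fun c =>
    ((Spec (CommRingCat.of R)).presheaf.map U.leTop.op).hom
      ((Scheme.ΓSpecIso (CommRingCat.of R)).inv c)
  have hspan : Ideal.span (res '' (a : Set R)) = ⊤ := by
    rw [← hU.self_le_iSup_basicOpen_iff]
    intro x hx
    obtain ⟨c, hca, hcx⟩ : ∃ c ∈ a, c ∉ (x : PrimeSpectrum R).asIdeal := by
      by_contra! hcon
      exact hx (fun c hc => hcon c hc)
    refine Opens.mem_iSup.2 ⟨⟨res c, c, hca, rfl⟩, ?_⟩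
    show x ∈ (Spec (CommRingCat.of R)).basicOpen (((Spec (CommRingCat.of R)).presheaf.map U.leTop.op).hom
      ((Scheme.ΓSpecIso (CommRingCat.of R)).inv c))
    rw [Scheme.basicOpen_res, basicOpen_eq_of_affine']
    refine ⟨hx, ?_⟩
    erw [CommRingCat.inv_hom_apply]
    exact hcx
  have hsec : a • (⊤ : Submodule R ((LC17.tsheaf R).presheaf.obj (op U))) = ⊤ := by
    let toM : Γ(Spec (CommRingCat.of R), U) →+ (LC17.tsheaf R).presheaf.obj (op U) :=
      AddMonoidHom.mk' (fun x => x) fun _ _ => rfl
    have hsm : ∀ (c : R) (w : Γ(Spec (CommRingCat.of R), U)), toM (res c * w) = c • toM w :=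
      fun _ _ => rfl
    have key : ∀ z ∈ Ideal.span (res '' (a : Set R)), ∀ w : Γ(Spec (CommRingCat.of R), U),
        toM (z * w) ∈ a • (⊤ : Submodule R ((LC17.tsheaf R).presheaf.obj (op U))) := by
      intro z hz
      induction hz using Submodule.span_induction with
      | mem z hz =>
        obtain ⟨c, hc, rfl⟩ := hz
        intro w
        rw [hsm]
        exact Submodule.smul_mem_smul hc trivial
      | zero => intro w; rw [zero_mul, map_zero]; exact zero_mem _
      | add z z' _ _ h h' => intro w; rw [add_mul, map_add]; exact add_mem (h w) (h' w)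
      | smul r z _ h =>
        intro w
        rw [smul_eq_mul, mul_comm r z, mul_assoc]
        exact h (r * w)
    rw [eq_top_iff]
    intro z _
    have h1 := key 1 (hspan.symm ▸ Submodule.mem_top) (show Γ(Spec (CommRingCat.of R), U) from z)
    rw [one_mul] at h1
    exact h1
  have h' := congrArg (Submodule.map (LC17.sectionsDT a R).symm.toLinearMap) hsec
  rwa [Submodule.map_smul'', Submodule.map_top, LinearEquiv.range] at h'

theorem height_le_one_of_affine_compl {A : Type u} [CommRing A] [IsNoetherianRing A]
    (U : (Spec (CommRingCat.of A)).Opens) (hU : IsAffineOpen U) (p : PrimeSpectrum A)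
    (hpU : (p : (Spec (CommRingCat.of A) : Type u)) ∉ (U : Set (Spec (CommRingCat.of A) : Type u)))
    (hmin : ∀ q : PrimeSpectrum A, q.asIdeal ≤ p.asIdeal →
      (q : (Spec (CommRingCat.of A) : Type u)) ∉ (U : Set (Spec (CommRingCat.of A) : Type u)) → q = p) :
    p.asIdeal.height ≤ 1 := by
  set B := Localization.AtPrime p.asIdeal
  let f : Spec (CommRingCat.of B) ⟶ Spec (CommRingCat.of A) :=
    Spec.map (CommRingCat.ofHom (algebraMap A B))
  have hpre : f ⁻¹ᵁ U = LocCoh.puncturedOpen B (maximalIdeal B) := by
    refine SetLike.ext fun x => ?_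
    show (f x) ∈ U ↔ ¬ (maximalIdeal B ≤ x.asIdeal)
    have hfx : f x = PrimeSpectrum.comap (algebraMap A B) x := rfl
    rw [hfx]
    constructor
    · intro h hle
      have hx : x.asIdeal = maximalIdeal B :=
        le_antisymm (IsLocalRing.le_maximalIdeal x.isPrime.ne_top) hle
      refine hpU ?_
      have he : PrimeSpectrum.comap (algebraMap A B) x = p := PrimeSpectrum.ext (by
        rw [PrimeSpectrum.comap_asIdeal, hx]
        exact IsLocalization.AtPrime.comap_maximalIdeal B p.asIdeal)
      exact he ▸ h
    · intro h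
      by_contra hxU
      have he := hmin (PrimeSpectrum.comap (algebraMap A B) x)
        ((Ideal.comap_mono (IsLocalRing.le_maximalIdeal x.isPrime.ne_top)).trans
          (IsLocalization.AtPrime.comap_maximalIdeal B p.asIdeal).le) hxU
      refine h (le_of_eq ?_)
      exact Localization.AtPrime.map_eq_maximalIdeal.symm.trans ((congrArg (Ideal.map (algebraMap A B))
        (congrArg PrimeSpectrum.asIdeal he).symm).trans
          (IsLocalization.map_under p.asIdeal.primeCompl B x.asIdeal))
  have haff : IsAffineOpen (LocCoh.puncturedOpen B (maximalIdeal B)) := hpre ▸ hU.preimage f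
  have hcd := cdLE_one_of_isAffineOpen _ haff
  obtain ⟨d, hd⟩ := ENat.ne_top_iff_exists.mp (p.asIdeal.height_ne_top p.isPrime.ne_top)
  rw [← hd]
  by_contra hlt
  have hd2 : 1 < d := by
    by_contra h
    exact hlt (by exact_mod_cast not_lt.mp h)
  have hdim : ringKrullDim B = d := by
    rw [IsLocalization.AtPrime.ringKrullDim_eq_height p.asIdeal B, ← hd]
    rfl
  haveI := nontrivial_H_supportDim d B ((Module.supportDim_self_eq_ringKrullDim B).trans hdim)
  exact not_subsingleton _ (hcd B d hd2)

end Groth.Agent.LC15
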