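import Mathlib.RingTheory.Localization.Module
import Mathlib.Algebra.Module.FinitePresentation
import Mathlib.RingTheory.Localization.Finiteness
import Mathlib.RingTheory.TensorProduct.IsBaseChangePi
import Mathlib.RingTheory.Localization.Away.Basic

set_option autoImplicit false

universe u

namespace Groth.Agent.LC15.PU

variable {A : Type u} [CommRing A]

section Fac

variable (M : Type u) [AddCommGroup M] [Module A M] [Module.FinitePresentation A M]

theorem exists_factor_of_projective_fp (f : A)
    [Module.Projective (Localization.Away f) (LocalizedModule (Submonoid.powers f) M)] :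
    ∃ (n : ℕ) (p : (Fin n → A) →ₗ[A] M) (g : M →ₗ[A] (Fin n → A)) (k : ℕ),
      ∀ m : M, p (g m) = f ^ k • m := by
  classical
  obtain ⟨n, p, hp⟩ := Module.Finite.exists_fin' A M
  let S := Submonoid.powers f
  set L := Localization.Away f
  let F : (Fin n → A) →ₗ[A] (Fin n → L) :=
    LinearMap.pi fun i => (Algebra.linearMap A L).comp (LinearMap.proj i)
  haveI : IsLocalizedModule S F := IsLocalizedModule.pi S fun _ : Fin n => Algebra.linearMap A L
  let ι := LocalizedModule.mkLinearMap S M
  let pL' : (Fin n → L) →ₗ[L] LocalizedModule S M :=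
    (IsLocalizedModule.map S F ι p).extendScalarsOfIsLocalization S L
  have hpL : ∀ v, pL' (F v) = ι (p v) := fun v => IsLocalizedModule.map_apply S F ι p v
  have hsurj : Function.Surjective pL' := IsLocalizedModule.map_surjective S F ι p hp
  obtain ⟨σ, hσ⟩ := Module.projective_lifting_property pL' LinearMap.id hsurj
  obtain ⟨g, s, hg⟩ := Module.FinitePresentation.exists_lift_of_isLocalizedModule S F
    ((σ.restrictScalars A).comp ι)
  have hD : ∀ x : M, ∃ k : ℕ, f ^ k • (p (g x) - (s : A) • x) = 0 := by
    intro x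
    have h1 : ι (p (g x) - (s : A) • x) = 0 := by
      have hgx : F (g x) = (s : A) • σ (ι x) := congr($hg x)
      rw [map_sub, map_smul, ← hpL, hgx, sub_eq_zero, LinearMap.map_smul_of_tower]
      exact congrArg _ (congr($hσ (ι x)))
    obtain ⟨v, hv, hv'⟩ := LocalizedModule.mem_ker_mkLinearMap_iff.mp (LinearMap.mem_ker.mpr h1)
    obtain ⟨k, rfl⟩ := hv
    exact ⟨k, hv'⟩
  choose kf hk using hD
  obtain ⟨t, ht⟩ := (Module.Finite.fg_top : (⊤ : Submodule A M).FG)
  obtain ⟨l, hl⟩ : ∃ l : ℕ, f ^ l = (s : A) := s.2
  have hall : ∀ x : M, f ^ (t.sup kf) • (p (g x) - (s : A) • x) = 0 := by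
    intro x
    let D : M →ₗ[A] M := f ^ (t.sup kf) • (p ∘ₗ g - (s : A) • LinearMap.id)
    have : D = 0 := by
      refine LinearMap.ext_on ht fun y hy => ?_
      obtain ⟨c, hc⟩ := Nat.exists_eq_add_of_le (Finset.le_sup (f := kf) hy)
      change f ^ (t.sup kf) • (p (g y) - (s : A) • y) = 0
      rw [hc, pow_add, mul_comm, mul_smul, hk, smul_zero]
    exact congr($this x)
  refine ⟨n, f ^ (t.sup kf) • p, g, t.sup kf + l, fun x => ?_⟩
  have := hall x
  rw [smul_sub, sub_eq_zero, smul_smul, ← hl, ← pow_add] at this
  exact this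

end Fac

/-- A module with finitely presented localizations at finitely many elements receives a map from a
finitely presented module which is an isomorphism after each of these localizations. -/
theorem exists_fp_approx (T : Type u) [AddCommGroup T] [Module A T] {κ : Type u} [Finite κ]
    (g : κ → A)
    (h : ∀ k, Module.FinitePresentation (Localization.Away (g k))
      (LocalizedModule (Submonoid.powers (g k)) T)) :
    ∃ (P : Type u) (_ : AddCommGroup P) (_ : Module A P) (_ : Module.FinitePresentation A P)
      (φ : P →ₗ[A] T), ∀ k, Function.Bijective (LocalizedModule.map (Submonoid.powers (g k)) φ) := by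
  classical
  haveI := Fintype.ofFinite κ
  -- finitely many elements generating every localization
  have hgen : ∀ k, ∃ t : Finset T, ∀ x : T, ∃ n : ℕ, g k ^ n • x ∈ Submodule.span A (t : Set T) := by
    intro k
    obtain ⟨s, hs⟩ := ((h k).out).imp fun _ hs => hs.1
    choose num hnum using fun z : LocalizedModule (Submonoid.powers (g k)) T =>
      IsLocalizedModule.surj (Submonoid.powers (g k))
        (LocalizedModule.mkLinearMap (Submonoid.powers (g k)) T) z
    refine ⟨s.image fun z => (num z).1, fun x => ?_⟩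
    set W := Submodule.span A ((s.image fun z => (num z).1 : Finset T) : Set T)
    set L := Localization.Away (g k)
    set ι := LocalizedModule.mkLinearMap (Submonoid.powers (g k)) T
    have hx : ι x ∈ Submodule.localized' L (Submonoid.powers (g k)) ι W := by
      have htop : Submodule.span L (s : Set (LocalizedModule (Submonoid.powers (g k)) T)) ≤
          Submodule.localized' L (Submonoid.powers (g k)) ι W := by
        refine Submodule.span_le.2 fun z hz => ?_
        refine ⟨(num z).1, Submodule.subset_span (Finset.mem_image_of_mem _ hz), (num z).2, ?_⟩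
        rw [IsLocalizedModule.mk'_eq_iff]
        exact (hnum z).symm
      exact htop (hs.ge trivial)
    obtain ⟨w, hw, c, hc⟩ := hx
    rw [IsLocalizedModule.mk'_eq_iff, Submonoid.smul_def, ← map_smul,
      IsLocalizedModule.eq_iff_exists (Submonoid.powers (g k))] at hc
    obtain ⟨⟨d, hd⟩, hd'⟩ := hc
    obtain ⟨a, ha⟩ := hd
    obtain ⟨b, hb⟩ : ∃ b, g k ^ b = (c : A) := c.2
    refine ⟨a + b, ?_⟩
    rw [pow_add, mul_smul, hb]
    have : d • w = d • ((c : A) • x) := hd'
    rw [show g k ^ a = d from ha, ← this]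
    exact W.smul_mem _ hw
  choose t ht using hgen
  let τ : Finset T := Finset.univ.biUnion t
  let q : (↥τ → A) →ₗ[A] T := Fintype.linearCombination A fun z : τ => (z : T)
  have hq : ∀ k (x : T), ∃ (n : ℕ) (v : ↥τ → A), q v = g k ^ n • x := by
    intro k x
    obtain ⟨n, hn⟩ := ht k x
    have hrange : Submodule.span A ((t k : Finset T) : Set T) ≤ LinearMap.range q := by
      refine Submodule.span_le.2 fun z hz => ⟨Pi.single ⟨z, Finset.mem_biUnion.2 ⟨k, Finset.mem_univ k, hz⟩⟩ 1, ?_⟩
      simp [q, Fintype.linearCombination_apply_single]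
    exact ⟨n, hrange hn⟩
  -- the kernel is finitely generated after each localization
  have hker : ∀ k, ∃ u : Finset (↥τ → A), (∀ v ∈ u, q v = 0) ∧
      ∀ v, q v = 0 → ∃ n : ℕ, g k ^ n • v ∈ Submodule.span A (u : Set _) := by
    intro k
    set S := Submonoid.powers (g k)
    set L := Localization.Away (g k)
    set F := LocalizedModule.mkLinearMap S (↥τ → A)
    set ι := LocalizedModule.mkLinearMap S T
    let qL : LocalizedModule S (↥τ → A) →ₗ[L] LocalizedModule S T := LocalizedModule.map S q
    have hqF : ∀ v, qL (F v) = ι (q v) := fun v => by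
      exact LocalizedModule.map_mk (S := S) q v 1
    have hsurj : Function.Surjective qL := by
      intro z
      obtain ⟨⟨x, c⟩, hz⟩ := IsLocalizedModule.surj S ι z
      obtain ⟨n, v, hv⟩ := hq k x
      refine ⟨IsLocalizedModule.mk' F v (⟨g k ^ n, ⟨n, rfl⟩⟩ * c), ?_⟩
      apply (IsLocalizedModule.smul_inj ι (⟨g k ^ n, ⟨n, rfl⟩⟩ * c) _ _).1
      rw [Submonoid.smul_def, ← LinearMap.map_smul_of_tower, ← Submonoid.smul_def,
        IsLocalizedModule.mk'_cancel', hqF, hv, map_smul, Submonoid.smul_def, Submonoid.coe_mul,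
        mul_smul, ← Submonoid.smul_def c, hz]
    haveI : Module.Finite L (LocalizedModule S (↥τ → A)) :=
      Module.Finite.of_isLocalizedModule S F
    haveI := h k
    obtain ⟨s, hs⟩ := Module.FinitePresentation.fg_ker qL hsurj
    choose num hnum using fun z : LocalizedModule S (↥τ → A) => IsLocalizedModule.surj S F z
    have hsker : ∀ z ∈ s, ∃ d ∈ S, d • q (num z).1 = 0 := by
      intro z hz
      have h0 : qL z = 0 := (hs.le (Submodule.subset_span hz) : z ∈ LinearMap.ker qL)
      have h1 : ι (q (num z).1) = 0 := by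
        rw [← hqF, ← hnum z, Submonoid.smul_def, LinearMap.map_smul_of_tower, h0, smul_zero]
      obtain ⟨d, hd, hd'⟩ := LocalizedModule.mem_ker_mkLinearMap_iff.1 (LinearMap.mem_ker.2 h1)
      exact ⟨d, hd, hd'⟩
    choose! d hdS hd using hsker
    refine ⟨s.image fun z => d z • (num z).1, ?_, fun v hv => ?_⟩
    · intro w hw
      obtain ⟨z, hz, rfl⟩ := Finset.mem_image.1 hw
      rw [map_smul, hd z hz]
    set W := Submodule.span A ((s.image fun z => d z • (num z).1 : Finset _) : Set (↥τ → A))
    have hmem : F v ∈ Submodule.localized' L S F W := by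
      have hle : LinearMap.ker qL ≤ Submodule.localized' L S F W := by
        rw [← hs, Submodule.span_le]
        intro z hz
        refine ⟨d z • (num z).1, Submodule.subset_span (Finset.mem_image_of_mem _ hz),
          ⟨d z, hdS z hz⟩ * (num z).2, ?_⟩
        rw [IsLocalizedModule.mk'_eq_iff, map_smul, Submonoid.smul_def, Submonoid.coe_mul, mul_smul,
          ← Submonoid.smul_def (num z).2, hnum]
      exact hle (LinearMap.mem_ker.2 (by rw [hqF, hv, map_zero]))
    obtain ⟨w, hw, c, hc⟩ := hmem
    rw [IsLocalizedModule.mk'_eq_iff, Submonoid.smul_def, ← map_smul,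
      IsLocalizedModule.eq_iff_exists S] at hc
    obtain ⟨⟨e, a, ha⟩, he⟩ := hc
    obtain ⟨b, hb⟩ : ∃ b, g k ^ b = (c : A) := c.2
    refine ⟨a + b, ?_⟩
    rw [pow_add, mul_smul, hb, show g k ^ a = e from ha]
    have : e • w = e • ((c : A) • v) := he
    rw [← this]
    exact W.smul_mem _ hw
  choose u hu0 hu using hker
  let K : Submodule A (↥τ → A) := Submodule.span A ((Finset.univ.biUnion u : Finset _) : Set _)
  have hK : K ≤ LinearMap.ker q := by
    refine Submodule.span_le.2 fun w hw => ?_
    obtain ⟨k, -, hwk⟩ := Finset.mem_biUnion.1 hw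
    exact hu0 k w hwk
  have hfp : Module.FinitePresentation A ((↥τ → A) ⧸ K) :=
    Module.finitePresentation_of_surjective K.mkQ K.mkQ_surjective
      (by rw [Submodule.ker_mkQ]; exact ⟨_, rfl⟩)
  refine ⟨(↥τ → A) ⧸ K, inferInstance, inferInstance, hfp, K.liftQ q hK, fun k => ?_⟩
  set S := Submonoid.powers (g k)
  constructor
  · refine (injective_iff_map_eq_zero _).2 fun z hz => ?_
    induction z using LocalizedModule.induction_on with
    | h y c =>
      obtain ⟨v, rfl⟩ := K.mkQ_surjective y
      rw [LocalizedModule.map_mk, ← LocalizedModule.zero_mk c, LocalizedModule.mk_eq] at hz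
      obtain ⟨⟨d, a, ha⟩, hd⟩ := hz
      simp only [Submonoid.smul_def, smul_zero] at hd
      have h1 : q (((d : A) * (c : A)) • v) = 0 := by
        rw [map_smul, mul_smul]
        exact hd
      obtain ⟨n, hn⟩ := hu k _ h1
      have h2 : g k ^ n • ((d : A) * (c : A)) • v ∈ K :=
        Submodule.span_mono (Finset.coe_subset.2 (Finset.subset_biUnion_of_mem u (Finset.mem_univ k))) hn
      rw [← LocalizedModule.zero_mk c, LocalizedModule.mk_eq]
      refine ⟨⟨g k ^ n * d, mul_mem ⟨n, rfl⟩ ⟨a, ha⟩⟩, ?_⟩
      simp only [Submonoid.smul_def, smul_zero]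
      rw [← map_smul, ← map_smul, Submodule.mkQ_apply, Submodule.Quotient.mk_eq_zero, mul_smul]
      rwa [mul_smul] at h2
  · intro z
    induction z using LocalizedModule.induction_on with
    | h x c =>
      obtain ⟨n, v, hv⟩ := hq k x
      refine ⟨LocalizedModule.mk (K.mkQ v) (⟨g k ^ n, ⟨n, rfl⟩⟩ * c), ?_⟩
      rw [LocalizedModule.map_mk]
      change LocalizedModule.mk (q v) _ = _
      rw [hv, ← Submonoid.smul_def (⟨g k ^ n, ⟨n, rfl⟩⟩ : S) x]
      exact LocalizedModule.mk_cancel_common_left _ _ _

end Groth.Agent.LC15.PU
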