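import Groth.Agent.LC15.PunctAlg
import Groth.Agent.Props58.LocFree.Affine
import Groth.Prelude.Def_Wider
import Groth.Prelude.Def_Canon

/-!
Maps of associated sheaves which are isomorphisms on an open; induced maps on cohomology.
-/

set_option autoImplicit false
set_option backward.isDefEq.respectTransparency.types false

noncomputable section

universe u

open CategoryTheory Limits AlgebraicGeometry TopologicalSpace Opposite

namespace Groth.Agent.LC15.PU

variable {R : CommRingCat.{u}} {P Q : ModuleCat.{u} R}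

theorem tilde_map_apply (f : P ⟶ Q) (V : Opens (PrimeSpectrum R)) (s : Γ(tilde P, V)) (y : V) :
    (((tilde.map f).app V s : Γ(tilde Q, V)).1 y) =
      LocalizedModule.map (y : PrimeSpectrum R).asIdeal.primeCompl f.hom (s.1 y) := rfl

theorem tilde_smul_apply (V : Opens (PrimeSpectrum R)) (r : R) (s : Γ(tilde P, V)) (y : V) :
    ((r • s : Γ(tilde P, V)).1 y) = r • (s.1 y) :=
  congrArg (fun z : ((structureSheafInType R P).obj.obj (Opposite.op V)) => z.1 y)
    (LinearEquiv.map_smul ((tilde.modulesSpecToSheafIso P).app (Opposite.op V)).toLinearEquiv r s)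

theorem tilde_map_smul_id (a : R) (V : Opens (PrimeSpectrum R)) (s : Γ(tilde P, V)) :
    (tilde.map (a • 𝟙 P)).app V s = a • s := by
  refine Subtype.ext (funext fun y => ?_)
  rw [tilde_map_apply, tilde_smul_apply]
  generalize s.1 y = z
  induction z using LocalizedModule.induction_on with
  | h m c =>
    rw [LocalizedModule.map_mk, LocalizedModule.smul'_mk]
    rfl

/-- Localized bijectivity passes to primes avoiding the element. -/
theorem bijective_map_prime (φ : P ⟶ Q) {g : R}
    (h : Function.Bijective (LocalizedModule.map (Submonoid.powers g) φ.hom))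
    (p : PrimeSpectrum R) (hg : g ∉ p.asIdeal) :
    Function.Bijective (LocalizedModule.map p.asIdeal.primeCompl φ.hom) := by
  have hle : ∀ n : ℕ, g ^ n ∈ p.asIdeal.primeCompl := fun n hn => hg (p.isPrime.mem_of_pow_mem n hn)
  constructor
  · refine (injective_iff_map_eq_zero _).2 fun z hz => ?_
    induction z using LocalizedModule.induction_on with
    | h m c =>
      rw [LocalizedModule.map_mk, ← LocalizedModule.zero_mk c, LocalizedModule.mk_eq] at hz
      obtain ⟨d, hd⟩ := hz
      simp only [Submonoid.smul_def, smul_zero] at hd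
      have h0 : LocalizedModule.map (Submonoid.powers g) φ.hom
          (LocalizedModule.mk (((d : R) * (c : R)) • m) 1) = 0 := by
        rw [LocalizedModule.map_mk, map_smul, mul_smul, hd]
        exact LocalizedModule.zero_mk 1
      have h1 := h.1 (h0.trans (map_zero _).symm)
      rw [← LocalizedModule.zero_mk (1 : Submonoid.powers g), LocalizedModule.mk_eq] at h1
      obtain ⟨⟨_, n, rfl⟩, hn⟩ := h1
      simp only [Submonoid.smul_def, one_smul, smul_zero] at hn
      rw [← LocalizedModule.zero_mk c, LocalizedModule.mk_eq]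
      refine ⟨⟨g ^ n, hle n⟩ * d, ?_⟩
      simp only [Submonoid.smul_def, smul_zero, Submonoid.coe_mul, mul_smul] at hn ⊢
      exact hn
  · intro z
    induction z using LocalizedModule.induction_on with
    | h m c =>
      obtain ⟨w, hw⟩ := h.2 (LocalizedModule.mk m 1)
      induction w using LocalizedModule.induction_on with
      | h v e =>
        obtain ⟨l, hl⟩ : ∃ l, g ^ l = (e : R) := e.2
        rw [LocalizedModule.map_mk, LocalizedModule.mk_eq] at hw
        obtain ⟨⟨_, n, rfl⟩, hn⟩ := hw
        simp only [Submonoid.smul_def, Submonoid.coe_one, one_smul] at hn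
        refine ⟨LocalizedModule.mk v (⟨(e : R), hl ▸ hle l⟩ * c), ?_⟩
        rw [LocalizedModule.map_mk, LocalizedModule.mk_eq]
        refine ⟨⟨g ^ n, hle n⟩, ?_⟩
        simp only [Submonoid.smul_def, Submonoid.coe_mul]
        rw [mul_comm, mul_smul, smul_comm (g ^ n) (c : R),
          smul_comm (g ^ n) (c : R), hn]

/-- `φ` induces an isomorphism over `U` if it is one after localizing at elements covering `U`. -/
theorem isIso_restrict_tilde_map (φ : P ⟶ Q) (U : (Spec R).Opens)
    (hU : ∀ p : PrimeSpectrum R, p ∈ SetLike.coe U → ∃ g : R, g ∉ p.asIdeal ∧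
      Function.Bijective (LocalizedModule.map (Submonoid.powers g) φ.hom)) :
    IsIso ((Scheme.Modules.restrictFunctor U.ι).map (tilde.map φ)) := by
  have hp : ∀ p : PrimeSpectrum R, p ∈ SetLike.coe U →
      Function.Bijective (LocalizedModule.map p.asIdeal.primeCompl φ.hom) := fun p hp => by
    obtain ⟨g, hg, hb⟩ := hU p hp
    exact bijective_map_prime φ hb p hg
  have key : ∀ V : Opens (PrimeSpectrum R), (∀ p ∈ V, p ∈ SetLike.coe U) →
      Function.Bijective ((tilde.map φ).app V) := by
    intro V hV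
    constructor
    · intro s t hst
      refine Subtype.ext (funext fun y => (hp y.1 (hV y.1 y.2)).1 ?_)
      rw [← tilde_map_apply, ← tilde_map_apply, hst]
    · intro s
      refine ⟨⟨fun y => (Equiv.ofBijective _ (hp y.1 (hV y.1 y.2))).symm (s.1 y), fun x => ?_⟩,
        Subtype.ext (funext fun y => ?_)⟩
      · obtain ⟨W, hxW, i, m, r, hr⟩ := s.2 x
        obtain ⟨g, hg, hb⟩ := hU x.1 (hV x.1 x.2)
        obtain ⟨w, hw⟩ := hb.2 (LocalizedModule.mk m 1)
        induction w using LocalizedModule.induction_on with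
        | h v e =>
          obtain ⟨l, hl⟩ : ∃ l, g ^ l = (e : R) := e.2
          rw [LocalizedModule.map_mk, LocalizedModule.mk_eq] at hw
          obtain ⟨⟨_, n, rfl⟩, hn⟩ := hw
          simp only [Submonoid.smul_def, Submonoid.coe_one, one_smul] at hn
          refine ⟨W ⊓ PrimeSpectrum.basicOpen g, ⟨hxW, hg⟩, homOfLE (inf_le_left.trans i.le), v,
            (e : R) * r, fun y => ?_⟩
          obtain ⟨hry, hy⟩ := hr ⟨y.1, y.2.1⟩
          have hgy : g ∉ (y.1 : PrimeSpectrum R).asIdeal := y.2.2
          have hey : (e : R) * r ∈ (y.1 : PrimeSpectrum R).asIdeal.primeCompl :=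
            mul_mem (hl ▸ fun h => hgy ((y.1 : PrimeSpectrum R).isPrime.mem_of_pow_mem l h)) hry
          refine ⟨hey, ?_⟩
          apply (Equiv.ofBijective _ (hp y.1 (hV y.1 (i.le y.2.1)))).injective
          refine (Equiv.apply_symm_apply _ _).trans (hy.trans ?_)
          rw [Equiv.ofBijective_apply, LocalizedModule.map_mk, LocalizedModule.mk_eq]
          refine ⟨⟨g ^ n, fun h => hgy ((y.1 : PrimeSpectrum R).isPrime.mem_of_pow_mem n h)⟩, ?_⟩
          simp only [Submonoid.smul_def]
          rw [mul_smul]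
          linear_combination (norm := module) (-r) • hn
      · exact Equiv.apply_symm_apply (Equiv.ofBijective _ (hp y.1 (hV y.1 y.2))) (s.1 y)
  rw [Scheme.Modules.Hom.isIso_iff_isIso_app]
  intro V
  rw [ConcreteCategory.isIso_iff_bijective]
  refine key _ fun p hp' => ?_
  obtain ⟨q, -, rfl⟩ := hp'
  exact q.2

section Coh

variable {X : Scheme.{u}}

/-- The map induced on cohomology. -/
def HHmap {F G : X.Modules} (φ : F ⟶ G) (p : ℕ) : Coh.HH X F p →+ Coh.HH X G p where
  toFun := Sheaf.H.map ((SheafOfModules.toSheaf X.ringCatSheaf).map φ) p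
  map_zero' := map_zero _
  map_add' := map_add _

theorem HHmap_comp {F G K : X.Modules} (φ : F ⟶ G) (ψ : G ⟶ K) (p : ℕ) (x : Coh.HH X F p) :
    HHmap (φ ≫ ψ) p x = HHmap ψ p (HHmap φ p x) := by
  change Sheaf.H.map ((SheafOfModules.toSheaf X.ringCatSheaf).map (φ ≫ ψ)) p x = _
  rw [Functor.map_comp, Sheaf.H.map_comp_apply]
  rfl

theorem HHmap_id {F : X.Modules} (p : ℕ) (x : Coh.HH X F p) : HHmap (𝟙 F) p x = x := by
  change Sheaf.H.map ((SheafOfModules.toSheaf X.ringCatSheaf).map (𝟙 F)) p x = _
  rw [show (SheafOfModules.toSheaf X.ringCatSheaf).map (𝟙 F) = 𝟙 _ from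
    (SheafOfModules.toSheaf X.ringCatSheaf).map_id F]
  exact Sheaf.H.map_id_apply _

theorem HHmap_add {F G : X.Modules} (φ ψ : F ⟶ G) (p : ℕ) (x : Coh.HH X F p) :
    HHmap (φ + ψ) p x = HHmap φ p x + HHmap ψ p x := by
  change Sheaf.H.map ((SheafOfModules.toSheaf X.ringCatSheaf).map (φ + ψ)) p x = _
  rw [show (SheafOfModules.toSheaf X.ringCatSheaf).map (φ + ψ) =
    (SheafOfModules.toSheaf X.ringCatSheaf).map φ + (SheafOfModules.toSheaf X.ringCatSheaf).map ψ from
    (SheafOfModules.toSheaf X.ringCatSheaf).map_add, Sheaf.H.map_add_apply]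
  rfl

theorem HHmap_zero {F G : X.Modules} (p : ℕ) (x : Coh.HH X F p) : HHmap (0 : F ⟶ G) p x = 0 := by
  have h := HHmap_add (0 : F ⟶ G) 0 p x
  rwa [add_zero, left_eq_add] at h

variable {A : Type u} [CommRing A] [X.Over (Spec (CommRingCat.of A))]

theorem HHmap_smul {F G : X.Modules} (φ : F ⟶ G) (p : ℕ) (a : A) (x : Coh.HH X F p) :
    HHmap φ p (a • x) = a • HHmap φ p x :=
  (Canon.HHlin A φ p).map_smul a x

end Coh

end Groth.Agent.LC15.PU
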