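import Groth.Agent.LC15.PunctAlg
import Groth.Agent.LC15.PunctTilde
import Groth.Agent.Props58.LocFree.Affine
import Groth.Prelude.Def_Wider
import Groth.Prelude.Def_Canon

/-!
Annihilators of the cohomology of finite locally free modules on a punctured spectrum.
-/

set_option autoImplicit false
set_option backward.isDefEq.respectTransparency.types false

noncomputable section

universe u

open CategoryTheory Limits AlgebraicGeometry TopologicalSpace Opposite

namespace Groth.Agent.LC15.PU

variable {A : Type u} [CommRing A] (I : Ideal A)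

/-- The punctured spectrum. -/
abbrev UU : (Spec (CommRingCat.of A)).Opens := LocCoh.puncturedOpen A I

theorem restrict_ring (U : (Spec (CommRingCat.of A)).Opens) (a : Γ(Spec (CommRingCat.of A), ⊤))
    (V : (↑U : Scheme.{u}).Opens) :
    (U.ι.appIso V).inv ((↑U : Scheme.{u}).presheaf.map V.leTop.op (U.ι.appTop a)) =
      (Spec (CommRingCat.of A)).presheaf.map (U.ι ''ᵁ V).leTop.op a := by
  rw [Scheme.Opens.ι_appIso, Scheme.Opens.ι_appTop]
  simp only [Iso.refl_inv, CommRingCat.id_apply, Scheme.Opens.toScheme_presheaf_map,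
    ← CommRingCat.comp_apply, ← Functor.map_comp]
  rfl

set_option maxHeartbeats 1000000 in
theorem toSheaf_tilde_smul (T : ModuleCat.{u} A) (a : A) :
    (SheafOfModules.toSheaf _).map ((Scheme.Modules.restrictFunctor (UU I).ι).map
      (tilde.map (R := CommRingCat.of A) (a • 𝟙 T))) =
    Coh.smulAb ((tilde (R := CommRingCat.of A) T).restrict (UU I).ι)
      ((UU I).ι.appTop ((Scheme.ΓSpecIso (CommRingCat.of A)).inv a)) := by
  ext V m
  rw [Coh.smulAb_app]
  refine (tilde_map_smul_id (R := CommRingCat.of A) a _ m).trans ?_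
  let m' : Γ(tilde (R := CommRingCat.of A) T, (UU I).ι ''ᵁ V.unop) := m
  exact (Scheme.Modules.smul_Spec_def a m').trans
    (congrArg (fun c => c • m') (restrict_ring (UU I) _ V.unop).symm)

theorem toGlobal_UU (a : A) :
    Coh.toGlobal (((UU I) : Scheme.{u}) ↘ Spec (CommRingCat.of A)) a =
      (UU I).ι.appTop ((Scheme.ΓSpecIso (CommRingCat.of A)).inv a) := by
  rfl

set_option maxHeartbeats 1000000 in
/-- Multiplication by `a` on a tilde, restricted to `U`, acts on cohomology as `a`. -/
theorem HHmap_tilde_smul (T : ModuleCat.{u} A) (a : A) (p : ℕ)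
    (x : Coh.HH (↑(UU I) : Scheme.{u}) ((tilde (R := CommRingCat.of A) T).restrict (UU I).ι) p) :
    HHmap ((Scheme.Modules.restrictFunctor (UU I).ι).map
      (tilde.map (R := CommRingCat.of A) (a • 𝟙 T))) p x = a • x :=
  by
    have h1 : a • x = Sheaf.H.map (Coh.smulAb ((tilde (R := CommRingCat.of A) T).restrict (UU I).ι)
        (Coh.toGlobal (((UU I) : Scheme.{u}) ↘ Spec (CommRingCat.of A)) a)) p x := rfl
    rw [h1, toGlobal_UU, ← toSheaf_tilde_smul]
    rfl

theorem mem_UU {q : PrimeSpectrum A} :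
    q ∈ SetLike.coe (UU I) ↔ ¬ I ≤ q.asIdeal := Iff.rfl

theorem isCompact_UU (hI : I.FG) : IsCompact (SetLike.coe (UU I)) := by
  classical
  obtain ⟨s, hs⟩ := hI
  change IsCompact ((PrimeSpectrum.zeroLocus (I : Set A))ᶜ : Set (PrimeSpectrum A))
  have : ((PrimeSpectrum.zeroLocus (I : Set A))ᶜ : Set (PrimeSpectrum A)) =
      ⋃ f ∈ s, (PrimeSpectrum.basicOpen f : Set (PrimeSpectrum A)) := by
    ext q
    rw [← hs, PrimeSpectrum.zeroLocus_span]
    simp [PrimeSpectrum.mem_zeroLocus, Set.not_subset]
  rw [this]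
  exact s.finite_toSet.isCompact_biUnion fun f _ => PrimeSpectrum.isCompact_basicOpen f

theorem finite_projective_of_sections {R : CommRingCat.{u}} (T : ModuleCat.{u} R) (f : R)
    (h1 : Module.Finite Γ(Spec R, PrimeSpectrum.basicOpen f) Γ(tilde T, PrimeSpectrum.basicOpen f))
    (h2 : Module.Projective Γ(Spec R, PrimeSpectrum.basicOpen f)
      Γ(tilde T, PrimeSpectrum.basicOpen f)) :
    Module.Finite (Localization.Away f) (LocalizedModule (Submonoid.powers f) T) ∧
      Module.Projective (Localization.Away f) (LocalizedModule (Submonoid.powers f) T) := by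
  let D : (Spec R).Opens := PrimeSpectrum.basicOpen f
  let t := (tilde.toOpen T D).hom
  haveI : IsLocalizedModule (Submonoid.powers f) t :=
    inferInstanceAs (IsLocalizedModule.Away f (tilde.toOpen T (PrimeSpectrum.basicOpen f)).hom)
  haveI : IsLocalization (Submonoid.powers f) Γ(Spec R, D) :=
    inferInstanceAs (IsLocalization.Away f Γ(Spec R, PrimeSpectrum.basicOpen f))
  let a : Γ(Spec R, D) ≃ₐ[R] Localization.Away f :=
    IsLocalization.algEquiv (Submonoid.powers f) _ _
  let eι : Γ(tilde T, D) ≃ₗ[R] LocalizedModule (Submonoid.powers f) T :=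
    (IsLocalizedModule.iso (Submonoid.powers f) t).symm
  have hlin : ∀ (r : Γ(Spec R, D)) (x : Γ(tilde T, D)), eι (r • x) = a r • eι x := by
    intro r x
    obtain ⟨⟨c, s⟩, hc⟩ := IsLocalization.surj (Submonoid.powers f) r
    have hu : Function.Bijective fun z : LocalizedModule (Submonoid.powers f) T => (s : R) • z :=
      (Module.End.isUnit_iff _).1
        (IsLocalizedModule.map_units (LocalizedModule.mkLinearMap (Submonoid.powers f) T) s)
    apply hu.1
    change (s : R) • eι (r • x) = (s : R) • a r • eι x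
    have h1 : (s : R) • (r • x) = c • x := by
      rw [← algebraMap_smul Γ(Spec R, D) (s : R) (r • x), smul_smul, mul_comm, hc, algebraMap_smul]
    have h2 : (s : R) • a r = algebraMap R (Localization.Away f) c := by
      rw [← map_smul, Algebra.smul_def, mul_comm, hc, AlgEquiv.commutes]
    rw [← map_smul, h1, map_smul, ← smul_assoc, h2, algebraMap_smul]
  haveI j₁ : RingHomInvPair (a.toRingEquiv : Γ(Spec R, D) →+* Localization.Away f)
      (a.toRingEquiv.symm : Localization.Away f →+* Γ(Spec R, D)) := RingHomInvPair.of_ringEquiv _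
  haveI j₂ : RingHomInvPair (a.toRingEquiv.symm : Localization.Away f →+* Γ(Spec R, D))
      (a.toRingEquiv : Γ(Spec R, D) →+* Localization.Away f) := RingHomInvPair.symm _ _
  let eL : Γ(tilde T, D) ≃ₛₗ[(a.toRingEquiv : Γ(Spec R, D) →+* Localization.Away f)]
      LocalizedModule (Submonoid.powers f) T :=
    { eι.toAddEquiv with map_smul' := hlin }
  exact ⟨Module.Finite.of_surjective eL.toLinearMap eL.surjective, Module.Projective.of_equiv eL⟩

theorem localized_projective (T : ModuleCat.{u} A)
    (hT : FlatMod.IsFinLocFree ((tilde (R := CommRingCat.of A) T).restrict (UU I).ι)) {f : A}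
    (hf : f ∈ I) :
    Module.Finite (Localization.Away f) (LocalizedModule (Submonoid.powers f) T) ∧
      Module.Projective (Localization.Away f) (LocalizedModule (Submonoid.powers f) T) := by
  let U := UU I
  let D : (Spec (CommRingCat.of A)).Opens := PrimeSpectrum.basicOpen f
  have hDU : D ≤ U := fun q (hq : f ∉ q.asIdeal) => (mem_UU I).2 fun h => hq (h hf)
  let W := U.ι ⁻¹ᵁ D
  have hD : IsAffineOpen D := IsAffineOpen.Spec_basicOpen (R := CommRingCat.of A) f
  have himg : U.ι ''ᵁ W = D := QC70.HomOn.image_preimage hDU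
  have hW : IsAffineOpen W := by
    rw [← U.ι.isAffineOpen_iff_of_isOpenImmersion, himg]
    exact hD
  have hp := Props58.LocFree.projective_sections hT hW
  haveI : CohB1.IsFP ((tilde (R := CommRingCat.of A) T).restrict U.ι) :=
    Props58.LocFree.isFP_of_isFinLocFree hT
  have hfp := Props58.LocFree.finitePresentation_sections ((tilde (R := CommRingCat.of A) T).restrict U.ι) hW
  let B := Γ(Spec (CommRingCat.of A), D)
  let N := Γ(tilde (R := CommRingCat.of A) T, D)
  let e₀ : Γ(↑U, W) ≃+* B := ((Spec (CommRingCat.of A)).presheaf.mapIso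
    (eqToIso (congrArg op himg))).commRingCatIsoToRingEquiv
  haveI i₁ : RingHomInvPair (e₀ : Γ(↑U, W) →+* B) (e₀.symm : B →+* Γ(↑U, W)) :=
    RingHomInvPair.of_ringEquiv e₀
  haveI i₂ : RingHomInvPair (e₀.symm : B →+* Γ(↑U, W)) (e₀ : Γ(↑U, W) →+* B) :=
    RingHomInvPair.symm _ _
  let eM : Γ((tilde (R := CommRingCat.of A) T).restrict U.ι, W) ≃ₛₗ[(e₀ : Γ(↑U, W) →+* B)] N :=
    { toFun := fun x => (tilde (R := CommRingCat.of A) T).presheaf.map (eqToHom (congrArg op himg)) x
      invFun := fun x => (tilde (R := CommRingCat.of A) T).presheaf.map (eqToHom (congrArg op himg.symm)) x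
      left_inv := fun x => by
        dsimp only
        rw [← ConcreteCategory.comp_apply, ← Functor.map_comp, eqToHom_trans, eqToHom_refl,
          CategoryTheory.Functor.map_id]
        rfl
      right_inv := fun x => by
        dsimp only
        rw [← ConcreteCategory.comp_apply, ← Functor.map_comp, eqToHom_trans, eqToHom_refl,
          CategoryTheory.Functor.map_id]
        rfl
      map_add' := fun x y => map_add _ x y
      map_smul' := fun r x => by
        refine ((tilde (R := CommRingCat.of A) T).val.map_smul (eqToHom (congrArg op himg))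
          ((U.ι.appIso W).inv r) x).trans ?_
        rw [Scheme.Opens.ι_appIso]
        rfl }
  haveI : Module.Finite Γ(↑U, W) Γ((tilde (R := CommRingCat.of A) T).restrict U.ι, W) := inferInstance
  have hN₁ : Module.Finite B N :=
    Module.Finite.of_surjective eM.toLinearMap eM.surjective
  have hN₂ : Module.Projective B N := Module.Projective.of_equiv eM
  exact finite_projective_of_sections (R := CommRingCat.of A) T f hN₁ hN₂

theorem exists_pow_smul_HH (hI : I.FG) (J : Ideal A) (hJI : J ≤ I) (p n : ℕ)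
    (hO : ∀ a ∈ J ^ n, ∀ x : Coh.HH (↑(UU I) : Scheme.{u}) (Coh.structureModule _) p, a • x = 0)
    (F : (↑(UU I) : Scheme.{u}).Modules) (hF : FlatMod.IsFinLocFree F) :
    ∃ m : ℕ, ∀ a ∈ J ^ m, ∀ x : Coh.HH (↑(UU I) : Scheme.{u}) F p, a • x = 0 := by
  classical
  haveI := Props58.LocFree.isQuasicoherent_of_isFinLocFree hF
  obtain ⟨T, ⟨e⟩⟩ := QCRes72.exists_iso_restrict_tilde (R := CommRingCat.of A) (isCompact_UU I hI) F
  have hT : FlatMod.IsFinLocFree ((tilde (R := CommRingCat.of A) T).restrict (UU I).ι) := fun x => by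
    obtain ⟨V, k, hx, ⟨i⟩⟩ := hF x
    exact ⟨V, k, hx, ⟨(Scheme.Modules.restrictFunctor V.ι).mapIso e.symm ≪≫ i⟩⟩
  obtain ⟨s, hs⟩ := hI
  have hsI : ∀ f ∈ s, f ∈ I := fun f hf => hs ▸ Submodule.subset_span hf
  obtain ⟨P, _, _, _, φ, hφ⟩ := exists_fp_approx (A := A) T (κ := (s : Type u)) (fun f => (f : A))
    fun f => by
      obtain ⟨h1, h2⟩ := localized_projective I T hT (hsI f f.2)
      exact Module.finitePresentation_of_projective _ _
  have hprojP : ∀ f ∈ s, Module.Projective (Localization.Away f)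
      (LocalizedModule (Submonoid.powers f) P) := fun f hf => by
    have := (localized_projective I T hT (hsI f hf)).2
    exact Module.Projective.of_equiv' (LinearEquiv.ofBijective _ (hφ ⟨f, hf⟩)).symm
  let r := Scheme.Modules.restrictFunctor (UU I).ι
  haveI : IsIso (r.map (tilde.map (R := CommRingCat.of A) (ModuleCat.ofHom φ))) :=
    isIso_restrict_tilde_map (R := CommRingCat.of A) (ModuleCat.ofHom φ) (UU I) fun q hq => by
      have hq' : ¬ (Ideal.span (s : Set A) : Ideal A) ≤ q.asIdeal := hs ▸ hq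
      rw [Ideal.span_le, Set.not_subset] at hq'
      obtain ⟨f, hf, hfq⟩ := hq'
      exact ⟨f, hfq, hφ ⟨f, hf⟩⟩
  let ψ : r.obj (tilde (R := CommRingCat.of A) (ModuleCat.of A P)) ≅ F :=
    asIso (r.map (tilde.map (R := CommRingCat.of A) (ModuleCat.ofHom φ))) ≪≫ e.symm
  -- `O`
  have hA : ∀ b ∈ J ^ n, ∀ x : Coh.HH (↑(UU I) : Scheme.{u})
      (r.obj (tilde (R := CommRingCat.of A) (ModuleCat.of A A))) p, b • x = 0 := by
    intro b hb x
    let u : r.obj (tilde (R := CommRingCat.of A) (ModuleCat.of A A)) ≅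
        Coh.structureModule (↑(UU I) : Scheme.{u}) :=
      r.mapIso (tildeSelf (R := CommRingCat.of A)) ≪≫ Scheme.Modules.restrictUnitIso _
    have h := HHmap_id p x
    rw [← u.hom_inv_id, HHmap_comp] at h
    rw [← h, ← HHmap_smul, hO b hb, map_zero]
  -- finite free
  have hfree : ∀ (k : ℕ), ∀ b ∈ J ^ n, ∀ x : Coh.HH (↑(UU I) : Scheme.{u})
      (r.obj (tilde (R := CommRingCat.of A) (ModuleCat.of A (Fin k → A)))) p, b • x = 0 := by
    intro k b hb x
    let Fr := ModuleCat.of A (Fin k → A)
    let d : Fin k → (Fr ⟶ Fr) := fun j =>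
      ModuleCat.ofHom (LinearMap.proj j) ≫ ModuleCat.ofHom (Y := Fin k → A) (LinearMap.single A (fun _ => A) j)
    have h1 : ∀ t : Finset (Fin k),
        b • HHmap (r.map (tilde.map (R := CommRingCat.of A) (∑ j ∈ t, d j))) p x = 0 := by
      intro t
      induction t using Finset.induction with
      | empty => rw [Finset.sum_empty, tilde.map_zero, Functor.map_zero, HHmap_zero, smul_zero]
      | insert j t hj ih =>
        rw [Finset.sum_insert hj, tilde.map_add, Functor.map_add, HHmap_add, smul_add, ih, add_zero,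
          tilde.map_comp, Functor.map_comp, HHmap_comp, ← HHmap_smul, hA b hb, map_zero]
    have h2 : (∑ j, d j) = 𝟙 Fr := ModuleCat.hom_ext (by
      rw [ModuleCat.hom_sum]
      refine LinearMap.ext fun v => ?_
      rw [LinearMap.sum_apply]
      exact Finset.univ_sum_single v)
    have h3 := h1 Finset.univ
    rwa [h2, tilde.map_id, CategoryTheory.Functor.map_id, HHmap_id] at h3
  -- one element
  have hk : ∀ f : A, ∃ k : ℕ, f ∈ s → ∀ b ∈ J ^ n, ∀ x : Coh.HH (↑(UU I) : Scheme.{u})
      (r.obj (tilde (R := CommRingCat.of A) (ModuleCat.of A P))) p, (b * f ^ k) • x = 0 := by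
    intro f
    by_cases hf : f ∈ s
    · haveI := hprojP f hf
      obtain ⟨N, β, α, k, hk⟩ := exists_factor_of_projective_fp P f
      refine ⟨k, fun _ b hb x => ?_⟩
      have hfac : ModuleCat.ofHom α ≫ ModuleCat.ofHom β = f ^ k • 𝟙 (ModuleCat.of A P) :=
        ModuleCat.hom_ext (LinearMap.ext hk)
      rw [mul_smul, ← HHmap_tilde_smul I (ModuleCat.of A P) (f ^ k) p x, ← hfac, tilde.map_comp,
        Functor.map_comp, HHmap_comp, ← HHmap_smul, hfree N b hb, map_zero]
    · exact ⟨0, fun h => absurd h hf⟩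
  choose k hk using hk
  have hrad : (s : Set A) ⊆ ((Ideal.span ((fun f => f ^ k f) '' (s : Set A))).radical : Ideal A) :=
    fun f hf => ⟨k f, Ideal.subset_span ⟨f, hf, rfl⟩⟩
  obtain ⟨M, hM⟩ := Ideal.exists_pow_le_of_le_radical_of_fg (I := I)
    (hs ▸ Ideal.span_le.2 hrad) ⟨s, hs⟩
  refine ⟨n + M, fun c hc x => ?_⟩
  suffices h : ∀ y, c • y = (0 : Coh.HH (↑(UU I) : Scheme.{u})
      (r.obj (tilde (R := CommRingCat.of A) (ModuleCat.of A P))) p) by
    have hx := HHmap_id p x
    rw [← ψ.inv_hom_id, HHmap_comp] at hx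
    rw [← hx, ← HHmap_smul, h, map_zero]
  intro y
  rw [pow_add] at hc
  induction hc using Submodule.mul_induction_on' with
  | mem_mul_mem b hb d hd =>
    have hd' := hM (Ideal.pow_right_mono hJI M hd)
    clear hd
    induction hd' using Submodule.span_induction with
    | mem z hz =>
      obtain ⟨f, hf, rfl⟩ := hz
      exact hk f hf b hb y
    | zero => rw [mul_zero, zero_smul]
    | add z w _ _ hz hw => rw [mul_add, add_smul, hz, hw, add_zero]
    | smul t z _ hz => rw [smul_eq_mul, mul_left_comm, mul_smul, hz, smul_zero]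
  | add b _ d _ hb hd => rw [add_smul, hb, hd, add_zero]

end Groth.Agent.LC15.PU
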