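import Groth.Agent.LC16.CanonLocal
import Groth.Agent.LC16.ExtLocal
import Groth.Agent.LC16.ChangeRings
import Groth.Agent.LC15.LocGlobal
import Groth.Agent.LC15.Dim
import Groth.Agent.LC17.Faltings
import Groth.Agent.Gor18.LocCohGor
import Groth.Agent.Gor18.Regular
import Groth.Agent.CAlg1.Serre

/-!
Vanishing of stalks of local cohomology against vanishing of stalks of Ext into a regular ring.
-/

namespace Groth.Agent.LC15.RegDual

universe u

set_option autoImplicit false
set_option linter.overlappingInstances false

open CategoryTheory IsLocalRing LC16.CanonDual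
open scoped TensorProduct

section local_ring

variable {R : Type u} [CommRing R] [IsRegularLocalRing R] {d : ℕ}

theorem exists_duality (hd : ringKrullDim R = d) :
    ∃ (E : Type u) (_ : AddCommGroup E) (_ : Module R E) (f : ResidueField R →ₗ[R] E),
      InjHull.IsInjectiveHull f ∧
      ∀ (i j : ℕ) (_ : i + j = d) (M : Type u) [AddCommGroup M] [Module R M] [Module.Finite R M],
        Nonempty (LocCoh.H (maximalIdeal R) j M ≃ₗ[R] (EK (R := R) R M i →ₗ[R] E)) := by
  have := Gor18.regular_gor R
  have := Gor18.gor_cm R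
  obtain ⟨f, hf⟩ := Gor18.exists_hull_H R d hd
  have := hf.isInjective
  exact ⟨_, inferInstance, inferInstance, f, hf,
    LC16.CanonDual.duality hd (LinearMap.ringLmapEquivSelf R R _)⟩

theorem subsingleton_EK_of_gt (hd : ringKrullDim R = d) {i : ℕ} (hi : d < i) (M : Type u)
    [AddCommGroup M] [Module R M] : Subsingleton (EK (R := R) R M i) := by
  have := CAlg1.hasPD_of_regular R hd (ModuleCat.of R M)
  exact HasProjectiveDimensionLT.subsingleton _ (d + 1) i hi _

theorem subsingleton_H_iff (hd : ringKrullDim R = d) {i j : ℕ} (hij : i + j = d) (M : Type u)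
    [AddCommGroup M] [Module R M] [Module.Finite R M] :
    Subsingleton (LocCoh.H (maximalIdeal R) j M) ↔ Subsingleton (EK (R := R) R M i) := by
  obtain ⟨E, _, _, f, hf, h⟩ := exists_duality hd
  obtain ⟨e⟩ := h i j hij M
  constructor
  · intro _
    have := e.toEquiv.symm.subsingleton
    exact LC16.MatlisBasic.subsingleton_of_dual hf
  · intro _
    exact e.toEquiv.subsingleton

end local_ring

variable {R : Type u} [CommRing R]

/-- stalk at `p` of the local cohomology along `p` vanishes -/
def Stk (p : Ideal R) [p.IsPrime] (j : ℕ) (M : Type u) [AddCommGroup M] [Module R M] : Prop :=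
  LC17.Nul p.primeCompl (LocCoh.H p j M)

variable (p : Ideal R) [p.IsPrime] (M : Type u) [AddCommGroup M] [Module R M]

theorem stk_iff_loc [IsNoetherianRing R] (j : ℕ) :
    Stk p j M ↔ Subsingleton (LocCoh.H (maximalIdeal (Localization.AtPrime p)) j
      (LocalizedModule p.primeCompl M)) := by
  refine ⟨fun h => ?_, nul_H_of_subsingleton_loc p j M⟩
  rw [← IsLocalization.AtPrime.map_eq_maximalIdeal p (Localization.AtPrime p)]
  obtain ⟨φ, -⟩ := LC16.ChangeRings.exists_equiv p (R' := Localization.AtPrime p) j
    (LocalizedModule p.primeCompl M)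
  obtain ⟨e⟩ := nonempty_tensor_H_equiv (Localization.AtPrime p) p j M
  let l : (Localization.AtPrime p) ⊗[R] M ≃ₗ[R] LocalizedModule p.primeCompl M :=
    (LocalizedModule.equivTensorProduct p.primeCompl M).symm.restrictScalars R
  have : Subsingleton (LocalizedModule p.primeCompl (LocCoh.H p j M)) :=
    LocalizedModule.subsingleton_iff.2 h
  have : Subsingleton ((Localization.AtPrime p) ⊗[R] LocCoh.H p j M) :=
    (LocalizedModule.equivTensorProduct p.primeCompl _).symm.toEquiv.subsingleton
  exact (φ.toEquiv.trans ((e.trans (Hequiv p j l)).symm.toEquiv)).subsingleton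

theorem stk_of_height_lt [IsNoetherianRing R] {j : ℕ} (h : p.height < j) : Stk p j M := by
  rw [stk_iff_loc]
  obtain ⟨h₀, hh₀⟩ := ENat.ne_top_iff_exists.mp (p.height_ne_top Ideal.IsPrime.ne_top')
  rw [← hh₀, Nat.cast_lt] at h
  refine cdLE_of_ringKrullDim_le _ (d := h₀) (le_of_eq ?_) _ j h
  rw [IsLocalization.AtPrime.ringKrullDim_eq_height p (Localization.AtPrime p), ← hh₀]
  rfl

theorem stk_comap {A : Type u} [CommRing A] [IsNoetherianRing R] [IsNoetherianRing A] [Algebra R A]
    (hf : Function.Surjective (algebraMap R A)) (q : Ideal A) [q.IsPrime] (N : Type u)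
    [AddCommGroup N] [Module A N] [Module R N] [IsScalarTower R A N] (j : ℕ) :
    Stk (q.comap (algebraMap R A)) j N ↔ Stk q j N := by
  have hmap : (q.comap (algebraMap R A)).map (algebraMap R A) = q :=
    Ideal.map_comap_of_surjective _ hf q
  obtain ⟨φ, hφ⟩ := LC16.ChangeRings.exists_equiv (R' := A) (q.comap (algebraMap R A)) j N
  have key : Stk (q.comap (algebraMap R A)) j N ↔
      LC17.Nul q.primeCompl (LocCoh.H ((q.comap (algebraMap R A)).map (algebraMap R A)) j N) := by
    constructor
    · intro h y
      obtain ⟨u, hu, huy⟩ := h (φ y)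
      exact ⟨algebraMap R A u, hu, φ.injective (by rw [hφ, huy, map_zero])⟩
    · intro h y
      obtain ⟨u, hu, huy⟩ := h (φ.symm y)
      obtain ⟨r, rfl⟩ := hf u
      refine ⟨r, hu, ?_⟩
      rw [← φ.apply_symm_apply y, ← hφ, huy, map_zero]
  rw [hmap] at key
  exact key

/-- Ext of finite modules is finite -/
theorem finite_EK [IsNoetherianRing R] : ∀ (i : ℕ) (M : Type u) [AddCommGroup M] [Module R M]
    [Module.Finite R M], Module.Finite R (EK (R := R) R M i) := by
  intro i
  induction i with
  | zero =>
    intro M _ _ _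
    exact Module.Finite.equiv (hom0 R M)
  | succ i ih =>
    intro M _ _ _
    obtain ⟨k, π, hπ⟩ := Module.Finite.exists_fin' R M
    have := ih (LinearMap.ker π)
    exact Module.Finite.of_surjective _
      (delta_surjective R (LinearMap.ker π).injective_subtype (LinearMap.exact_subtype_ker_map π)
        hπ i)

variable [IsRegularRing R] [Module.Finite R M]

theorem stk_iff_ext {i j : ℕ} (h : p.height = (i + j : ℕ)) :
    Stk p j M ↔ LC17.Nul p.primeCompl (EK (R := R) R M i) := by
  rw [stk_iff_loc]
  have hd : ringKrullDim (Localization.AtPrime p) = (i + j : ℕ) := by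
    rw [IsLocalization.AtPrime.ringKrullDim_eq_height p (Localization.AtPrime p), h]
    rfl
  have : Module.Finite (Localization.AtPrime p) (LocalizedModule p.primeCompl M) :=
    Module.Finite.of_isLocalizedModule p.primeCompl
      (LocalizedModule.mkLinearMap p.primeCompl M)
  rw [subsingleton_H_iff hd rfl]
  obtain ⟨e⟩ := LC16.ExtLocal.nonempty_equiv p.primeCompl R i M
  let eA : LocalizedModule p.primeCompl R ≃ₗ[Localization.AtPrime p] Localization.AtPrime p :=
    LinearEquiv.extendScalarsOfIsLocalization p.primeCompl (Localization.AtPrime p)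
      (IsLocalizedModule.iso p.primeCompl (Algebra.linearMap R (Localization.AtPrime p)))
  let e' := e ≪≫ₗ LC16.CanonLocal.extCongr (LinearEquiv.refl _ _) eA i
  exact e'.toEquiv.subsingleton_congr.symm.trans LocalizedModule.subsingleton_iff

theorem nul_EK_of_height_lt {i : ℕ} (h : p.height < i) :
    LC17.Nul p.primeCompl (EK (R := R) R M i) := by
  obtain ⟨h₀, hh₀⟩ := ENat.ne_top_iff_exists.mp (p.height_ne_top Ideal.IsPrime.ne_top')
  rw [← hh₀, Nat.cast_lt] at h
  have hd : ringKrullDim (Localization.AtPrime p) = h₀ := by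
    rw [IsLocalization.AtPrime.ringKrullDim_eq_height p (Localization.AtPrime p), ← hh₀]
    rfl
  obtain ⟨e⟩ := LC16.ExtLocal.nonempty_equiv p.primeCompl R i M
  let eA : LocalizedModule p.primeCompl R ≃ₗ[Localization.AtPrime p] Localization.AtPrime p :=
    LinearEquiv.extendScalarsOfIsLocalization p.primeCompl (Localization.AtPrime p)
      (IsLocalizedModule.iso p.primeCompl (Algebra.linearMap R (Localization.AtPrime p)))
  let e' := e ≪≫ₗ LC16.CanonLocal.extCongr (LinearEquiv.refl _ _) eA i
  have := subsingleton_EK_of_gt hd h (LocalizedModule p.primeCompl M)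
  exact LocalizedModule.subsingleton_iff.1 e'.toEquiv.subsingleton

end Groth.Agent.LC15.RegDual
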