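import Groth.Agent.LC15.Div
import Groth.Agent.LC16.GammaModel
import Groth.Agent.DR39.RGamma
import Groth.Agent.CohDer42.KInj
import Groth.Agent.Mod48.KInjDerived
import Groth.Prelude.Def_DRing3

/-!
`RΓ_I` of the class of a complex with divisible terms, naturally, and its counit.
-/

set_option autoImplicit false
set_option linter.unusedSectionVars false
set_option linter.style.haveILetI false
set_option backward.isDefEq.respectTransparency false

universe u

open CategoryTheory CategoryTheory.Limits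
open Groth.Agent Groth.Agent.DR39

attribute [local instance] HasDerivedCategory.standard

namespace Groth.Agent.LC15.RgammaModel

variable {A : Type u} [CommRing A] (I : Ideal A) [DRing.HasRgammaI I]

/-- the unit of the derived functor -/
noncomputable abbrev unitα :=
  (DRing.gammaIKh I).totalRightDerivedUnit DerivedCategory.Qh
    (HomotopyCategory.quasiIso (ModuleCat.{u} A) (ComplexShape.up ℤ))

/-- `Γ_I` on complexes -/
noncomputable abbrev GI : DRing.Cx A ⥤ DRing.Cx A :=
  (DRing.gammaI I).mapHomologicalComplex (ComplexShape.up ℤ)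

/-- the comparison with the derived functor on complexes -/
noncomputable def βn : GI I ⋙ QA A ⟶ QA A ⋙ DRing.RgammaI I where
  app X := (DerivedCategory.quotientCompQhIso (ModuleCat.{u} A)).inv.app ((GI I).obj X) ≫
    DerivedCategory.Qh.map (((DRing.gammaI I).mapHomotopyCategoryFactors (ComplexShape.up ℤ)).inv.app X) ≫
    (unitα I).app ((HomotopyCategory.quotient _ _).obj X) ≫
    (DRing.RgammaI I).map ((DerivedCategory.quotientCompQhIso (ModuleCat.{u} A)).hom.app X)
  naturality X Y φ := by
    have h1 := (DerivedCategory.quotientCompQhIso (ModuleCat.{u} A)).inv.naturality ((GI I).map φ)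
    have h2 := congrArg (DerivedCategory.Qh.map)
      (((DRing.gammaI I).mapHomotopyCategoryFactors (ComplexShape.up ℤ)).inv.naturality φ)
    have h3 := (unitα I).naturality ((HomotopyCategory.quotient _ _).map φ)
    have h4 := congrArg (DRing.RgammaI I).map
      ((DerivedCategory.quotientCompQhIso (ModuleCat.{u} A)).hom.naturality φ)
    simp only [Functor.comp_map, Functor.map_comp] at h1 h2 h3 h4 ⊢
    rw [reassoc_of% h1, reassoc_of% h2, reassoc_of% h3, h4]
    simp only [Category.assoc]

theorem βn_natural {X Y : DRing.Cx A} (φ : X ⟶ Y) :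
    (QA A).map ((GI I).map φ) ≫ (βn I).app Y = (βn I).app X ≫ (DRing.RgammaI I).map ((QA A).map φ) :=
  (βn I).naturality φ

theorem βn_ε (X : DRing.Cx A) :
    (βn I).app X ≫ (DRing.RgammaIε I).app ((QA A).obj X) = (QA A).map (Div.gι I X) := by
  have hfac : (unitα I).app ((HomotopyCategory.quotient _ _).obj X) ≫
      (DRing.RgammaIε I).app (DerivedCategory.Qh.obj ((HomotopyCategory.quotient _ _).obj X)) =
      (DRing.gammaIτ I).app ((HomotopyCategory.quotient _ _).obj X) := by
    have h := Functor.rightDerived_fac_app (DRing.RgammaI I) (unitα I)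
      (HomotopyCategory.quasiIso (ModuleCat.{u} A) (ComplexShape.up ℤ)) (𝟭 (Dual.D A))
      (DRing.gammaIτ I ≫ (Functor.rightUnitor _).inv) ((HomotopyCategory.quotient _ _).obj X)
    exact h.trans (Category.comp_id _)
  have hnat : (DRing.RgammaI I).map ((DerivedCategory.quotientCompQhIso (ModuleCat.{u} A)).hom.app X) ≫
      (DRing.RgammaIε I).app ((QA A).obj X) =
      (DRing.RgammaIε I).app (DerivedCategory.Qh.obj ((HomotopyCategory.quotient _ _).obj X)) ≫
        (DerivedCategory.quotientCompQhIso (ModuleCat.{u} A)).hom.app X :=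
    (DRing.RgammaIε I).naturality _
  have hτ : (DRing.gammaIτ I).app ((HomotopyCategory.quotient _ _).obj X) =
      DerivedCategory.Qh.map (((DRing.gammaI I).mapHomotopyCategoryFactors (ComplexShape.up ℤ)).hom.app X) ≫
        DerivedCategory.Qh.map ((HomotopyCategory.quotient _ _).map (Div.gι I X)) := by
    show (DRing.gammaIτ0 I).app X = _
    simp only [DRing.gammaIτ0, NatTrans.comp_app, Functor.associator_inv_app, Functor.associator_hom_app,
      Functor.whiskerRight_app, Functor.leftUnitor_hom_app, Category.id_comp, Category.comp_id,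
      Functor.comp_map]
    rw [show Div.gι I X = (NatTrans.mapHomologicalComplex (DRing.gammaIι I) (ComplexShape.up ℤ)).app X ≫
      (Functor.mapHomologicalComplexIdIso (ModuleCat.{u} A) (ComplexShape.up ℤ)).hom.app X from rfl]
    rw [Functor.map_comp, Functor.map_comp]
    erw [Category.comp_id]
  show (_ ≫ _ ≫ _ ≫ _) ≫ _ = _
  simp only [Category.assoc]
  rw [hnat, reassoc_of% hfac, hτ]
  simp only [Category.assoc, ← Functor.map_comp_assoc, Iso.inv_hom_id_app_assoc]
  have hq := (DerivedCategory.quotientCompQhIso (ModuleCat.{u} A)).hom.naturality (Div.gι I X)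
  simp only [Functor.comp_map] at hq
  rw [hq, Iso.inv_hom_id_app_assoc]

theorem isIso_βn_of_isKInjective (J : DRing.Cx A) (hJ : J.IsKInjective) : IsIso ((βn I).app J) := by
  have hK : Mod48.EnoughKInj (ModuleCat.{u} A) := fun M =>
    let ⟨J, f, h, h', _⟩ := CohDer42.exists_kinjective_resolution M
    ⟨J, f, h, h'⟩
  haveI := Mod48.isIso_unit_of_kInjective (DRing.RgammaI I) (unitα I) hK J hJ
  show IsIso (_ ≫ _ ≫ _ ≫ _)
  infer_instance

/-- resolutions by injective terms -/
theorem exists_res (X : DRing.Cx A) : ∃ (J : DRing.Cx A) (r : X ⟶ J), LC16.GammaModel.IsRep J ∧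
    IsIso ((QA A).map r) := by
  obtain ⟨J, r, hKI, hr, -, hE⟩ := CohDer42.exists_kinjective_resolution X
  exact ⟨J, r, ⟨hKI, fun i => haveI := hE i; Module.injective_module_of_injective_object A (J.X i)⟩,
    (DerivedCategory.isIso_Q_map_iff_quasiIso _ r).2 hr⟩

variable [IsNoetherianRing A]

/-- complexes with divisible terms compute `RΓ_I` -/
theorem isIso_βn (X : DRing.Cx A) (hX : Div.DivCx X) : IsIso ((βn I).app X) := by
  obtain ⟨J, r, hJ, hr⟩ := exists_res X
  haveI := isIso_βn_of_isKInjective I J hJ.kinj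
  haveI := hr
  haveI : IsIso ((QA A).map ((GI I).map r)) :=
    Div.isIso_Q_gCx_map hX (Div.divCx_of_injective hJ.inj) I (IsNoetherian.noetherian I) r hr
  have h := βn_natural I r
  have : IsIso ((βn I).app X ≫ (DRing.RgammaI I).map ((QA A).map r)) := h ▸ inferInstance
  exact IsIso.of_isIso_comp_right _ ((DRing.RgammaI I).map ((QA A).map r))

theorem divCx_gCx {X : DRing.Cx A} (hX : ∀ i, Module.Injective A (X.X i)) :
    Div.DivCx (DR39.gCx I X) :=
  Div.divCx_of_injective fun i => DR39.injective_gCx I X hX i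

omit [DRing.HasRgammaI I] [IsNoetherianRing A] in
theorem torsion_of_HD {X : DRing.Cx A} {K : Dual.D A} (e : (QA A).obj X ≅ K)
    (hK : ∀ i : ℤ, LocCoh.IsPowerTorsion I (Dual.HD A K i)) (i : ℤ) (x : X.X i)
    (hx : (X.d i (i + 1)).hom x = 0) :
    ∃ n : ℕ, ∀ a ∈ I ^ n, a • x ∈ LinearMap.range (X.d (i - 1) i).hom := by
  let t := ((((HF A i).mapIso e).symm ≪≫ HQIso X i).toLinearEquiv)
  obtain ⟨n, hn⟩ := hK i (t.symm (hcls X i ⟨x, hx⟩))
  refine ⟨n, fun a ha => (hcls_eq_zero_iff X i ⟨a • x, by rw [LinearMap.mem_ker, map_smul, hx, smul_zero]⟩).1 ?_⟩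
  have h1 := congrArg t (hn a ha)
  rw [map_smul, LinearEquiv.apply_symm_apply, map_zero, ← map_smul] at h1
  exact h1

theorem isIso_ε_of_torsion (K : Dual.D A) (hK : ∀ i : ℤ, LocCoh.IsPowerTorsion I (Dual.HD A K i)) :
    IsIso ((DRing.RgammaIε I).app K) := by
  obtain ⟨J, hJ, ⟨e⟩⟩ := LC16.GammaModel.exists_isRep K
  haveI := isIso_βn_of_isKInjective I J hJ.kinj
  haveI : IsIso ((QA A).map (Div.gι I J)) := Div.isIso_Q_gι (Div.divCx_of_injective hJ.inj) I
    (IsNoetherian.noetherian I) (torsion_of_HD I e hK)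
  have : IsIso ((βn I).app J ≫ (DRing.RgammaIε I).app ((QA A).obj J)) := (βn_ε I J) ▸ inferInstance
  haveI : IsIso ((DRing.RgammaIε I).app ((QA A).obj J)) := IsIso.of_isIso_comp_left ((βn I).app J) _
  have h := (DRing.RgammaIε I).naturality e.hom
  have : IsIso ((DRing.RgammaI I).map e.hom ≫ (DRing.RgammaIε I).app K) := h ▸ inferInstance
  exact IsIso.of_isIso_comp_left ((DRing.RgammaI I).map e.hom) _

theorem isPowerTorsion_Rgamma (K : Dual.D A) (i : ℤ) :
    LocCoh.IsPowerTorsion I (Dual.HD A ((DRing.RgammaI I).obj K) i) := by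
  obtain ⟨J, hJ, ⟨e⟩⟩ := LC16.GammaModel.exists_isRep K
  haveI := isIso_βn_of_isKInjective I J hJ.kinj
  let t := ((HQIso (DR39.gCx I J) i).symm ≪≫
    (HF A i).mapIso (asIso ((βn I).app J) ≪≫ (DRing.RgammaI I).mapIso e)).toLinearEquiv
  intro y
  obtain ⟨y, rfl⟩ := t.surjective y
  obtain ⟨z, rfl⟩ := hcls_surjective _ i y
  obtain ⟨n, hn⟩ := (z.1 : DRing.torsionSub I (J.X i)).2
  refine ⟨n, fun a ha => ?_⟩
  rw [← map_smul, ← map_smul, show a • z = 0 from Subtype.ext (Subtype.ext (hn a ha)), map_zero, map_zero]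

theorem isIso_map_ε (K : Dual.D A) : IsIso ((DRing.RgammaI I).map ((DRing.RgammaIε I).app K)) := by
  obtain ⟨J, hJ, ⟨e⟩⟩ := LC16.GammaModel.exists_isRep K
  haveI := isIso_βn_of_isKInjective I J hJ.kinj
  haveI := isIso_βn I (DR39.gCx I J) (divCx_gCx I hJ.inj)
  have hΓ : IsIso ((QA A).map ((GI I).map (Div.gι I J))) := by
    haveI : ∀ i, IsIso (((GI I).map (Div.gι I J)).f i) := fun i =>
      (DR39.isIso_iff_bijective _).2 ⟨fun a b h => Subtype.ext (Subtype.ext (congrArg Subtype.val h)),
        fun a => ⟨⟨⟨a.1, a.2⟩, by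
          obtain ⟨n, hn⟩ := a.2
          exact ⟨n, fun c hc => Subtype.ext (hn c hc)⟩⟩, rfl⟩⟩
    haveI : IsIso ((GI I).map (Div.gι I J)) := HomologicalComplex.Hom.isIso_of_components _
    infer_instance
  have h := βn_natural I (Div.gι I J)
  rw [← βn_ε I J, Functor.map_comp] at h
  have h1 : IsIso ((βn I).app (DR39.gCx I J) ≫ (DRing.RgammaI I).map ((βn I).app J) ≫
      (DRing.RgammaI I).map ((DRing.RgammaIε I).app ((QA A).obj J))) := h ▸ inferInstance
  haveI := IsIso.of_isIso_comp_left ((βn I).app (DR39.gCx I J))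
    ((DRing.RgammaI I).map ((βn I).app J) ≫
      (DRing.RgammaI I).map ((DRing.RgammaIε I).app ((QA A).obj J)))
  haveI := IsIso.of_isIso_comp_left ((DRing.RgammaI I).map ((βn I).app J))
    ((DRing.RgammaI I).map ((DRing.RgammaIε I).app ((QA A).obj J)))
  have h2 := congrArg (DRing.RgammaI I).map ((DRing.RgammaIε I).naturality e.hom)
  rw [Functor.map_comp, Functor.map_comp] at h2
  have : IsIso ((DRing.RgammaI I).map ((DRing.RgammaI I).map e.hom) ≫
      (DRing.RgammaI I).map ((DRing.RgammaIε I).app K)) := h2 ▸ inferInstance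
  exact IsIso.of_isIso_comp_left ((DRing.RgammaI I).map ((DRing.RgammaI I).map e.hom)) _

end Groth.Agent.LC15.RgammaModel
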