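import Groth.Agent.LC15.ComplCx
import Groth.Agent.DR40.DCExist
import Groth.Prelude.Def_DCoh2

/-!
The termwise completion of a complex is the derived limit of its reductions.
-/

set_option autoImplicit false
set_option linter.unusedSectionVars false
set_option linter.style.haveILetI false
set_option backward.isDefEq.respectTransparency false

noncomputable section

universe u

open CategoryTheory CategoryTheory.Limits CategoryTheory.Pretriangulated
open Groth.Agent Groth.Agent.DR39 Groth.Agent.LC15.ComplCx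

attribute [local instance] HasDerivedCategory.standard

namespace Groth.Agent.LC15.RlimTower

variable {A : Type u} [CommRing A] (X : ℕ → DRing.Cx A)

/-- product of complexes, termwise -/
def piCx : DRing.Cx A where
  X i := ModuleCat.of A ((n : ℕ) → (X n).X i)
  d i j := ModuleCat.ofHom (LinearMap.pi fun n => ((X n).d i j).hom ∘ₗ LinearMap.proj n)
  shape i j h := ModuleCat.hom_ext (LinearMap.ext fun x => funext fun n => by
    show ((X n).d i j).hom (x n) = 0
    rw [(X n).shape i j h]; rfl)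
  d_comp_d' i j k _ _ := ModuleCat.hom_ext (LinearMap.ext fun x => funext fun n => d_apply_d (X n) i j k (x n))

/-- projections -/
def proj (n : ℕ) : piCx X ⟶ X n where
  f i := ModuleCat.ofHom (LinearMap.proj n)
  comm' _ _ _ := rfl

variable {X}

/-- maps into the product -/
def lift {P : DRing.Cx A} (v : ∀ n, P ⟶ X n) : P ⟶ piCx X where
  f i := ModuleCat.ofHom (LinearMap.pi fun n => ((v n).f i).hom)
  comm' i j _ := ModuleCat.hom_ext (LinearMap.ext fun x => funext fun n => (f_apply_d (v n) i j x).symm)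

theorem lift_proj {P : DRing.Cx A} (v : ∀ n, P ⟶ X n) (n : ℕ) : lift v ≫ proj X n = v n :=
  HomologicalComplex.hom_ext _ _ fun _ => ModuleCat.hom_ext (LinearMap.ext fun _ => rfl)

/-- families of homotopies -/
def piHomotopy {P : DRing.Cx A} (v : ∀ n, P ⟶ X n) (h : ∀ n, Homotopy (v n) 0) : Homotopy (lift v) 0 where
  hom i j := ModuleCat.ofHom (LinearMap.pi fun n => ((h n).hom i j).hom)
  zero i j hij := ModuleCat.hom_ext (LinearMap.ext fun x => funext fun n => by
    show ((h n).hom i j).hom x = 0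
    rw [(h n).zero i j hij]; rfl)
  comm i := ModuleCat.hom_ext (LinearMap.ext fun x => funext fun n => by
    have := LinearMap.congr_fun (congrArg ModuleCat.Hom.hom ((h n).comm i)) x
    rw [dNext_eq _ (show (ComplexShape.up ℤ).Rel i (i + 1) from rfl),
      prevD_eq _ (show (ComplexShape.up ℤ).Rel (i - 1) i by simp)] at this ⊢
    exact this)

variable (X) in
theorem pi_hom_bijective (Z : Dual.D A) :
    Function.Bijective fun (w : Z ⟶ (QA A).obj (piCx X)) (n : ℕ) => w ≫ (QA A).map (proj X n) := by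
  obtain ⟨K, ⟨eK⟩⟩ := exists_complex_iso Z
  haveI := (DerivedCategory.isIso_Q_map_iff_quasiIso (ModuleCat.{u} A) (SF.aug K)).2 inferInstance
  haveI : (SF.res K).IsKProjective := SF.isKProjective_res K
  let e : (QA A).obj (SF.res K) ≅ Z := asIso ((QA A).map (SF.aug K)) ≪≫ eK
  refine ⟨fun w w' h => ?_, fun y => ?_⟩
  · rw [← cancel_epi e.hom]
    obtain ⟨v, hv⟩ := DR39.Q_map_surjective (SF.res K) (piCx X) (e.hom ≫ w)
    obtain ⟨v', hv'⟩ := DR39.Q_map_surjective (SF.res K) (piCx X) (e.hom ≫ w')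
    have hn : ∀ n, Nonempty (Homotopy ((v - v') ≫ proj X n) 0) := fun n => by
      refine (DR39.Q_map_eq_iff _ _).1 ?_
      rw [Functor.map_comp, Functor.map_sub, Preadditive.sub_comp, Functor.map_zero, sub_eq_zero, hv, hv',
        Category.assoc, Category.assoc]
      exact congrArg (e.hom ≫ ·) (congrFun h n)
    have h2 : lift (fun n => (v - v') ≫ proj X n) = v - v' :=
      HomologicalComplex.hom_ext _ _ fun i => ModuleCat.hom_ext (LinearMap.ext fun x => funext fun n => rfl)
    have h3 := DerivedCategory.Q_map_eq_of_homotopy (C := ModuleCat.{u} A)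
      (piHomotopy _ fun n => (hn n).some)
    rw [h2, Functor.map_sub, Functor.map_zero, sub_eq_zero, hv, hv'] at h3
    exact h3
  · choose v hv using fun n => DR39.Q_map_surjective (SF.res K) (X n) (e.hom ≫ y n)
    refine ⟨e.inv ≫ (QA A).map (lift v), funext fun n => ?_⟩
    show (e.inv ≫ DerivedCategory.Q.map (lift v)) ≫ DerivedCategory.Q.map (proj X n) = y n
    rw [Category.assoc, ← Functor.map_comp, lift_proj, hv, Iso.inv_hom_id_assoc]

variable (s : ∀ n, X (n + 1) ⟶ X n)

/-- `(x_n) ↦ (x_n - s_n x_{n+1})` -/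
def dPi : piCx X ⟶ piCx X := lift fun n => proj X n - proj X (n + 1) ≫ s n

theorem dPi_apply (i : ℤ) (x : (piCx X).X i) (n : ℕ) :
    ((dPi s).f i).hom x n = x n - ((s n).f i).hom (x (n + 1)) := rfl

variable (I : Ideal A) {Y : DRing.Cx A} (q : ∀ n, Y ⟶ X n) (hq : ∀ n, q (n + 1) ≫ s n = q n)
  (hk : ∀ n i (x : Y.X i), ((q n).f i).hom x = 0 ↔ x ∈ (I ^ n • ⊤ : Submodule A (Y.X i)))

include hk in
theorem le_ker (n : ℕ) (i : ℤ) : (I ^ n • ⊤ : Submodule A (Y.X i)) ≤ LinearMap.ker ((q n).f i).hom :=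
  fun x hx => (hk n i x).2 hx

/-- evaluation of the completion -/
def ev (n : ℕ) : (GC I).obj Y ⟶ X n where
  f i := ModuleCat.ofHom (X := AdicCompletion I (Y.X i)) (Y := (X n).X i)
    (((I ^ n • ⊤ : Submodule A (Y.X i)).liftQ ((q n).f i).hom (le_ker I q hk n i)).comp
      ((AdicCompletion.eval I (Y.X i) n).restrictScalars A))
  comm' i j _ := ModuleCat.hom_ext (LinearMap.ext fun z => by
    obtain ⟨a, rfl⟩ := AdicCompletion.mk_surjective I (Y.X i) z
    show ((X n).d i j).hom (((q n).f i).hom (a n)) = ((q n).f j).hom ((Y.d i j).hom (a n))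
    exact (f_apply_d (q n) i j (a n)).symm)

theorem ev_mk (n : ℕ) (i : ℤ) (a : AdicCompletion.AdicCauchySequence I (Y.X i)) :
    ((ev I q hk n).f i).hom (AdicCompletion.mk I (Y.X i) a) = ((q n).f i).hom (a n) := rfl

/-- the comparison with the product -/
def ι : (GC I).obj Y ⟶ piCx X := lift (ev I q hk)

include hq in
theorem ι_dPi : ι I q hk ≫ dPi s = 0 := by
  refine HomologicalComplex.hom_ext _ _ fun i => ModuleCat.hom_ext (LinearMap.ext fun z => funext fun n => ?_)
  obtain ⟨a, rfl⟩ := AdicCompletion.mk_surjective I (Y.X i) z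
  show ((q n).f i).hom (a n) - ((s n).f i).hom (((q (n + 1)).f i).hom (a (n + 1))) = 0
  rw [show ((s n).f i).hom (((q (n + 1)).f i).hom (a (n + 1))) = ((q n).f i).hom (a (n + 1)) from
    congrArg (fun φ : Y ⟶ X n => (φ.f i).hom (a (n + 1))) (hq n), sub_eq_zero, ← sub_eq_zero, ← map_sub]
  exact (hk n i _).2 (SModEq.sub_mem.1 (a.2 (Nat.le_succ n)))

/-- the short complex -/
def sc : ShortComplex (DRing.Cx A) := ShortComplex.mk (ι I q hk) (dPi s) (ι_dPi s I q hq hk)

variable (hsurj : ∀ n i, Function.Surjective ((q n).f i).hom)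

include hsurj in
theorem sc_shortExact : (sc s I q hq hk).ShortExact := by
  refine HomologicalComplex.shortExact_of_degreewise_shortExact _ fun i => ?_
  have hmono : Mono ((sc s I q hq hk).map (HomologicalComplex.eval _ _ i)).f := by
    refine (ModuleCat.mono_iff_injective _).2 fun z z' h => ?_
    rw [← sub_eq_zero]
    obtain ⟨a, ha⟩ := AdicCompletion.mk_surjective I (Y.X i) (z - z')
    have h0 : ((ι I q hk).f i).hom (z - z') = 0 := by
      rw [map_sub]; exact sub_eq_zero.2 h
    rw [← ha] at h0 ⊢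
    refine AdicCompletion.ext fun n => ?_
    rw [AdicCompletion.val_zero_apply]
    exact (Submodule.Quotient.mk_eq_zero _).2 ((hk n i (a n)).1 (congrFun h0 n))
  have hsurj' : ∀ n, Function.Surjective ((s n).f i).hom := fun n y => by
    obtain ⟨x, rfl⟩ := hsurj n i y
    exact ⟨((q (n + 1)).f i).hom x, congrArg (fun φ : Y ⟶ X n => (φ.f i).hom x) (hq n)⟩
  have hepi : Epi ((sc s I q hq hk).map (HomologicalComplex.eval _ _ i)).g := by
    refine (ModuleCat.epi_iff_surjective _).2 fun (y : (n : ℕ) → (X n).X i) => ?_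
    choose g hg using hsurj'
    let x : (n : ℕ) → (X n).X i := fun n => Nat.rec (motive := fun n => (X n).X i) 0 (fun n xn => g n (xn - y n)) n
    refine ⟨x, funext fun n => ?_⟩
    show x n - ((s n).f i).hom (g n (x n - y n)) = y n
    rw [hg, sub_sub_cancel]
  refine { exact := ?_ }
  rw [ShortComplex.ShortExact.moduleCat_exact_iff_function_exact]
  intro y
  constructor
  · intro hy
    choose p hp using fun n => hsurj n i ((y : (n : ℕ) → (X n).X i) n)
    have hc : ∀ n, p n ≡ p (n + 1) [SMOD (I ^ n • ⊤ : Submodule A (Y.X i))] := fun n => by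
      refine SModEq.sub_mem.2 ((hk n i _).1 ?_)
      rw [map_sub, hp, ← show ((s n).f i).hom (((q (n + 1)).f i).hom (p (n + 1))) = ((q n).f i).hom (p (n + 1)) from
        congrArg (fun φ : Y ⟶ X n => (φ.f i).hom (p (n + 1))) (hq n), hp]
      exact congrFun hy n
    refine ⟨AdicCompletion.mk I (Y.X i) (AdicCompletion.AdicCauchySequence.mk I _ p hc), funext fun n => ?_⟩
    exact hp n
  · rintro ⟨z, rfl⟩
    exact ConcreteCategory.congr_hom (congrArg (fun g => g.f i) (ι_dPi s I q hq hk)) z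

variable {K : ℕ → Dual.D A} [HasProduct K] (t : ∀ n, K (n + 1) ⟶ K n)
  (e : ∀ n, (QA A).obj (X n) ≅ K n) (he : ∀ n, (QA A).map (s n) ≫ (e n).hom = (e (n + 1)).hom ≫ t n)

include hq hk hsurj he in
theorem isRlim {L : Dual.D A} (l : (QA A).obj ((GC I).obj Y) ≅ L) : DCoh.IsRlim K t L := by
  obtain ⟨w, hw⟩ := (pi_hom_bijective X (∏ᶜ K)).2 fun n => Pi.π K n ≫ (e n).inv
  let p₀ : (QA A).obj (piCx X) ⟶ ∏ᶜ K := Pi.lift fun n => (QA A).map (proj X n) ≫ (e n).hom
  have hπ : ∀ n, w ≫ (QA A).map (proj X n) = Pi.π K n ≫ (e n).inv := fun n => congrFun hw n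
  let p : (QA A).obj (piCx X) ≅ ∏ᶜ K :=
    { hom := p₀
      inv := w
      hom_inv_id := (pi_hom_bijective X _).1 (funext fun n => by
        show (p₀ ≫ w) ≫ (QA A).map (proj X n) = 𝟙 _ ≫ (QA A).map (proj X n)
        rw [Category.assoc, hπ, Category.id_comp, ← Category.assoc, Pi.lift_π, Category.assoc, Iso.hom_inv_id,
          Category.comp_id])
      inv_hom_id := Pi.hom_ext _ _ fun n => by
        rw [Category.assoc, Pi.lift_π, ← Category.assoc, hπ, Category.assoc, Iso.inv_hom_id, Category.comp_id,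
          Category.id_comp] }
  have hT := DerivedCategory.triangleOfSES_distinguished (sc_shortExact s I q hq hk hsurj)
  let T := DerivedCategory.triangleOfSES (sc_shortExact s I q hq hk hsurj)
  refine ⟨l.inv ≫ T.mor₁ ≫ p.hom, p.inv ≫ T.mor₃ ≫ l.hom⟦(1 : ℤ)⟧',
    isomorphic_distinguished _ hT _ (Triangle.isoMk _ _ l.symm p.symm p.symm ?_ ?_ ?_)⟩
  · show (l.inv ≫ T.mor₁ ≫ p.hom) ≫ p.inv = l.inv ≫ T.mor₁
    simp
  · show Pi.lift _ ≫ p.inv = p.inv ≫ (QA A).map (dPi s)
    rw [Iso.comp_inv_eq, Category.assoc, Iso.eq_inv_comp]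
    refine Pi.hom_ext _ _ fun n => ?_
    show (p₀ ≫ _) ≫ _ = ((QA A).map (dPi s) ≫ p₀) ≫ _
    simp only [p₀, Category.assoc, Pi.lift_π, Preadditive.comp_sub]
    rw [← Functor.map_comp_assoc, dPi, lift_proj, Functor.map_sub, Functor.map_comp, Preadditive.sub_comp,
      Category.assoc, he, Pi.lift_π_assoc, Category.assoc]
  · show (p.inv ≫ T.mor₃ ≫ l.hom⟦(1 : ℤ)⟧') ≫ l.inv⟦(1 : ℤ)⟧' = p.inv ≫ T.mor₃
    simp [← Functor.map_comp]

end Groth.Agent.LC15.RlimTower
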