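import Groth.Agent.LC15.TorPro

/-!
Pro-vanishing of `Tor_i(M, A/I^n)` via Artin–Rees.
-/

set_option autoImplicit false

noncomputable section

universe u

open CategoryTheory CategoryTheory.Limits TensorProduct

namespace Groth.Agent.LC15.TP

variable {A : Type u} [CommRing A] (I : Ideal A)

/-- the projection `A/I^a → A/I^b` -/
abbrev qmap (a b : ℕ) (h : b ≤ a) : (A ⧸ I ^ a) →ₗ[A] (A ⧸ I ^ b) :=
  Submodule.mapQ (I ^ a) (I ^ b) LinearMap.id (Ideal.pow_le_pow_right h)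

theorem exists_tmul_one (J : Ideal A) (X : Type u) [AddCommGroup X] [Module A X] (z : X ⊗[A] (A ⧸ J)) :
    ∃ x : X, z = x ⊗ₜ[A] (1 : A ⧸ J) := by
  obtain ⟨x, hx⟩ := Submodule.Quotient.mk_surjective _ (tensorQuotEquivQuotSMul X J z)
  exact ⟨x, by rw [← tensorQuotEquivQuotSMul_symm_mk, hx, LinearEquiv.symm_apply_apply]⟩

theorem mem_smul_of_tmul_one_eq_zero (J : Ideal A) (X : Type u) [AddCommGroup X] [Module A X] (x : X)
    (h : x ⊗ₜ[A] (1 : A ⧸ J) = 0) : x ∈ J • (⊤ : Submodule A X) := by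
  rw [← tensorQuotEquivQuotSMul_symm_mk, LinearEquiv.map_eq_zero_iff,
    Submodule.Quotient.mk_eq_zero] at h
  exact h

theorem qmap_lTensor_tmul_one (a b : ℕ) (h : b ≤ a) (X : Type u) [AddCommGroup X] [Module A X] (x : X) :
    (qmap I a b h).lTensor X (x ⊗ₜ[A] (1 : A ⧸ I ^ a)) = x ⊗ₜ[A] (1 : A ⧸ I ^ b) := rfl

/-- A lift `f` of the projection `A/I^a → A/I^b`. -/
def IsLift {a b : ℕ} (h : b ≤ a) (Ra : Res (A := A) (A ⧸ I ^ a)) (Rb : Res (A := A) (A ⧸ I ^ b))
    (f : Ra.C ⟶ Rb.C) : Prop :=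
  Rb.ε ∘ₗ (f.f 0).hom = qmap I a b h ∘ₗ Ra.ε

/-- Artin–Rees: projections far enough kill the positive homology tensored with a finite module. -/
theorem exists_kills [IsNoetherianRing A] (p : ℕ) : ∀ (X : Type u) [AddCommGroup X] [Module A X]
    [Module.Finite A X], ∃ c : ℕ, ∀ (a b : ℕ) (h : b + c ≤ a) (Ra : Res (A := A) (A ⧸ I ^ a))
      (Rb : Res (A := A) (A ⧸ I ^ b)) (f : Ra.C ⟶ Rb.C),
      IsLift I (le_trans (Nat.le_add_right b c) h) Ra Rb f → Kills X f p := by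
  induction p with
  | zero =>
    intro X _ _ _
    obtain ⟨k, π, hπ⟩ := Module.Finite.exists_fin' A X
    obtain ⟨c, hc⟩ := Ideal.exists_pow_inf_eq_pow_smul I (LinearMap.ker π)
    refine ⟨c, fun a b h Ra Rb f hf => ?_⟩
    have hG : Kills (Fin k → A) (𝟙 Rb.C) 0 := kills_of_flat Rb _ _ _
    have h0 : Kills0 (LinearMap.ker π).subtype f := by
      refine kills0_of_aug f Ra.ε Rb.ε _ Ra.exact₀.linearMap_comp_eq_zero Rb.exact₀ Rb.surj hf
        fun z hz => ?_
      obtain ⟨x, rfl⟩ := exists_tmul_one (I ^ a) _ z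
      rw [LinearMap.rTensor_tmul] at hz
      have h1 : (x : Fin k → A) ∈ I ^ a • (⊤ : Submodule A (Fin k → A)) ⊓ LinearMap.ker π :=
        ⟨mem_smul_of_tmul_one_eq_zero _ _ _ hz, x.2⟩
      rw [hc a (by omega)] at h1
      have h2 : (x : Fin k → A) ∈ I ^ b • LinearMap.ker π :=
        Submodule.smul_mono (Ideal.pow_le_pow_right (by omega)) inf_le_right h1
      rw [qmap_lTensor_tmul_one, ← tensorQuotEquivQuotSMul_symm_mk, LinearEquiv.map_eq_zero_iff,
        Submodule.Quotient.mk_eq_zero]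
      rwa [← Submodule.mem_smul_top_iff] at h2
    rw [← Category.comp_id f]
    exact kills_shift_zero f (𝟙 _) (LinearMap.exact_subtype_ker_map π) hπ h0 hG
  | succ p ih =>
    intro X _ _ _
    obtain ⟨k, π, hπ⟩ := Module.Finite.exists_fin' A X
    obtain ⟨c, hc⟩ := ih (LinearMap.ker π)
    refine ⟨c, fun a b h Ra Rb f hf => ?_⟩
    haveI := Ra.flat p
    rw [← Category.comp_id f]
    exact kills_shift_succ f (𝟙 _) Subtype.val_injective (LinearMap.exact_subtype_ker_map π) hπ p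
      (hc a b h Ra Rb f hf) (kills_of_flat Rb _ _ _)

/-- chosen resolution of `A/I^a` -/
abbrev PR (a : ℕ) : ProjectiveResolution (ModuleCat.of A (A ⧸ I ^ a)) :=
  projectiveResolution _

theorem exists_lift (a b : ℕ) (h : b ≤ a) :
    ∃ f : (PR I a).complex ⟶ (PR I b).complex,
      IsLift I h (resOfPR (PR I a)) (resOfPR (PR I b)) f :=
  ⟨ProjectiveResolution.lift (ModuleCat.ofHom (qmap I a b h)) _ _,
    congrArg ModuleCat.Hom.hom (ProjectiveResolution.lift_commutes_zero _ (PR I a) (PR I b))⟩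

theorem isLift_comp {a e b : ℕ} (h : b ≤ e) (h' : e ≤ a) (f : (PR I a).complex ⟶ (PR I e).complex)
    (g : (PR I e).complex ⟶ (PR I b).complex)
    (hf : IsLift I h' (resOfPR (PR I a)) (resOfPR (PR I e)) f)
    (hg : IsLift I h (resOfPR (PR I e)) (resOfPR (PR I b)) g) :
    IsLift I (h.trans h') (resOfPR (PR I a)) (resOfPR (PR I b)) (f ≫ g) := by
  refine LinearMap.ext fun x => ?_
  have h1 := LinearMap.congr_fun hg ((f.f 0).hom x)
  have h2 := congrArg (qmap I e b h) (LinearMap.congr_fun hf x)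
  refine (h1.trans h2).trans ?_
  show qmap I e b h (qmap I a e h' _) = qmap I a b (h.trans h') _
  obtain ⟨y, hy⟩ := Submodule.Quotient.mk_surjective _ ((resOfPR (PR I a)).ε x)
  rw [← hy]
  rfl

theorem exists_kills_torsion [IsNoetherianRing A] (m p : ℕ) : ∃ c : ℕ, ∀ (a b : ℕ) (h : b + c ≤ a),
    ∃ f : (PR I a).complex ⟶ (PR I b).complex,
      IsLift I (le_trans (Nat.le_add_right b c) h) (resOfPR (PR I a)) (resOfPR (PR I b)) f ∧
      ∀ (M : Type u) [AddCommGroup M] [Module A M], (∀ r ∈ I ^ m, ∀ x : M, r • x = 0) →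
        Kills M f p := by
  classical
  induction p with
  | zero =>
    obtain ⟨c₂, hc₂⟩ := exists_kills I 0 (A ⧸ I ^ m)
    refine ⟨c₂ + m, fun a b h => ?_⟩
    obtain ⟨f, hf⟩ := exists_lift I a (b + c₂) (by omega)
    obtain ⟨g, hg⟩ := exists_lift I (b + c₂) b (Nat.le_add_right _ _)
    refine ⟨f ≫ g, isLift_comp I _ _ f g hf hg, fun M _ _ hM => ?_⟩
    let π : (M →₀ A ⧸ I ^ m) →ₗ[A] M := Finsupp.lsum A fun x : M =>
      (I ^ m).liftQ (LinearMap.toSpanSingleton A M x) fun r hr => hM r hr x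
    have hπ : Function.Surjective π := fun x => ⟨Finsupp.single x 1, by
      simp only [π, Finsupp.lsum_single]
      exact one_smul A x⟩
    have hF : ∀ r ∈ I ^ m, ∀ y : M →₀ A ⧸ I ^ m, r • y = 0 := fun r hr y => Finsupp.ext fun i => by
      obtain ⟨z, hz⟩ := Submodule.Quotient.mk_surjective _ (y i)
      rw [Finsupp.smul_apply, ← hz, ← Submodule.Quotient.mk_smul]
      exact (Submodule.Quotient.mk_eq_zero _).2 (Ideal.mul_mem_right _ _ hr)
    have h0 : Kills0 (X' := ↥(LinearMap.ker π)) (G := M →₀ A ⧸ I ^ m)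
        (LinearMap.ker π).subtype f := by
      refine kills0_of_aug f (resOfPR (PR I a)).ε (resOfPR (PR I (b + c₂))).ε _
        (resOfPR (PR I a)).exact₀.linearMap_comp_eq_zero (resOfPR (PR I (b + c₂))).exact₀
        (resOfPR (PR I (b + c₂))).surj hf fun z hz => ?_
      obtain ⟨x, rfl⟩ := exists_tmul_one (I ^ a) (↥(LinearMap.ker π)) (by exact z)
      rw [LinearMap.rTensor_tmul] at hz
      have h1 := mem_smul_of_tmul_one_eq_zero _ _ _ hz
      have hbot : I ^ a • (⊤ : Submodule A (M →₀ A ⧸ I ^ m)) = ⊥ :=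
        eq_bot_iff.2 (Submodule.smul_le.2 fun r hr y _ =>
          hF r (Ideal.pow_le_pow_right (by omega) hr) y)
      rw [hbot, Submodule.mem_bot] at h1
      rw [show x = 0 from Subtype.ext h1, TensorProduct.zero_tmul, map_zero]
    exact kills_shift_zero f g (LinearMap.exact_subtype_ker_map π) hπ h0
      (kills_finsupp g M _ 0 (hc₂ (b + c₂) b le_rfl (resOfPR (PR I (b + c₂))) (resOfPR (PR I b)) g hg))
  | succ p ih =>
    obtain ⟨c₁, hc₁⟩ := ih
    obtain ⟨c₂, hc₂⟩ := exists_kills I (p + 1) (A ⧸ I ^ m)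
    refine ⟨c₂ + c₁, fun a b h => ?_⟩
    obtain ⟨f, hf, hk⟩ := hc₁ a (b + c₂) (by omega)
    obtain ⟨g, hg⟩ := exists_lift I (b + c₂) b (Nat.le_add_right _ _)
    refine ⟨f ≫ g, isLift_comp I _ _ f g hf hg, fun M _ _ hM => ?_⟩
    let π : (M →₀ A ⧸ I ^ m) →ₗ[A] M := Finsupp.lsum A fun x : M =>
      (I ^ m).liftQ (LinearMap.toSpanSingleton A M x) fun r hr => hM r hr x
    have hπ : Function.Surjective π := fun x => ⟨Finsupp.single x 1, by
      simp only [π, Finsupp.lsum_single]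
      exact one_smul A x⟩
    have hK : ∀ r ∈ I ^ m, ∀ y : LinearMap.ker π, r • y = 0 := fun r hr y =>
      Subtype.ext (Finsupp.ext fun i => by
        obtain ⟨z, hz⟩ := Submodule.Quotient.mk_surjective _ (y.1 i)
        show r • y.1 i = 0
        rw [← hz, ← Submodule.Quotient.mk_smul]
        exact (Submodule.Quotient.mk_eq_zero _).2 (Ideal.mul_mem_right _ _ hr))
    haveI := (resOfPR (PR I a)).flat p
    exact kills_shift_succ f g Subtype.val_injective (LinearMap.exact_subtype_ker_map π) hπ p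
      (hk (↥(LinearMap.ker π)) hK) (kills_finsupp g M _ (p + 1) (hc₂ (b + c₂) b le_rfl (resOfPR (PR I (b + c₂))) (resOfPR (PR I b)) g hg))

/-- Row S0360. -/
theorem tor_map_zero_of_torsion [IsNoetherianRing A] (m i : ℕ) (hi : 0 < i) :
    ∃ c : ℕ, ∀ (M : Type u) [AddCommGroup M] [Module A M], (∀ a ∈ I ^ m, ∀ x : M, a • x = 0) →
      ∀ n : ℕ, c ≤ n → (((Tor (ModuleCat.{u} A) i).obj (ModuleCat.of A M)).map
        (ModuleCat.ofHom (qmap I n (n - c) (Nat.sub_le n c)))) = 0 := by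
  obtain ⟨p, rfl⟩ : ∃ p, i = p + 1 := ⟨i - 1, by omega⟩
  obtain ⟨c, hc⟩ := exists_kills_torsion I m p
  refine ⟨c, fun M _ _ hM n hn => ?_⟩
  obtain ⟨f, hf, hk⟩ := hc n (n - c) (by omega)
  exact tor_map_eq_zero M _ (PR I n) (PR I (n - c)) f (ModuleCat.hom_ext hf) p (hk M hM)

end Groth.Agent.LC15.TP
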