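import Groth.Agent.LC15.TorCx
import Groth.Agent.LC15.HT
import Groth.Agent.DR39.Gamma

/-!
Elements with supports in a specialisation stable subset of a K-injective complex compute
`Dual2.HDT`.
-/

set_option autoImplicit false
set_option linter.style.haveILetI false
set_option linter.unusedSectionVars false
set_option backward.isDefEq.respectTransparency false

universe u

open CategoryTheory CategoryTheory.Limits Opposite
open CochainComplex CochainComplex.HomComplex
open Groth.Agent Groth.Agent.DR39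

attribute [local instance] HasDerivedCategory.standard

namespace Groth.Agent.LC15.TorLink

open LC15.TorCx

variable {A : Type u} [CommRing A] {T : Set (PrimeSpectrum A)} (J : Dual2.IdealsIn T)
  (E : DRing.Cx A)

theorem exists_of_killed {M : ModuleCat.{u} A} (x : M) (h : ∀ a ∈ HT.idl J, a • x = 0) :
    ∃ f : HT.qI J ⟶ M, f.hom (Submodule.Quotient.mk 1) = x :=
  ⟨ModuleCat.ofHom ((HT.idl J).liftQ (LinearMap.toSpanSingleton A M x) fun a ha => h a ha), one_smul A x⟩

variable {J} in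
theorem qI_ext {M : ModuleCat.{u} A} {f g : HT.qI J ⟶ M}
    (h : f.hom (Submodule.Quotient.mk 1) = g.hom (Submodule.Quotient.mk 1)) : f = g := by
  ext
  exact h

/-- value at one of a cochain -/
noncomputable def evK (q : ℤ) : (DRing.homCx (sgl (HT.qI J)) E).X q →ₗ[A] E.X q where
  toFun z := (Cochain.fromSingleEquiv (show (0 : ℤ) + q = q by omega)
    (show Cochain (sgl (HT.qI J)) E q from z)).hom (Submodule.Quotient.mk 1)
  map_add' z w := by rw [map_add]; rfl
  map_smul' c (z : Cochain (sgl (HT.qI J)) E q) := by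
    show ((HomologicalComplex.singleObjXSelf _ 0 _).inv ≫ (c • z).v 0 q _).hom _ = _
    rw [Cochain.smul_v, Linear.comp_smul]
    rfl

theorem evK_mem (q : ℤ) (z : (DRing.homCx (sgl (HT.qI J)) E).X q) :
    evK J E q z ∈ Tor T (E.X q) := by
  refine ⟨HT.idl J, HT.zeroLocus_idl J, fun a ha => ?_⟩
  show a • (Cochain.fromSingleEquiv (show (0 : ℤ) + q = q by omega)
    (show Cochain (sgl (HT.qI J)) E q from z)).hom (Submodule.Quotient.mk 1) = 0
  rw [← map_smul, ← Submodule.Quotient.mk_smul, smul_eq_mul, mul_one,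
    (Submodule.Quotient.mk_eq_zero _).mpr ha, map_zero]

theorem exists_fromSingleMk (q : ℤ) (z : (DRing.homCx (sgl (HT.qI J)) E).X q) :
    ∃ f : HT.qI J ⟶ E.X q, z = Cochain.fromSingleMk f (show (0 : ℤ) + q = q by omega) :=
  ⟨_, ((Cochain.fromSingleEquiv (show (0 : ℤ) + q = q by omega)).symm_apply_apply
    (show Cochain _ E q from z)).symm⟩

theorem evK_fromSingleMk (q : ℤ) (f : HT.qI J ⟶ E.X q) :
    evK J E q (Cochain.fromSingleMk f (show (0 : ℤ) + q = q by omega)) =
      f.hom (Submodule.Quotient.mk 1) :=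
  congrArg (fun g : HT.qI J ⟶ E.X q => g.hom (Submodule.Quotient.mk 1))
    (Cochain.fromSingleEquiv_fromSingleMk f (show (0 : ℤ) + q = q by omega))

theorem evK_d (q q' : ℤ) (z : (DRing.homCx (sgl (HT.qI J)) E).X q) :
    (E.d q q').hom (evK J E q z) =
      evK J E q' (((DRing.homCx (sgl (HT.qI J)) E).d q q').hom z) := by
  obtain ⟨f, rfl⟩ := exists_fromSingleMk J E q z
  show _ = evK J E q' (δ q q' (Cochain.fromSingleMk f _))
  rw [Cochain.δ_fromSingleMk f _ q' q' (by omega), evK_fromSingleMk, evK_fromSingleMk]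
  rfl

/-- cocycles give cycles with supports in `T` -/
noncomputable def evC (i : ℤ) : Zd (DRing.homCx (sgl (HT.qI J)) E) i →ₗ[A] cyc T E i :=
  LinearMap.codRestrict _ ((evK J E i).comp (Submodule.subtype _)) fun z => ⟨evK_mem J E i z.1, by
    show (E.d i (i + 1)).hom (evK J E i z.1) = 0
    rw [evK_d, show ((DRing.homCx (sgl (HT.qI J)) E).d i (i + 1)).hom z.1 = 0 from z.2, map_zero]⟩

variable [E.IsKInjective]

/-- the comparison map -/
noncomputable def toK (i : ℤ) :
    ((QA A).obj (sgl (HT.qI J)) ⟶ (QA A).obj (E⟦i⟧)) →ₗ[A] Hm T E i :=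
  (Submodule.liftQ (LinearMap.ker (clsLin (sgl (HT.qI J)) E i))
      ((Submodule.mkQ _).comp (evC J E i)) fun z hz => by
    rw [clsLin_ker, LinearMap.mem_ker, hcls_eq_zero_iff] at hz
    obtain ⟨y, hy⟩ := hz
    rw [LinearMap.mem_ker, LinearMap.comp_apply, Submodule.mkQ_apply, Submodule.Quotient.mk_eq_zero]
    exact ⟨evK J E (i - 1) y, evK_mem J E (i - 1) y, by
      show (E.d (i - 1) i).hom (evK J E (i - 1) y) = evK J E i z.1
      rw [evK_d, hy]⟩).comp
    (LinearMap.quotKerEquivOfSurjective _ (clsLin_surjective (sgl (HT.qI J)) E i)).symm.toLinearMap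

theorem toK_cls (i : ℤ) (z : Zd (DRing.homCx (sgl (HT.qI J)) E) i) :
    toK J E i (clsLin (sgl (HT.qI J)) E i z) = Submodule.mkQ _ (evC J E i z) := by
  unfold toK
  rw [LinearMap.comp_apply]
  have : (LinearMap.quotKerEquivOfSurjective _ (clsLin_surjective (sgl (HT.qI J)) E i)).symm.toLinearMap
      (clsLin (sgl (HT.qI J)) E i z) = Submodule.Quotient.mk z := by
    rw [LinearEquiv.coe_toLinearMap, LinearEquiv.symm_apply_eq]
    rfl
  rw [this, Submodule.liftQ_apply]
  rfl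

variable {J}

/-- the induced map of complexes in degree zero -/
noncomputable abbrev sq {K : Dual2.IdealsIn T} (h : HT.idl K ≤ HT.idl J) :
    sgl (HT.qI K) ⟶ sgl (HT.qI J) :=
  (HomologicalComplex.single (ModuleCat.{u} A) (ComplexShape.up ℤ) 0).map (HT.qle h)

theorem exists_pre_cycle {K : Dual2.IdealsIn T} (h : HT.idl K ≤ HT.idl J) (i : ℤ)
    (z : Zd (DRing.homCx (sgl (HT.qI J)) E) i) :
    ∃ z' : Zd (DRing.homCx (sgl (HT.qI K)) E) i,
      clsLin (sgl (HT.qI K)) E i z' = (QA A).map (sq h) ≫ clsLin (sgl (HT.qI J)) E i z ∧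
      evK K E i z'.1 = evK J E i z.1 := by
  let c := (zToCocycle (sgl (HT.qI J)) E i z).precomp (sq h)
  refine ⟨⟨c.1, Cocycle.δ_eq_zero c (i + 1)⟩, ?_, ?_⟩
  · show (QA A).map (Cocycle.equivHomShift.symm c) = _ ≫ (QA A).map _
    rw [Cocycle.equivHomShift_symm_precomp, Functor.map_comp]
  · obtain ⟨f, hf⟩ := exists_fromSingleMk J E i z.1
    have hc : c.1 = Cochain.fromSingleMk (HT.qle h ≫ f) (show (0 : ℤ) + i = i by omega) := by
      show (Cochain.ofHom (sq h)).comp (show Cochain _ E i from z.1) (zero_add i) = _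
      rw [hf]
      exact (Cochain.fromSingleMk_precomp (HT.qle h) f _).symm
    show evK K E i c.1 = evK J E i z.1
    rw [hc, hf, evK_fromSingleMk, evK_fromSingleMk]
    rfl

theorem toK_pre {K : Dual2.IdealsIn T} (h : HT.idl K ≤ HT.idl J) (i : ℤ)
    (g : (QA A).obj (sgl (HT.qI J)) ⟶ (QA A).obj (E⟦i⟧)) :
    toK K E i ((QA A).map (sq h) ≫ g) = toK J E i g := by
  obtain ⟨z, rfl⟩ := clsLin_surjective (sgl (HT.qI J)) E i g
  obtain ⟨z', h1, h2⟩ := exists_pre_cycle E h i z
  rw [← h1, toK_cls, toK_cls]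
  exact congrArg _ (Subtype.ext h2)

theorem toK_surj (i : ℤ) (y : Hm T E i) :
    ∃ (J : Dual2.IdealsIn T) (g : (QA A).obj (sgl (HT.qI J)) ⟶ (QA A).obj (E⟦i⟧)),
      toK J E i g = y := by
  obtain ⟨⟨x, ⟨I, hI, hIx⟩, hdx⟩, rfl⟩ := Submodule.mkQ_surjective _ y
  obtain ⟨f, hf⟩ := exists_of_killed (HT.mkI I hI) (M := E.X i) x hIx
  have hfd : f ≫ E.d i (i + 1) = 0 := qI_ext (by
    show (E.d i (i + 1)).hom (f.hom _) = 0
    rw [hf]
    exact hdx)
  let z : Zd (DRing.homCx (sgl (HT.qI (HT.mkI I hI))) E) i :=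
    ⟨Cochain.fromSingleMk f (show (0 : ℤ) + i = i by omega), by
      show δ i (i + 1) (Cochain.fromSingleMk f _) = 0
      rw [Cochain.δ_fromSingleMk f _ (i + 1) (i + 1) (by omega), hfd, Cochain.fromSingleMk_zero]⟩
  refine ⟨HT.mkI I hI, clsLin _ E i z, ?_⟩
  rw [toK_cls]
  refine congrArg _ (Subtype.ext ?_)
  exact (evK_fromSingleMk _ E i f).trans hf

theorem toK_ker (i : ℤ) (g : (QA A).obj (sgl (HT.qI J)) ⟶ (QA A).obj (E⟦i⟧))
    (hg : toK J E i g = 0) : ∃ (K : Dual2.IdealsIn T) (h : HT.idl K ≤ HT.idl J),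
      (QA A).map (sq h) ≫ g = 0 := by
  obtain ⟨z, rfl⟩ := clsLin_surjective (sgl (HT.qI J)) E i g
  rw [toK_cls, Submodule.mkQ_apply, Submodule.Quotient.mk_eq_zero] at hg
  obtain ⟨w, ⟨I, hI, hIw⟩, hw⟩ := hg
  let K := HT.prodI J (HT.mkI I hI)
  have hle : HT.idl K ≤ HT.idl J := Ideal.mul_le_left
  refine ⟨K, hle, ?_⟩
  obtain ⟨f, hf⟩ := exists_of_killed K (M := E.X (i - 1)) w
    (fun a ha => hIw a ((Ideal.mul_le_right : HT.idl J * I ≤ I) ha))
  obtain ⟨z', h1, h2⟩ := exists_pre_cycle E hle i z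
  rw [← h1, ← LinearMap.mem_ker, clsLin_ker, LinearMap.mem_ker, hcls_eq_zero_iff]
  refine ⟨Cochain.fromSingleMk f (show (0 : ℤ) + (i - 1) = i - 1 by omega), ?_⟩
  obtain ⟨f', hf'⟩ := exists_fromSingleMk K E i z'.1
  show δ (i - 1) i (Cochain.fromSingleMk f _) = z'.1
  rw [Cochain.δ_fromSingleMk f _ i i (by omega), hf']
  congr 1
  refine qI_ext ?_
  show (E.d (i - 1) i).hom (f.hom _) = f'.hom _
  rw [hf, ← evK_fromSingleMk K E i f', ← hf', h2]
  exact hw

section Compare

variable {X : Dual.D A} (e : (QA A).obj E ≅ X)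

omit [E.IsKInjective] in
theorem congr_pre {K : Dual2.IdealsIn T} (h : HT.idl K ≤ HT.idl J) {i : ℤ} {Y : Dual.D A}
    (e' : X⟦i⟧ ≅ Y) (g : Dual.inD A (A ⧸ HT.idl J) ⟶ X⟦i⟧) :
    CategoryTheory.Linear.homCongr A (sglQIso (HT.qI K)).symm e'
        ((DerivedCategory.singleFunctor (ModuleCat.{u} A) 0).map (HT.qle h) ≫ g) =
      (QA A).map (sq h) ≫ CategoryTheory.Linear.homCongr A (sglQIso (HT.qI J)).symm e' g := by
  have hn : (QA A).map (sq h) ≫ (sglQIso (HT.qI J)).hom =
      (sglQIso (HT.qI K)).hom ≫ (DerivedCategory.singleFunctor (ModuleCat.{u} A) 0).map (HT.qle h) :=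
    (DerivedCategory.singleFunctorIsoCompQ (ModuleCat.{u} A) 0).inv.naturality (HT.qle h)
  simp only [CategoryTheory.Linear.homCongr_apply, Iso.symm_inv]
  refine (congrArg (· ≫ e'.hom) ((Category.assoc _ _ g).symm.trans
    ((congrArg (· ≫ g) hn.symm).trans (Category.assoc _ _ g)))).trans ?_
  exact Category.assoc _ _ e'.hom

/-- the identification of the morphism groups -/
noncomputable def eHom (J : Dual2.IdealsIn T) (i : ℤ) :
    (Dual.inD A (A ⧸ HT.idl J) ⟶ X⟦i⟧) ≃ₗ[A]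
      ((QA A).obj (sgl (HT.qI J)) ⟶ (QA A).obj (E⟦i⟧)) :=
  CategoryTheory.Linear.homCongr A (sglQIso (HT.qI J)).symm
    ((CategoryTheory.shiftFunctor (Dual.D A) i).mapIso e.symm ≪≫ (((QA A).commShiftIso i).app E).symm)

include e in
theorem HDT_equiv (i : ℤ) : Nonempty (Dual2.HDT A T X i ≃ₗ[A] Hm T E i) := by
  let F := (localCohomology.ringModIdeals (Dual2.idealsInDiagram T) ⋙
      DerivedCategory.singleFunctor (ModuleCat.{u} A) 0).op ⋙ (linearYoneda A (Dual.D A)).obj (X⟦i⟧)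
  let φ : ∀ J : Dual2.IdealsIn T, (Dual.inD A (A ⧸ HT.idl J) ⟶ X⟦i⟧) →ₗ[A] Hm T E i :=
    fun J => (toK J E i).comp (eHom E e J i).toLinearMap
  let c : Cocone F :=
    { pt := ModuleCat.of A (ULift.{u + 1} (Hm T E i))
      ι :=
        { app := fun j => ModuleCat.ofHom (X := (Dual.inD A (A ⧸ HT.idl j.unop) ⟶ X⟦i⟧))
            (ULift.moduleEquiv.symm.toLinearMap.comp (φ j.unop))
          naturality := by
            rintro ⟨j⟩ ⟨k⟩ f
            have h : HT.idl k ≤ HT.idl j := leOfHom ((Dual2.idealsInDiagram T).map f.unop)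
            obtain rfl : f = (HT.homLE h).op := Quiver.Hom.unop_inj (Subsingleton.elim _ _)
            refine ModuleCat.hom_ext (LinearMap.ext fun x => ?_)
            exact congrArg ULift.up ((congrArg (toK k E i) (congr_pre h _ x)).trans
              (toK_pre E h i _)) } }
  haveI : PreservesFilteredColimitsOfSize.{u, u} (forget AddCommGrpCat.{u + 1}) :=
    preservesFilteredColimitsOfSize_shrink.{u, u + 1, u, u + 1} _
  haveI : PreservesColimit F (forget₂ (ModuleCat.{u + 1} A) AddCommGrpCat ⋙ forget AddCommGrpCat) := inferInstance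
  haveI : PreservesColimit F (forget (ModuleCat.{u + 1} A)) := this
  let ψ := (colimit.desc F c).hom
  have hψ : ∀ (j : (Dual2.IdealsIn T)ᵒᵖ) (x : F.obj j), ψ (colimit.ι F j x) = c.ι.app j x := fun j x =>
    ConcreteCategory.congr_hom (colimit.ι_desc c j) x
  refine ⟨(LinearEquiv.ofBijective ψ ⟨?_, ?_⟩).trans ULift.moduleEquiv⟩
  · rw [injective_iff_map_eq_zero]
    intro y hy
    obtain ⟨⟨j⟩, x, rfl⟩ := Concrete.colimit_exists_rep F y
    rw [hψ] at hy
    obtain ⟨K, h, hK⟩ := toK_ker E i (eHom E e j i x) (congrArg ULift.down hy)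
    have := ConcreteCategory.congr_hom (colimit.w F (HT.homLE h).op) x
    rw [← this, ConcreteCategory.comp_apply]
    refine (congrArg _ ?_).trans (map_zero _)
    refine (eHom E e K i).injective ?_
    rw [map_zero]
    exact (congr_pre h _ x).trans hK
  · rintro ⟨y⟩
    obtain ⟨J, g, hg⟩ := toK_surj E i y
    refine ⟨colimit.ι F (op J) ((eHom E e J i).symm g), (hψ _ _).trans (congrArg ULift.up ?_)⟩
    show toK J E i (eHom E e J i ((eHom E e J i).symm g)) = y
    rw [LinearEquiv.apply_symm_apply, hg]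

end Compare

variable (A)

theorem HDT_congr {X Y : Dual.D A} (f : X ⟶ Y) (i : ℤ)
    (hf : ∀ J : Dual2.IdealsIn T, Function.Bijective
      fun g : Dual.inD A (A ⧸ HT.idl J) ⟶ X⟦i⟧ => g ≫ (CategoryTheory.shiftFunctor (Dual.D A) i).map f) :
    Nonempty (Dual2.HDT A T X i ≅ Dual2.HDT A T Y i) := by
  let α := Functor.whiskerLeft (localCohomology.ringModIdeals (Dual2.idealsInDiagram T) ⋙
      DerivedCategory.singleFunctor (ModuleCat.{u} A) 0).op
    ((linearYoneda A (Dual.D A)).map ((CategoryTheory.shiftFunctor (Dual.D A) i).map f))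
  haveI : ∀ j, IsIso (α.app j) := fun j => (DR39.isIso_iff_bijective _).2 (hf j.unop)
  haveI : IsIso α := NatIso.isIso_of_isIso_app α
  exact ⟨HasColimit.isoOfNatIso (asIso α)⟩

theorem HDI_congr (I : Ideal A) {X Y : Dual.D A} (f : X ⟶ Y) (i : ℤ)
    (hf : ∀ n : ℕ, Function.Bijective
      fun g : Dual.inD A (A ⧸ I ^ n) ⟶ X⟦i⟧ => g ≫ (CategoryTheory.shiftFunctor (Dual.D A) i).map f) :
    Nonempty (Dual2.HDI A I X i ≅ Dual2.HDI A I Y i) := by
  let α := Functor.whiskerLeft (localCohomology.ringModIdeals (localCohomology.idealPowersDiagram I) ⋙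
      DerivedCategory.singleFunctor (ModuleCat.{u} A) 0).op
    ((linearYoneda A (Dual.D A)).map ((CategoryTheory.shiftFunctor (Dual.D A) i).map f))
  haveI : ∀ j, IsIso (α.app j) := fun j => (DR39.isIso_iff_bijective _).2 (hf _)
  haveI : IsIso α := NatIso.isIso_of_isIso_app α
  exact ⟨HasColimit.isoOfNatIso (asIso α)⟩

variable {A} [IsNoetherianRing A]

omit [E.IsKInjective] in
theorem gCx_homology_equiv (I : Ideal A) (i : ℤ) :
    Nonempty ((gCx I E).homology i ≃ₗ[A] Hm (PrimeSpectrum.zeroLocus (I : Set A)) E i) := by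
  let φ : Zd (gCx I E) i →ₗ[A] cyc (PrimeSpectrum.zeroLocus (I : Set A)) E i :=
    LinearMap.codRestrict _ ((DRing.torsionSub I (E.X i)).subtype.comp (Submodule.subtype _)) fun z =>
      ⟨(tor_zeroLocus (M := E.X i) I).ge (z.1 : DRing.torsionSub I (E.X i)).2,
        congrArg Subtype.val (show ((gCx I E).d i (i + 1)).hom z.1 = 0 from z.2)⟩
  have hφ : Function.Surjective φ := fun ⟨x, hx, hdx⟩ =>
    ⟨⟨⟨x, (tor_zeroLocus (M := E.X i) I).le hx⟩, Subtype.ext hdx⟩, rfl⟩
  let ψ : Zd (gCx I E) i →ₗ[A] Hm (PrimeSpectrum.zeroLocus (I : Set A)) E i := (Submodule.mkQ _).comp φ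
  have hψ : Function.Surjective ψ := (Submodule.mkQ_surjective _).comp hφ
  have hker : LinearMap.ker (hcls (gCx I E) i) = LinearMap.ker ψ := by
    ext z
    rw [LinearMap.mem_ker, LinearMap.mem_ker, hcls_eq_zero_iff, LinearMap.comp_apply,
      Submodule.mkQ_apply, Submodule.Quotient.mk_eq_zero]
    constructor
    · rintro ⟨y, hy⟩
      exact ⟨(y : DRing.torsionSub I (E.X (i - 1))).1, (tor_zeroLocus (M := E.X (i - 1)) I).ge (y : DRing.torsionSub I (E.X (i - 1))).2,
        congrArg Subtype.val hy⟩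
    · rintro ⟨w, hw, hdw⟩
      exact ⟨⟨w, (tor_zeroLocus (M := E.X (i - 1)) I).le hw⟩, Subtype.ext hdw⟩
  exact ⟨((LinearMap.quotKerEquivOfSurjective _ (hcls_surjective (gCx I E) i)).symm.trans
    (Submodule.quotEquivOfEq _ _ hker)).trans (LinearMap.quotKerEquivOfSurjective _ hψ)⟩

end Groth.Agent.LC15.TorLink
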