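import Groth.Agent.LC15.TorFinite
import Groth.Agent.LC15.TorLink
import Mathlib.Algebra.Homology.DerivedCategory.DerivabilityStructureInjectives

/-!
Bounded below injective representatives, and finiteness of `HDT`.
-/

set_option autoImplicit false
set_option linter.unusedSectionVars false
set_option linter.style.haveILetI false

universe u

open CategoryTheory CategoryTheory.Limits
open Groth.Agent Groth.Agent.DR39

attribute [local instance] HasDerivedCategory.standard

namespace Groth.Agent.LC15.TorBase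

open LC15.TorCx

variable {A : Type u} [CommRing A]

theorem exists_inj_rep (X : Dual.D A) (a : ℤ) (h : ∀ i, i < a → Subsingleton (Dual.HD A X i)) :
    ∃ E : DRing.Cx A, E.IsKInjective ∧ (∀ i, Module.Injective A (E.X i)) ∧
      (∀ i, i < a → Subsingleton (E.X i)) ∧ Nonempty ((QA A).obj E ≅ X) := by
  haveI : X.IsGE a := (DerivedCategory.isGE_iff X a).2 fun i hi => by
    haveI := h i hi
    exact ModuleCat.isZero_of_subsingleton _
  obtain ⟨K, hK, ⟨e⟩⟩ := DerivedCategory.exists_iso_Q_obj_of_isGE X a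
  obtain ⟨E, φ, hφ, hEinj, hEge⟩ :=
    CochainComplex.Plus.modelCategoryQuillen.exists_quasiIso_injective K a
  haveI := hφ
  haveI := hEge
  refine ⟨E, DR39.isKInjective_of_rep E a (fun i hi => E.isZero_of_isStrictlyGE a i hi)
      (fun i => DR39.INp_of_inj (hEinj i)), fun i => DR39.INp_of_inj (hEinj i), fun i hi =>
      ModuleCat.subsingleton_of_isZero (E.isZero_of_isStrictlyGE a i hi),
    ⟨(asIso (DerivedCategory.Q.map φ)).symm ≪≫ e.symm⟩⟩

theorem finite_HD_iff {E : DRing.Cx A} {X : Dual.D A} (e : (QA A).obj E ≅ X) (i : ℤ) :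
    Module.Finite A (Dual.HD A X i) ↔ Module.Finite A (Hm Set.univ E i) := by
  obtain ⟨f⟩ := univ_equiv (E := E) i
  exact Module.Finite.equiv_iff ((((HF A i).mapIso e).symm ≪≫ HQIso E i).toLinearEquiv.trans f)

variable [IsNoetherianRing A]

/-- the class of a module element is killed by an ideal with zero locus in `T` -/
theorem exists_kill_Hm {T : Set (PrimeSpectrum A)} {E : DRing.Cx A} {i : ℤ} (y : Hm T E i) :
    ∃ J : Ideal A, PrimeSpectrum.zeroLocus (J : Set A) ⊆ T ∧ ∀ a ∈ J, a • y = 0 := by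
  obtain ⟨⟨x, hx⟩, rfl⟩ := Submodule.mkQ_surjective _ y
  obtain ⟨J, hJ, hJx⟩ := hx.1
  refine ⟨J, hJ, fun a ha => ?_⟩
  rw [← map_smul, Submodule.mkQ_apply, Submodule.Quotient.mk_eq_zero]
  show a • x ∈ bdy T E i
  rw [hJx a ha]
  exact zero_mem _

theorem finite_iff_annihilated (T : Set (PrimeSpectrum A)) (K : Dual.D A) (a : ℤ)
    (hKa : ∀ i : ℤ, i < a → Subsingleton (Dual.HD A K i))
    (hK : ∀ i : ℤ, Module.Finite A (Dual.HD A K i)) (n : ℤ) :
    (∀ i : ℤ, i ≤ n → Module.Finite A (Dual2.HDT A T K i)) ↔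
      ∃ J : Ideal A, PrimeSpectrum.zeroLocus (J : Set A) ⊆ T ∧
        ∀ i : ℤ, i ≤ n → ∀ x : A, x ∈ J → ∀ y : Dual2.HDT A T K i, x • y = 0 := by
  classical
  obtain ⟨E, hE, hinj, hc, ⟨e⟩⟩ := exists_inj_rep K a hKa
  haveI := hE
  let θ := fun i => (TorLink.HDT_equiv (T := T) E e i).some
  constructor
  · intro hf
    have hpart : ∀ i : ℤ, ∃ J : Ideal A, PrimeSpectrum.zeroLocus (J : Set A) ⊆ T ∧
        (i ≤ n → ∀ x ∈ J, ∀ y : Hm T E i, x • y = 0) := by
      intro i
      by_cases hi : i ≤ n
      · haveI := hf i hi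
        haveI : Module.Finite A (Hm T E i) := Module.Finite.equiv (θ i)
        obtain ⟨S, hS⟩ := (inferInstance : Module.Finite A (Hm T E i)).fg_top
        choose J hJ hJS using fun y : Hm T E i => exists_kill_Hm y
        refine ⟨∏ y ∈ S, J y, ?_, fun _ x hx y => ?_⟩
        · intro q hq
          obtain ⟨y, -, hyq⟩ := (Ideal.IsPrime.prod_le q.2).1
            (SetLike.coe_subset_coe.1 (show ((∏ y ∈ S, J y : Ideal A) : Set A) ⊆ q.asIdeal from hq))
          exact hJ y hyq
        · have hy : y ∈ Submodule.span A (S : Set (Hm T E i)) := hS.symm ▸ Submodule.mem_top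
          induction hy using Submodule.span_induction with
          | mem y hy => exact hJS y x (Ideal.le_of_dvd (Finset.dvd_prod_of_mem _ hy) hx)
          | zero => exact smul_zero x
          | add y z _ _ hy hz => rw [smul_add, hy, hz, add_zero]
          | smul c y _ hy => rw [smul_comm, hy, smul_zero]
      · exact ⟨⊤, by simp, fun h => absurd h hi⟩
    choose J hJ hJk using hpart
    refine ⟨∏ i ∈ Finset.Icc a n, J i, ?_, fun i hi x hx y => ?_⟩
    · intro q hq
      obtain ⟨i, -, hiq⟩ := (Ideal.IsPrime.prod_le q.2).1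
        (SetLike.coe_subset_coe.1 (show ((∏ i ∈ Finset.Icc a n, J i : Ideal A) : Set A) ⊆ q.asIdeal from hq))
      exact hJ i hiq
    · refine (θ i).injective ?_
      rw [map_smul, map_zero]
      by_cases hia : a ≤ i
      · exact hJk i hi x (Ideal.le_of_dvd (Finset.dvd_prod_of_mem _ (Finset.mem_Icc.2 ⟨hia, hi⟩)) hx) _
      · haveI := hc i (by omega)
        haveI : Subsingleton (Hm T E i) := Function.Surjective.subsingleton (Submodule.mkQ_surjective _)
        exact Subsingleton.elim _ _
  · rintro ⟨J, hJ, hk⟩ i hi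
    have hkill : ∀ b ∈ J, ∀ l, l ≤ n → Kill T E l b := fun b hb l hl => (kill_iff l b).2 fun y => by
      obtain ⟨z, rfl⟩ := (θ l).surjective y
      rw [← map_smul, hk l hl b hb z, map_zero]
    haveI := finite_of_kill hinj hc (fun l => (finite_HD_iff e l).1 (hK l)) J hJ n hkill i hi
    exact Module.Finite.equiv (θ i).symm

end Groth.Agent.LC15.TorBase
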