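import Groth.Prelude.Def_DualLC
import Groth.Agent.LC16.CechRgamma

/-!
Elementwise calculus of the sections with supports in a specialisation stable subset of a bounded
below complex of injective modules.
-/

set_option autoImplicit false
set_option linter.unusedSectionVars false
set_option linter.style.haveILetI false

universe u

open CategoryTheory

namespace Groth.Agent.LC15.TorCx

variable {A : Type u} [CommRing A]

/-- elements killed by an ideal with zero locus in `T` -/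
def Tor (T : Set (PrimeSpectrum A)) (M : Type u) [AddCommGroup M] [Module A M] : Submodule A M where
  carrier := {x | ∃ J : Ideal A, PrimeSpectrum.zeroLocus (J : Set A) ⊆ T ∧ ∀ a ∈ J, a • x = 0}
  zero_mem' := ⟨⊤, by simp, fun a _ => smul_zero a⟩
  add_mem' := by
    rintro x y ⟨J, hJ, hJx⟩ ⟨K, hK, hKy⟩
    refine ⟨J * K, ?_, fun a ha => ?_⟩
    · rw [PrimeSpectrum.zeroLocus_mul]
      exact Set.union_subset hJ hK
    · rw [smul_add, hJx a (Ideal.mul_le_left ha), hKy a (Ideal.mul_le_right ha), add_zero]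
  smul_mem' := by
    rintro c x ⟨J, hJ, hJx⟩
    exact ⟨J, hJ, fun a ha => by rw [smul_comm, hJx a ha, smul_zero]⟩

variable {T T' : Set (PrimeSpectrum A)} {M N : Type u} [AddCommGroup M] [Module A M]
  [AddCommGroup N] [Module A N]

theorem map_mem (f : M →ₗ[A] N) {x : M} (hx : x ∈ Tor T M) : f x ∈ Tor T N := by
  obtain ⟨J, hJ, hJx⟩ := hx
  exact ⟨J, hJ, fun a ha => by rw [← map_smul, hJx a ha, map_zero]⟩

theorem tor_mono (h : T ⊆ T') : Tor T M ≤ Tor T' M := fun _ ⟨J, hJ, hJx⟩ => ⟨J, hJ.trans h, hJx⟩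

theorem tor_univ : Tor (Set.univ : Set (PrimeSpectrum A)) M = ⊤ :=
  eq_top_iff.mpr fun x _ => ⟨⊥, Set.subset_univ _, fun a ha => by
    rw [(Submodule.mem_bot A).mp ha, zero_smul]⟩

/-- powers of an ideal with zero locus in `T` -/
theorem zeroLocus_pow {J : Ideal A} (hJ : PrimeSpectrum.zeroLocus (J : Set A) ⊆ T) (n : ℕ) :
    PrimeSpectrum.zeroLocus ((J ^ n : Ideal A) : Set A) ⊆ T := by
  rcases Nat.eq_zero_or_pos n with rfl | hn
  · simp [Ideal.one_eq_top]
  · rwa [PrimeSpectrum.zeroLocus_pow J hn.ne']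

theorem torsionSub_le_tor {I : Ideal A} (hI : PrimeSpectrum.zeroLocus (I : Set A) ⊆ T) :
    DRing.torsionSub I M ≤ Tor T M := fun _ ⟨n, hn⟩ => ⟨I ^ n, zeroLocus_pow hI n, hn⟩

theorem tor_zeroLocus [IsNoetherianRing A] (I : Ideal A) :
    Tor (PrimeSpectrum.zeroLocus (I : Set A)) M = DRing.torsionSub I M := by
  refine le_antisymm (fun x ⟨J, hJ, hJx⟩ => ?_) (torsionSub_le_tor subset_rfl)
  have h : I ≤ J.radical := by
    rw [Ideal.radical_eq_sInf]
    refine le_sInf fun p ⟨hJp, hp⟩ => ?_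
    exact hJ (show (⟨p, hp⟩ : PrimeSpectrum A) ∈ PrimeSpectrum.zeroLocus (J : Set A) from hJp)
  obtain ⟨n, hn⟩ := Ideal.exists_pow_le_of_le_radical_of_fg h (IsNoetherian.noetherian _)
  exact ⟨n, fun a ha => hJx a (hn ha)⟩

variable (E : DRing.Cx A) (T)

/-- cycles with supports in `T` -/
def cyc (i : ℤ) : Submodule A (E.X i) := Tor T (E.X i) ⊓ LinearMap.ker (E.d i (i + 1)).hom

/-- boundaries of elements with supports in `T` -/
def bdy (i : ℤ) : Submodule A (E.X i) := (Tor T (E.X (i - 1))).map (E.d (i - 1) i).hom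

/-- cohomology with supports in `T` -/
abbrev Hm (i : ℤ) : Type u := cyc T E i ⧸ (bdy T E i).comap (cyc T E i).subtype

/-- `a` annihilates the cohomology with supports in `T` in degree `i` -/
def Kill (i : ℤ) (a : A) : Prop := ∀ x ∈ cyc T E i, a • x ∈ bdy T E i

variable {T E}

theorem mem_cyc {i : ℤ} {x : E.X i} :
    x ∈ cyc T E i ↔ x ∈ Tor T (E.X i) ∧ (E.d i (i + 1)).hom x = 0 := Iff.rfl

theorem mem_bdy {i : ℤ} {x : E.X i} :
    x ∈ bdy T E i ↔ ∃ w ∈ Tor T (E.X (i - 1)), (E.d (i - 1) i).hom w = x := Iff.rfl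

theorem d_d (i j k : ℤ) (w : E.X i) : (E.d j k).hom ((E.d i j).hom w) = 0 := by
  rw [← ModuleCat.comp_apply, E.d_comp_d]
  rfl

theorem bdy_le_cyc (i : ℤ) : bdy T E i ≤ cyc T E i := by
  rintro x ⟨w, hw, rfl⟩
  exact ⟨map_mem _ hw, d_d _ _ _ w⟩

theorem kill_iff (i : ℤ) (a : A) : Kill T E i a ↔ ∀ y : Hm T E i, a • y = 0 := by
  constructor
  · intro h y
    obtain ⟨⟨x, hx⟩, rfl⟩ := Submodule.mkQ_surjective _ y
    rw [← map_smul, Submodule.mkQ_apply, Submodule.Quotient.mk_eq_zero]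
    exact h x hx
  · intro h x hx
    have h1 := h (Submodule.mkQ _ ⟨x, hx⟩)
    rwa [← map_smul, Submodule.mkQ_apply, Submodule.Quotient.mk_eq_zero] at h1

theorem subsingleton_Hm_iff (i : ℤ) : Subsingleton (Hm T E i) ↔ cyc T E i ≤ bdy T E i := by
  rw [Submodule.Quotient.subsingleton_iff, eq_top_iff]
  exact ⟨fun h x hx => h (show (⟨x, hx⟩ : cyc T E i) ∈ ⊤ from trivial), fun h x _ => h x.2⟩

/-- Annihilation in degrees `≤ s` gives annihilation by a power for smaller supports: a power of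
`a` is homotopic to zero on the cycles. -/
theorem exists_homotopy (hinj : ∀ i, Module.Injective A (E.X i)) {c s : ℤ}
    (hc : ∀ i, i < c → Subsingleton (E.X i)) {a : A} (hk : ∀ l, l ≤ s → Kill T E l a) (l : ℤ)
    (hl : l ≤ s) : ∃ (m : ℕ) (h : E.X l →ₗ[A] E.X (l - 1)),
      ∀ z ∈ cyc T E l, (E.d (l - 1) l).hom (h z) = a ^ m • z := by
  suffices key : ∀ (n : ℕ) (l : ℤ), l < c + n → l ≤ s → ∃ (m : ℕ) (h : E.X l →ₗ[A] E.X (l - 1)),
      ∀ z ∈ cyc T E l, (E.d (l - 1) l).hom (h z) = a ^ m • z from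
    key ((l - c).toNat + 1) l (by omega) hl
  intro n
  induction n with
  | zero =>
    intro l hlc _
    haveI := hc l (by omega)
    exact ⟨0, 0, fun z _ => Subsingleton.elim _ _⟩
  | succ n ih =>
    intro l hlc hls
    obtain ⟨p, rfl⟩ : ∃ p, l = p + 1 := ⟨l - 1, by ring⟩
    obtain ⟨m, h, hh⟩ := ih p (by omega) (by omega)
    have hp : p + 1 - 1 = p := by ring
    let d' : E.X p →ₗ[A] E.X (p + 1) := (E.d p (p + 1)).hom
    -- the map on the boundaries
    let ψ : Tor T (E.X p) →ₗ[A] E.X p :=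
      (a ^ m • LinearMap.id - (E.d (p - 1) p).hom ∘ₗ h) ∘ₗ (Tor T (E.X p)).subtype
    let δ : Tor T (E.X p) →ₗ[A] E.X (p + 1) := d' ∘ₗ (Tor T (E.X p)).subtype
    have hker : LinearMap.ker δ ≤ LinearMap.ker ψ := by
      rintro ⟨z, hz⟩ hz'
      rw [LinearMap.mem_ker] at hz' ⊢
      show a ^ m • z - (E.d (p - 1) p).hom (h z) = 0
      rw [hh z ⟨hz, hz'⟩, sub_self]
    obtain ⟨g, hg⟩ := (hinj p).out ((LinearMap.ker δ).liftQ δ le_rfl)
      (LinearMap.ker_eq_bot.1 (Submodule.ker_liftQ_eq_bot _ δ le_rfl le_rfl))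
      ((LinearMap.ker δ).liftQ ψ hker)
    have hg' : ∀ x ∈ Tor T (E.X p), g (d' x) = a ^ m • x - (E.d (p - 1) p).hom (h x) := fun x hx => by
      have h1 := hg (Submodule.Quotient.mk ⟨x, hx⟩)
      rwa [Submodule.liftQ_apply, Submodule.liftQ_apply] at h1
    have key : ∀ (r : ℤ) (_ : r = p), ∃ h' : E.X (p + 1) →ₗ[A] E.X r,
        ∀ z ∈ cyc T E (p + 1), (E.d r (p + 1)).hom (h' z) = a ^ (m + 1) • z := by
      intro r hr
      subst hr
      refine ⟨a • g, fun z hz => ?_⟩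
      have hz' := hk (r + 1) hls z hz
      obtain ⟨w, hw, hwz⟩ := hz'
      have hgen : ∀ (r' : ℤ) (_ : r' = r) (w : E.X r'), w ∈ Tor T (E.X r') →
          (E.d r' (r + 1)).hom w = a • z → (E.d r (r + 1)).hom (g (a • z)) = a ^ m • a • z := by
        intro r' hr'
        subst hr'
        intro v hv hvz
        rw [← hvz, show (E.d r' (r' + 1)).hom v = d' v from rfl, hg' v hv, map_sub, map_smul,
          d_d, sub_zero]
      rw [LinearMap.smul_apply, ← map_smul, hgen (r + 1 - 1) hp w hw hwz, ← mul_smul,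
        ← pow_succ]
    obtain ⟨h', hh'⟩ := key (p + 1 - 1) hp
    exact ⟨m + 1, h', hh'⟩

theorem kill_of_kill (hinj : ∀ i, Module.Injective A (E.X i)) {c s : ℤ}
    (hc : ∀ i, i < c → Subsingleton (E.X i)) {a : A} (hk : ∀ l, l ≤ s → Kill T E l a)
    (h : T' ⊆ T) {l : ℤ} (hl : l ≤ s) : ∃ m : ℕ, Kill T' E l (a ^ m) := by
  obtain ⟨m, g, hg⟩ := exists_homotopy hinj hc hk l hl
  exact ⟨m, fun x hx => ⟨g x, map_mem g hx.1, hg x ⟨tor_mono h hx.1, hx.2⟩⟩⟩

variable [IsNoetherianRing A]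

/-- a class killed by a power of `u` moves to the supports cut by `u` -/
theorem exists_sup_lift (hinj : ∀ i, Module.Injective A (E.X i)) (I : Ideal A) (u : A) (i : ℤ)
    (x : E.X i) (hx : x ∈ DRing.torsionSub I (E.X i)) {M : ℕ} (w : E.X (i - 1))
    (hw : w ∈ DRing.torsionSub I (E.X (i - 1))) (hdw : (E.d (i - 1) i).hom w = u ^ M • x) :
    ∃ w' ∈ DRing.torsionSub I (E.X (i - 1)),
      x - (E.d (i - 1) i).hom w' ∈ DRing.torsionSub (Ideal.span {u} ⊔ I) (E.X i) := by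
  haveI := hinj (i - 1)
  obtain ⟨c, m, hc, hcm⟩ := LC16.CechRgamma.exists_smul_eq (E.X (i - 1)) I u M w hw
  refine ⟨c, hc, (LC16.CechRgamma.mem_torsionSub_sup u I _ _).2 ⟨?_, m + M, ?_⟩⟩
  · obtain ⟨k, hk⟩ := hc
    exact Submodule.sub_mem _ hx ⟨k, fun a ha => by rw [← map_smul, hk a ha, map_zero]⟩
  · rw [pow_add, mul_smul, smul_sub (u ^ M), ← hdw, ← map_smul, ← map_sub, ← map_smul, smul_sub,
      hcm, sub_self, map_zero]

end Groth.Agent.LC15.TorCx
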