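import Groth.Agent.LC15.TorLoc
import Groth.Agent.LC15.DualFaltings
import Groth.Agent.LC15.TorBase
import Groth.Agent.DR39.RGamma
import Mathlib.Algebra.Homology.DerivedCategory.HomologySequence

/-!
Local duality at a prime for sections with supports of complexes of injectives.
-/

set_option autoImplicit false
set_option linter.unusedSectionVars false
set_option linter.style.haveILetI false
set_option backward.isDefEq.respectTransparency false

universe u v w

open CategoryTheory CategoryTheory.Limits CategoryTheory.Pretriangulated TensorProduct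
open Groth.Agent Groth.Agent.DR39

attribute [local instance] HasDerivedCategory.standard

namespace Groth.Agent.LC15.TorDual

open LC15.TorCx LC15.TorLoc LC15.DualKill

section General

variable {R : Type u} [CommRing R]

theorem exists_trunc (X : Dual.D R) (a N : ℤ) (hXa : ∀ i, i < a → Subsingleton (Dual.HD R X i))
    (hfin : ∀ i, Module.Finite R (Dual.HD R X i)) :
    ∃ (X' C : Dual.D R) (f : X' ⟶ X) (g : X ⟶ C) (h : C ⟶ X'⟦(1 : ℤ)⟧),
      Triangle.mk f g h ∈ distinguishedTriangles ∧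
      (∀ i, (i < a ∨ N < i) → IsZero ((HF R i).obj X')) ∧
      (∀ i, Module.Finite R (Dual.HD R X' i)) ∧ (∀ i, i ≤ N → IsZero ((HF R i).obj C)) := by
  obtain ⟨X', C, hX, hC, f, g, h, hT⟩ :=
    DerivedCategory.TStructure.t.exists_triangle X N (N + 1) rfl
  haveI : X'.IsLE N := ⟨hX⟩
  haveI : C.IsGE (N + 1) := ⟨hC⟩
  have hC' : ∀ i, i ≤ N → IsZero ((HF R i).obj C) := fun i hi =>
    (DerivedCategory.isGE_iff C (N + 1)).1 inferInstance i (by omega)
  have hX' : ∀ i, N < i → IsZero ((HF R i).obj X') := fun i hi =>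
    (DerivedCategory.isLE_iff X' N).1 inferInstance i hi
  have hiso : ∀ i, i ≤ N → IsIso ((HF R i).map f) := fun i hi => by
    haveI : Mono ((HF R i).map f) :=
      (DerivedCategory.HomologySequence.mono_homologyMap_mor₁_iff (Triangle.mk f g h) hT (i - 1) i
        (by omega)).2 ((hC' (i - 1) (by omega)).eq_of_src _ _)
    haveI : Epi ((HF R i).map f) :=
      (DerivedCategory.HomologySequence.epi_homologyMap_mor₁_iff (Triangle.mk f g h) hT i).2
        ((hC' i hi).eq_of_tgt _ _)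
    exact isIso_of_mono_of_epi _
  refine ⟨X', C, f, g, h, hT, fun i hi => ?_, fun i => ?_, hC'⟩
  · by_cases hiN : i ≤ N
    · haveI := hiso i hiN
      haveI := hXa i (by omega)
      exact (ModuleCat.isZero_of_subsingleton ((HF R i).obj X)).of_iso (asIso ((HF R i).map f))
    · exact hX' i (by omega)
  · by_cases hiN : i ≤ N
    · haveI := hiso i hiN
      haveI := hfin i
      exact Module.Finite.equiv (asIso ((HF R i).map f)).symm.toLinearEquiv
    · exact finite_of_isZero (hX' i (by omega))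

theorem bij_postcomp {T : Triangle (Dual.D R)} (hT : T ∈ distinguishedTriangles) (N : ℤ)
    (hC : ∀ j, j ≤ N → IsZero ((HF R j).obj T.obj₃)) (i : ℤ) (hi : i ≤ N)
    (M : Type u) [AddCommGroup M] [Module R M] :
    Function.Bijective fun g : Dual.inD R M ⟶ T.obj₁⟦i⟧ =>
      g ≫ (CategoryTheory.shiftFunctor (Dual.D R) i).map T.mor₁ := by
  let T' := (Triangle.shiftFunctor (Dual.D R) i).obj T
  have hT' : T' ∈ distinguishedTriangles := Triangle.shift_distinguished T hT i
  haveI : T.obj₃.IsGE (N + 1) := (DerivedCategory.isGE_iff _ _).2 fun j hj => hC j (by omega)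
  have hge : DerivedCategory.TStructure.t.IsGE (T.obj₃⟦i⟧) (N + 1 - i) :=
    DerivedCategory.TStructure.t.isGE_shift T.obj₃ (N + 1) i (N + 1 - i) (by omega)
  have z1 : ∀ φ : Dual.inD R M ⟶ T'.obj₃, φ = 0 := fun φ =>
    DerivedCategory.TStructure.t.zero_of_isLE_of_isGE φ 0 (N + 1 - i) (by omega) inferInstance hge
  have z2 : ∀ φ : Dual.inD R M ⟶ T'.obj₃⟦(-1 : ℤ)⟧, φ = 0 := fun φ =>
    DerivedCategory.TStructure.t.zero_of_isLE_of_isGE φ 0 (N + 1 - i + 1) (by omega) inferInstance
      (DerivedCategory.TStructure.t.isGE_shift (T.obj₃⟦i⟧) (N + 1 - i) (-1) (N + 1 - i + 1) (by omega))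
  let t := (CategoryTheory.shiftFunctor (Dual.D R) i).map T.mor₁
  have hmor : T'.mor₁ = i.negOnePow • t := rfl
  refine ⟨fun x y hxy => ?_, fun y => ?_⟩
  · have h0 : (x - y) ≫ T'.mor₁ = 0 := by
      rw [hmor, Linear.comp_units_smul, Preadditive.sub_comp]
      rw [show x ≫ t = y ≫ t from hxy, sub_self, smul_zero]
    obtain ⟨w, hw⟩ := Triangle.coyoneda_exact₂ _ (inv_rot_of_distTriang _ hT') (x - y) h0
    rw [z2 w] at hw
    rw [← sub_eq_zero]
    exact hw.trans zero_comp
  · obtain ⟨w, hw⟩ := Triangle.coyoneda_exact₂ T' hT' y (z1 _)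
    refine ⟨i.negOnePow • w, ?_⟩
    show (i.negOnePow • w) ≫ t = y
    rw [hw, hmor, Linear.comp_units_smul, Linear.units_smul_comp]

theorem kills_congr {M : Type v} [AddCommGroup M] [Module R M] {N : Type w} [AddCommGroup N]
    [Module R N] (e : M ≃ₗ[R] N) (a : R) : (∀ y : M, a • y = 0) ↔ ∀ y : N, a • y = 0 :=
  ⟨fun h y => by obtain ⟨x, rfl⟩ := e.surjective y; rw [← map_smul, h, map_zero],
    fun h y => e.injective (by rw [map_smul, h, map_zero])⟩

theorem kills_dual_iff [IsLocalRing R] [IsNoetherianRing R] {E : Type u} [AddCommGroup E]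
    [Module R E] {f : IsLocalRing.ResidueField R →ₗ[R] E} (hf : InjHull.IsInjectiveHull f)
    {W : Type v} [AddCommGroup W] [Module R W] [Module.Finite R W] (a : R) :
    (∀ φ : W →ₗ[R] E, a • φ = 0) ↔ ∀ x : W, a • x = 0 := by
  refine ⟨fun h x => ?_, fun h φ => LinearMap.ext fun x => by
    rw [LinearMap.smul_apply, ← map_smul, h, map_zero, LinearMap.zero_apply]⟩
  by_contra hx
  obtain ⟨r, π, hπ⟩ := Module.Finite.exists_fin' R W
  let e := π.quotKerEquivOfSurjective hπ
  obtain ⟨φ, hφ⟩ := InjHull18.exists_map_ne_zero_local hf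
    (x := e.symm (a • x)) (fun h0 => hx (e.symm.injective (by rw [h0, map_zero])))
  refine hφ ?_
  rw [map_smul, map_smul]
  exact LinearMap.congr_fun (h (φ ∘ₗ e.symm.toLinearMap)) x

end General

variable {A : Type u} [CommRing A]

theorem kills_tensor_iff (q : Ideal A) [q.IsPrime] (W : Type v) [AddCommGroup W] [Module A W]
    [Module.Finite A W] (a : A) :
    (∀ y : Lq q ⊗[A] W, algebraMap A (Lq q) a • y = 0) ↔
      ∃ u, u ∉ q ∧ u * a ∈ Module.annihilator A W := by
  classical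
  constructor
  · intro h
    obtain ⟨S, hS⟩ := (inferInstance : Module.Finite A W).fg_top
    have hw : ∀ x : W, ∃ c : A, c ∉ q ∧ c • a • x = 0 := fun x => by
      have h1 := h (1 ⊗ₜ x)
      rw [algebraMap_smul, ← TensorProduct.tmul_smul] at h1
      obtain ⟨c, hc⟩ := (IsLocalizedModule.eq_zero_iff q.primeCompl
        (TensorProduct.mk A (Lq q) W 1)).1 h1
      exact ⟨c, c.2, hc⟩
    choose c hc hcx using hw
    refine ⟨∏ x ∈ S, c x, fun h => ?_, Module.mem_annihilator.2 fun x => ?_⟩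
    · obtain ⟨g, hg, hgP⟩ := (Ideal.IsPrime.prod_mem_iff).mp h
      exact hc g hgP
    · have hx : x ∈ Submodule.span A (S : Set W) := hS.symm ▸ Submodule.mem_top
      induction hx using Submodule.span_induction with
      | mem g hg =>
        rw [← Finset.prod_erase_mul _ _ hg, mul_assoc, mul_smul, mul_smul, hcx g, smul_zero]
      | zero => exact smul_zero _
      | add x y _ _ hx hy => rw [smul_add, hx, hy, add_zero]
      | smul r x _ hx => rw [smul_comm, hx, smul_zero]
  · rintro ⟨u, hu, hua⟩ y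
    have hunit : IsUnit (algebraMap A (Lq q) u) :=
      IsLocalization.map_units (Lq q) (⟨u, hu⟩ : q.primeCompl)
    refine hunit.smul_eq_zero.1 ?_
    rw [← mul_smul, ← map_mul, algebraMap_smul]
    induction y using TensorProduct.induction_on with
    | zero => rw [smul_zero]
    | tmul b x => rw [← TensorProduct.tmul_smul, Module.mem_annihilator.1 hua x, TensorProduct.tmul_zero]
    | add x y hx hy => rw [smul_add, hx, hy, add_zero]

variable {ω : Dual.D A} (hω : Dual.IsDualizing A ω) (q : Ideal A) [q.IsPrime]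

include hω

/-- Local duality at `q`: annihilation of the cohomology with supports in the closed point of the
localised complex is detected by `Hom(X', ω⟦k - i⟧)`. -/
theorem kill_iff_annihilator {E : DRing.Cx A} (hinj : ∀ i, Module.Injective A (E.X i)) {c : ℤ}
    (hc : ∀ i, i < c → Subsingleton (E.X i)) {X' X C : Dual.D A} {f : X' ⟶ X} {g : X ⟶ C}
    {h : C ⟶ X'⟦(1 : ℤ)⟧} (hT : Triangle.mk f g h ∈ distinguishedTriangles) {a N : ℤ}
    (hX' : ∀ i, (i < a ∨ N < i) → IsZero ((HF A i).obj X'))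
    (hfin : ∀ i, Module.Finite A (Dual.HD A X' i)) (hC : ∀ i, i ≤ N → IsZero ((HF A i).obj C))
    (e : (QA A).obj E ≅ X) {k : ℤ} (hk : Deg ω q k) (i : ℤ) (hi : i ≤ N) (x : A) :
    Kill (Vm q) (EL q E) i (algebraMap A (Lq q) x) ↔
      ∃ u, u ∉ q ∧ u * x ∈ Module.annihilator A (X' ⟶ ω⟦k - i⟧) := by
  haveI := hω.isNoetherianRing
  haveI : IsNoetherianRing (Lq q) := IsLocalization.isNoetherianRing q.primeCompl _ inferInstance
  set F := DF (extA A (Lq q)) with hF
  haveI := isKInjective_EL (q := q) hinj hc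
  obtain ⟨eL⟩ := nonempty_EL_iso q E
  obtain ⟨e1⟩ := HDI_equiv (IsLocalRing.maximalIdeal (Lq q)) (EL q E) (eL ≪≫ F.mapIso e) i
  obtain ⟨e1'⟩ := TorLink.gCx_homology_equiv (EL q E) (IsLocalRing.maximalIdeal (Lq q)) i
  -- comparison with the truncation
  have hCq : ∀ j, j ≤ N → IsZero ((HF (Lq q) j).obj (F.obj C)) := fun j hj => by
    obtain ⟨t⟩ := HF_DF (extA A (Lq q)) C j
    exact ((extA A (Lq q)).map_isZero (hC j hj)).of_iso t
  obtain ⟨e2⟩ := TorLink.HDI_congr (Lq q) (IsLocalRing.maximalIdeal (Lq q)) (F.map f) i fun n =>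
    bij_postcomp (F.map_distinguished _ hT) N hCq i hi _
  -- bounded representative
  obtain ⟨K0, hK0, ⟨eK⟩⟩ := exists_bounded_rep (F.obj X') a N fun j hj => by
    obtain ⟨t⟩ := HF_DF (extA A (Lq q)) X' j
    exact ((extA A (Lq q)).map_isZero (hX' j hj)).of_iso t
  have hK0f : ∀ j : ℤ, Module.Finite (Lq q) (Dual.HD (Lq q) ((QA (Lq q)).obj K0) j) := fun j => by
    haveI := hfin j
    haveI := finite_HF_DF (A := A) (B := Lq q) (X := X') (i := j)
    exact Module.Finite.equiv ((HF (Lq q) j).mapIso eK).symm.toLinearEquiv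
  obtain ⟨E0, _, _, f0, hf0⟩ := InjHull18.exists_hull (R := Lq q) (IsLocalRing.ResidueField (Lq q))
  obtain ⟨J, hJ, ⟨eJ⟩, hJd⟩ := localDuality_core (isDualizing_wq hω q k) hk.2 E0 f0 hf0 K0 hK0 hK0f
  haveI := hJ
  obtain ⟨e3⟩ := HDI_equiv (IsLocalRing.maximalIdeal (Lq q)) J (eJ ≪≫ eK) i
  obtain ⟨e4⟩ := hJd i
  -- base change of the morphisms
  obtain ⟨b, b', hb, -⟩ := exists_bounds hω
  have hpc : ∀ m, PC m X' := fun m =>
    pc_of_noetherian (b := N + 1) (fun j hj => hX' j (Or.inr (by omega))) hfin m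
  have hg : Good (Lq q) X' (ω⟦k - i⟧) :=
    good_shift (Lq q) hpc (c := b) (fun j hj => hb j (Or.inl hj)) (k - i)
  let eT : F.obj (ω⟦k - i⟧) ≅ (wq ω q k)⟦-i⟧ :=
    (F.commShiftIso (k - i)).app ω ≪≫
      (CategoryTheory.shiftFunctorAdd' (Dual.D (Lq q)) k (-i) (k - i) (by omega)).app (F.obj ω)
  let e5 : Lq q ⊗[A] (X' ⟶ ω⟦k - i⟧) ≃ₗ[Lq q] ((QA (Lq q)).obj K0 ⟶ (wq ω q k)⟦-i⟧) :=
    (LinearEquiv.ofBijective (thetaBar (Lq q) X' (ω⟦k - i⟧)) hg).trans
      (CategoryTheory.Linear.homCongr (Lq q) eK.symm eT)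
  haveI : Module.Finite A (X' ⟶ ω⟦k - i⟧) :=
    DR39.finite_hom _ _ hfin hω.finite_cohomology (by
      obtain ⟨D, ⟨eD⟩⟩ := exists_dualModel hω
      exact ⟨D.a, D.b, D.I, D.zero, D.inj, ⟨eD⟩⟩) (k - i)
  haveI : Module.Finite (Lq q) ((QA (Lq q)).obj K0 ⟶ (wq ω q k)⟦-i⟧) := Module.Finite.equiv e5
  rw [TorCx.kill_iff, kills_congr e1'.symm, kills_congr e1.symm, kills_congr e2.toLinearEquiv.symm,
    kills_congr e3, kills_congr e4, kills_dual_iff hf0, kills_congr e5.symm, kills_tensor_iff]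

end Groth.Agent.LC15.TorDual
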