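import Groth.Agent.LC15.TorPro

/-!
Vanishing of the maps induced on `Tor` and `Ext` by a map of modules, in terms of factorisations
through free modules and of syzygies.
-/

set_option autoImplicit false
set_option maxHeartbeats 600000

noncomputable section

universe u

open CategoryTheory CategoryTheory.Limits CategoryTheory.Abelian MonoidalCategory TensorProduct

namespace Groth.Agent.LC15.TP

variable {A : Type u} [CommRing A] {M M' : Type u} [AddCommGroup M] [Module A M] [AddCommGroup M']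
  [Module A M'] (α : M →ₗ[A] M')

/-- chosen resolution -/
abbrev RR (N : ModuleCat.{u} A) : Res (A := A) N := resOfPR (projectiveResolution N)

/-- `α` kills the cycles of degree `p + 1` of `M ⊗ (resolution of N)`, for all `N`. -/
def CK (p : ℕ) : Prop :=
  ∀ (N : ModuleCat.{u} A) (z : M ⊗[A] (RR N).C.X (p + 1)), (dl (RR N).C p).lTensor M z = 0 →
    ∃ v : M' ⊗[A] (RR N).C.X (p + 2),
      (dl (RR N).C (p + 1)).lTensor M' v = α.rTensor ((RR N).C.X (p + 1)) z

theorem ck_iff_tor (p : ℕ) : CK α p ↔ ∀ (N : ModuleCat.{u} A),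
    ((Tor (ModuleCat.{u} A) (p + 1)).map (ModuleCat.ofHom α)).app N = 0 := by
  refine forall_congr' fun N => ?_
  let F := (tensoringLeft (ModuleCat.{u} A)).obj (ModuleCat.of A M)
  let F' := (tensoringLeft (ModuleCat.{u} A)).obj (ModuleCat.of A M')
  let P := projectiveResolution N
  let C := (F.mapHomologicalComplex (ComplexShape.down ℕ)).obj P.complex
  let D := (F'.mapHomologicalComplex (ComplexShape.down ℕ)).obj P.complex
  let g : C ⟶ D := (NatTrans.mapHomologicalComplex ((tensoringLeft (ModuleCat.{u} A)).map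
    (ModuleCat.ofHom α)) _).app P.complex
  have hTor : ((Tor (ModuleCat.{u} A) (p + 1)).map (ModuleCat.ofHom α)).app N = 0 ↔
      HomologicalComplex.homologyMap g (p + 1) = 0 := by
    change (NatTrans.leftDerived ((tensoringLeft (ModuleCat.{u} A)).map (ModuleCat.ofHom α))
      (p + 1)).app N = 0 ↔ _
    rw [ProjectiveResolution.leftDerived_app_eq _ P (p + 1)]
    constructor
    · intro h
      have h' : (P.isoLeftDerivedObj F (p + 1)).hom ≫ HomologicalComplex.homologyMap g (p + 1) ≫
          (P.isoLeftDerivedObj F' (p + 1)).inv = 0 := h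
      rw [Preadditive.IsIso.comp_left_eq_zero, Preadditive.IsIso.comp_right_eq_zero] at h'
      exact h'
    · intro h
      change _ ≫ HomologicalComplex.homologyMap g (p + 1) ≫ _ = 0
      rw [h, zero_comp, comp_zero]
  rw [hTor]
  constructor
  · intro h
    rw [← cancel_epi (C.homologyπ (p + 1)), comp_zero, HomologicalComplex.homologyπ_naturality]
    ext z
    obtain ⟨w, hw⟩ := h (C.iCycles (p + 1) z)
      (congrArg (fun φ => φ.hom z) (C.iCycles_d (p + 1) p))
    have e : HomologicalComplex.cyclesMap g (p + 1) z = D.toCycles (p + 2) (p + 1) w := by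
      apply (ModuleCat.mono_iff_injective (D.iCycles (p + 1))).1 inferInstance
      rw [← ConcreteCategory.comp_apply, ← ConcreteCategory.comp_apply,
        HomologicalComplex.cyclesMap_i, HomologicalComplex.toCycles_i, ConcreteCategory.comp_apply]
      exact hw.symm
    change D.homologyπ (p + 1) (HomologicalComplex.cyclesMap g (p + 1) z) = 0
    rw [e, ← ConcreteCategory.comp_apply, HomologicalComplex.toCycles_comp_homologyπ]
    rfl
  · intro h z hz
    obtain ⟨c, hc⟩ := ((ShortComplex.ShortExact.moduleCat_exact_iff_function_exact _).1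
      (ShortComplex.exact_of_f_is_kernel (ShortComplex.mk (C.iCycles (p + 1)) (C.d (p + 1) p)
        (C.iCycles_d (p + 1) p)) (C.cyclesIsKernel (p + 1) p (by simp))) z).1 hz
    have h0 : D.homologyπ (p + 1) (HomologicalComplex.cyclesMap g (p + 1) c) = 0 := by
      rw [← ConcreteCategory.comp_apply, ← HomologicalComplex.homologyπ_naturality, h, comp_zero]
      rfl
    obtain ⟨v, hv⟩ := ((ShortComplex.ShortExact.moduleCat_exact_iff_function_exact _).1
      (ShortComplex.exact_of_g_is_cokernel (ShortComplex.mk (D.toCycles (p + 2) (p + 1))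
        (D.homologyπ (p + 1)) (D.toCycles_comp_homologyπ _ _))
        (D.homologyIsCokernel (p + 2) (p + 1) (by simp))) _).1 h0
    refine ⟨v, ?_⟩
    have h1 := congrArg (D.iCycles (p + 1)) hv
    rw [← ConcreteCategory.comp_apply, ← ConcreteCategory.comp_apply,
      HomologicalComplex.cyclesMap_i, HomologicalComplex.toCycles_i,
      ConcreteCategory.comp_apply] at h1
    refine h1.trans ?_
    rw [show C.iCycles (p + 1) c = z from hc]
    rfl

section Shift

variable {L K' G F : Type u} [AddCommGroup L] [Module A L] [AddCommGroup K'] [Module A K']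
  [AddCommGroup G] [Module A G] [AddCommGroup F] [Module A F]
  {ι : L →ₗ[A] G} {π : G →ₗ[A] M} {ι' : K' →ₗ[A] F} {q : F →ₗ[A] M'}
  {φ : G →ₗ[A] F} {ψ : L →ₗ[A] K'}
  (hι : Function.Injective ι) (hex : Function.Exact ι π) (hπ : Function.Surjective π)
  (hι' : Function.Injective ι') (hex' : Function.Exact ι' q) (hq : Function.Surjective q)
  (hφ : q ∘ₗ φ = α ∘ₗ π) (hψ : ι' ∘ₗ ψ = φ ∘ₗ ι)

include hex hι' hex' hq hφ hψ in
theorem ck_key {p : ℕ} (h : CK α p) (N : ModuleCat.{u} A) (x : L ⊗[A] (RR N).C.X p)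
    (u : G ⊗[A] (RR N).C.X (p + 1))
    (hu : (dl (RR N).C p).lTensor G u = ι.rTensor ((RR N).C.X p) x) :
    ∃ k : K' ⊗[A] (RR N).C.X (p + 1),
      (dl (RR N).C p).lTensor K' k = ψ.rTensor ((RR N).C.X p) x := by
  obtain ⟨v, hv⟩ := h N (π.rTensor _ u) (by
    rw [rT_lT, hu, ← LinearMap.rTensor_comp_apply, hex.linearMap_comp_eq_zero,
      LinearMap.rTensor_zero, LinearMap.zero_apply])
  obtain ⟨v', rfl⟩ := LinearMap.rTensor_surjective _ hq v
  have h0 : q.rTensor _ (φ.rTensor ((RR N).C.X (p + 1)) u - (dl (RR N).C (p + 1)).lTensor F v') = 0 := by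
    rw [rT_lT] at hv
    rw [map_sub, hv, ← LinearMap.rTensor_comp_apply, hφ, LinearMap.rTensor_comp_apply, sub_self]
  obtain ⟨k, hk⟩ := (rTensor_exact _ hex' hq _).1 h0
  refine ⟨k, ?_⟩
  haveI := (RR N).flat p
  apply Module.Flat.rTensor_preserves_injective_linearMap (M := (RR N).C.X p) ι' hι'
  rw [← rT_lT, hk, map_sub, rT_lT, hu, ← LinearMap.rTensor_comp_apply,
    ← LinearMap.rTensor_comp_apply, hψ, ← LinearMap.lTensor_comp_apply,
    show dl (RR N).C p ∘ₗ dl (RR N).C (p + 1) = 0 from LinearMap.ext (dl_dl _ p),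
    LinearMap.lTensor_zero, LinearMap.zero_apply, sub_zero]

include hex hι' hex' hq hφ hψ in
theorem rTensor_eq_zero_of_ck (h : CK α 0) (N : ModuleCat.{u} A) (ξ : L ⊗[A] N)
    (hξ : ι.rTensor N ξ = 0) : ψ.rTensor N ξ = 0 := by
  obtain ⟨x, rfl⟩ := LinearMap.lTensor_surjective L (RR N).surj ξ
  obtain ⟨u, hu⟩ := (lTensor_exact G (RR N).exact₀ (RR N).surj
    (ι.rTensor _ x)).1 (by rw [rT_lT, hξ])
  obtain ⟨k, hk⟩ := ck_key α hex hι' hex' hq hφ hψ h N x u hu
  rw [← rT_lT, ← hk, ← LinearMap.lTensor_comp_apply, (RR N).exact₀.linearMap_comp_eq_zero,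
    LinearMap.lTensor_zero, LinearMap.zero_apply]

include hex hι' hex' hq hφ hψ in
theorem ck_down [Module.Flat A G] {p : ℕ} (h : CK α (p + 1)) : CK ψ p := fun N x hx => by
  have h1 : (dl (RR N).C p).lTensor G (ι.rTensor _ x) = 0 := by rw [rT_lT, hx, map_zero]
  obtain ⟨u, hu⟩ := (Module.Flat.lTensor_exact G ((RR N).exactS p) _).1 h1
  exact ck_key α hex hι' hex' hq hφ hψ h N x u hu

include hι hex hπ hex' hφ hψ in
theorem ck_up [Module.Flat A F] {p : ℕ} (h : CK ψ p) : CK α (p + 1) := fun N z hz => by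
  obtain ⟨u, x, rfl, hu⟩ := exists_lift_cycle (C := (RR N).C) (ι := ι) hex hπ (p + 1) z hz
  have hx : (dl (RR N).C p).lTensor L x = 0 := by
    haveI := (RR N).flat p
    apply Module.Flat.rTensor_preserves_injective_linearMap (M := (RR N).C.X p) ι hι
    rw [← rT_lT, ← hu, ← LinearMap.lTensor_comp_apply, map_zero,
      show dl (RR N).C p ∘ₗ dl (RR N).C (p + 1) = 0 from LinearMap.ext (dl_dl _ p),
      LinearMap.lTensor_zero, LinearMap.zero_apply]
  obtain ⟨k, hk⟩ := h N x hx
  obtain ⟨v, hv⟩ := (Module.Flat.lTensor_exact F ((RR N).exactS (p + 1))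
      (φ.rTensor _ u - ι'.rTensor _ k)).1 (by
    rw [map_sub, rT_lT, rT_lT, hu, hk, ← LinearMap.rTensor_comp_apply,
      ← LinearMap.rTensor_comp_apply, hψ, sub_self])
  refine ⟨q.rTensor _ v, ?_⟩
  rw [rT_lT, hv, map_sub, ← LinearMap.rTensor_comp_apply, ← LinearMap.rTensor_comp_apply,
    ← LinearMap.rTensor_comp_apply, hex'.linearMap_comp_eq_zero, LinearMap.rTensor_zero,
    LinearMap.zero_apply, sub_zero, hφ]

end Shift

theorem ck_of_factor {κ : Type u} (g : M →ₗ[A] (κ →₀ A)) (h : (κ →₀ A) →ₗ[A] M') (hα : α = h ∘ₗ g)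
    (p : ℕ) : CK α p := fun N z hz => by
  obtain ⟨w, hw⟩ := (Module.Flat.lTensor_exact (κ →₀ A) ((RR N).exactS p)
    (g.rTensor _ z)).1 (by rw [rT_lT, hz, map_zero])
  refine ⟨h.rTensor _ w, ?_⟩
  rw [rT_lT, hw, hα, LinearMap.rTensor_comp_apply]

section Transpose

variable {n m : ℕ} (G : (Fin m → A) →ₗ[A] (Fin n → A))

/-- the transpose -/
def transp : (Fin n → A) →ₗ[A] (Fin m → A) :=
  LinearMap.pi fun j => ∑ k, G (Pi.single j 1) k • LinearMap.proj k

theorem transp_apply (w : Fin n → A) (j : Fin m) :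
    transp G w j = ∑ k, G (Pi.single j 1) k * w k := by
  simp [transp]

theorem sum_tmul_eq_zero :
    ∑ j, G (Pi.single j 1) ⊗ₜ[A] (LinearMap.range (transp G)).mkQ (Pi.single j 1) = 0 := by
  classical
  calc ∑ j, G (Pi.single j 1) ⊗ₜ[A] (LinearMap.range (transp G)).mkQ (Pi.single j 1)
      = ∑ j, ∑ k, (Pi.single k 1 : Fin n → A) ⊗ₜ[A]
          (G (Pi.single j 1) k • (LinearMap.range (transp G)).mkQ (Pi.single j 1)) :=
        Finset.sum_congr rfl fun j _ => by
          simp only [← TensorProduct.smul_tmul, ← TensorProduct.sum_tmul]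
          congr 1
          exact (Finset.univ_sum_single (G (Pi.single j 1))).symm.trans
            (Finset.sum_congr rfl fun k _ => by simp [← Pi.single_smul])
    _ = 0 := by
        rw [Finset.sum_comm]
        refine Finset.sum_eq_zero fun k _ => ?_
        rw [← TensorProduct.tmul_sum]
        refine (congrArg (TensorProduct.tmul A (Pi.single k 1 : Fin n → A)) ?_).trans
          (TensorProduct.tmul_zero _ _)
        simp only [← map_smul, ← map_sum]
        refine (Submodule.Quotient.mk_eq_zero _).2 ⟨Pi.single k 1, funext fun j => ?_⟩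
        rw [transp_apply]
        simp [Pi.single_apply, Finset.sum_apply]

theorem exists_comp_eq {K' : Type u} [AddCommGroup K'] [Module A K'] (ψ₀ : (Fin m → A) →ₗ[A] K')
    (h : ∑ j, ψ₀ (Pi.single j 1) ⊗ₜ[A] (LinearMap.range (transp G)).mkQ (Pi.single j 1) = 0) :
    ∃ η : (Fin n → A) →ₗ[A] K', η ∘ₗ G = ψ₀ := by
  classical
  let ξ₁ : K' ⊗[A] (Fin m → A) := ∑ j, ψ₀ (Pi.single j 1) ⊗ₜ[A] (Pi.single j 1 : Fin m → A)
  obtain ⟨w, hw⟩ := (lTensor_exact K' (LinearMap.exact_map_mkQ_range (transp G))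
    (Submodule.mkQ_surjective _) ξ₁).1 (by
      rw [map_sum]
      simpa only [LinearMap.lTensor_tmul] using h)
  let η : (Fin n → A) →ₗ[A] K' :=
    ∑ k, LinearMap.toSpanSingleton A K' (piScalarRight A A K' (Fin n) w k) ∘ₗ LinearMap.proj k
  have hT : ∀ (w : K' ⊗[A] (Fin n → A)) (j : Fin m),
      piScalarRight A A K' (Fin m) ((transp G).lTensor K' w) j =
      ∑ k, G (Pi.single j 1) k • piScalarRight A A K' (Fin n) w k := by
    intro w j
    induction w with
    | zero => simp
    | tmul a f => simp [transp_apply, Finset.sum_smul, smul_smul]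
    | add a b ha hb => simp only [map_add, Pi.add_apply, ha, hb, smul_add, Finset.sum_add_distrib]
  refine ⟨η, LinearMap.pi_ext' fun j => LinearMap.ext_ring ?_⟩
  have h2 := hT w j
  rw [hw] at h2
  simp only [η, LinearMap.comp_apply, LinearMap.sum_apply, LinearMap.single_apply,
    LinearMap.toSpanSingleton_apply, LinearMap.proj_apply]
  rw [← h2]
  simp [ξ₁, Pi.single_apply, Finset.sum_apply]

end Transpose

theorem factor_of_ck_aux [Module.FinitePresentation A M] {F : Type u} [AddCommGroup F] [Module A F]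
    (q : F →ₗ[A] M') (hq : Function.Surjective q) (hck : CK α 0) :
    ∃ g : M →ₗ[A] F, α = q ∘ₗ g := by
  classical
  obtain ⟨n, m, π, G, hπ, hGπ⟩ := Module.FinitePresentation.exists_fin' A M
  obtain ⟨φ, hφ⟩ := Module.projective_lifting_property q (α ∘ₗ π) hq
  let ψ : LinearMap.ker π →ₗ[A] LinearMap.ker q :=
    LinearMap.codRestrict _ (φ ∘ₗ (LinearMap.ker π).subtype) fun x => by
      show q (φ x.1) = 0
      rw [show q (φ x.1) = α (π x.1) from LinearMap.congr_fun hφ x.1, LinearMap.mem_ker.1 x.2,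
        map_zero]
  let Gl : (Fin m → A) →ₗ[A] LinearMap.ker π :=
    LinearMap.codRestrict _ G fun x => hGπ.apply_apply_eq_zero x
  let N : ModuleCat.{u} A := ModuleCat.of A ((Fin m → A) ⧸ LinearMap.range (transp G))
  let ξ : LinearMap.ker π ⊗[A] N :=
    ∑ j, Gl (Pi.single j 1) ⊗ₜ[A] (LinearMap.range (transp G)).mkQ (Pi.single j 1)
  have h0 : (LinearMap.ker π).subtype.rTensor N ξ = 0 := by
    rw [map_sum]
    exact sum_tmul_eq_zero G
  have h1 := rTensor_eq_zero_of_ck α (LinearMap.exact_subtype_ker_map π) Subtype.val_injective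
    (LinearMap.exact_subtype_ker_map q) hq hφ
    (show (LinearMap.ker q).subtype ∘ₗ ψ = φ ∘ₗ (LinearMap.ker π).subtype from rfl) hck N ξ h0
  obtain ⟨η, hη⟩ := exists_comp_eq G (ψ ∘ₗ Gl) (by
    refine Eq.trans ?_ h1
    rw [map_sum]
    rfl)
  have hker : LinearMap.ker π ≤ LinearMap.ker (φ - (LinearMap.ker q).subtype ∘ₗ η) := fun y hy => by
    obtain ⟨z, rfl⟩ := (hGπ y).1 hy
    show φ (G z) - (LinearMap.ker q).subtype (η (G z)) = 0
    rw [show η (G z) = ψ (Gl z) from LinearMap.congr_fun hη z]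
    exact sub_self _
  refine ⟨(LinearMap.ker π).liftQ (φ - (LinearMap.ker q).subtype ∘ₗ η) hker ∘ₗ
    (π.quotKerEquivOfSurjective hπ).symm.toLinearMap, LinearMap.ext fun y => ?_⟩
  obtain ⟨z, rfl⟩ := hπ y
  rw [LinearMap.comp_apply, LinearMap.comp_apply, LinearEquiv.coe_coe,
    show (π.quotKerEquivOfSurjective hπ).symm (π z) = Submodule.Quotient.mk z from
    (π.quotKerEquivOfSurjective hπ).symm_apply_eq.2
      (π.quotKerEquivOfSurjective_apply_mk hπ z).symm, Submodule.liftQ_apply, LinearMap.sub_apply,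
    map_sub, show q (((LinearMap.ker q).subtype ∘ₗ η) z) = 0 from (η z).2, sub_zero]
  exact (LinearMap.congr_fun hφ z).symm

theorem factor_of_ck [Module.FinitePresentation A M] (hck : CK α 0) :
    ∃ (g : M →ₗ[A] (M' →₀ A)), α = Finsupp.linearCombination A (id : M' → M') ∘ₗ g :=
  factor_of_ck_aux α _ (Finsupp.linearCombination_surjective A Function.surjective_id) hck

/-- precomposition with `α` kills `Ext^n(M', -)` -/
def EK (n : ℕ) : Prop :=
  ∀ (N : ModuleCat.{u} A) (x : Ext.{u} (ModuleCat.of A M') N n),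
    (Ext.mk₀ (ModuleCat.ofHom α)).comp x (zero_add n) = 0

section

variable {L K' G F : Type u} [AddCommGroup L] [Module A L] [AddCommGroup K'] [Module A K']
  [AddCommGroup G] [Module A G] [AddCommGroup F] [Module A F]
  {ι : L →ₗ[A] G} {π : G →ₗ[A] M} {ι' : K' →ₗ[A] F} {q : F →ₗ[A] M'}
  {φ : G →ₗ[A] F} {ψ : L →ₗ[A] K'}
  (hι : Function.Injective ι) (hex : Function.Exact ι π) (hπ : Function.Surjective π)
  (hι' : Function.Injective ι') (hex' : Function.Exact ι' q) (hq : Function.Surjective q)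
  (hφ : q ∘ₗ φ = α ∘ₗ π) (hψ : ι' ∘ₗ ψ = φ ∘ₗ ι)

include hι hex hπ hι' hex' hq hφ hψ in
theorem ek_succ [Module.Projective A G] [Module.Projective A F] (m : ℕ) :
    EK α (m + 2) ↔ EK ψ (m + 1) := by
  let S : ShortComplex (ModuleCat.{u} A) := ShortComplex.mk (ModuleCat.ofHom ι) (ModuleCat.ofHom π)
    (ModuleCat.hom_ext hex.linearMap_comp_eq_zero)
  let S' : ShortComplex (ModuleCat.{u} A) := ShortComplex.mk (ModuleCat.ofHom ι') (ModuleCat.ofHom q)
    (ModuleCat.hom_ext hex'.linearMap_comp_eq_zero)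
  have hS : S.ShortExact := ShortComplex.ShortExact.mk'
    ((ShortComplex.ShortExact.moduleCat_exact_iff_function_exact S).2 hex)
    ((ModuleCat.mono_iff_injective _).2 hι) ((ModuleCat.epi_iff_surjective _).2 hπ)
  have hS' : S'.ShortExact := ShortComplex.ShortExact.mk'
    ((ShortComplex.ShortExact.moduleCat_exact_iff_function_exact S').2 hex')
    ((ModuleCat.mono_iff_injective _).2 hι') ((ModuleCat.epi_iff_surjective _).2 hq)
  let f : S ⟶ S' :=
    { τ₁ := ModuleCat.ofHom ψ
      τ₂ := ModuleCat.ofHom φ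
      τ₃ := ModuleCat.ofHom α
      comm₁₂ := ModuleCat.hom_ext hψ
      comm₂₃ := ModuleCat.hom_ext hφ }
  haveI : Projective S.X₂ := (IsProjective.iff_projective (R := A) (P := G)).1 inferInstance
  haveI : Projective S'.X₂ := (IsProjective.iff_projective (R := A) (P := F)).1 inferInstance
  have key : ∀ (N : ModuleCat.{u} A) (x : Ext.{u} S'.X₁ N (m + 1)),
      (Ext.mk₀ f.τ₃).comp (hS'.extClass.comp x (add_comm 1 (m + 1))) (zero_add (m + 2)) =
        hS.extClass.comp ((Ext.mk₀ f.τ₁).comp x (zero_add _)) (add_comm 1 (m + 1)) := fun N x => by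
    rw [← Ext.comp_assoc (a₁₂ := 1) _ _ _ (zero_add 1) (add_comm 1 (m + 1)) (by omega),
      ← ShortComplex.ShortExact.extClass_naturality hS hS' f,
      Ext.comp_assoc_of_second_deg_zero]
  constructor
  · intro h N x
    have h1 : hS.extClass.comp ((Ext.mk₀ f.τ₁).comp x (zero_add _)) (add_comm 1 (m + 1)) = 0 := by
      rw [← key]
      exact h N (hS'.extClass.comp x (add_comm 1 (m + 1)))
    obtain ⟨w, hw⟩ := Ext.contravariant_sequence_exact₁ hS N _ (add_comm 1 (m + 1)) h1
    rw [Ext.eq_zero_of_projective w, Ext.comp_zero] at hw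
    exact hw.symm
  · intro h N y
    obtain ⟨x, hx⟩ := Ext.contravariant_sequence_exact₃ hS' N y
      (Ext.eq_zero_of_projective _) (add_comm 1 (m + 1))
    rw [← hx]
    refine (key N x).trans ?_
    rw [show (Ext.mk₀ f.τ₁).comp x (zero_add _) = 0 from h N x, Ext.comp_zero]

end

theorem ek_one_of_factor {κ : Type u} (g : M →ₗ[A] (κ →₀ A)) (h : (κ →₀ A) →ₗ[A] M')
    (hα : α = h ∘ₗ g) : EK α 1 := fun N x => by
  haveI : Projective (ModuleCat.of A (κ →₀ A)) :=
    (IsProjective.iff_projective (R := A) (P := κ →₀ A)).1 inferInstance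
  rw [show ModuleCat.ofHom α = ModuleCat.ofHom g ≫ ModuleCat.ofHom h by rw [hα]; rfl,
    ← Ext.mk₀_comp_mk₀_assoc, Ext.eq_zero_of_projective ((Ext.mk₀ (ModuleCat.ofHom h)).comp x _),
    Ext.comp_zero]

theorem factor_of_ek_one (h : EK α 1) :
    ∃ (g : M →ₗ[A] (M' →₀ A)), α = Finsupp.linearCombination A (id : M' → M') ∘ₗ g := by
  let q : (M' →₀ A) →ₗ[A] M' := Finsupp.linearCombination A (id : M' → M')
  have hq : Function.Surjective q := Finsupp.linearCombination_surjective A Function.surjective_id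
  let S' : ShortComplex (ModuleCat.{u} A) := ShortComplex.mk
    (ModuleCat.ofHom (X := ↥(LinearMap.ker q)) (Y := M' →₀ A) (LinearMap.ker q).subtype)
    (ModuleCat.ofHom q)
    (ModuleCat.hom_ext (LinearMap.ext fun (x : ↥(LinearMap.ker q)) => x.2))
  have hS' : S'.ShortExact := ShortComplex.ShortExact.mk'
    ((ShortComplex.ShortExact.moduleCat_exact_iff_function_exact S').2
      (LinearMap.exact_subtype_ker_map q))
    ((ModuleCat.mono_iff_injective _).2 Subtype.val_injective)
    ((ModuleCat.epi_iff_surjective _).2 hq)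
  obtain ⟨w, hw⟩ := Ext.covariant_sequence_exact₃ (ModuleCat.of A M) hS'
    (Ext.mk₀ (ModuleCat.ofHom α)) (zero_add 1) (h _ hS'.extClass)
  obtain ⟨g, rfl⟩ : ∃ g, Ext.mk₀ g = w := ⟨_, Ext.mk₀_homEquiv₀_apply w⟩
  rw [Ext.mk₀_comp_mk₀] at hw
  have := (Ext.mk₀_bijective _ _).1 hw
  exact ⟨g.hom, (congrArg ModuleCat.Hom.hom this).symm⟩

theorem ck_iff_ek [IsNoetherianRing A] (p : ℕ) :
    ∀ (M M' : Type u) [AddCommGroup M] [Module A M] [Module.Finite A M] [AddCommGroup M']
      [Module A M'] (α : M →ₗ[A] M'), CK α p ↔ EK α (p + 1) := by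
  induction p with
  | zero =>
    intro M M' _ _ _ _ _ α
    haveI := Module.finitePresentation_of_finite A M
    constructor
    · intro h
      obtain ⟨g, hg⟩ := factor_of_ck α h
      exact ek_one_of_factor α g _ hg
    · intro h
      obtain ⟨g, hg⟩ := factor_of_ek_one α h
      exact ck_of_factor α g _ hg 0
  | succ p ih =>
    intro M M' _ _ _ _ _ α
    obtain ⟨n, π, hπ⟩ := Module.Finite.exists_fin' A M
    let q : (M' →₀ A) →ₗ[A] M' := Finsupp.linearCombination A (id : M' → M')
    have hq : Function.Surjective q := Finsupp.linearCombination_surjective A Function.surjective_id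
    obtain ⟨φ, hφ⟩ := Module.projective_lifting_property q (α ∘ₗ π) hq
    let ψ : LinearMap.ker π →ₗ[A] LinearMap.ker q :=
      LinearMap.codRestrict _ (φ ∘ₗ (LinearMap.ker π).subtype) fun x => by
        show q (φ x.1) = 0
        rw [show q (φ x.1) = α (π x.1) from LinearMap.congr_fun hφ x.1, LinearMap.mem_ker.1 x.2,
          map_zero]
    have hψ : (LinearMap.ker q).subtype ∘ₗ ψ = φ ∘ₗ (LinearMap.ker π).subtype := rfl
    have e1 := ek_succ α (L := ↥(LinearMap.ker π)) (K' := ↥(LinearMap.ker q))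
      (G := Fin n → A) (F := M' →₀ A) (ι := (LinearMap.ker π).subtype) (π := π)
      (ι' := (LinearMap.ker q).subtype) (q := q) (φ := φ) (ψ := ψ)
      Subtype.val_injective (LinearMap.exact_subtype_ker_map π) hπ
      Subtype.val_injective (LinearMap.exact_subtype_ker_map q) hq hφ hψ p
    rw [e1, ← ih (LinearMap.ker π) (LinearMap.ker q) ψ]
    exact ⟨ck_down α (L := ↥(LinearMap.ker π)) (K' := ↥(LinearMap.ker q))
        (G := Fin n → A) (F := M' →₀ A) (LinearMap.exact_subtype_ker_map π) Subtype.val_injective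
        (LinearMap.exact_subtype_ker_map q) hq hφ hψ,
      ck_up α (L := ↥(LinearMap.ker π)) (K' := ↥(LinearMap.ker q))
        (G := Fin n → A) (F := M' →₀ A) Subtype.val_injective (LinearMap.exact_subtype_ker_map π) hπ
        (LinearMap.exact_subtype_ker_map q) hφ hψ⟩

end Groth.Agent.LC15.TP
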