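import Groth.Agent.LC15.TorCx
import Groth.Agent.LC17.Faltings

/-!
From annihilation at the stalks to annihilation of the cohomology with supports in `T`.
-/

set_option autoImplicit false
set_option linter.unusedSectionVars false
set_option linter.style.haveILetI false

universe u

open CategoryTheory
open Groth.Agent

namespace Groth.Agent.LC15.TorCx

variable {A : Type u} [CommRing A] [IsNoetherianRing A]

theorem exists_mul_pow_le {I P : Ideal A} [P.IsPrime] (hP : P ∈ I.minimalPrimes) (n : ℕ) :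
    ∃ (v : A) (N : ℕ), v ∉ P ∧ ∀ c ∈ P ^ N, v * c ∈ I ^ n := by
  classical
  let C : Ideal A :=
    { carrier := {c | ∃ v, v ∉ P ∧ v * c ∈ I ^ n}
      zero_mem' := ⟨1, P.ne_top_iff_one.mp (Ideal.IsPrime.ne_top'), by simp⟩
      add_mem' := by
        rintro x y ⟨v, hv, hvx⟩ ⟨w, hw, hwy⟩
        refine ⟨v * w, fun h => (Ideal.IsPrime.mem_or_mem ‹_› h).elim hv hw, ?_⟩
        rw [mul_add]
        refine Ideal.add_mem _ ?_ ?_
        · rw [mul_right_comm]; exact Ideal.mul_mem_right _ _ hvx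
        · rw [mul_assoc]; exact Ideal.mul_mem_left _ _ hwy
      smul_mem' := by
        rintro c x ⟨v, hv, hvx⟩
        exact ⟨v, hv, by rw [smul_eq_mul, mul_left_comm]; exact Ideal.mul_mem_left _ _ hvx⟩ }
  have hle : P ≤ C.radical := by
    intro x hx
    obtain ⟨v, hv, hvx⟩ := LC17.exists_mul_mem_of_forall_prime (Q := P) (c := x)
      (Ideal.radical_isRadical I) fun p hp hIp hpP =>
        hP.2 ⟨hp, Ideal.le_radical.trans hIp⟩ hpP hx
    obtain ⟨N, hN⟩ := hvx
    refine ⟨N * n, v ^ (N * n), fun h => hv (Ideal.IsPrime.mem_of_pow_mem ‹_› _ h), ?_⟩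
    rw [← mul_pow, pow_mul]
    exact Ideal.pow_mem_pow hN n
  obtain ⟨N, hN⟩ := Ideal.exists_pow_le_of_le_radical_of_fg hle (IsNoetherian.noetherian P)
  obtain ⟨t, ht⟩ := IsNoetherian.noetherian C
  have hmem : ∀ g ∈ t, ∃ v, v ∉ P ∧ v * g ∈ I ^ n := fun g hg =>
    (show g ∈ C from ht ▸ Submodule.subset_span hg)
  choose! v hv hvg using hmem
  refine ⟨∏ g ∈ t, v g, N, fun h => ?_, fun c hc => ?_⟩
  · obtain ⟨g, hg, hgP⟩ := (Ideal.IsPrime.prod_mem_iff).mp h
    exact hv g hg hgP
  · have hcC : c ∈ Submodule.span A (t : Set A) := ht.symm ▸ hN hc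
    clear hc
    induction hcC using Submodule.span_induction with
    | mem g hg =>
      rw [← Finset.prod_erase_mul _ _ hg, mul_assoc]
      exact Ideal.mul_mem_left _ _ (hvg g hg)
    | zero => simp
    | add x y _ _ hx hy => rw [mul_add]; exact Ideal.add_mem _ hx hy
    | smul r x _ hx => rw [smul_eq_mul, mul_left_comm]; exact Ideal.mul_mem_left _ _ hx

variable {E : DRing.Cx A} {T : Set (PrimeSpectrum A)}

/-- stalkwise annihilation gives annihilation -/
theorem kill_of_stalks (hinj : ∀ i, Module.Injective A (E.X i)) (δ : PrimeSpectrum A → ℤ)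
    (lo hi : ℤ) (hb : ∀ q, lo ≤ δ q ∧ δ q ≤ hi) (hlt : ∀ p q : PrimeSpectrum A, p < q → δ p < δ q)
    (i : ℤ) (a : A)
    (hst : ∀ q ∈ T, ∀ x ∈ cyc (PrimeSpectrum.zeroLocus (q.asIdeal : Set A)) E i,
      ∃ u, u ∉ q.asIdeal ∧
        (u * a) • x ∈ bdy (PrimeSpectrum.zeroLocus (q.asIdeal : Set A)) E i) :
    Kill T E i (a ^ ((hi - lo).toNat + 1)) := by
  classical
  have key : ∀ (d : ℕ) (I : Ideal A), PrimeSpectrum.zeroLocus (I : Set A) ⊆ T →
      (∀ q : PrimeSpectrum A, I ≤ q.asIdeal → hi - δ q < d) →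
      ∀ x : E.X i, x ∈ DRing.torsionSub I (E.X i) → (E.d i (i + 1)).hom x = 0 →
        a ^ d • x ∈ bdy T E i := by
    intro d
    induction d with
    | zero =>
      intro I _ hI x hx _
      have hIt : I = ⊤ := by
        by_contra hne
        obtain ⟨P, hP, hIP⟩ := Ideal.exists_le_maximal I hne
        have := hI ⟨P, hP.isPrime⟩ hIP
        have := (hb ⟨P, hP.isPrime⟩).2
        omega
      obtain ⟨n, hn⟩ := hx
      have h1 := hn 1 (by rw [hIt, Ideal.top_pow]; trivial)
      rw [one_smul] at h1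
      rw [h1, smul_zero]
      exact zero_mem _
    | succ d ih =>
      intro I hIT hI x hx hdx
      let S : Finset (Ideal A) := I.finite_minimalPrimes_of_isNoetherianRing.toFinset.filter
        fun P => ∃ h : P.IsPrime, hi - δ ⟨P, h⟩ = d
      let B := (DRing.torsionSub I (E.X (i - 1))).map (E.d (i - 1) i).hom
      let K := B.colon ({a • x} : Set (E.X i))
      have hK : ¬ (K : Set A) ⊆ ⋃ P ∈ (S : Set (Ideal A)), (P : Set A) := by
        rw [Ideal.subset_union_prime ⊥ ⊥ fun P hP _ _ => (Finset.mem_filter.1 hP).2.choose]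
        rintro ⟨P, hPS, hKP⟩
        obtain ⟨hPm, hP, -⟩ := Finset.mem_filter.1 hPS
        have hPI : P ∈ I.minimalPrimes :=
          I.finite_minimalPrimes_of_isNoetherianRing.mem_toFinset.1 hPm
        obtain ⟨n, hn⟩ := hx
        obtain ⟨v, N, hv, hvN⟩ := exists_mul_pow_le hPI n
        have hvx : v • x ∈ cyc (PrimeSpectrum.zeroLocus (P : Set A)) E i := by
          refine ⟨torsionSub_le_tor subset_rfl ⟨N, fun c hc => ?_⟩, ?_⟩
          · rw [smul_smul, mul_comm]
            exact hn _ (hvN c hc)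
          · show (E.d i (i + 1)).hom (v • x) = 0
            rw [map_smul, hdx, smul_zero]
        obtain ⟨u, hu, w, hw, hdw⟩ := hst ⟨P, hP⟩
          (hIT (show I ≤ P from hPI.1.2)) _ hvx
        refine (hP.mem_or_mem (hKP (show u * v ∈ K from Submodule.mem_colon_singleton.mpr ?_))).elim
          hu hv
        rw [tor_zeroLocus] at hw
        obtain ⟨m, hm⟩ := hw
        refine ⟨w, ⟨m, fun c hc => hm c (Ideal.pow_right_mono hPI.1.2 m hc)⟩, ?_⟩
        rw [hdw, smul_smul, smul_smul, mul_right_comm]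
      obtain ⟨u, huK, huS⟩ := Set.not_subset.1 hK
      obtain ⟨w, hw, hdw⟩ := Submodule.mem_colon_singleton.mp huK
      have hax : a • x ∈ DRing.torsionSub I (E.X i) := Submodule.smul_mem _ a hx
      obtain ⟨w', hw', hlift⟩ := exists_sup_lift hinj I u i (a • x) hax (M := 1) w hw
        (by rw [pow_one]; exact hdw)
      have hlev : ∀ q : PrimeSpectrum A, Ideal.span {u} ⊔ I ≤ q.asIdeal → hi - δ q < d := by
        intro q hq
        have hIq : I ≤ q.asIdeal := le_sup_right.trans hq
        have hlev := hI q hIq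
        by_contra hle
        obtain ⟨P, hPm, hPq⟩ := Ideal.exists_minimalPrimes_le hIq
        have hPp := hPm.1.1
        have hlev' := hI ⟨P, hPp⟩ hPm.1.2
        have hPeq : (⟨P, hPp⟩ : PrimeSpectrum A) = q := by
          by_contra hne
          have := hlt _ _ (lt_of_le_of_ne (show (⟨P, hPp⟩ : PrimeSpectrum A) ≤ q from hPq) hne)
          omega
        have hP : P ∈ S := Finset.mem_filter.2
          ⟨I.finite_minimalPrimes_of_isNoetherianRing.mem_toFinset.2 hPm, hPp, by
            rw [hPeq]; omega⟩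
        refine huS (Set.mem_biUnion (Finset.mem_coe.2 hP) ?_)
        rw [show P = q.asIdeal from congrArg PrimeSpectrum.asIdeal hPeq]
        exact hq (Ideal.mem_sup_left (Ideal.mem_span_singleton_self u))
      have h1 := ih (Ideal.span {u} ⊔ I)
        ((PrimeSpectrum.zeroLocus_anti_mono (SetLike.coe_subset_coe.2 le_sup_right)).trans hIT)
        hlev _ hlift (by rw [map_sub, map_smul, hdx, smul_zero, d_d, sub_zero])
      have h2 : (E.d (i - 1) i).hom w' ∈ bdy T E i :=
        ⟨w', torsionSub_le_tor hIT hw', rfl⟩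
      have h3 := Submodule.add_mem _ h1 (Submodule.smul_mem _ (a ^ d) h2)
      rwa [← smul_add, sub_add_cancel, ← mul_smul, ← pow_succ] at h3
  rintro x ⟨⟨J, hJ, hJx⟩, hdx⟩
  refine key _ J hJ (fun q _ => ?_) x ⟨1, fun c hc => hJx c (pow_one J ▸ hc)⟩ hdx
  obtain ⟨h1, -⟩ := hb q
  omega

end Groth.Agent.LC15.TorCx
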