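import Groth.Agent.LC15.TorDual
import Groth.Agent.LC15.TorGlobal
import Groth.Agent.LC15.DualDegree

/-!
Faltings' annihilator theorem for complexes.
-/

set_option autoImplicit false
set_option linter.unusedSectionVars false
set_option linter.style.haveILetI false

universe u

open CategoryTheory CategoryTheory.Limits CategoryTheory.Pretriangulated
open Groth.Agent Groth.Agent.DR39

attribute [local instance] HasDerivedCategory.standard

namespace Groth.Agent.LC15.TorFaltings

open LC15.TorCx LC15.TorLoc LC15.DualKill LC15.TorDual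

variable {A : Type u} [CommRing A]

/-- the depth condition for a complex -/
def Cond (T T' : Set (PrimeSpectrum A)) (s : ℤ) (K : Dual.D A)
    [∀ p : PrimeSpectrum A, DRing.HasLBaseChange (algebraMap A (Localization.AtPrime p.asIdeal))] : Prop :=
  ∀ (p q : PrimeSpectrum A) (hpq : p ≤ q), p ∉ T' → q ∈ T → ∀ h : ℕ,
    Order.height (⟨q, hpq⟩ : Set.Ici p) = h → ∀ i : ℤ, i ≤ s - h →
      Subsingleton (Dual2.HDI (Localization.AtPrime p.asIdeal)
        (IsLocalRing.maximalIdeal (Localization.AtPrime p.asIdeal))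
        ((DRing.LBaseChange (algebraMap A (Localization.AtPrime p.asIdeal))).obj K) i)

theorem annihilator_iff {ω : Dual.D A} (hω : Dual.IsDualizing A ω) {T T' : Set (PrimeSpectrum A)}
    (hT : StableUnderSpecialization T) (hT' : StableUnderSpecialization T') (s : ℤ) (K : Dual.D A) (a : ℤ)
    (hKa : ∀ i : ℤ, i < a → Subsingleton (Dual.HD A K i))
    (hK : ∀ i : ℤ, Module.Finite A (Dual.HD A K i))
    [∀ p : PrimeSpectrum A, DRing.HasLBaseChange (algebraMap A (Localization.AtPrime p.asIdeal))] :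
    (∃ J : Ideal A, PrimeSpectrum.zeroLocus (J : Set A) ⊆ T' ∧
      ∀ i : ℤ, i ≤ s → ∀ a ∈ J, ∀ x : Dual2.HDT A T K i, a • x = 0) ↔ Cond T T' s K := by
  classical
  haveI := hω.isNoetherianRing
  obtain ⟨E, hE, hinj, hc, ⟨e⟩⟩ := TorBase.exists_inj_rep K a hKa
  haveI := hE
  obtain ⟨X', C, f, g, h, hdT, hX', hfin, hC⟩ := exists_trunc K a s hKa hK
  obtain ⟨lo, hi, hb⟩ := DualFaltings.exists_deg_bounds hω
  choose deg hdeg using fun q : PrimeSpectrum A => exists_deg hω q.asIdeal
  let G : ℤ → Ideal A := fun j => Module.annihilator A (X' ⟶ ω⟦j⟧)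
  let θ := fun i => (TorLink.HDT_equiv (T := T) E e i).some
  have hkill : ∀ (l : ℤ) (x : A), Kill T E l x ↔ ∀ y : Dual2.HDT A T K l, x • y = 0 := fun l x =>
    (TorCx.kill_iff l x).trans (kills_congr (θ l) x).symm
  have hat : ∀ (q : PrimeSpectrum A) (i : ℤ), i ≤ s → ∀ x : A,
      (∀ z ∈ cyc (PrimeSpectrum.zeroLocus (q.asIdeal : Set A)) E i, ∃ u, u ∉ q.asIdeal ∧
        (u * x) • z ∈ bdy (PrimeSpectrum.zeroLocus (q.asIdeal : Set A)) E i) ↔
      ∃ u, u ∉ q.asIdeal ∧ u * x ∈ G (deg q - i) := fun q i his x =>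
    (TorLoc.stalk_iff (q := q.asIdeal) i x).trans
      (kill_iff_annihilator hω q.asIdeal hinj hc hdT hX' hfin hC e (hdeg q) i his x)
  have hvan : ∀ (p : PrimeSpectrum A) (i : ℤ), i ≤ s →
      (Subsingleton (Dual2.HDI (Localization.AtPrime p.asIdeal)
        (IsLocalRing.maximalIdeal (Localization.AtPrime p.asIdeal))
        ((DRing.LBaseChange (algebraMap A (Localization.AtPrime p.asIdeal))).obj K) i) ↔
      ¬ G (deg p - i) ≤ p.asIdeal) := by
    intro p i his
    haveI : IsNoetherianRing (Lq p.asIdeal) :=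
      IsLocalization.isNoetherianRing p.asIdeal.primeCompl _ inferInstance
    haveI := isKInjective_EL (q := p.asIdeal) hinj hc
    obtain ⟨eB⟩ := DR39.lbcIso (B := Lq p.asIdeal) K
    obtain ⟨eL⟩ := nonempty_EL_iso p.asIdeal E
    obtain ⟨e1⟩ := HDI_equiv (IsLocalRing.maximalIdeal (Lq p.asIdeal)) (EL p.asIdeal E)
      (eL ≪≫ (DF (extA A (Lq p.asIdeal))).mapIso e ≪≫ eB.symm) i
    obtain ⟨e2⟩ := TorLink.gCx_homology_equiv (EL p.asIdeal E) (IsLocalRing.maximalIdeal (Lq p.asIdeal)) i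
    rw [(e1.trans e2).toEquiv.subsingleton_congr]
    have h1 := kill_iff_annihilator hω p.asIdeal hinj hc hdT hX' hfin hC e (hdeg p) i his 1
    rw [map_one, TorCx.kill_iff] at h1
    refine Iff.trans ⟨fun hs => fun y => Subsingleton.elim _ _, fun hs => subsingleton_of_forall_eq 0
      fun y => by rw [← one_smul (Lq p.asIdeal) y, hs]⟩ (h1.trans ?_)
    rw [SetLike.not_le_iff_exists]
    exact ⟨fun ⟨u, hu, hG⟩ => ⟨u, by rwa [mul_one] at hG, hu⟩, fun ⟨u, hG, hu⟩ => ⟨u, hu, by rwa [mul_one]⟩⟩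
  constructor
  · rintro ⟨J, hJ, hJk⟩ p q hpq hp hq n hn i hi'
    obtain ⟨x, hxJ, hxp⟩ := SetLike.not_le_iff_exists.1 (show ¬ J ≤ p.asIdeal from fun hle => hp (hJ hle))
    obtain ⟨n', hn', hnd⟩ := DualDegree.htq_eq hω hpq (hdeg p) (hdeg q)
    rw [LC16.RelCodim.height_ici p q hpq, hn', Nat.cast_inj] at hn
    subst hn
    have hVT : PrimeSpectrum.zeroLocus (q.asIdeal : Set A) ⊆ T := fun r hr =>
      hT ((PrimeSpectrum.le_iff_specializes q r).1 hr) hq
    obtain ⟨m, hm⟩ := kill_of_kill hinj hc (s := s)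
      (fun l hl => (hkill l x).2 (fun y => hJk l hl x hxJ y)) hVT (show i + n' ≤ s by omega)
    obtain ⟨u, hu, hG⟩ := (hat q (i + n') (by omega) (x ^ m)).1 fun z hz =>
      ⟨1, q.2.one_notMem, by rw [one_mul]; exact hm z hz⟩
    refine (hvan p i (by omega)).2 fun hle => ?_
    rw [show deg q - (i + n') = deg p - i by omega] at hG
    exact (p.2.mem_or_mem (hle hG)).elim (fun h' => hu (hpq h')) fun h' => hxp (p.2.mem_of_pow_mem m h')
  · intro hcond
    have hF : ∀ F : Finset ℤ, ∃ J : Dual2.IdealsIn T', ∀ x ∈ HT.idl J, ∀ j ∈ F, ∀ q : PrimeSpectrum A,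
        (∀ p : PrimeSpectrum A, G j ≤ p.asIdeal → p ≤ q → p ∈ T') →
          ∃ u, u ∉ q.asIdeal ∧ u * x ∈ G j := by
      intro F
      induction F using Finset.induction with
      | empty => exact ⟨HT.topI, fun x _ j hj => absurd hj (Finset.notMem_empty j)⟩
      | insert j F _ ih =>
        obtain ⟨J₁, h₁⟩ := DualFaltings.exists_product_split hT' (G j)
        obtain ⟨J₂, h₂⟩ := ih
        refine ⟨HT.prodI J₁ J₂, fun x hx j' hj' => ?_⟩
        rcases Finset.mem_insert.1 hj' with rfl | hj'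
        · exact h₁ x (Ideal.mul_le_left hx)
        · exact h₂ x (Ideal.mul_le_right hx) j' hj'
    obtain ⟨J, hJ⟩ := hF (Finset.Icc (lo - s) (hi - a))
    let D := (hi - lo).toNat + 1
    have hD : ∀ x ∈ HT.idl J, ∀ i : ℤ, i ≤ s → Kill T E i (x ^ D) := by
      intro x hx i his
      by_cases hia : a ≤ i
      · refine kill_of_stalks hinj deg lo hi (fun q => hb q _ (hdeg q))
          (fun p q hpq => DualFaltings.deg_lt hω hpq (hdeg p) (hdeg q)) i x fun q hq => ?_
        refine (hat q i his x).2 (hJ x hx _ (Finset.mem_Icc.2 ?_) q fun p hpG hpq => ?_)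
        · obtain ⟨h1, h2⟩ := hb q _ (hdeg q)
          constructor <;> omega
        · by_contra hp
          obtain ⟨n, hn, hnd⟩ := DualDegree.htq_eq hω hpq (hdeg p) (hdeg q)
          have h1 := hcond p q hpq hp hq n (by rw [LC16.RelCodim.height_ici p q hpq, hn]) (i - n) (by omega)
          rw [hvan p (i - n) (by omega), show deg p - (i - n) = deg q - i by omega] at h1
          exact h1 hpG
      · haveI := hc i (by omega)
        exact fun z _ => by rw [Subsingleton.elim (x ^ D • z) 0]; exact zero_mem _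
    let L : Ideal A := Ideal.span ((fun c => c ^ D) '' (HT.idl J : Set A))
    have hr : HT.idl J ≤ L.radical := fun c hc' => ⟨D, Ideal.subset_span ⟨c, hc', rfl⟩⟩
    obtain ⟨N, hN⟩ := Ideal.exists_pow_le_of_le_radical_of_fg hr (IsNoetherian.noetherian _)
    refine ⟨HT.idl J ^ N, TorCx.zeroLocus_pow (HT.zeroLocus_idl J) N, fun i his x hx y => ?_⟩
    have hL : L ≤ killI T E i := by
      rw [Ideal.span_le]
      rintro _ ⟨c, hc', rfl⟩
      exact hD c hc' i his
    exact (hkill i x).1 (kill_of_mem_killI (hL (hN hx))) y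

end Groth.Agent.LC15.TorFaltings
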