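import Groth.Agent.LC15.TorCx
import Groth.Agent.DR39.InjAmp
import Groth.Agent.DR39.Bidual3

/-!
Finiteness of the cohomology with supports in `T`: annihilation implies finiteness.
-/

set_option autoImplicit false
set_option linter.unusedSectionVars false
set_option linter.style.haveILetI false

universe u

open CategoryTheory
open Groth.Agent Groth.Agent.DR39

attribute [local instance] HasDerivedCategory.standard

namespace Groth.Agent.LC15.TorCx

variable {A : Type u} [CommRing A] {T : Set (PrimeSpectrum A)} {E : DRing.Cx A}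

theorem mem_bdy' {p i : ℤ} (h : p + 1 = i) {x : E.X i} :
    x ∈ bdy T E i ↔ ∃ w ∈ Tor T (E.X p), (E.d p i).hom w = x := by
  obtain rfl : p = i - 1 := by omega
  rfl

theorem prod_mem_tor {M N : Type u} [AddCommGroup M] [Module A M] [AddCommGroup N] [Module A N]
    {x : M} {y : N} (hx : x ∈ Tor T M) (hy : y ∈ Tor T N) : ((x, y) : M × N) ∈ Tor T (M × N) := by
  obtain ⟨J, hJ, hJx⟩ := hx
  obtain ⟨K, hK, hKy⟩ := hy
  refine ⟨J * K, ?_, fun a ha => Prod.ext (hJx a (Ideal.mul_le_left ha)) (hKy a (Ideal.mul_le_right ha))⟩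
  rw [PrimeSpectrum.zeroLocus_mul]
  exact Set.union_subset hJ hK

/-- the annihilator of the cohomology with supports in `T` in degree `i` -/
def killI (T : Set (PrimeSpectrum A)) (E : DRing.Cx A) (i : ℤ) : Ideal A where
  carrier := {a | Kill T E i a}
  zero_mem' := fun x _ => by rw [zero_smul]; exact zero_mem _
  add_mem' := fun {a b} ha hb x hx => by rw [add_smul]; exact add_mem (ha x hx) (hb x hx)
  smul_mem' := fun c a ha x hx => by rw [smul_assoc]; exact Submodule.smul_mem _ c (ha x hx)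

theorem kill_of_mem_killI {i : ℤ} {a : A} (h : a ∈ killI T E i) : Kill T E i a := h

variable (E) in
/-- the differential of the fibre of the multiplication by `a` -/
noncomputable def fibD (a : A) (l : ℤ) : (E.X (l + 1) × E.X l) →ₗ[A] (E.X (l + 1 + 1) × E.X (l + 1)) :=
  LinearMap.prod ((E.d (l + 1) (l + 1 + 1)).hom ∘ₗ LinearMap.fst A _ _)
    (a • LinearMap.fst A _ _ - (E.d l (l + 1)).hom ∘ₗ LinearMap.snd A _ _)

theorem fibD_apply (a : A) (l : ℤ) (x : E.X (l + 1)) (y : E.X l) :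
    fibD E a l (x, y) = ((E.d (l + 1) (l + 1 + 1)).hom x, a • x - (E.d l (l + 1)).hom y) := rfl

variable (E) in
/-- the shifted fibre of the multiplication by `a` -/
noncomputable def fib (a : A) : DRing.Cx A :=
  CochainComplex.of (fun l => ModuleCat.of A (E.X (l + 1) × E.X l)) (fun l => ModuleCat.ofHom (fibD E a l))
    fun l => ModuleCat.hom_ext (LinearMap.ext fun ⟨x, y⟩ => by
      show fibD E a (l + 1) (fibD E a l (x, y)) = 0
      rw [fibD_apply, fibD_apply, map_sub, map_smul, d_d, d_d, sub_zero, sub_self]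
      rfl)

theorem fib_d (a : A) (l : ℤ) (x : E.X (l + 1)) (y : E.X l) :
    ((fib E a).d l (l + 1)).hom ((x, y) : E.X (l + 1) × E.X l) =
      ((E.d (l + 1) (l + 1 + 1)).hom x, a • x - (E.d l (l + 1)).hom y) := by
  show (CochainComplex.of.d (fun l => ModuleCat.of A (E.X (l + 1) × E.X l))
    (fun l => ModuleCat.ofHom (fibD E a l)) l (l + 1)).hom ((x, y) : E.X (l + 1) × E.X l) = _
  rw [CochainComplex.of_d]
  rfl

theorem mem_cyc_fib {a : A} {l : ℤ} {x : E.X (l + 1)} {y : E.X l} :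
    ((x, y) : E.X (l + 1) × E.X l) ∈ cyc T (fib E a) l ↔
      x ∈ cyc T E (l + 1) ∧ y ∈ Tor T (E.X l) ∧ (E.d l (l + 1)).hom y = a • x := by
  constructor
  · rintro ⟨h1, h2⟩
    have h2' : ((fib E a).d l (l + 1)).hom ((x, y) : E.X (l + 1) × E.X l) = 0 := h2
    rw [fib_d] at h2'
    exact ⟨⟨map_mem (LinearMap.fst A (E.X (l + 1)) (E.X l)) h1, congrArg Prod.fst h2'⟩,
      map_mem (LinearMap.snd A (E.X (l + 1)) (E.X l)) h1, (sub_eq_zero.1 (congrArg Prod.snd h2')).symm⟩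
  · rintro ⟨hx, hy, hd⟩
    refine ⟨prod_mem_tor hx.1 hy, ?_⟩
    show ((fib E a).d l (l + 1)).hom ((x, y) : E.X (l + 1) × E.X l) = 0
    rw [fib_d, hd, sub_self, hx.2]
    rfl

theorem mem_bdy_fib {a : A} {p : ℤ} {x : E.X (p + 1 + 1)} {y : E.X (p + 1)} :
    ((x, y) : E.X (p + 1 + 1) × E.X (p + 1)) ∈ bdy T (fib E a) (p + 1) ↔
      ∃ u ∈ Tor T (E.X (p + 1)), ∃ v ∈ Tor T (E.X p),
        (E.d (p + 1) (p + 1 + 1)).hom u = x ∧ a • u - (E.d p (p + 1)).hom v = y := by
  refine (mem_bdy' (T := T) (E := fib E a) (p := p) (i := p + 1) rfl).trans ⟨?_, ?_⟩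
  · rintro ⟨⟨u, v⟩, hw, hd⟩
    rw [fib_d] at hd
    exact ⟨u, map_mem (LinearMap.fst A (E.X (p + 1)) (E.X p)) hw,
      v, map_mem (LinearMap.snd A (E.X (p + 1)) (E.X p)) hw, congrArg Prod.fst hd, congrArg Prod.snd hd⟩
  · rintro ⟨u, hu, v, hv, rfl, rfl⟩
    exact ⟨(u, v), prod_mem_tor hu hv, fib_d a p u v⟩

theorem kill_fib_self (a : A) (l : ℤ) : Kill T (fib E a) l a := by
  obtain ⟨p, rfl⟩ : ∃ p, l = p + 1 := ⟨l - 1, by ring⟩
  rintro ⟨x, y⟩ hxy
  obtain ⟨-, hy, hd⟩ := mem_cyc_fib.1 hxy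
  refine (mem_bdy_fib (x := a • x) (y := a • y)).2 ⟨y, hy, 0, zero_mem _, hd, ?_⟩
  rw [map_zero, sub_zero]

theorem kill_fib {a b b' : A} {l : ℤ} (hb : Kill T E (l + 1) b) (hb' : Kill T E l b') :
    Kill T (fib E a) l (b' * b) := by
  obtain ⟨p, rfl⟩ : ∃ p, l = p + 1 := ⟨l - 1, by ring⟩
  rintro ⟨x, y⟩ hxy
  obtain ⟨hx, hy, hd⟩ := mem_cyc_fib.1 hxy
  obtain ⟨u, hu, hdu⟩ := (mem_bdy' rfl).1 (hb x hx)
  have hz : b • y - a • u ∈ cyc T E (p + 1) := by
    refine ⟨Submodule.sub_mem _ (Submodule.smul_mem _ b hy) (Submodule.smul_mem _ a hu), ?_⟩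
    show (E.d (p + 1) (p + 1 + 1)).hom (b • y - a • u) = 0
    rw [map_sub, map_smul, map_smul, hd, hdu, smul_comm, sub_self]
  obtain ⟨v, hv, hdv⟩ := (mem_bdy' rfl).1 (hb' _ hz)
  refine (mem_bdy_fib (x := (b' * b) • x) (y := (b' * b) • y)).2
    ⟨b' • u, Submodule.smul_mem _ b' hu, -v, Submodule.neg_mem _ hv, ?_, ?_⟩
  · rw [map_smul, hdu, mul_smul]
  · rw [map_neg, hdv, sub_neg_eq_add, mul_smul, smul_sub, smul_comm a b' u]
    abel

theorem injective_fib (hinj : ∀ i, Module.Injective A (E.X i)) (a : A) (i : ℤ) :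
    Module.Injective A ((fib E a).X i) :=
  DR39.isModClass_IN.prod (E.X (i + 1)) (E.X i) (hinj _) (hinj _)

theorem subsingleton_fib {c : ℤ} (hc : ∀ i, i < c → Subsingleton (E.X i)) (a : A) (i : ℤ)
    (hi : i < c - 1) : Subsingleton ((fib E a).X i) :=
  haveI := hc (i + 1) (by omega)
  haveI := hc i (by omega)
  (inferInstance : Subsingleton (E.X (i + 1) × E.X i))

theorem finite_fib [IsNoetherianRing A] (a : A) (l : ℤ) [Module.Finite A (Hm T E l)]
    [Module.Finite A (Hm T E (l + 1))] : Module.Finite A (Hm T (fib E a) l) := by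
  obtain ⟨p, rfl⟩ : ∃ p, l = p + 1 := ⟨l - 1, by ring⟩
  let i0 : cyc T E (p + 1) →ₗ[A] cyc T (fib E a) (p + 1) :=
    LinearMap.codRestrict _ ((LinearMap.inr A (E.X (p + 1 + 1)) (E.X (p + 1))).comp (Submodule.subtype _))
      fun z => (mem_cyc_fib (x := (0 : E.X (p + 1 + 1))) (y := z.1)).2
        ⟨zero_mem _, z.2.1, by rw [smul_zero]; exact z.2.2⟩
  let f : Hm T E (p + 1) →ₗ[A] Hm T (fib E a) (p + 1) :=
    Submodule.mapQ _ _ i0 fun ⟨z, hz⟩ hz' => by
      obtain ⟨w, hw, hdw⟩ := (mem_bdy' rfl).1 (show z ∈ bdy T E (p + 1) from hz')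
      exact (mem_bdy_fib (x := (0 : E.X (p + 1 + 1))) (y := z)).2
        ⟨0, zero_mem _, -w, Submodule.neg_mem _ hw, map_zero _,
          by rw [smul_zero, map_neg, sub_neg_eq_add, zero_add, hdw]⟩
  let p0 : cyc T (fib E a) (p + 1) →ₗ[A] cyc T E (p + 1 + 1) :=
    LinearMap.codRestrict _ ((LinearMap.fst A (E.X (p + 1 + 1)) (E.X (p + 1))).comp (Submodule.subtype _))
      fun z => by
        obtain ⟨⟨x, y⟩, hz⟩ := z
        exact (mem_cyc_fib.1 hz).1
  let g : Hm T (fib E a) (p + 1) →ₗ[A] Hm T E (p + 1 + 1) :=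
    Submodule.mapQ _ _ p0 fun ⟨⟨x, y⟩, hz⟩ hz' => by
      obtain ⟨u, hu, v, hv, hx, -⟩ := mem_bdy_fib.1 (show ((x, y) : E.X (p + 1 + 1) × E.X (p + 1)) ∈
        bdy T (fib E a) (p + 1) from hz')
      exact (mem_bdy' rfl).2 ⟨u, hu, hx⟩
  refine DR39.finite_of_exact f g fun z hz => ?_
  obtain ⟨⟨⟨x, y⟩, hxy⟩, rfl⟩ := Submodule.mkQ_surjective _ z
  obtain ⟨hx, hy, hd⟩ := mem_cyc_fib.1 hxy
  have hb : x ∈ bdy T E (p + 1 + 1) := by
    rw [LinearMap.mem_ker, Submodule.mkQ_apply, Submodule.mapQ_apply, Submodule.Quotient.mk_eq_zero] at hz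
    exact hz
  obtain ⟨u, hu, hdu⟩ := (mem_bdy' rfl).1 hb
  have hy' : y - a • u ∈ cyc T E (p + 1) := by
    refine ⟨Submodule.sub_mem _ hy (Submodule.smul_mem _ a hu), ?_⟩
    show (E.d (p + 1) (p + 1 + 1)).hom (y - a • u) = 0
    rw [map_sub, map_smul, hd, hdu, sub_self]
  refine ⟨Submodule.mkQ _ ⟨_, hy'⟩, ?_⟩
  rw [Submodule.mkQ_apply, Submodule.mapQ_apply, Submodule.mkQ_apply, Submodule.Quotient.eq]
  refine (mem_bdy_fib (x := (0 : E.X (p + 1 + 1)) - x) (y := y - a • u - y)).2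
    ⟨-u, Submodule.neg_mem _ hu, 0, zero_mem _, by rw [map_neg, hdu, zero_sub], ?_⟩
  rw [map_zero, sub_zero, smul_neg]
  abel

theorem finite_of_fib [IsNoetherianRing A] {a : A} {l : ℤ} (ha : Kill T E (l + 1) a)
    [Module.Finite A (Hm T (fib E a) l)] : Module.Finite A (Hm T E (l + 1)) := by
  obtain ⟨p, rfl⟩ : ∃ p, l = p + 1 := ⟨l - 1, by ring⟩
  let p0 : cyc T (fib E a) (p + 1) →ₗ[A] cyc T E (p + 1 + 1) :=
    LinearMap.codRestrict _ ((LinearMap.fst A (E.X (p + 1 + 1)) (E.X (p + 1))).comp (Submodule.subtype _))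
      fun z => by
        obtain ⟨⟨x, y⟩, hz⟩ := z
        exact (mem_cyc_fib.1 hz).1
  let g : Hm T (fib E a) (p + 1) →ₗ[A] Hm T E (p + 1 + 1) :=
    Submodule.mapQ _ _ p0 fun ⟨⟨x, y⟩, hz⟩ hz' => by
      obtain ⟨u, hu, v, hv, hx, -⟩ := mem_bdy_fib.1 (show ((x, y) : E.X (p + 1 + 1) × E.X (p + 1)) ∈
        bdy T (fib E a) (p + 1) from hz')
      exact (mem_bdy' rfl).2 ⟨u, hu, hx⟩
  refine Module.Finite.of_surjective g fun z => ?_
  obtain ⟨⟨x, hx⟩, rfl⟩ := Submodule.mkQ_surjective _ z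
  obtain ⟨y, hy, hd⟩ := (mem_bdy' rfl).1 (ha x hx)
  exact ⟨Submodule.mkQ _ ⟨_, mem_cyc_fib.2 ⟨hx, hy, hd⟩⟩, rfl⟩

section Univ

variable [IsNoetherianRing A]

theorem univ_injective (hinj : ∀ i, Module.Injective A (E.X i)) {c : ℤ}
    (hc : ∀ i, i < c → Subsingleton (E.X i)) (K : Ideal A) (hK : PrimeSpectrum.zeroLocus (K : Set A) ⊆ T)
    (hk : ∀ a ∈ K, ∀ l, Kill Set.univ E l a) (i : ℤ) {x : E.X i} (hx : x ∈ cyc T E i)
    (hxb : x ∈ bdy Set.univ E i) : x ∈ bdy T E i := by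
  classical
  obtain ⟨Jx, hJx, hJxx⟩ := hx.1
  obtain ⟨y, -, hy⟩ := hxb
  obtain ⟨t, ht⟩ := IsNoetherian.noetherian (K * Jx)
  have htK : ∀ u ∈ t, u ∈ K * Jx := fun u hu => ht ▸ Submodule.subset_span hu
  suffices key : ∀ s : Finset A, s ⊆ t → ∃ y' ∈ DRing.torsionSub (Ideal.span (s : Set A)) (E.X (i - 1)),
      (E.d (i - 1) i).hom y' = x by
    obtain ⟨y', hy', hdy'⟩ := key t subset_rfl
    rw [show Ideal.span (t : Set A) = K * Jx from ht] at hy'
    refine ⟨y', torsionSub_le_tor ?_ hy', hdy'⟩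
    rw [PrimeSpectrum.zeroLocus_mul]
    exact Set.union_subset hK hJx
  intro s
  induction s using Finset.induction with
  | empty =>
    intro _
    refine ⟨y, ⟨1, fun a ha => ?_⟩, hy⟩
    rw [Finset.coe_empty, Ideal.span_empty, pow_one, Submodule.mem_bot] at ha
    rw [ha, zero_smul]
  | insert v s _ ih =>
    intro hs
    obtain ⟨y', hy', hdy'⟩ := ih ((Finset.subset_insert v s).trans hs)
    have hv := htK v (hs (Finset.mem_insert_self v s))
    obtain ⟨m, hm⟩ := kill_of_kill hinj hc (s := i - 1) (fun l _ => hk v (Ideal.mul_le_left hv) l)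
      (Set.subset_univ (PrimeSpectrum.zeroLocus ((Ideal.span (s : Set A) : Ideal A) : Set A))) le_rfl
    have hvy : v • y' ∈ cyc (PrimeSpectrum.zeroLocus ((Ideal.span (s : Set A) : Ideal A) : Set A)) E (i - 1) := by
      refine ⟨torsionSub_le_tor subset_rfl (Submodule.smul_mem _ v hy'), ?_⟩
      show (E.d (i - 1) (i - 1 + 1)).hom (v • y') = 0
      have hgen : ∀ j, j = i → (E.d (i - 1) j).hom (v • y') = 0 := by
        intro j hj
        subst hj
        rw [map_smul, hdy', hJxx v (Ideal.mul_le_right hv)]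
      exact hgen _ (by ring)
    obtain ⟨w, hw, hdw⟩ := hm _ hvy
    rw [tor_zeroLocus] at hw
    obtain ⟨w', hw', hlift⟩ := exists_sup_lift hinj _ v (i - 1) y' hy' (M := m + 1) w hw
      (by rw [hdw, smul_smul, ← pow_succ])
    refine ⟨y' - (E.d (i - 1 - 1) (i - 1)).hom w', ?_, by rw [map_sub, d_d, sub_zero, hdy']⟩
    rw [Finset.coe_insert, Ideal.span_insert]
    exact hlift

theorem finite_of_univ (hinj : ∀ i, Module.Injective A (E.X i)) {c : ℤ}
    (hc : ∀ i, i < c → Subsingleton (E.X i)) (K : Ideal A) (hK : PrimeSpectrum.zeroLocus (K : Set A) ⊆ T)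
    (hk : ∀ a ∈ K, ∀ l, Kill Set.univ E l a) (i : ℤ) [Module.Finite A (Hm Set.univ E i)] :
    Module.Finite A (Hm T E i) := by
  let g : Hm T E i →ₗ[A] Hm Set.univ E i :=
    Submodule.mapQ _ _ (Submodule.inclusion fun z hz => ⟨tor_univ.ge trivial, hz.2⟩)
      fun z hz => by
        obtain ⟨w, -, hw⟩ := (show z.1 ∈ bdy T E i from hz)
        exact ⟨w, tor_univ.ge trivial, hw⟩
  haveI : IsNoetherian A (Hm Set.univ E i) := isNoetherian_of_isNoetherianRing_of_finite A _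
  refine Module.Finite.of_injective g ((injective_iff_map_eq_zero g).2 fun z hz => ?_)
  obtain ⟨⟨x, hx⟩, rfl⟩ := Submodule.mkQ_surjective _ z
  rw [Submodule.mkQ_apply, Submodule.mapQ_apply, Submodule.Quotient.mk_eq_zero] at hz
  rw [Submodule.mkQ_apply, Submodule.Quotient.mk_eq_zero]
  exact univ_injective hinj hc K hK hk i hx hz

/-- annihilation implies finiteness -/
theorem finite_of_kill (hinj : ∀ i, Module.Injective A (E.X i)) {c : ℤ}
    (hc : ∀ i, i < c → Subsingleton (E.X i)) (hfin : ∀ i, Module.Finite A (Hm Set.univ E i))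
    (I : Ideal A) (hI : PrimeSpectrum.zeroLocus (I : Set A) ⊆ T) (n : ℤ)
    (hk : ∀ b ∈ I, ∀ i, i ≤ n → Kill T E i b) (i : ℤ) (hi : i ≤ n) : Module.Finite A (Hm T E i) := by
  classical
  obtain ⟨t, ht⟩ := IsNoetherian.noetherian I
  have key : ∀ (r : ℕ) (L : List A), L.length = r → ∀ (E : DRing.Cx A) (c n : ℤ) (K : Ideal A),
      (∀ i, Module.Injective A (E.X i)) → (∀ i, i < c → Subsingleton (E.X i)) →
      (∀ i, Module.Finite A (Hm Set.univ E i)) →
      (∀ q : PrimeSpectrum A, K ≤ q.asIdeal → (∀ b ∈ L, b ∈ q.asIdeal) → q ∈ T) →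
      (∀ a ∈ K, ∀ l, Kill Set.univ E l a) → (∀ b ∈ L, ∀ i, i ≤ n → Kill T E i b) →
      ∀ i, i ≤ n → Module.Finite A (Hm T E i) := by
    intro r
    induction r with
    | zero =>
      intro L hL E c n K hinj hc hfin hT hK _ i _
      obtain rfl := List.length_eq_zero_iff.1 hL
      haveI := hfin i
      exact finite_of_univ hinj hc K (fun q hq => hT q hq (by simp)) hK i
    | succ r ih =>
      intro L hL E c n K hinj hc hfin hT hK hkill i hi
      obtain ⟨a, L, rfl⟩ := List.exists_cons_of_length_eq_add_one hL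
      obtain ⟨l, rfl⟩ : ∃ l, i = l + 1 := ⟨i - 1, by ring⟩
      haveI : ∀ j, Module.Finite A (Hm Set.univ (fib E a) j) := fun j =>
        haveI := hfin j
        haveI := hfin (j + 1)
        finite_fib a j
      haveI : Module.Finite A (Hm T (fib E a) l) := by
        refine ih (L.map fun b => b * b) (by simpa using hL) (fib E a) (c - 1) (n - 1)
          (Ideal.span {a} ⊔ K * K) (injective_fib hinj a) (subsingleton_fib hc a) inferInstance
          (fun q hq hLq => ?_) (fun x hx j => ?_) (fun b hb j hj => ?_) l (by omega)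
        · refine hT q ?_ fun b hb => ?_
          · intro z hz
            exact (q.2.mem_or_mem (hq (Ideal.mem_sup_right (Ideal.mul_mem_mul hz hz)))).elim id id
          · rcases List.mem_cons.1 hb with rfl | hb
            · exact hq (Ideal.mem_sup_left (Ideal.mem_span_singleton_self b))
            · exact (q.2.mem_or_mem (hLq _ (List.mem_map_of_mem hb))).elim id id
        · refine kill_of_mem_killI ((sup_le ?_ ?_ : Ideal.span {a} ⊔ K * K ≤ killI Set.univ (fib E a) j) hx)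
          · exact (Ideal.span_singleton_le_iff_mem _).2 (kill_fib_self a j)
          · exact Ideal.mul_le.2 fun b' hb' b hb => kill_fib (hK b hb (j + 1)) (hK b' hb' j)
        · obtain ⟨b', hb', rfl⟩ := List.mem_map.1 hb
          exact kill_fib (hkill b' (List.mem_cons_of_mem _ hb') (j + 1) (by omega))
            (hkill b' (List.mem_cons_of_mem _ hb') j (by omega))
      exact finite_of_fib (hkill a List.mem_cons_self (l + 1) hi)
  refine key _ t.toList rfl E c n ⊥ hinj hc hfin (fun q _ hq => hI ?_) (fun a ha l => ?_)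
    (fun b hb => hk b (ht ▸ Submodule.subset_span (Finset.mem_toList.1 hb))) i hi
  · show I ≤ q.asIdeal
    rw [← ht, Submodule.span_le]
    exact fun b hb => hq b (Finset.mem_toList.2 hb)
  · rw [(Submodule.mem_bot A).1 ha]
    exact fun x _ => by rw [zero_smul]; exact zero_mem _

omit [IsNoetherianRing A] in
theorem univ_equiv (i : ℤ) : Nonempty (E.homology i ≃ₗ[A] Hm Set.univ E i) := by
  let φ : Zd E i →ₗ[A] cyc Set.univ E i :=
    LinearMap.codRestrict _ (Submodule.subtype _) fun z => ⟨tor_univ.ge trivial, z.2⟩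
  let ψ : Zd E i →ₗ[A] Hm Set.univ E i := (Submodule.mkQ _).comp φ
  have hψ : Function.Surjective ψ := fun y => by
    obtain ⟨⟨x, -, hx⟩, rfl⟩ := Submodule.mkQ_surjective _ y
    exact ⟨⟨x, hx⟩, rfl⟩
  have hker : LinearMap.ker (hcls E i) = LinearMap.ker ψ := by
    ext z
    rw [LinearMap.mem_ker, LinearMap.mem_ker, hcls_eq_zero_iff, LinearMap.comp_apply,
      Submodule.mkQ_apply, Submodule.Quotient.mk_eq_zero]
    exact ⟨fun ⟨w, hw⟩ => ⟨w, tor_univ.ge trivial, hw⟩, fun ⟨w, _, hw⟩ => ⟨w, hw⟩⟩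
  exact ⟨((LinearMap.quotKerEquivOfSurjective _ (hcls_surjective E i)).symm.trans
    (Submodule.quotEquivOfEq _ _ hker)).trans (LinearMap.quotKerEquivOfSurjective _ hψ)⟩

end Univ

end Groth.Agent.LC15.TorCx
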