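import Groth.Agent.LC15.TorAR
import Groth.Agent.LC15.PolyPD
import Groth.Agent.TorMod7.PD

/-!
Vanishing of `Tor_i(M, A/I^n) → Tor_i(M, A/I^{n-c})` above the number of generators.
-/

set_option autoImplicit false

noncomputable section

universe u

open CategoryTheory CategoryTheory.Limits TensorProduct MvPolynomial

namespace Groth.Agent.LC15.TP

variable {A : Type u} [CommRing A] (s : Finset A)

/-- the polynomial ring on the generators -/
abbrev Pol : Type u := MvPolynomial (↥s) A

instance polAlgebra : Algebra (Pol s) A :=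
  (MvPolynomial.aeval fun i : ↥s => (i : A)).toRingHom.toAlgebra

/-- the ideal of variables -/
abbrev JJ : Ideal (Pol s) := idealOfVars (↥s) A

theorem algebraMap_pol (r : Pol s) :
    algebraMap (Pol s) A r = MvPolynomial.aeval (fun i : ↥s => (i : A)) r := rfl

theorem map_JJ : (JJ s).map (algebraMap (Pol s) A) = Ideal.span (s : Set A) := by
  rw [Ideal.map_span, ← Set.range_comp]
  congr 1
  ext a
  simp [algebraMap_pol]

instance finite_pol : Module.Finite (Pol s) A :=
  Module.Finite.of_surjective (Algebra.linearMap (Pol s) A)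
    fun a => ⟨C a, by simp [algebraMap_pol]⟩

theorem exists_short_res (a : ℕ) :
    ∃ R : ProjectiveResolution (ModuleCat.of (Pol s) (Pol s ⧸ JJ s ^ a)),
      ∀ p, s.card < p → IsZero (R.complex.X p) := by
  have h := PolyPD.hasPD_quot_pow (A := A) (σ := ↥s) a
  rw [Fintype.card_coe] at h
  exact TorMod7.exists_resolution_of_hasProjectiveDimensionLT _ _

/-- short resolution of `P/J^a` -/
def LP (a : ℕ) : ProjectiveResolution (ModuleCat.of (Pol s) (Pol s ⧸ JJ s ^ a)) :=
  (exists_short_res s a).choose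

theorem subsingleton_LP (a p : ℕ) (hp : s.card < p) :
    Subsingleton ((LP s a).complex.X p : Type u) :=
  ModuleCat.subsingleton_of_isZero ((exists_short_res s a).choose_spec p hp)

instance projective_LP (a p : ℕ) : Module.Projective (Pol s) ((LP s a).complex.X p : Type u) :=
  (IsProjective.iff_projective (R := Pol s) (P := (LP s a).complex.X p)).2 ((LP s a).projective p)

theorem projective_PR (I : Ideal A) (n p : ℕ) :
    Module.Projective A ((PR I n).complex.X p : Type u) :=
  (IsProjective.iff_projective (R := A) (P := (PR I n).complex.X p)).2 ((PR I n).projective p)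

/-- the ideal generated by `s` -/
abbrev II : Ideal A := Ideal.span (s : Set A)

/-- `P/J^a → A/I^a` -/
def ww (a : ℕ) : (Pol s ⧸ JJ s ^ a) →ₗ[Pol s] (A ⧸ II s ^ a) :=
  Submodule.liftQ (JJ s ^ a)
    (((II s ^ a).mkQ.restrictScalars (Pol s)) ∘ₗ Algebra.linearMap (Pol s) A) fun r hr => by
    refine (Submodule.Quotient.mk_eq_zero (II s ^ a)).2 ?_
    show algebraMap (Pol s) A r ∈ II s ^ a
    have := Ideal.mem_map_of_mem (algebraMap (Pol s) A) hr
    rwa [Ideal.map_pow, map_JJ] at this

theorem ww_one (a : ℕ) : ww s a (Submodule.Quotient.mk 1) = (II s ^ a).mkQ 1 := by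
  show (II s ^ a).mkQ (algebraMap (Pol s) A 1) = _
  rw [map_one]

/-- `A ⊗ P/J^a → A/I^a` -/
def θθ (a : ℕ) : A ⊗[Pol s] (Pol s ⧸ JJ s ^ a) →ₗ[A] (A ⧸ II s ^ a) :=
  (ww s a).liftBaseChange A

theorem θθ_injective (a : ℕ) : Function.Injective (θθ s a) := by
  refine (injective_iff_map_eq_zero _).2 fun z hz => ?_
  obtain ⟨x, rfl⟩ := exists_tmul_one (JJ s ^ a) A z
  have h1 : x • ww s a (Submodule.Quotient.mk 1) = 0 := hz
  have hx : x ∈ II s ^ a := by
    rw [ww_one, ← map_smul,
      smul_eq_mul, mul_one] at h1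
    exact (Submodule.Quotient.mk_eq_zero _).1 h1
  rw [← tensorQuotEquivQuotSMul_symm_mk, LinearEquiv.map_eq_zero_iff,
    Submodule.Quotient.mk_eq_zero, Ideal.smul_top_eq_map, Submodule.restrictScalars_mem,
    Ideal.map_pow, map_JJ]
  exact hx

theorem θθ_surjective (a : ℕ) : Function.Surjective (θθ s a) := fun y => by
  obtain ⟨x, rfl⟩ := Submodule.Quotient.mk_surjective _ y
  refine ⟨x ⊗ₜ Submodule.Quotient.mk 1, ?_⟩
  show x • ww s a (Submodule.Quotient.mk 1) = _
  rw [ww_one, ← map_smul,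
    smul_eq_mul, mul_one]
  rfl

/-- the augmentation of `A ⊗ L_a` -/
def eb (a : ℕ) : A ⊗[Pol s] (LP s a).complex.X 0 →ₗ[A] (A ⧸ II s ^ a) :=
  θθ s a ∘ₗ (resOfPR (LP s a)).ε.baseChange A

/-- the differential of `A ⊗ L_a` -/
abbrev db (a p : ℕ) :
    A ⊗[Pol s] (LP s a).complex.X (p + 1) →ₗ[A] A ⊗[Pol s] (LP s a).complex.X p :=
  (dl (LP s a).complex p).baseChange A

theorem db_db (a p : ℕ) (z : A ⊗[Pol s] (LP s a).complex.X (p + 2)) :
    db s a p (db s a (p + 1) z) = 0 := by
  show (dl (LP s a).complex p).lTensor A ((dl (LP s a).complex (p + 1)).lTensor A z) = 0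
  rw [← LinearMap.lTensor_comp_apply,
    show dl (LP s a).complex p ∘ₗ dl (LP s a).complex (p + 1) = 0 from LinearMap.ext (dl_dl _ p),
    LinearMap.lTensor_zero, LinearMap.zero_apply]

theorem eb_surjective (a : ℕ) : Function.Surjective (eb s a) :=
  (θθ_surjective s a).comp (LinearMap.lTensor_surjective A (resOfPR (LP s a)).surj)

theorem eb_exact (a : ℕ) : Function.Exact (db s a 0) (eb s a) := by
  have h := lTensor_exact A (resOfPR (LP s a)).exact₀ (resOfPR (LP s a)).surj
  intro y
  rw [show eb s a y = θθ s a ((resOfPR (LP s a)).ε.lTensor A y) from rfl,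
    map_eq_zero_iff _ (θθ_injective s a)]
  exact h y

theorem eb_natural (a b : ℕ) (h : b ≤ a) (g : (LP s a).complex ⟶ (LP s b).complex)
    (hg : IsLift (JJ s) h (resOfPR (LP s a)) (resOfPR (LP s b)) g)
    (z : A ⊗[Pol s] (LP s a).complex.X 0) :
    eb s b ((g.f 0).hom.baseChange A z) = qmap (II s) a b h (eb s a z) := by
  induction z with
  | zero => simp
  | add x y hx hy => simp only [map_add, hx, hy]
  | tmul r m =>
    show r • ww s b ((resOfPR (LP s b)).ε ((g.f 0).hom m)) =
      qmap (II s) a b h (r • ww s a ((resOfPR (LP s a)).ε m))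
    rw [map_smul, show (resOfPR (LP s b)).ε ((g.f 0).hom m) =
      qmap (JJ s) a b h ((resOfPR (LP s a)).ε m) from LinearMap.congr_fun hg m]
    obtain ⟨q, hq⟩ := Submodule.Quotient.mk_surjective _ ((resOfPR (LP s a)).ε m)
    rw [← hq]
    rfl

variable [IsNoetherianRing A]

theorem exists_const : ∃ c : ℕ, ∀ a b (h : b + c ≤ a), ∃ g : (LP s a).complex ⟶ (LP s b).complex,
    IsLift (JJ s) (le_trans (Nat.le_add_right b c) h) (resOfPR (LP s a)) (resOfPR (LP s b)) g ∧
      ∀ p ≤ s.card, Kills A g p := by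
  choose c hc using fun p => exists_kills (JJ s) p A
  refine ⟨(Finset.range (s.card + 1)).sup c, fun a b h => ?_⟩
  refine ⟨ProjectiveResolution.lift (ModuleCat.ofHom (qmap (JJ s) a b
    (le_trans (Nat.le_add_right b _) h))) _ _,
    congrArg ModuleCat.Hom.hom (ProjectiveResolution.lift_commutes_zero _ (LP s a) (LP s b)),
    fun p hp => ?_⟩
  have hcp : c p ≤ (Finset.range (s.card + 1)).sup c := Finset.le_sup (Finset.mem_range.2 (by omega))
  exact hc p a b (by omega) (resOfPR (LP s a)) (resOfPR (LP s b)) _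
    (congrArg ModuleCat.Hom.hom (ProjectiveResolution.lift_commutes_zero _ (LP s a) (LP s b)))

variable {s} in
theorem exists_map_to_short {c : ℕ}
    (hc : ∀ a b (h : b + c ≤ a), ∃ g : (LP s a).complex ⟶ (LP s b).complex,
      IsLift (JJ s) (le_trans (Nat.le_add_right b c) h) (resOfPR (LP s a)) (resOfPR (LP s b)) g ∧
        ∀ p ≤ s.card, Kills A g p) :
    ∀ (k : ℕ), k ≤ s.card + 1 → ∀ (e n : ℕ), n = e + k * c → ∀ (hn : e ≤ n),
    ∃ φ : ∀ p, (PR (II s) n).complex.X p →ₗ[A] A ⊗[Pol s] (LP s e).complex.X p,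
      (∀ x, eb s e (φ 0 x) = qmap (II s) n e hn ((resOfPR (PR (II s) n)).ε x)) ∧
      ∀ p < k, ∀ x, db s e p (φ (p + 1) x) = φ p (dl (PR (II s) n).complex p x) := by
  intro k
  induction k with
  | zero =>
    intro _ e n _ hn
    haveI := projective_PR (II s) n 0
    let ε₀ : (PR (II s) n).complex.X 0 →ₗ[A] (A ⧸ II s ^ n) := (resOfPR (PR (II s) n)).ε
    obtain ⟨φ₀, h₀⟩ := Module.projective_lifting_property (eb s e)
      (qmap (II s) n e hn ∘ₗ ε₀) (eb_surjective s e)
    refine ⟨Function.update (fun p => 0) 0 φ₀, fun x => ?_, fun p hp => absurd hp (by omega)⟩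
    rw [Function.update_self]
    exact LinearMap.congr_fun h₀ x
  | succ k ih =>
    intro hk e n hne hn
    obtain ⟨φ, hε, hd⟩ := ih (by omega) (e + c) n (by rw [hne, Nat.succ_mul]; omega)
      (by rw [hne, Nat.succ_mul]; omega)
    obtain ⟨g, hg, hkill⟩ := hc (e + c) e le_rfl
    let ψ : ∀ p, (PR (II s) n).complex.X p →ₗ[A] A ⊗[Pol s] (LP s e).complex.X p :=
      fun p => (g.f p).hom.baseChange A ∘ₗ φ p
    have hψε : ∀ x, eb s e (ψ 0 x) = qmap (II s) n e hn ((resOfPR (PR (II s) n)).ε x) := fun x => by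
      show eb s e ((g.f 0).hom.baseChange A (φ 0 x)) = _
      rw [eb_natural s (e + c) e (Nat.le_add_right e c) g hg, hε]
      obtain ⟨q, hq⟩ := Submodule.Quotient.mk_surjective _ ((resOfPR (PR (II s) n)).ε x)
      rw [← hq]
      rfl
    have hψd : ∀ p < k, ∀ x, db s e p (ψ (p + 1) x) = ψ p (dl (PR (II s) n).complex p x) :=
      fun p hp x => by
        refine (lT_comm g A p (φ (p + 1) x)).trans ?_
        exact congrArg ((g.f p).hom.lTensor A) (hd p hp x)
    let α := ψ k ∘ₗ dl (PR (II s) n).complex k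
    have hα : ∀ x, α x ∈ LinearMap.range (db s e k) := by
      intro x
      rcases k with _ | k'
      · refine (eb_exact s e _).1 ?_
        show eb s e (ψ 0 (dl (PR (II s) n).complex 0 x)) = 0
        rw [hψε]
        exact (congrArg _ ((resOfPR (PR (II s) n)).exact₀.apply_apply_eq_zero x)).trans (map_zero _)
      · obtain ⟨w, hw⟩ := hkill k' (by omega) (φ (k' + 1) (dl (PR (II s) n).complex (k' + 1) x)) (by
          refine (hd k' (Nat.lt_succ_self k') _).trans ?_
          rw [dl_dl, map_zero])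
        exact ⟨w, hw⟩
    haveI := projective_PR (II s) n (k + 1)
    obtain ⟨l, hl⟩ := Module.projective_lifting_property (db s e k).rangeRestrict
      (α.codRestrict (LinearMap.range (db s e k)) hα) (db s e k).surjective_rangeRestrict
    refine ⟨Function.update ψ (k + 1) l, fun x => ?_, fun p hp x => ?_⟩
    · rw [Function.update_of_ne (Nat.succ_ne_zero k).symm]
      exact hψε x
    · rcases Nat.lt_succ_iff_lt_or_eq.1 hp with hlt | rfl
      · rw [Function.update_of_ne (by omega), Function.update_of_ne (by omega)]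
        exact hψd p hlt x
      · rw [Function.update_self, Function.update_of_ne (by omega)]
        exact congrArg Subtype.val (LinearMap.congr_fun hl x)

omit [IsNoetherianRing A] in
theorem exists_map_from_short (b : ℕ) : ∀ k : ℕ,
    ∃ χ : ∀ p, A ⊗[Pol s] (LP s b).complex.X p →ₗ[A] (PR (II s) b).complex.X p,
      (∀ z, (resOfPR (PR (II s) b)).ε (χ 0 z) = eb s b z) ∧
      ∀ p < k, ∀ z, dl (PR (II s) b).complex p (χ (p + 1) z) = χ p (db s b p z) := by
  intro k
  induction k with
  | zero =>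
    obtain ⟨χ₀, h₀⟩ := Module.projective_lifting_property (resOfPR (PR (II s) b)).ε (eb s b)
      (resOfPR (PR (II s) b)).surj
    refine ⟨Function.update (fun p => 0) 0 χ₀, fun x => ?_, fun p hp => absurd hp (by omega)⟩
    rw [Function.update_self]
    exact LinearMap.congr_fun h₀ x
  | succ k ih =>
    obtain ⟨χ, hε, hd⟩ := ih
    let α := χ k ∘ₗ db s b k
    have hα : ∀ z, α z ∈ LinearMap.range (dl (PR (II s) b).complex k) := by
      intro z
      rcases k with _ | k'
      · refine ((resOfPR (PR (II s) b)).exact₀ _).1 ?_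
        exact (hε _).trans ((eb_exact s b).apply_apply_eq_zero z)
      · refine ((resOfPR (PR (II s) b)).exactS k' _).1 ?_
        exact (hd k' (Nat.lt_succ_self k') _).trans ((congrArg _ (db_db s b k' z)).trans (map_zero _))
    obtain ⟨l, hl⟩ := Module.projective_lifting_property
      (dl (PR (II s) b).complex k).rangeRestrict
      (α.codRestrict (LinearMap.range (dl (PR (II s) b).complex k)) hα)
      (dl (PR (II s) b).complex k).surjective_rangeRestrict
    refine ⟨Function.update χ (k + 1) l, fun x => ?_, fun p hp x => ?_⟩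
    · rw [Function.update_of_ne (Nat.succ_ne_zero k).symm]
      exact hε x
    · rcases Nat.lt_succ_iff_lt_or_eq.1 hp with hlt | rfl
      · rw [Function.update_of_ne (by omega), Function.update_of_ne (by omega)]
        exact hd p hlt x
      · rw [Function.update_self, Function.update_of_ne (by omega)]
        exact congrArg Subtype.val (LinearMap.congr_fun hl x)

/-- A lift of `A/I^n → A/I^b` vanishing above the number of generators. -/
theorem exists_short_lift : ∃ c : ℕ, ∀ n b, n = b + c → ∀ (hn : b ≤ n),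
    ∃ f : (PR (II s) n).complex ⟶ (PR (II s) b).complex,
      IsLift (II s) hn (resOfPR (PR (II s) n)) (resOfPR (PR (II s) b)) f ∧
      ∀ p, s.card < p → f.f p = 0 := by
  obtain ⟨c, hc⟩ := exists_const s
  refine ⟨(s.card + 1) * c, fun n b hnb hn => ?_⟩
  obtain ⟨φ, hφε, hφd⟩ := exists_map_to_short hc (s.card + 1) le_rfl b n hnb hn
  obtain ⟨χ, hχε, hχd⟩ := exists_map_from_short s b (s.card + 1)
  have hz : ∀ p, s.card < p → χ p ∘ₗ φ p = 0 := fun p hp => LinearMap.ext fun x => by
    haveI := subsingleton_LP s b p hp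
    have e : φ p x = 0 := by
      induction φ p x with
      | zero => rfl
      | tmul r m => rw [Subsingleton.elim m 0, TensorProduct.tmul_zero]
      | add u v hu hv => rw [hu, hv, add_zero]
    show χ p (φ p x) = 0
    rw [e, map_zero]
  refine ⟨{ f := fun p => ModuleCat.ofHom (χ p ∘ₗ φ p), comm' := fun i j hij => ?_ },
    LinearMap.ext fun x => ?_, fun p hp => ModuleCat.hom_ext (hz p hp)⟩
  · obtain rfl : j + 1 = i := hij
    refine ModuleCat.hom_ext (LinearMap.ext fun x => ?_)
    show dl (PR (II s) b).complex j (χ (j + 1) (φ (j + 1) x)) =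
      χ j (φ j (dl (PR (II s) n).complex j x))
    by_cases hj : j < s.card + 1
    · rw [hχd j hj, hφd j hj]
    · have h1 := LinearMap.congr_fun (hz (j + 1) (by omega)) x
      have h2 := LinearMap.congr_fun (hz j (by omega)) (dl (PR (II s) n).complex j x)
      rw [LinearMap.comp_apply] at h1 h2
      rw [h1, h2, LinearMap.zero_apply, LinearMap.zero_apply, map_zero]
  · show (resOfPR (PR (II s) b)).ε (χ 0 (φ 0 x)) = _
    rw [hχε, hφε]
    rfl

theorem tor_map_zero_of_generators : ∃ c : ℕ, ∀ (M : Type u) [AddCommGroup M] [Module A M]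
    (i n b : ℕ), s.card < i → n = b + c → ∀ (hn : b ≤ n),
      (((Tor (ModuleCat.{u} A) i).obj (ModuleCat.of A M)).map
        (ModuleCat.ofHom (qmap (II s) n b hn))) = 0 := by
  obtain ⟨c, hc⟩ := exists_short_lift s
  refine ⟨c, fun M _ _ i n b hi hnb hn => ?_⟩
  obtain ⟨f, hf, hf0⟩ := hc n b hnb hn
  obtain ⟨p, rfl⟩ : ∃ p, i = p + 1 := ⟨i - 1, by omega⟩
  refine tor_map_eq_zero M _ (PR (II s) n) (PR (II s) b) f (ModuleCat.hom_ext hf) p
    fun z _ => ⟨0, ?_⟩
  rw [map_zero, hf0 (p + 1) hi]
  exact (LinearMap.congr_fun (LinearMap.lTensor_zero M) z).symm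

omit [IsNoetherianRing A] in
theorem homologyMap_smul_id (K : CC A) (a : A) (i : ℕ) :
    HomologicalComplex.homologyMap (a • 𝟙 K) i = a • 𝟙 (K.homology i) := by
  have h : HomologicalComplex.cyclesMap (a • 𝟙 K) i = a • 𝟙 (K.cycles i) := by
    rw [← cancel_mono (K.iCycles i), HomologicalComplex.cyclesMap_i]
    simp
  rw [← cancel_epi (K.homologyπ i), HomologicalComplex.homologyπ_naturality, h]
  simp

omit [IsNoetherianRing A] in
theorem tor_map_smul_id (M N : ModuleCat.{u} A) (a : A) (i : ℕ) :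
    ((Tor (ModuleCat.{u} A) i).obj M).map (a • 𝟙 N) =
      a • 𝟙 (((Tor (ModuleCat.{u} A) i).obj M).obj N) := by
  let T := (MonoidalCategory.tensoringLeft (ModuleCat.{u} A)).obj M
  let P := projectiveResolution N
  have hw : (a • 𝟙 P.complex) ≫ P.π = P.π ≫ (ChainComplex.single₀ _).map (a • 𝟙 N) := by
    refine HomologicalComplex.to_single_hom_ext ?_
    simp
    rfl
  have h1 : (T.mapHomologicalComplex (ComplexShape.down ℕ) ⋙
      HomologicalComplex.homologyFunctor _ _ i).map (a • 𝟙 P.complex) = a • 𝟙 _ := by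
    rw [Functor.comp_map, Functor.map_smul, CategoryTheory.Functor.map_id]
    exact homologyMap_smul_id _ a i
  change (T.leftDerived i).map (a • 𝟙 N) = _
  rw [Functor.leftDerived_map_eq T i (a • 𝟙 N) (a • 𝟙 P.complex) hw, h1, Linear.smul_comp]
  erw [Category.id_comp]
  rw [Linear.comp_smul, Iso.hom_inv_id]
  rfl

/-- Row S1739. -/
theorem exists_pow_smul_tor : ∃ c : ℕ, ∀ (M : Type u) [AddCommGroup M] [Module A M] (i q : ℕ),
    s.card < i → ∀ a ∈ II s ^ c, ∀ x : (((Tor (ModuleCat.{u} A) i).obj (ModuleCat.of A M)).obj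
      (ModuleCat.of A (A ⧸ II s ^ q))), a • x = 0 := by
  obtain ⟨c, hc⟩ := tor_map_zero_of_generators s
  refine ⟨c, fun M _ _ i q hi a ha x => ?_⟩
  let μ : (A ⧸ II s ^ q) →ₗ[A] (A ⧸ II s ^ (q + c)) :=
    Submodule.mapQ (II s ^ q) (II s ^ (q + c)) (LinearMap.lsmul A A a) fun r hr => by
      show a * r ∈ II s ^ (q + c)
      rw [pow_add, mul_comm a r]
      exact Ideal.mul_mem_mul hr ha
  have hfac : ModuleCat.ofHom μ ≫ ModuleCat.ofHom (qmap (II s) (q + c) q (Nat.le_add_right q c)) =
      a • 𝟙 (ModuleCat.of A (A ⧸ II s ^ q)) := by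
    refine ModuleCat.hom_ext (LinearMap.ext fun y => ?_)
    obtain ⟨r, rfl⟩ := Submodule.Quotient.mk_surjective _ y
    rfl
  have h : a • 𝟙 _ = (0 : ((Tor (ModuleCat.{u} A) i).obj (ModuleCat.of A M)).obj
      (ModuleCat.of A (A ⧸ II s ^ q)) ⟶ _) := by
    rw [← tor_map_smul_id, ← hfac, Functor.map_comp, hc M i (q + c) q hi rfl, comp_zero]
  exact LinearMap.congr_fun (congrArg ModuleCat.Hom.hom h) x

end Groth.Agent.LC15.TP
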