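import Groth.Agent.LC15.TorLink
import Groth.Agent.LC16.LocH
import Groth.Agent.DR39.HomBC

/-!
Localisation at a prime of sections with supports of complexes of injectives.
-/

set_option autoImplicit false
set_option linter.unusedSectionVars false
set_option linter.style.haveILetI false

universe u

open CategoryTheory CategoryTheory.Limits
open Groth.Agent Groth.Agent.DR39

attribute [local instance] HasDerivedCategory.standard

namespace Groth.Agent.LC15.TorLoc

open LC15.TorCx

variable {A : Type u} [CommRing A] (q : Ideal A) [q.IsPrime]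

/-- the local ring -/
abbrev Lq : Type u := Localization.AtPrime q

/-- the maximal ideal of the local ring, as a subset of the spectrum -/
abbrev Vm : Set (PrimeSpectrum (Lq q)) :=
  PrimeSpectrum.zeroLocus ((IsLocalRing.maximalIdeal (Lq q) : Ideal (Lq q)) : Set (Lq q))

/-- the localised complex -/
noncomputable abbrev EL (E : DRing.Cx A) : DRing.Cx (Lq q) :=
  ((LC16.LocH.LF q.primeCompl).mapHomologicalComplex (ComplexShape.up ℤ)).obj E

variable {q} {E : DRing.Cx A}

/-- fractions in the localised complex -/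
noncomputable def mkq (i : ℤ) (x : E.X i) (s : q.primeCompl) : (EL q E).X i :=
  (LocalizedModule.mk x s : LocalizedModule q.primeCompl (E.X i))

theorem mkq_surjective (i : ℤ) (z : (EL q E).X i) : ∃ x s, mkq i x s = z :=
  LocalizedModule.induction_on (fun x s => ⟨x, s, rfl⟩) z

theorem d_mkq (i j : ℤ) (x : E.X i) (s : q.primeCompl) :
    ((EL q E).d i j).hom (mkq i x s) = mkq j ((E.d i j).hom x) s :=
  LocalizedModule.map_mk (S := q.primeCompl) (E.d i j).hom x s

theorem smul_mkq (i : ℤ) (a : A) (x : E.X i) (s : q.primeCompl) :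
    algebraMap A (Lq q) a • mkq i x s = mkq i (a • x) s := by
  show algebraMap A (Localization q.primeCompl) a • LocalizedModule.mk x s = LocalizedModule.mk (a • x) s
  rw [algebraMap_smul, LocalizedModule.smul'_mk]

theorem mk_smul_mkq (i : ℤ) (t : q.primeCompl) (x : E.X i) (s : q.primeCompl) :
    (Localization.mk 1 t : Lq q) • mkq i x s = mkq i x (t * s) := by
  show (Localization.mk 1 t : Localization q.primeCompl) • LocalizedModule.mk x s = LocalizedModule.mk x (t * s)
  rw [LocalizedModule.mk_smul_mk, one_smul]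

theorem mkq_eq_zero_iff (i : ℤ) (x : E.X i) (s : q.primeCompl) :
    mkq i x s = 0 ↔ ∃ c, c ∉ q ∧ c • x = 0 := by
  show (LocalizedModule.mk x s : LocalizedModule q.primeCompl (E.X i)) = 0 ↔ _
  rw [← LocalizedModule.zero_mk (1 : q.primeCompl), LocalizedModule.mk_eq]
  constructor
  · rintro ⟨c, hc⟩
    simp only [one_smul, smul_zero, Submonoid.smul_def] at hc
    exact ⟨c, c.2, hc⟩
  · rintro ⟨c, hc, hcx⟩
    exact ⟨⟨c, hc⟩, by simp only [one_smul, smul_zero, Submonoid.smul_def]; exact hcx⟩

theorem mkq_cancel (i : ℤ) (x : E.X i) (t s : q.primeCompl) :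
    mkq i ((t : A) • x) (t * s) = mkq i x s := by
  show LocalizedModule.mk ((t : A) • x) (t * s) = (LocalizedModule.mk x s : LocalizedModule q.primeCompl (E.X i))
  exact LocalizedModule.mk_cancel_common_left t s x

variable [IsNoetherianRing A]

theorem exists_smul_torsion (i : ℤ) (y : E.X i) (s : q.primeCompl)
    (h : mkq i y s ∈ Tor (Vm q) ((EL q E).X i)) :
    ∃ D, D ∉ q ∧ D • y ∈ Tor (PrimeSpectrum.zeroLocus (q : Set A)) (E.X i) := by
  classical
  haveI : IsNoetherianRing (Lq q) := IsLocalization.isNoetherianRing q.primeCompl _ inferInstance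
  rw [tor_zeroLocus] at h
  obtain ⟨n, hn⟩ := h
  obtain ⟨t, ht⟩ := IsNoetherian.noetherian (q ^ n)
  have hmem : ∀ g ∈ t, ∃ c, c ∉ q ∧ c • g • y = 0 := fun g hg => by
    refine (mkq_eq_zero_iff i (g • y) s).1 ?_
    rw [← smul_mkq]
    refine hn _ ?_
    rw [← Localization.AtPrime.map_eq_maximalIdeal (I := q), ← Ideal.map_pow]
    exact Ideal.mem_map_of_mem _ (ht ▸ Submodule.subset_span hg)
  choose! c hc hcg using hmem
  refine ⟨∏ g ∈ t, c g, fun h => ?_, torsionSub_le_tor subset_rfl ⟨n, fun a ha => ?_⟩⟩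
  · obtain ⟨g, hg, hgP⟩ := (Ideal.IsPrime.prod_mem_iff).mp h
    exact hc g hg hgP
  · have haC : a ∈ Submodule.span A (t : Set A) := ht.symm ▸ ha
    clear ha
    induction haC using Submodule.span_induction with
    | mem g hg =>
      rw [← Finset.prod_erase_mul _ _ hg, mul_smul, smul_comm g, smul_comm g, hcg g hg, smul_zero]
    | zero => rw [zero_smul]
    | add x y _ _ hx hy => rw [add_smul, hx, hy, add_zero]
    | smul r x _ hx => rw [smul_eq_mul, mul_smul, hx, smul_zero]

theorem mkq_mem_tor (i : ℤ) (y : E.X i) (s : q.primeCompl)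
    (h : y ∈ Tor (PrimeSpectrum.zeroLocus (q : Set A)) (E.X i)) :
    mkq i y s ∈ Tor (Vm q) ((EL q E).X i) := by
  rw [tor_zeroLocus] at h
  obtain ⟨n, hn⟩ := h
  refine torsionSub_le_tor subset_rfl ⟨n, fun b hb => ?_⟩
  rw [← Localization.AtPrime.map_eq_maximalIdeal (I := q), ← Ideal.map_pow] at hb
  induction hb using Submodule.span_induction with
  | mem b hb =>
    obtain ⟨a, ha, rfl⟩ := hb
    rw [smul_mkq, hn a ha]
    exact LocalizedModule.zero_mk s
  | zero => rw [zero_smul]
  | add x y _ _ hx hy => rw [add_smul, hx, hy, add_zero]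
  | smul r x _ hx => rw [smul_eq_mul, mul_smul, hx, smul_zero]

/-- annihilation at the stalk -/
theorem stalk_iff (i : ℤ) (a : A) :
    (∀ x ∈ cyc (PrimeSpectrum.zeroLocus (q : Set A)) E i, ∃ u, u ∉ q ∧
        (u * a) • x ∈ bdy (PrimeSpectrum.zeroLocus (q : Set A)) E i) ↔
      Kill (Vm q) (EL q E) i (algebraMap A (Lq q) a) := by
  constructor
  · intro h z hz
    obtain ⟨x, s, rfl⟩ := mkq_surjective i z
    obtain ⟨D, hD, hDx⟩ := exists_smul_torsion i x s hz.1
    obtain ⟨e, he, hex⟩ := (mkq_eq_zero_iff (i + 1) ((E.d i (i + 1)).hom x) s).1 (by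
      rw [← d_mkq]; exact hz.2)
    obtain ⟨u, hu, w, hw, hdw⟩ := h (e • D • x) ⟨Submodule.smul_mem _ e hDx, by
      show (E.d i (i + 1)).hom (e • D • x) = 0
      rw [map_smul, map_smul, smul_comm, hex, smul_zero]⟩
    let t : q.primeCompl := ⟨u, hu⟩ * ⟨e, he⟩ * ⟨D, hD⟩
    refine ⟨mkq (i - 1) w (t * s), mkq_mem_tor _ _ _ hw, ?_⟩
    rw [d_mkq, hdw, smul_mkq]
    have ht : (u * a) • e • D • x = (t : A) • a • x := by
      rw [smul_smul, smul_smul, smul_smul]
      congr 1
      show u * a * e * D = u * e * D * a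
      ring
    rw [ht, mkq_cancel]
  · intro h x hx
    obtain ⟨w, hw, hdw⟩ := h (mkq i x 1) ⟨mkq_mem_tor _ _ _ hx.1, by
      show ((EL q E).d i (i + 1)).hom (mkq i x 1) = 0
      rw [d_mkq, show (E.d i (i + 1)).hom x = 0 from hx.2]
      exact LocalizedModule.zero_mk _⟩
    obtain ⟨y, s, rfl⟩ := mkq_surjective (i - 1) w
    obtain ⟨D, hD, hDy⟩ := exists_smul_torsion (i - 1) y s hw
    rw [d_mkq, smul_mkq] at hdw
    obtain ⟨c, hc⟩ := LocalizedModule.mk_eq.1
      (show (LocalizedModule.mk ((E.d (i - 1) i).hom y) s : LocalizedModule q.primeCompl (E.X i)) =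
        LocalizedModule.mk (a • x) 1 from hdw)
    simp only [one_smul, Submonoid.smul_def] at hc
    refine ⟨c * D * s, fun h => (‹q.IsPrime›.mem_or_mem h).elim
      (fun h => (‹q.IsPrime›.mem_or_mem h).elim c.2 hD) s.2,
      (c : A) • D • y, Submodule.smul_mem _ _ hDy, ?_⟩
    rw [map_smul, map_smul, smul_comm, hc, smul_smul, smul_smul, smul_smul]
    congr 1
    ring

theorem injective_EL (hinj : ∀ i, Module.Injective A (E.X i)) (i : ℤ) :
    Module.Injective (Lq q) ((EL q E).X i) := by
  haveI := hinj i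
  show Module.Injective (Lq q) (LocalizedModule q.primeCompl (E.X i))
  exact Module.injective_of_isLocalizedModule q.primeCompl
    (LocalizedModule.mkLinearMap q.primeCompl (E.X i))

theorem subsingleton_EL (i : ℤ) [Subsingleton (E.X i)] : Subsingleton ((EL q E).X i) :=
  subsingleton_of_forall_eq 0 fun z => by
    obtain ⟨x, s, rfl⟩ := mkq_surjective i z
    rw [Subsingleton.elim x 0]
    exact LocalizedModule.zero_mk s

theorem isKInjective_EL (hinj : ∀ i, Module.Injective A (E.X i)) {c : ℤ}
    (hc : ∀ i, i < c → Subsingleton (E.X i)) : (EL q E).IsKInjective :=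
  DR39.isKInjective_of_rep (EL q E) c (fun i hi =>
    haveI := hc i hi
    haveI := subsingleton_EL (q := q) (E := E) i
    ModuleCat.isZero_of_subsingleton _) (fun i => injective_EL hinj i)

variable (q)

theorem nonempty_EL_iso (E : DRing.Cx A) :
    Nonempty ((QA (Lq q)).obj (EL q E) ≅ (DF (extA A (Lq q))).obj ((QA A).obj E)) := by
  choose e he using fun l : ℤ => DR39.exists_extA_equiv (B := Lq q) (E.X l)
  let θ : ∀ l, (EL q E).X l ≅ (((extA A (Lq q)).mapHomologicalComplex (ComplexShape.up ℤ)).obj E).X l :=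
    fun l => ((LocalizedModule.equivTensorProduct q.primeCompl (E.X l)).trans (e l)).toModuleIso
  have hθ : ∀ l (x : E.X l), (θ l).hom.hom (mkq l x 1) = (oneL (algebraMap A (Lq q)) (E.X l)).hom x := by
    intro l x
    refine (congrArg (e l) ?_).trans (he l x)
    exact (LocalizedModule.equivTensorProduct_apply_mk q.primeCompl x 1).trans
      (by rw [Localization.mk_one])
  let Θ : EL q E ≅ ((extA A (Lq q)).mapHomologicalComplex (ComplexShape.up ℤ)).obj E :=
    HomologicalComplex.Hom.isoOfComponents θ fun i j _ => ModuleCat.hom_ext (LinearMap.ext fun z => by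
      obtain ⟨x, s, rfl⟩ := mkq_surjective i z
      rw [show mkq i x s = (Localization.mk 1 s : Lq q) • mkq i x 1 by rw [mk_smul_mkq, mul_one],
        map_smul, map_smul]
      congr 1
      show ((extA A (Lq q)).map (E.d i j)).hom ((θ i).hom.hom (mkq i x 1)) =
        (θ j).hom.hom (((EL q E).d i j).hom (mkq i x 1))
      rw [hθ, d_mkq, hθ]
      exact DR39.extA_map_oneL (Lq q) (E.d i j) x)
  exact ⟨(QA (Lq q)).mapIso Θ ≪≫ (DFQ (extA A (Lq q)) E).symm⟩

end Groth.Agent.LC15.TorLoc
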