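import Mathlib

/-!
Elementwise criteria for maps between tensored resolutions to kill positive degree cycles,
dimension shifting in the tensored module, and the link to `Tor`.
-/

set_option autoImplicit false

noncomputable section

universe u

open CategoryTheory CategoryTheory.Limits MonoidalCategory TensorProduct

namespace Groth.Agent.LC15.TP

variable {A : Type u} [CommRing A]

abbrev CC (A : Type u) [CommRing A] := ChainComplex (ModuleCat.{u} A) ℕ

/-- the differential -/
abbrev dl (C : CC A) (p : ℕ) : C.X (p + 1) →ₗ[A] C.X p := (C.d (p + 1) p).hom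

theorem dl_dl (C : CC A) (p : ℕ) (x : C.X (p + 2)) : dl C p (dl C (p + 1) x) = 0 :=
  congrArg (fun φ => φ.hom x) (C.d_comp_d (p + 2) (p + 1) p)

theorem comm_apply {C D : CC A} (f : C ⟶ D) (p : ℕ) (x : C.X (p + 1)) :
    dl D p ((f.f (p + 1)).hom x) = (f.f p).hom (dl C p x) :=
  congrArg (fun φ => φ.hom x) (f.comm (p + 1) p)

theorem lT_comm {C D : CC A} (f : C ⟶ D) (X : Type u) [AddCommGroup X] [Module A X] (p : ℕ)
    (z : X ⊗[A] C.X (p + 1)) :
    (dl D p).lTensor X ((f.f (p + 1)).hom.lTensor X z) =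
      (f.f p).hom.lTensor X ((dl C p).lTensor X z) := by
  rw [← LinearMap.lTensor_comp_apply, ← LinearMap.lTensor_comp_apply]
  exact congrArg (fun φ => LinearMap.lTensor X φ z) (LinearMap.ext (comm_apply f p))

theorem rT_lT {X Y : Type u} [AddCommGroup X] [Module A X] [AddCommGroup Y] [Module A Y]
    (g : X →ₗ[A] Y) {U V : Type u} [AddCommGroup U] [Module A U] [AddCommGroup V] [Module A V]
    (h : U →ₗ[A] V) (z : X ⊗[A] U) : h.lTensor Y (g.rTensor U z) = g.rTensor V (h.lTensor X z) := by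
  simp only [← LinearMap.comp_apply, LinearMap.lTensor_comp_rTensor, LinearMap.rTensor_comp_lTensor]

/-- `f` kills the degree `p + 1` homology of `X ⊗ C`. -/
def Kills (X : Type u) [AddCommGroup X] [Module A X] {C D : CC A} (f : C ⟶ D) (p : ℕ) : Prop :=
  ∀ z : X ⊗[A] C.X (p + 1), (dl C p).lTensor X z = 0 →
    ∃ w : X ⊗[A] D.X (p + 2), (dl D (p + 1)).lTensor X w = (f.f (p + 1)).hom.lTensor X z

/-- A resolution by flat modules, elementwise. -/
structure Res (N : Type u) [AddCommGroup N] [Module A N] where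
  /-- the complex -/
  C : CC A
  flat : ∀ p, Module.Flat A (C.X p)
  /-- the augmentation -/
  ε : C.X 0 →ₗ[A] N
  surj : Function.Surjective ε
  exact₀ : Function.Exact (dl C 0) ε
  exactS : ∀ p, Function.Exact (dl C (p + 1)) (dl C p)

theorem kills_of_flat {N : Type u} [AddCommGroup N] [Module A N] (R : Res (A := A) N)
    (X : Type u) [AddCommGroup X] [Module A X] [Module.Flat A X] {D : CC A} (f : R.C ⟶ D) (p : ℕ) :
    Kills X f p := fun z hz => by
  obtain ⟨w, rfl⟩ := (Module.Flat.lTensor_exact X (R.exactS p) z).1 hz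
  exact ⟨(f.f (p + 2)).hom.lTensor X w, lT_comm f X (p + 1) w⟩

variable {X' G X : Type u} [AddCommGroup X'] [Module A X'] [AddCommGroup G] [Module A G]
  [AddCommGroup X] [Module A X] (ι : X' →ₗ[A] G) (π : G →ₗ[A] X)
  {C D E : CC A} (f : C ⟶ D) (g : D ⟶ E)

/-- `f` kills what `ι ⊗ C` sends to boundaries in degree `0`. -/
def Kills0 : Prop :=
  ∀ x : X' ⊗[A] C.X 0, (∃ u : G ⊗[A] C.X 1, (dl C 0).lTensor G u = ι.rTensor (C.X 0) x) →
    ∃ w : X' ⊗[A] D.X 1, (dl D 0).lTensor X' w = (f.f 0).hom.lTensor X' x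

variable {ι π} (hι : Function.Injective ι) (hex : Function.Exact ι π) (hπ : Function.Surjective π)

include hex hπ in
theorem exists_lift_cycle (p : ℕ) (z : X ⊗[A] C.X (p + 1)) (hz : (dl C p).lTensor X z = 0) :
    ∃ (u : G ⊗[A] C.X (p + 1)) (x : X' ⊗[A] C.X p),
      π.rTensor (C.X (p + 1)) u = z ∧ (dl C p).lTensor G u = ι.rTensor (C.X p) x := by
  obtain ⟨u, rfl⟩ := LinearMap.rTensor_surjective (C.X (p + 1)) hπ z
  rw [rT_lT] at hz
  obtain ⟨x, hx⟩ := (rTensor_exact (C.X p) hex hπ _).1 hz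
  exact ⟨u, x, rfl, hx.symm⟩

include hex in
theorem kills_of_lift (p : ℕ) (u : G ⊗[A] C.X (p + 1)) (x : X' ⊗[A] C.X p)
    (hu : (dl C p).lTensor G u = ι.rTensor (C.X p) x)
    (w : X' ⊗[A] D.X (p + 1)) (hw : (dl D p).lTensor X' w = (f.f p).hom.lTensor X' x)
    (hG : Kills G g p) :
    ∃ v : X ⊗[A] E.X (p + 2), (dl E (p + 1)).lTensor X v =
      ((f ≫ g).f (p + 1)).hom.lTensor X (π.rTensor (C.X (p + 1)) u) := by
  obtain ⟨v, hv⟩ := hG ((f.f (p + 1)).hom.lTensor G u - ι.rTensor (D.X (p + 1)) w) (by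
    rw [map_sub, lT_comm, hu, rT_lT, rT_lT, hw, sub_self])
  refine ⟨π.rTensor (E.X (p + 2)) v, ?_⟩
  rw [rT_lT, hv, map_sub, map_sub, rT_lT, rT_lT, ← LinearMap.rTensor_comp_apply,
    hex.linearMap_comp_eq_zero, LinearMap.rTensor_zero, LinearMap.zero_apply, sub_zero,
    ← LinearMap.lTensor_comp_apply]
  rfl

include hι hex hπ in
theorem kills_shift_succ (p : ℕ) [Module.Flat A (C.X p)] (h' : Kills X' f p) (hG : Kills G g (p + 1)) :
    Kills X (f ≫ g) (p + 1) := fun z hz => by
  obtain ⟨u, x, rfl, hu⟩ := exists_lift_cycle (ι := ι) hex hπ (p + 1) z hz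
  have hx : (dl C p).lTensor X' x = 0 := by
    apply Module.Flat.rTensor_preserves_injective_linearMap (M := C.X p) ι hι
    rw [← rT_lT, ← hu, ← LinearMap.lTensor_comp_apply, map_zero,
      show dl C p ∘ₗ dl C (p + 1) = 0 from LinearMap.ext (dl_dl C p), LinearMap.lTensor_zero,
      LinearMap.zero_apply]
  obtain ⟨w, hw⟩ := h' x hx
  exact kills_of_lift f g hex (p + 1) u x hu w hw hG

include hex hπ in
theorem kills_shift_zero (h' : Kills0 ι f) (hG : Kills G g 0) : Kills X (f ≫ g) 0 := fun z hz => by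
  obtain ⟨u, x, rfl, hu⟩ := exists_lift_cycle (ι := ι) hex hπ 0 z hz
  obtain ⟨w, hw⟩ := h' x ⟨u, hu⟩
  exact kills_of_lift f g hex 0 u x hu w hw hG

omit [AddCommGroup X] [Module A X] in
theorem kills0_of_aug {N M : Type u} [AddCommGroup N] [Module A N] [AddCommGroup M] [Module A M]
    (εC : C.X 0 →ₗ[A] N) (εD : D.X 0 →ₗ[A] M) (φ : N →ₗ[A] M) (hC : εC ∘ₗ dl C 0 = 0)
    (hD : Function.Exact (dl D 0) εD) (hDs : Function.Surjective εD)
    (hf : εD ∘ₗ (f.f 0).hom = φ ∘ₗ εC)
    (h : ∀ x : X' ⊗[A] N, ι.rTensor N x = 0 → φ.lTensor X' x = 0) : Kills0 ι f := by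
  rintro x ⟨u, hu⟩
  refine (lTensor_exact X' hD hDs _).1 ?_
  rw [← LinearMap.lTensor_comp_apply, hf, LinearMap.lTensor_comp_apply]
  refine h _ ?_
  rw [← rT_lT, ← hu, ← LinearMap.lTensor_comp_apply, hC, LinearMap.lTensor_zero,
    LinearMap.zero_apply]

theorem kills_finsupp (κ : Type u) (Q : Type u) [AddCommGroup Q] [Module A Q] (p : ℕ)
    (h : Kills Q f p) : Kills (κ →₀ Q) f p := fun z hz => by
  classical
  have hs : ∀ z : (κ →₀ Q) ⊗[A] C.X (p + 1), ∃ s : Finset κ, ∀ t, s ⊆ t →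
      ∑ i ∈ t, (Finsupp.lsingle i : Q →ₗ[A] κ →₀ Q).rTensor (C.X (p + 1))
        ((Finsupp.lapply i : (κ →₀ Q) →ₗ[A] Q).rTensor (C.X (p + 1)) z) = z := by
    intro z
    induction z with
    | zero => exact ⟨∅, fun t _ => by simp⟩
    | tmul m c =>
      refine ⟨m.support, fun t ht => ?_⟩
      simp only [LinearMap.rTensor_tmul, ← TensorProduct.sum_tmul]
      congr 1
      simp only [Finsupp.lapply_apply, Finsupp.lsingle_apply]
      exact (Finsupp.sum_of_support_subset m ht (fun i a => Finsupp.single i a)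
        (fun i _ => Finsupp.single_zero i)).symm.trans (Finsupp.sum_single m)
    | add a b ha hb =>
      obtain ⟨s, hs⟩ := ha
      obtain ⟨s', hs'⟩ := hb
      refine ⟨s ∪ s', fun t ht => ?_⟩
      simp only [map_add, Finset.sum_add_distrib]
      rw [hs t (Finset.subset_union_left.trans ht), hs' t (Finset.subset_union_right.trans ht)]
  obtain ⟨s, hs⟩ := hs z
  choose w hw using fun i => h ((Finsupp.lapply i : (κ →₀ Q) →ₗ[A] Q).rTensor (C.X (p + 1)) z)
    (by rw [rT_lT, hz, map_zero])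
  refine ⟨∑ i ∈ s, (Finsupp.lsingle i : Q →ₗ[A] κ →₀ Q).rTensor (D.X (p + 2)) (w i), ?_⟩
  conv_rhs => rw [← hs s subset_rfl]
  simp only [map_sum, rT_lT, hw]

/-- A projective resolution, elementwise. -/
def resOfPR {N : ModuleCat.{u} A} (P : ProjectiveResolution N) : Res (A := A) N where
  C := P.complex
  flat p := by
    haveI : Module.Projective A (P.complex.X p) :=
      (IsProjective.iff_projective (R := A) (P := P.complex.X p)).2 (P.projective p)
    infer_instance
  ε := (P.π.f 0).hom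
  surj := (ModuleCat.epi_iff_surjective (P.π.f 0)).1 inferInstance
  exact₀ := (ShortComplex.ShortExact.moduleCat_exact_iff_function_exact _).1 P.exact₀
  exactS p := (ShortComplex.ShortExact.moduleCat_exact_iff_function_exact _).1 (P.exact_succ p)

/-- `Tor` maps in positive degree vanish if a lift kills cycles. -/
theorem tor_map_eq_zero (M : Type u) [AddCommGroup M] [Module A M] {N N' : ModuleCat.{u} A}
    (φ : N ⟶ N') (P : ProjectiveResolution N) (Q : ProjectiveResolution N')
    (f : P.complex ⟶ Q.complex) (hf : f.f 0 ≫ Q.π.f 0 = P.π.f 0 ≫ φ) (p : ℕ) (h : Kills M f p) :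
    ((Tor (ModuleCat.{u} A) (p + 1)).obj (ModuleCat.of A M)).map φ = 0 := by
  let F := (tensoringLeft (ModuleCat.{u} A)).obj (ModuleCat.of A M)
  let C := (F.mapHomologicalComplex (ComplexShape.down ℕ)).obj P.complex
  let D := (F.mapHomologicalComplex (ComplexShape.down ℕ)).obj Q.complex
  let g : C ⟶ D := (F.mapHomologicalComplex (ComplexShape.down ℕ)).map f
  have h0 : HomologicalComplex.homologyMap g (p + 1) = 0 := by
    rw [← cancel_epi (C.homologyπ (p + 1)), comp_zero, HomologicalComplex.homologyπ_naturality]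
    ext z
    obtain ⟨w, hw⟩ := h (C.iCycles (p + 1) z)
      (congrArg (fun φ => φ.hom z) (C.iCycles_d (p + 1) p))
    have e : HomologicalComplex.cyclesMap g (p + 1) z = D.toCycles (p + 2) (p + 1) w := by
      apply (ModuleCat.mono_iff_injective (D.iCycles (p + 1))).1 inferInstance
      rw [← ConcreteCategory.comp_apply, ← ConcreteCategory.comp_apply,
        HomologicalComplex.cyclesMap_i, HomologicalComplex.toCycles_i, ConcreteCategory.comp_apply]
      exact hw.symm
    change D.homologyπ (p + 1) (HomologicalComplex.cyclesMap g (p + 1) z) = 0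
    rw [e, ← ConcreteCategory.comp_apply, HomologicalComplex.toCycles_comp_homologyπ]
    rfl
  change (F.leftDerived (p + 1)).map φ = 0
  rw [← cancel_mono (Q.isoLeftDerivedObj F (p + 1)).hom, zero_comp,
    P.isoLeftDerivedObj_hom_naturality φ Q f hf F (p + 1)]
  change _ ≫ HomologicalComplex.homologyMap g (p + 1) = 0
  rw [h0, comp_zero]

end Groth.Agent.LC15.TP
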