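import Groth.Agent.LC15.Cd
import Mathlib.Algebra.Category.ModuleCat.Projective

set_option autoImplicit false

universe u

namespace Groth.Agent.LC15

open CategoryTheory Limits

variable {R : Type u} [CommRing R]

/-- `Ext^e(X, -)` is generated by one universal class. -/
theorem exists_universal_ext : ∀ (e : ℕ) (X : ModuleCat.{u} R),
    ∃ (K : ModuleCat.{u} R) (ξ : Abelian.Ext X K e), ∀ (N : ModuleCat.{u} R) (x : Abelian.Ext X N e),
      ∃ f : K ⟶ N, x = ξ.comp (Abelian.Ext.mk₀ f) (add_zero e) := by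
  intro e
  induction e with
  | zero =>
    intro X
    refine ⟨X, Abelian.Ext.mk₀ (𝟙 X), fun N x => ?_⟩
    obtain ⟨f, rfl⟩ := (Abelian.Ext.mk₀_bijective X N).2 x
    exact ⟨f, (Abelian.Ext.mk₀_id_comp _).symm⟩
  | succ e ih =>
    intro X
    let S := ShortComplex.mk (kernel.ι (Projective.π X)) (Projective.π X) (kernel.condition _)
    have hS : S.ShortExact :=
      { exact := ShortComplex.exact_of_f_is_kernel _ (kernelIsKernel _) }
    obtain ⟨K, ξ, hξ⟩ := ih S.X₁
    refine ⟨K, hS.extClass.comp ξ (add_comm 1 e), fun N x => ?_⟩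
    obtain ⟨y, hy⟩ := Abelian.Ext.contravariant_sequence_exact₃ hS N x
      (Abelian.Ext.eq_zero_of_projective _) (add_comm 1 e)
    obtain ⟨f, rfl⟩ := hξ N y
    refine ⟨f, ?_⟩
    rw [← hy, Abelian.Ext.comp_assoc_of_third_deg_zero]

/-- The transition maps kill `Ext^i(R/I^n, -)` for `i > e ≥ cd(I)`, uniformly. -/
theorem exists_transition_zero [IsNoetherianRing R] (I : Ideal R) (e : ℕ)
    (he : LocCoh.CdLE R I e) (n : ℕ) :
    ∃ (m : ℕ) (hm : n ≤ m), ∀ (N : ModuleCat.{u} R) (i : ℕ), e < i →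
      ∀ x : Abelian.Ext (quotPow I n) N i,
        (Abelian.Ext.mk₀ (qmap I hm)).comp x (zero_add i) = 0 := by
  obtain ⟨K, ξ, hξ⟩ := exists_universal_ext (e + 1) (quotPow I n)
  haveI : Subsingleton (LocCoh.H I (e + 1) K) := he K (e + 1) (Nat.lt_succ_self e)
  obtain ⟨m, hm, hξ0⟩ := (toH_eq_zero_iff I (e + 1) K ξ).1 (Subsingleton.elim _ _)
  refine ⟨m, hm, fun N i hi => ?_⟩
  obtain ⟨j, rfl⟩ : ∃ j, i = e + 1 + j := ⟨i - (e + 1), by omega⟩
  clear hi
  induction j generalizing N with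
  | zero =>
    intro x
    obtain ⟨f, rfl⟩ := hξ N x
    erw [← Abelian.Ext.comp_assoc_of_third_deg_zero, hξ0, Abelian.Ext.zero_comp]
  | succ j ih =>
    intro x
    let S := ShortComplex.mk (Injective.ι N) (cokernel.π (Injective.ι N)) (cokernel.condition _)
    have hS : S.ShortExact :=
      { exact := ShortComplex.exact_of_g_is_cokernel _ (cokernelIsCokernel _) }
    haveI : Injective S.X₂ := inferInstanceAs (Injective (Injective.under N))
    obtain ⟨y, hy⟩ := Abelian.Ext.covariant_sequence_exact₁ (quotPow I n) hS (x : Abelian.Ext (quotPow I n) S.X₁ (e + 1 + j + 1))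
      (Abelian.Ext.eq_zero_of_injective _) rfl
    rw [← hy, ← Abelian.Ext.comp_assoc (Abelian.Ext.mk₀ (qmap I hm)) y hS.extClass (zero_add _)
      rfl (show 0 + (e + 1 + j) + 1 = e + 1 + j + 1 by omega), ih S.X₃ y, Abelian.Ext.zero_comp]

end Groth.Agent.LC15
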